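import Groth.Agent.Lib.ModSS29.TAPush
import Groth.Agent.Lib.ZarCoh.Basic
import Mathlib.Topology.Sheaves.LocallySurjective

/-!
# Modules acyclic over a basis have no higher direct images (helper30)
-/

set_option autoImplicit false
set_option linter.style.haveILetI false
set_option linter.unusedSectionVars false

universe u

open CategoryTheory CategoryTheory.Limits Opposite CategoryTheory.Abelian TopologicalSpace
open Groth.Agent.Lib Groth.Agent.Lib.ZarCoh.Basic

namespace Groth.Agent.H30.AcycPush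

variable {T S : TopCat.{u}} {O : Sheaf (Opens.grothendieckTopology T) CommRingCat.{u}}
  {O' : Sheaf (Opens.grothendieckTopology S) CommRingCat.{u}}

/-- Acyclicity on a family of opens. -/
def Acy (W : Set (Opens T)) (M : _root_.ModSite.Mod O) : Prop :=
  ∀ V ∈ W, ∀ q : ℕ, Subsingleton (Ext.{u} (Zs.obj V) (_root_.ModSite.toAb M) (q + 1))

theorem acy_injective (W : Set (Opens T)) (I : _root_.ModSite.Mod O) [Injective I] : Acy W I :=
  fun V _ q => SiteCoh.FreeSheaf.subsingleton_hu_of_isTotallyAcyclic (ModSS29.TA.ta_injective O I) V q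

theorem acy_X₃ (W : Set (Opens T)) (E : ShortComplex (_root_.ModSite.Mod O)) (hE : E.ShortExact)
    (h₁ : Acy W E.X₁) (h₂ : Acy W E.X₂) : Acy W E.X₃ := fun V hV q => by
  have hE' := hE.map_of_exact (SheafOfModules.toSheaf (_root_.ModSite.ringSh O))
  refine subsingleton_of_forall_eq 0 fun x => ?_
  haveI := h₁ V hV (q + 1)
  obtain ⟨y, hy⟩ := Ext.covariant_sequence_exact₃ (Zs.obj V) hE' x rfl
    (Subsingleton.elim (α := Ext.{u} (Zs.obj V) (_root_.ModSite.toAb E.X₁) (q + 1 + 1)) _ 0)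
  haveI := h₂ V hV q
  rw [← hy, show y = 0 from Subsingleton.elim (α := Ext.{u} (Zs.obj V) (_root_.ModSite.toAb E.X₂) (q + 1)) y 0]
  exact Ext.zero_comp (X := Zs.obj V) _ _ _ _

variable (f : _root_.ModSite.RMor O O') (B : Set (Opens S)) (hB : Opens.IsBasis B)

include hB in
theorem epi_push (E : ShortComplex (_root_.ModSite.Mod O)) (hE : E.ShortExact)
    (h₁ : Acy (f.fn.obj '' B) E.X₁) : Epi (f.push.map E.g) := by
  apply (SheafOfModules.toSheaf _).epi_of_epi_map
  haveI : Sheaf.IsLocallySurjective ((SheafOfModules.toSheaf _).map (f.push.map E.g)) := by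
    refine ⟨fun {U} s z hz => ?_⟩
    obtain ⟨V, hV, hzV, hVU⟩ := Opens.isBasis_iff_nbhd.1 hB hz
    obtain ⟨a, ha⟩ := SiteCoh.Acyclic.surjective_app_of_subsingleton
      (hE.map_of_exact (SheafOfModules.toSheaf (_root_.ModSite.ringSh O)))
      (h₁ _ ⟨V, hV, rfl⟩ 0)
      (((SheafOfModules.toSheaf _).obj (f.push.obj E.X₃)).obj.map (homOfLE hVU).op s)
    exact ⟨V, homOfLE hVU, ⟨a, ha⟩, hzV⟩
  exact Sheaf.epi_of_isLocallySurjective _

variable [HasInjectiveResolutions (_root_.ModSite.Mod O)]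

include hB in
/-- The higher direct images vanish. -/
theorem isZero (M : _root_.ModSite.Mod O) (hM : Acy (f.fn.obj '' B) M) (k : ℕ) :
    IsZero ((f.push.rightDerived (k + 1)).obj M) := by
  haveI : f.push.IsRightAdjoint := f.adj.isRightAdjoint
  let P := injectiveResolution M
  have hcyc : ∀ j, Acy (f.fn.obj '' B) (EtJ.RightAcyclic.cyc P j) := fun j => by
    induction j with
    | zero =>
      intro V hV q
      haveI := hM V hV q
      have e := (SheafOfModules.toSheaf _).mapIso (EtJ.RightAcyclic.isoCyc₀ P)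
      refine subsingleton_of_forall_eq 0 fun x => ?_
      have hz : x.comp (Ext.mk₀ e.inv) (add_zero (q + 1)) = 0 :=
        Subsingleton.elim (α := Ext.{u} (Zs.obj V) (_root_.ModSite.toAb M) (q + 1)) _ 0
      rw [← Ext.comp_mk₀_id x, ← e.inv_hom_id, ← Ext.mk₀_comp_mk₀, ← Ext.comp_assoc_of_second_deg_zero, hz,
        Ext.zero_comp]
    | succ j ih =>
      exact acy_X₃ _ _ (EtJ.RightAcyclic.seq_shortExact P j) ih (acy_injective _ (P.cocomplex.X j))
  refine IsZero.of_iso ?_ (P.isoRightDerivedObj f.push (k + 1))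
  refine (HomologicalComplex.exactAt_iff_isZero_homology _ _).1
    ((HomologicalComplex.exactAt_iff' _ k (k + 1) (k + 2) (by simp) (by simp)).2 ?_)
  let Γ := f.push
  let E₁ := ShortComplex.mk (Γ.map (EtJ.RightAcyclic.seq P (k + 1)).f)
    (Γ.map (P.cocomplex.d (k + 1) (k + 2)))
    (by rw [← Γ.map_comp]; exact (congrArg Γ.map (kernel.condition _)).trans (Γ.map_zero _ _))
  have hE₁ : E₁.Exact := ShortComplex.exact_of_f_is_kernel _
    (KernelFork.mapIsLimit _ (kernelIsKernel (P.cocomplex.d (k + 1) (k + 2))) Γ)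
  let φ : ((Γ.mapHomologicalComplex _).obj P.cocomplex).sc' k (k + 1) (k + 2) ⟶ E₁ :=
    { τ₁ := Γ.map (EtJ.RightAcyclic.seq P k).g
      τ₂ := 𝟙 _
      τ₃ := 𝟙 _
      comm₁₂ := ((Γ.map_comp _ _).symm.trans (congrArg Γ.map (kernel.lift_ι _ _ _))).trans
        (Category.comp_id _).symm
      comm₂₃ := (Category.id_comp _).trans (Category.comp_id _).symm }
  haveI : Epi φ.τ₁ := epi_push f B hB _ (EtJ.RightAcyclic.seq_shortExact P k) (hcyc k)
  haveI : IsIso φ.τ₂ := inferInstanceAs (IsIso (𝟙 _))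
  haveI : Mono φ.τ₃ := inferInstanceAs (Mono (𝟙 _))
  exact (ShortComplex.exact_iff_of_epi_of_isIso_of_mono φ).2 hE₁

end Groth.Agent.H30.AcycPush
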