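import Groth.Agent.H30.FSch.AcycPush
import Groth.Agent.Lib.RlimTrunc.ModPush
import Groth.Agent.Lib.DerCat29.CohIn

/-!
# The derived direct image of complexes with cohomology acyclic over a basis (helper30)
-/

set_option autoImplicit false
set_option linter.style.haveILetI false
set_option linter.unusedSectionVars false

universe w w' u v v₁ u₀ u₁

open CategoryTheory CategoryTheory.Limits Opposite CategoryTheory.Abelian TopologicalSpace DerivedCategory
open Groth.Agent.Lib Groth.Agent.Lib.RlimTrunc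
open Groth.Agent.Lib.RlimTrunc.Main (CofinalGood)
open Groth.Agent.Lib.ZarCoh.Basic

namespace Groth.Agent.H30.AffinePushD

section Gen

variable {A : Type u₀} [Category.{v} A] [Abelian A] [HasDerivedCategory.{w} A]
  {B : Type u₁} [Category.{v₁} B] [Abelian B] [HasDerivedCategory.{w'} B]
  [(DerivedCategory.Qh (C := B)).IsLeftAdjoint] [HasInjectiveResolutions B]
  (G : B ⥤ A) [G.Additive]

/-- Bounded objects whose cohomology is `G`-acyclic are sent to complexes bounded by the same bound. -/
theorem isZero_homology_of_bounded (e : ℤ) : ∀ (k : ℕ) (a : ℤ), e < a + (k : ℤ) →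
    ∀ Y : DerivedCategory B, Y.IsGE a → (∀ j, e < j → IsZero ((homologyFunctor B j).obj Y)) →
    (∀ j, a ≤ j → ∀ p : ℕ, IsZero ((G.rightDerived (p + 1)).obj ((homologyFunctor B j).obj Y))) →
    ∀ i, e < i → IsZero ((homologyFunctor A i).obj ((RightPres.R G).obj Y)) := by
  intro k
  induction k with
  | zero =>
    intro a ha Y hY hh _ i _
    haveI := hY
    have hz : IsZero Y := by
      haveI : Y.IsLE (a - 1) := (isLE_iff _ _).2 fun j hj => hh j (by push_cast at ha; omega)
      haveI : TStructure.t.IsGE Y a := hY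
      haveI : TStructure.t.IsLE Y (a - 1) := ‹Y.IsLE (a - 1)›
      exact TStructure.t.isZero Y (a - 1) a (by omega)
    exact Functor.map_isZero _ ((RightPres.R G).map_isZero hz)
  | succ k ih =>
    intro a ha Y hY hh hp i hi
    by_cases hea : e < a
    · haveI : Y.IsLE (a - 1) := (isLE_iff _ _).2 fun j hj => hh j (by omega)
      haveI : TStructure.t.IsGE Y a := hY
      haveI : TStructure.t.IsLE Y (a - 1) := ‹Y.IsLE (a - 1)›
      exact Functor.map_isZero _ ((RightPres.R G).map_isZero (TStructure.t.isZero Y (a - 1) a (by omega)))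
    · haveI : TStructure.t.IsGE Y a := hY
      have hT := TStructure.t.triangleLTGE_distinguished (a + 1) Y
      let Z₁ := (TStructure.t.truncLT (a + 1)).obj Y
      let Z₃ := (TStructure.t.truncGE (a + 1)).obj Y
      have h₁ : IsZero ((homologyFunctor A i).obj ((RightPres.R G).obj Z₁)) := by
        haveI : TStructure.t.IsGE Z₁ a := inferInstance
        haveI : Z₁.IsGE a := ‹TStructure.t.IsGE Z₁ a›
        haveI : Z₁.IsLE a := by
          have := (inferInstance : TStructure.t.IsLE Z₁ (a + 1 - 1))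
          simpa using this
        refine RightSingle.isZero_homology_R G Z₁ a i fun p hp' => ?_
        obtain ⟨p, rfl⟩ : ∃ q, p = q + 1 := ⟨p - 1, by omega⟩
        refine (hp a le_rfl p).of_iso ((G.rightDerived (p + 1)).mapIso ?_)
        exact @asIso _ _ _ _ _ (@DerCat.TStruct.isIso_homologyMap_mor₁ _ _ _ _ _ hT (a + 1)
          (inferInstance : TStructure.t.IsGE Z₃ (a + 1)) a (by omega))
      have h₃ : IsZero ((homologyFunctor A i).obj ((RightPres.R G).obj Z₃)) := by
        have hiso : ∀ j, a + 1 ≤ j →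
            IsIso ((homologyFunctor B j).map ((TStructure.t.truncGEπ (a + 1)).app Y)) := fun j hj =>
          @DerCat.TStruct.isIso_homologyMap_mor₂ _ _ _ _ _ hT ((a + 1) - 1)
            (inferInstance : TStructure.t.IsLE Z₁ ((a + 1) - 1)) j (by omega)
        refine ih (a + 1) (by push_cast at ha ⊢; omega) Z₃ (inferInstance : TStructure.t.IsGE Z₃ (a + 1))
          (fun j hj => ?_) (fun j p q => ?_) i hi
        · exact (hh j hj).of_iso (@asIso _ _ _ _ _ (hiso j (by omega))).symm
        · exact (hp j (by omega) _).of_iso ((G.rightDerived _).mapIso (@asIso _ _ _ _ _ (hiso j p)).symm)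
      exact (HomologySequence.exact₂ _ ((RightPres.R G).map_distinguished _ hT) i).isZero_of_both_zeros
        (h₁.eq_of_src _ _) (h₃.eq_of_tgt _ _)

end Gen

attribute [local instance] DerivedOX.Exists.isLeftAdjoint_Qh HasDerivedCategory.standard

variable {T S : TopCat.{u}} {O : Sheaf (Opens.grothendieckTopology T) CommRingCat.{u}}
  {O' : Sheaf (Opens.grothendieckTopology S) CommRingCat.{u}}

/-- A basis of opens of vanishing cohomology is cofinally good. -/
theorem cofinalGood {ι : Type*} {X : TopCat.{u}} (B : Set (Opens X)) (hB : Opens.IsBasis B) (Q : Opens X → ι → Prop)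
    (b : ι) (hQ : ∀ V ∈ B, Q V b) :
    CofinalGood.{u, u, u} (Opens.grothendieckTopology X) Q := by
  intro U
  refine ⟨PUnit, fun _ => b, fun R hR => ?_⟩
  refine ⟨{V : Opens X // V ∈ B ∧ ∃ h : V ≤ U, (R ⟨⟩).arrows (homOfLE h)}, fun V => V.1,
    fun V => homOfLE V.2.2.1, fun _ => ⟨⟩, ?_, fun V => ⟨V.2.2.2, hQ _ V.2.1⟩⟩
  intro x hx
  obtain ⟨W, g, hg, hxW⟩ := hR ⟨⟩ x hx
  obtain ⟨V, hV, hxV, hVW⟩ := Opens.isBasis_iff_nbhd.1 hB hxW
  have h : (R ⟨⟩).arrows (homOfLE (hVW.trans (leOfHom g))) := by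
    have := (R ⟨⟩).downward_closed hg (homOfLE hVW)
    exact this
  exact ⟨V, homOfLE (hVW.trans (leOfHom g)), Sieve.ofArrows_mk _ _ (⟨V, hV, _, h⟩ :
    {V : Opens X // V ∈ B ∧ ∃ h : V ≤ U, (R ⟨⟩).arrows (homOfLE h)}), hxV⟩

variable (f : _root_.ModSite.RMor O O') [HasInjectiveResolutions (_root_.ModSite.Mod O)] [SiteCmp.HasRpushD f]
  (B : Set (Opens T)) (hB : Opens.IsBasis B) (B' : Set (Opens S)) (hB' : Opens.IsBasis B')
  (hsub : ∀ V ∈ B', f.fn.obj V ∈ B)

include hB hB' hsub in
/-- The derived direct image does not raise the amplitude. -/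
theorem isZero_HMod_RpushD (X : DerivedCategory (_root_.ModSite.Mod O))
    (hX : ∀ j, AcycPush.Acy B (SiteCmp.HMod X j)) (e : ℤ) (he : ∀ j, e < j → IsZero (SiteCmp.HMod X j))
    (i : ℤ) (hi : e < i) : IsZero (SiteCmp.HMod ((SiteCmp.RpushD f).obj X) i) := by
  have hacy : ∀ M : _root_.ModSite.Mod O, AcycPush.Acy B M → AcycPush.Acy (f.fn.obj '' B') M := fun M hM V hV => by
    obtain ⟨V, hV', rfl⟩ := hV
    exact hM _ (hsub V hV')
  have hN : ∀ M : _root_.ModSite.Mod O, AcycPush.Acy B M → ∀ p : ℕ, (0 : ℤ) < (p : ℤ) → IsZero ((f.Rpush p).obj M) :=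
    fun M hM p hp => by
      obtain ⟨q, rfl⟩ : ∃ q, p = q + 1 := ⟨p - 1, by omega⟩
      exact AcycPush.isZero f B' hB' M (hacy M hM) q
  have hii := ModPush.isIso_homologyMap_rpushD f (AcycPush.Acy (O := O) B)
    (cofinalGood B hB _ 0 fun V hV M hM k hk => by
      obtain ⟨q, rfl⟩ : ∃ q, k = q + 1 := ⟨k - 1, by omega⟩
      exact hM V hV q)
    0 hN X hX
    (cofinalGood B' hB' _ 0 fun V hV M hM k hk => by
      obtain ⟨q, rfl⟩ : ∃ q, k = q + 1 := ⟨k - 1, by omega⟩
      exact hM _ (hsub V hV) q)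
    (-i).toNat i (by omega)
  let a : ℤ := -((-i).toNat : ℤ)
  let Y := (TStructure.t.truncGE a).obj X
  have hiso : ∀ j, a ≤ j →
      IsIso ((homologyFunctor (_root_.ModSite.Mod O) j).map ((TStructure.t.truncGEπ a).app X)) := fun j hj =>
    @DerCat.TStruct.isIso_homologyMap_mor₂ _ _ _ _ _ (TStructure.t.triangleLTGE_distinguished a X) (a - 1)
      (inferInstance : TStructure.t.IsLE ((TStructure.t.truncLT a).obj X) (a - 1)) j (by omega)
  have hz : IsZero ((homologyFunctor _ i).obj ((RightPres.R f.push).obj Y)) := by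
    refine isZero_homology_of_bounded f.push e (e - a + 1).toNat a (by omega) Y
      (inferInstance : TStructure.t.IsGE Y a) (fun j hj => ?_) (fun j hja p => ?_) i hi
    · by_cases hja : a ≤ j
      · exact (he j hj).of_iso (@asIso _ _ _ _ _ (hiso j hja)).symm
      · exact @isZero_of_isGE _ _ _ _ _ a j (by omega) (inferInstance : TStructure.t.IsGE Y a)
    · exact (hN _ (hX j) (p + 1) (by omega)).of_iso
        ((f.push.rightDerived (p + 1)).mapIso (@asIso _ _ _ _ _ (hiso j hja)).symm)
  refine IsZero.of_iso ?_ (@asIso _ _ _ _ _ hii)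
  exact hz.of_iso ((homologyFunctor _ i).mapIso
    ((DerivedOX.RightDerived.totalRightDerivedIso (SiteCmp.pushKh f)).app _).symm)

end Groth.Agent.H30.AffinePushD
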