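import Groth.Agent.H30.FSch.PresSh
import Groth.Agent.Lib.CohBasics.Affine

/-!
# Presentations of quasi-coherent modules on affine opens, elementwise (helper30)
-/

set_option autoImplicit false
set_option linter.style.haveILetI false

universe u

open CategoryTheory CategoryTheory.Limits AlgebraicGeometry Opposite TopologicalSpace
open Groth.Agent.Lib Groth.Agent.Lib.QCoh.Localizing
open Groth.Agent.H30

namespace Groth.Agent.H30.SchPres

variable {X : Scheme.{u}} {U : X.Opens}

/-- Restriction of functions is `resR`. -/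
lemma resR_eq {V : X.Opens} (e : V ≤ U) (a : Γ(X, U)) :
    (PresSh.resR X.ringCatSheaf e a : Γ(X, V)) = resR e a := rfl

/-- Clearing denominators. -/
lemma exists_clear (hU : IsAffineOpen U) (g : Γ(X, U)) {ι : Type} [Fintype ι]
    (c : ι → Γ(X, X.basicOpen g)) :
    ∃ (K : ℕ) (a : ι → Γ(X, U)),
      ∀ i, resR (X.basicOpen_le g) (a i) = resR (X.basicOpen_le g) g ^ K * c i := by
  letI : Algebra Γ(X, U) Γ(X, X.basicOpen g) := (resR (X.basicOpen_le g)).toAlgebra
  haveI := hU.isLocalization_basicOpen g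
  have h : ∀ i, ∃ (k : ℕ) (b : Γ(X, U)),
      c i * resR (X.basicOpen_le g) g ^ k = resR (X.basicOpen_le g) b := by
    intro i
    obtain ⟨⟨b, ⟨_, k, rfl⟩⟩, hb⟩ := IsLocalization.surj (Submonoid.powers g) (c i)
    refine ⟨k, b, ?_⟩
    rw [← map_pow]
    exact hb
  choose k b hb using h
  refine ⟨∑ i, k i, fun i => g ^ ((∑ j, k j) - k i) * b i, fun i => ?_⟩
  have hle : k i ≤ ∑ j, k j := Finset.single_le_sum (fun j _ => Nat.zero_le _) (Finset.mem_univ i)
  rw [map_mul, map_pow, ← hb, mul_comm (c i), ← mul_assoc, ← pow_add, Nat.sub_add_cancel hle]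

lemma isUnit_resR (g : Γ(X, U)) : IsUnit (resR (X.basicOpen_le g) g) :=
  RingedSpace.isUnit_res_basicOpen X.toRingedSpace g

/-- Local membership in a span of vectors of functions is global on affine opens. -/
theorem exists_coeff_of_locally (hU : IsAffineOpen U) {n m : ℕ}
    (r : Fin m → Fin n → Γ(X, U)) (c : Fin n → Γ(X, U))
    (h : ∀ x ∈ U, ∃ (V : X.Opens) (hV : V ≤ U) (_ : x ∈ V) (d : Fin m → Γ(X, V)),
      ∀ i, resR hV (c i) = ∑ j, d j * resR hV (r j i)) :
    ∃ d : Fin m → Γ(X, U), ∀ i, c i = ∑ j, d j * r j i := by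
  let P : Ideal Γ(X, U) :=
    (LinearMap.range (Fintype.linearCombination Γ(X, U) r)).comap
      (LinearMap.toSpanSingleton Γ(X, U) _ c)
  have hP : P = ⊤ := by
    refine CohBasics.Affine.ideal_eq_top hU P fun x hx => ?_
    obtain ⟨V, hV, hxV, d, hd⟩ := h x hx
    obtain ⟨g, hgV, hxg⟩ := hU.exists_basicOpen_le (⟨x, hxV⟩ : V) hx
    obtain ⟨K, a, ha⟩ := exists_clear hU g (fun j => resR hgV (d j))
    letI : Algebra Γ(X, U) Γ(X, X.basicOpen g) := (resR (X.basicOpen_le g)).toAlgebra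
    haveI := hU.isLocalization_basicOpen g
    have hz : ∀ i, ∃ N : ℕ, g ^ N * (g ^ K * c i) = g ^ N * ∑ j, a j * r j i := by
      intro i
      obtain ⟨⟨_, N, rfl⟩, hN⟩ := (IsLocalization.eq_iff_exists (Submonoid.powers g)
        Γ(X, X.basicOpen g)).1 (show algebraMap Γ(X, U) Γ(X, X.basicOpen g) (g ^ K * c i) =
          algebraMap Γ(X, U) Γ(X, X.basicOpen g) (∑ j, a j * r j i) by
        show resR (X.basicOpen_le g) (g ^ K * c i) = resR (X.basicOpen_le g) (∑ j, a j * r j i)
        simp only [map_mul, map_pow, map_sum, ha, mul_assoc, ← Finset.mul_sum]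
        congr 1
        have := congrArg (resR hgV) (hd i)
        simp only [map_sum, map_mul, resR_resR] at this
        exact this)
      exact ⟨N, hN⟩
    choose N hN using hz
    refine ⟨g ^ ((∑ i, N i) + 1) * g ^ K, ⟨fun j => g ^ ((∑ i, N i) + 1) * a j, ?_⟩, ?_⟩
    · funext i
      have hle : N i ≤ (∑ i, N i) + 1 :=
        (Finset.single_le_sum (fun j _ => Nat.zero_le _) (Finset.mem_univ i)).trans (Nat.le_succ _)
      simp only [Fintype.linearCombination_apply, Finset.sum_apply, Pi.smul_apply, smul_eq_mul,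
        LinearMap.toSpanSingleton_apply, mul_assoc, ← Finset.mul_sum]
      obtain ⟨q, hq⟩ := Nat.exists_eq_add_of_le hle
      rw [hq, pow_add, mul_comm (g ^ N i), mul_assoc, mul_assoc, hN i]
    · rw [← pow_add]
      exact (X.mem_basicOpen _ x hx).mpr
        (by rw [map_pow]; exact ((X.mem_basicOpen g x hx).mp hxg).pow _)
  obtain ⟨d, hd⟩ := show (1 : Γ(X, U)) ∈ P by rw [hP]; trivial
  refine ⟨d, fun i => ?_⟩
  have := congrFun hd i
  simpa [Fintype.linearCombination_apply] using this.symm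

variable (M : X.Modules)

/-- Relations complete on an affine open are locally complete. -/
theorem exact_of_affine [M.IsQuasicoherent] (hU : IsAffineOpen U) {n m : ℕ}
    (f : Fin n → Γ(M, U)) (r : Fin m → Fin n → Γ(X, U))
    (hex : ∀ c : Fin n → Γ(X, U), ∑ i, c i • f i = 0 →
      ∃ d : Fin m → Γ(X, U), ∀ i, c i = ∑ j, d j * r j i)
    (Z : X.Opens) (hZ : Z ≤ U) (c : Fin n → Γ(X, Z)) (hc : ∑ i, c i • res M hZ (f i) = 0)
    (z : X) (hz : z ∈ Z) :
    ∃ (V : X.Opens) (hVZ : V ≤ Z) (hVU : V ≤ U) (_ : z ∈ V) (d : Fin m → Γ(X, V)),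
      ∀ i, resR hVZ (c i) = ∑ j, d j * resR hVU (r j i) := by
    obtain ⟨g, hgZ, hzg⟩ := hU.exists_basicOpen_le (⟨z, hz⟩ : Z) (hZ hz)
    obtain ⟨K, a, ha⟩ := exists_clear hU g (fun i => resR hgZ (c i))
    have hc' : ∑ i, (show Γ(X, Z) from c i) • res M hZ (f i) = 0 := hc
    have h0 : res M (X.basicOpen_le g) (∑ i, a i • f i) = 0 := by
      have := congrArg (res M hgZ) hc'
      simp only [map_sum, res_smul, res_res, map_zero] at this
      simp only [map_sum, res_smul, ha, mul_smul, ← Finset.smul_sum]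
      erw [this]
      exact smul_zero _
    obtain ⟨N, hN⟩ := (localizes_of_isAffineOpen M hU g).sep _ h0
    obtain ⟨d, hd⟩ := hex (fun i => g ^ N * a i) (by
      simp only [mul_smul, ← Finset.smul_sum]
      exact hN)
    obtain ⟨u, hu⟩ := ((isUnit_resR g).pow N).mul ((isUnit_resR g).pow K)
    refine ⟨X.basicOpen g, hgZ, X.basicOpen_le g, hzg,
      fun j => (↑u⁻¹ : Γ(X, X.basicOpen g)) * resR (X.basicOpen_le g) (d j), fun i => ?_⟩
    show resR hgZ (c i) = ∑ j, (↑u⁻¹ : Γ(X, X.basicOpen g)) * resR (X.basicOpen_le g) (d j) *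
      resR (X.basicOpen_le g) (r j i)
    simp only [mul_assoc, ← Finset.mul_sum, ← map_mul, ← map_sum, ← hd i]
    rw [map_mul, map_pow, ha, ← mul_assoc (resR (X.basicOpen_le g) g ^ N), ← hu, ← mul_assoc,
      Units.inv_mul, one_mul]

/-- Relations complete on an affine open are complete on smaller affine opens. -/
theorem exact_of_affine_le [M.IsQuasicoherent] (hU : IsAffineOpen U) {n m : ℕ}
    (f : Fin n → Γ(M, U)) (r : Fin m → Fin n → Γ(X, U))
    (hex : ∀ c : Fin n → Γ(X, U), ∑ i, c i • f i = 0 →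
      ∃ d : Fin m → Γ(X, U), ∀ i, c i = ∑ j, d j * r j i)
    {V : X.Opens} (hV : IsAffineOpen V) (e : V ≤ U) (c : Fin n → Γ(X, V))
    (hc : ∑ i, c i • res M e (f i) = 0) :
    ∃ d : Fin m → Γ(X, V), ∀ i, c i = ∑ j, d j * resR e (r j i) := by
  refine exists_coeff_of_locally hV (fun j i => resR e (r j i)) c fun x hx => ?_
  obtain ⟨V', hV', hVW, hxV', d, hd⟩ := exact_of_affine M hU f r hex V e c hc x hx
  exact ⟨V', hV', hxV', d, fun i => by simp only [resR_resR]; exact hd i⟩

/-- Generators and relations of the sections on an affine open present a quasi-coherent module. -/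
theorem isPres_of_affine [M.IsQuasicoherent] (hU : IsAffineOpen U) {n m : ℕ}
    (f : Fin n → Γ(M, U)) (r : Fin m → Fin n → Γ(X, U))
    (hgen : ∀ s : Γ(M, U), ∃ c : Fin n → Γ(X, U), s = ∑ i, c i • f i)
    (hrel : ∀ j, ∑ i, r j i • f i = 0)
    (hex : ∀ c : Fin n → Γ(X, U), ∑ i, c i • f i = 0 →
      ∃ d : Fin m → Γ(X, U), ∀ i, c i = ∑ j, d j * r j i) :
    PresSh.IsPres (R := X.ringCatSheaf) M U f r where
  rel := hrel
  gen Z hZ s z hz := by
    obtain ⟨g, hgZ, hzg⟩ := hU.exists_basicOpen_le (⟨z, hz⟩ : Z) (hZ hz)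
    obtain ⟨N, t, ht⟩ := (localizes_of_isAffineOpen M hU g).ext' (res M hgZ s)
    obtain ⟨a, rfl⟩ := hgen t
    obtain ⟨u, hu⟩ := (isUnit_resR g).pow N
    refine ⟨X.basicOpen g, hgZ, X.basicOpen_le g, hzg,
      fun i => (↑u⁻¹ : Γ(X, X.basicOpen g)) * resR (X.basicOpen_le g) (a i), ?_⟩
    show res M hgZ s = ∑ i, ((↑u⁻¹ : Γ(X, X.basicOpen g)) * resR (X.basicOpen_le g) (a i)) •
      res M (X.basicOpen_le g) (f i)
    simp only [mul_smul, ← Finset.smul_sum, ← res_smul, ← map_sum]
    rw [ht, ← hu, ← mul_smul, Units.inv_mul, one_smul]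
  exact Z hZ c hc z hz := exact_of_affine M hU f r hex Z hZ c hc z hz

variable {M}

/-- A presentation generates the sections over smaller affine opens. -/
theorem gen_of_isPres [M.IsQuasicoherent] {n m : ℕ} {f : Fin n → Γ(M, U)}
    {r : Fin m → Fin n → Γ(X, U)} (h : PresSh.IsPres (R := X.ringCatSheaf) M U f r)
    {V : X.Opens} (hV : IsAffineOpen V) (e : V ≤ U) (s : Γ(M, V)) :
    ∃ c : Fin n → Γ(X, V), s = ∑ i, c i • res M e (f i) := by
  let P : Submodule Γ(X, V) Γ(M, V) :=
    LinearMap.range (Fintype.linearCombination Γ(X, V) fun i => res M e (f i))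
  suffices s ∈ P by
    obtain ⟨c, hc⟩ := this
    exact ⟨c, by rw [← hc, Fintype.linearCombination_apply]⟩
  refine CohBasics.Affine.mem_of_germ_mem hV P s fun x hx => ?_
  obtain ⟨V', hV', hVW, hxV', c, hc⟩ := h.gen V e s x hx
  have hc' : res M hV' s = ∑ i, (show Γ(X, V') from c i) • res M (hV'.trans e) (f i) := hc
  rw [← TopCat.Presheaf.germ_res_apply M.presheaf (homOfLE hV') x hxV' s]
  erw [hc']
  rw [map_sum]
  refine Submodule.sum_mem _ fun i _ => ?_
  rw [Modules.StalkModule.germ_smul]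
  refine Submodule.smul_mem _ _ (Submodule.subset_span ⟨res M e (f i),
    ⟨Pi.single i 1, by rw [Fintype.linearCombination_apply_single, one_smul]⟩, ?_⟩)
  rw [← TopCat.Presheaf.germ_res_apply M.presheaf (homOfLE hV') x hxV' (res M e (f i))]
  exact congrArg _ (res_res e hV' (f i))

/-- A presentation gives all relations over smaller affine opens. -/
theorem exact_of_isPres {n m : ℕ} {f : Fin n → Γ(M, U)} {r : Fin m → Fin n → Γ(X, U)}
    (h : PresSh.IsPres (R := X.ringCatSheaf) M U f r) {V : X.Opens} (hV : IsAffineOpen V)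
    (e : V ≤ U) (c : Fin n → Γ(X, V)) (hc : ∑ i, c i • res M e (f i) = 0) :
    ∃ d : Fin m → Γ(X, V), ∀ i, c i = ∑ j, d j * resR e (r j i) := by
  refine exists_coeff_of_locally hV (fun j i => resR e (r j i)) c fun x hx => ?_
  obtain ⟨V', hV', hVW, hxV', d, hd⟩ := h.exact V e c hc x hx
  exact ⟨V', hV', hxV', d, fun i => by simp only [resR_resR]; exact hd i⟩

/-- Locally presented modules on a scheme are coherent. -/
theorem isCoh_of_isPres
    (h : ∀ x : X, ∃ (W : X.Opens) (n m : ℕ) (f : Fin n → Γ(M, W))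
      (r : Fin m → Fin n → Γ(X, W)), x ∈ W ∧ PresSh.IsPres (R := X.ringCatSheaf) M W f r) :
    Coh.IsCoh M :=
  haveI : SheafOfModules.IsFinitePresentation (R := X.ringCatSheaf) M :=
    PresSh.isFinitePresentation_of_isPres h
  ⟨inferInstanceAs (SheafOfModules.IsQuasicoherent (R := X.ringCatSheaf) M),
    inferInstanceAs (SheafOfModules.IsFiniteType (R := X.ringCatSheaf) M)⟩

end Groth.Agent.H30.SchPres
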