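import Groth.Agent.H30.FSch.ComplPull
import Groth.Agent.S6845
import Mathlib.RingTheory.Filtration

/-!
# The completion is flat over the scheme (helper30)
-/

set_option autoImplicit false
set_option linter.style.haveILetI false

universe u

open CategoryTheory CategoryTheory.Limits AlgebraicGeometry TopologicalSpace Opposite
open Groth.Agent.H30 Groth.Agent.H30.RealLimSec
open Groth.Agent.Lib

namespace Groth.Agent.H30.ComplFlat

/-- Entries of a vector in `I • ⊤` are in `I`. -/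
theorem entry_mem {R : Type u} [CommRing R] (I : Ideal R) {n : ℕ} {v : Fin n → R}
    (hv : v ∈ I • (⊤ : Submodule R (Fin n → R))) (i : Fin n) : v i ∈ I := by
  refine Submodule.smul_induction_on hv (fun a ha b _ => ?_) fun a b ha hb => I.add_mem ha hb
  exact I.mul_mem_right _ ha

variable {X : Scheme.{u}} [IsLocallyNoetherian X] {𝔛 : FSch.Sys.{u}} (h𝔛 : 𝔛.IsLocNoethFormal)
  (p : ∀ n, 𝔛.X n ⟶ X) (hp : ∀ n, 𝔛.ι n ≫ p (n + 1) = p n) [∀ k, IsClosedImmersion (p k)]
  (hker : ∀ k (U : X.affineOpens), (p k).ker.ideal U = (p 0).ker.ideal U ^ (k + 1))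

include hker in
theorem exists_ring_rel {U : X.Opens} (hU : IsAffineOpen U) {l m : ℕ} (r : Fin l → Γ(X, U))
    (s : Fin m → Fin l → Γ(X, U))
    (hs : ∀ c : Fin l → Γ(X, U), ∑ j, c j * r j = 0 →
      ∃ d : Fin m → Γ(X, U), ∀ j, c j = ∑ i, d i * s i j)
    (t : Fin l → Levels.A 𝔛 h𝔛.1 (ComplSec.pre p U))
    (ht : ∑ j, t j * ComplPull.shA h𝔛 p hp U (r j) = 0) :
    ∃ d : Fin m → Levels.A 𝔛 h𝔛.1 (ComplSec.pre p U),
      ∀ j, t j = ∑ i, d i * ComplPull.shA h𝔛 p hp U (s i j) := by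
  have hV := ComplSec.isAffineOpen_pre p hU
  haveI := (Levels.adic h𝔛 hV).1
  haveI := Levels.isNoetherianRing_A h𝔛 hV
  haveI : IsNoetherianRing Γ(X, U) := IsLocallyNoetherian.component_noetherian ⟨U, hU⟩
  let R := Levels.A 𝔛 h𝔛.1 (ComplSec.pre p U)
  let φ : (Fin l → Γ(X, U)) →ₗ[Γ(X, U)] Γ(X, U) := Fintype.linearCombination _ r
  obtain ⟨c, hc⟩ := Ideal.exists_pow_inf_eq_pow_smul ((p 0).ker.ideal ⟨U, hU⟩) (LinearMap.range φ)
  let S : Submodule R (Fin l → R) :=
    LinearMap.range (Fintype.linearCombination R fun i j => ComplPull.shA h𝔛 p hp U (s i j))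
  haveI : IsHausdorff (Levels.J (h := h𝔛.1) (ComplSec.pre p U)) ((Fin l → R) ⧸ S) :=
    IsHausdorff.of_le_jacobson _ _ (IsAdicComplete.le_jacobson_bot _)
  have hS : S.mkQ t = 0 := by
    refine IsHausdorff.haus ‹_› _ fun t₀ => ?_
    choose τ hτ using fun j => ComplPull.surjective_appLE h𝔛 p hp hU (t₀ + c)
      (Levels.proj 𝔛 h𝔛.1 (t₀ + c) (ComplSec.pre p U) (t j))
    have h0 : (p (t₀ + c)).app U (∑ j, τ j * r j) = 0 := by
      have h1 := congrArg (Levels.proj 𝔛 h𝔛.1 (t₀ + c) (ComplSec.pre p U)) ht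
      rw [map_sum, map_zero] at h1
      have h2 : (p (t₀ + c)).appLE U _ (ComplSec.lvU_pre h𝔛.1 p hp (t₀ + c) U).le (∑ j, τ j * r j) = 0 := by
        rw [map_sum]
        refine Eq.trans (Finset.sum_congr rfl fun j _ => ?_) h1
        rw [map_mul, map_mul, hτ, ComplPull.proj_shA]
      have h3 := congrArg ((𝔛.X (t₀ + c)).presheaf.map
        (homOfLE (ComplSec.lvU_pre h𝔛.1 p hp (t₀ + c) U).ge).op) h2
      rw [map_zero] at h3
      refine Eq.trans ?_ h3
      refine ((congrArg (fun g => (𝔛.X (t₀ + c)).presheaf.map g ((p (t₀ + c)).app U (∑ j, τ j * r j)))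
        (Subsingleton.elim _ (𝟙 _))).trans
        (ConcreteCategory.congr_hom ((𝔛.X (t₀ + c)).presheaf.map_id _) _)).symm.trans
        (ConcreteCategory.congr_hom ((𝔛.X (t₀ + c)).presheaf.map_comp _ _) _)
    have hmem : (∑ j, τ j * r j) ∈ ((p 0).ker.ideal ⟨U, hU⟩ ^ (t₀ + c + 1) • ⊤ ⊓ LinearMap.range φ :
        Submodule Γ(X, U) Γ(X, U)) := by
      refine ⟨?_, τ, by simp [φ, Fintype.linearCombination_apply, smul_eq_mul]⟩
      have hI : (∑ j, τ j * r j) ∈ (p 0).ker.ideal ⟨U, hU⟩ ^ (t₀ + c + 1) := by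
        rw [← hker, Scheme.Hom.ker_apply]
        exact h0
      simpa using hI
    rw [hc _ (by omega)] at hmem
    have hmem' : (∑ j, τ j * r j) ∈
        ((p 0).ker.ideal ⟨U, hU⟩ ^ (t₀ + 1) • (⊤ : Submodule Γ(X, U) (Fin l → Γ(X, U)))).map φ := by
      rw [Submodule.map_smul'', Submodule.map_top, show t₀ + 1 = t₀ + c + 1 - c by omega]
      exact Submodule.smul_mono le_rfl inf_le_right hmem
    obtain ⟨ε, hε, hεe⟩ := hmem'
    obtain ⟨δ, hδ⟩ := hs (fun j => τ j - ε j) (by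
      simp only [sub_mul, Finset.sum_sub_distrib]
      rw [← hεe]
      simp [φ, Fintype.linearCombination_apply, smul_eq_mul])
    rw [SModEq.sub_mem, sub_zero]
    have hk : ∀ j, t j - ∑ i, ComplPull.shA h𝔛 p hp U (δ i) * ComplPull.shA h𝔛 p hp U (s i j) ∈
        Levels.J (h := h𝔛.1) (ComplSec.pre p U) ^ t₀ := fun j => by
      have e : t j - ∑ i, ComplPull.shA h𝔛 p hp U (δ i) * ComplPull.shA h𝔛 p hp U (s i j) =
          (t j - ComplPull.shA h𝔛 p hp U (τ j)) + ComplPull.shA h𝔛 p hp U (ε j) := by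
        simp only [← map_mul, ← map_sum]
        rw [← hδ j, map_sub]
        ring
      rw [e]
      refine Ideal.add_mem _ (Ideal.pow_le_pow_right (by omega : t₀ ≤ t₀ + c + 1) ?_)
        (Ideal.pow_le_pow_right (Nat.le_succ t₀) ?_)
      · rw [← ((Levels.adic h𝔛 hV).2.1 (t₀ + c)).2, RingHom.mem_ker, map_sub, sub_eq_zero]
        exact (hτ j).symm.trans (ComplPull.proj_shA h𝔛 p hp _ U _).symm
      · rw [← ((Levels.adic h𝔛 hV).2.1 t₀).2, RingHom.mem_ker]
        refine (ComplPull.proj_shA h𝔛 p hp t₀ U _).trans ?_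
        have he : (p t₀).app U (ε j) = 0 := by
          have := entry_mem _ hε j
          rw [← hker, Scheme.Hom.ker_apply, RingHom.mem_ker] at this
          exact this
        show (𝔛.X t₀).presheaf.map _ ((p t₀).app U (ε j)) = 0
        rw [he]
        exact map_zero _
    have hvec : (fun j => t j - ∑ i, ComplPull.shA h𝔛 p hp U (δ i) * ComplPull.shA h𝔛 p hp U (s i j)) ∈
        Levels.J (h := h𝔛.1) (ComplSec.pre p U) ^ t₀ • (⊤ : Submodule R (Fin l → R)) := by
      rw [pi_eq_sum_univ' fun j => t j -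
        ∑ i, ComplPull.shA h𝔛 p hp U (δ i) * ComplPull.shA h𝔛 p hp U (s i j)]
      exact Submodule.sum_mem _ fun i _ => Submodule.smul_mem_smul (hk i) trivial
    have h2 := Submodule.mem_map_of_mem (f := S.mkQ) hvec
    rw [Submodule.map_smul'', Submodule.map_top, Submodule.range_mkQ] at h2
    convert h2 using 1
    rw [eq_comm, ← sub_eq_zero, ← map_sub, Submodule.mkQ_apply, Submodule.Quotient.mk_eq_zero]
    exact ⟨-fun i => ComplPull.shA h𝔛 p hp U (δ i),
      funext fun j => by simp [Fintype.linearCombination_apply]⟩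
  rw [Submodule.mkQ_apply, Submodule.Quotient.mk_eq_zero] at hS
  obtain ⟨d, hd⟩ := hS
  exact ⟨d, fun j => by simp [← hd, Fintype.linearCombination_apply]⟩

/-- The structure sheaf as a sheaf on the space. -/
noncomputable abbrev Ox : TopCat.Sheaf CommRingCat.{u} (𝔛.X 0).toPresheafedSpace.carrier :=
  𝔛.Osh h𝔛.1

/-- The map on stalks. -/
noncomputable def stx (x : 𝔛.X 0) :
    X.presheaf.stalk ((p 0).base x) →+* (Ox h𝔛).presheaf.stalk x :=
  RMorLocal.FlatStalk.st (f := (p 0).base) (O_X := 𝔛.Osh h𝔛.1) (O_Y := X.sheaf)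
    (FSch.schSharp 𝔛 h𝔛.1 p hp) x

theorem stx_germ (x : 𝔛.X 0) (U : X.Opens) (hx : (p 0).base x ∈ U) (r : Γ(X, U)) :
    stx h𝔛 p hp x (X.presheaf.germ U _ hx r) =
      (Ox h𝔛).presheaf.germ (ComplSec.pre p U) x hx (ComplPull.shA h𝔛 p hp U r) :=
  RMorLocal.FlatStalk.st_germ (f := (p 0).base) (O_X := 𝔛.Osh h𝔛.1) (O_Y := X.sheaf)
    (FSch.schSharp 𝔛 h𝔛.1 p hp) U x hx r

include hker in
theorem flat_stx (x : 𝔛.X 0) : (stx h𝔛 p hp x).Flat := by
  letI : Algebra (X.presheaf.stalk ((p 0).base x)) ((Ox h𝔛).presheaf.stalk x) :=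
    (stx h𝔛 p hp x).toAlgebra
  show Module.Flat (X.presheaf.stalk ((p 0).base x)) ((Ox h𝔛).presheaf.stalk x)
  refine Module.Flat.of_forall_isTrivialRelation fun {l} a y hay => ?_
  choose Ua hUa ra hra using fun j => TopCat.Presheaf.exists_germ_eq X.presheaf (a j)
  choose Vy hVy ty hty using fun j => TopCat.Presheaf.exists_germ_eq (Ox h𝔛).presheaf (y j)
  obtain ⟨W, hW, hWU, hxW, hWV⟩ := ComplPull.exists_affine_pre p
    (V := Finset.univ.inf Vy) (U := Finset.univ.inf Ua)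
    (RMorLocal.FlatStalk.mem_inf _ _ x fun j _ => hVy j)
    (RMorLocal.FlatStalk.mem_inf _ _ _ fun j _ => hUa j)
  let rW : Fin l → Γ(X, W) := fun j =>
    X.presheaf.map (homOfLE (hWU.trans (Finset.inf_le (Finset.mem_univ j)))).op (ra j)
  let tW : Fin l → Levels.A 𝔛 h𝔛.1 (ComplSec.pre p W) := fun j =>
    CohPres.resA h𝔛.1 (hWV.trans (Finset.inf_le (Finset.mem_univ j))) (ty j)
  have hrW : ∀ j, X.presheaf.germ W _ hxW (rW j) = a j := fun j =>
    (TopCat.Presheaf.germ_res_apply X.presheaf _ _ hxW _).trans (hra j)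
  have htW : ∀ j, (Ox h𝔛).presheaf.germ (ComplSec.pre p W) x hxW (tW j) = y j := fun j =>
    (TopCat.Presheaf.germ_res_apply (Ox h𝔛).presheaf _ _ hxW _).trans (hty j)
  have hgerm : (Ox h𝔛).presheaf.germ (ComplSec.pre p W) x hxW
      (∑ j, tW j * ComplPull.shA h𝔛 p hp W (rW j)) =
      (Ox h𝔛).presheaf.germ (ComplSec.pre p W) x hxW 0 := by
    rw [map_zero, map_sum, ← hay]
    refine Finset.sum_congr rfl fun j _ => ?_
    rw [map_mul, htW, ← stx_germ h𝔛 p hp x W hxW, hrW, mul_comm]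
    rfl
  obtain ⟨V', hxV', i₁, i₂, hV'⟩ :=
    TopCat.Presheaf.germ_eq (Ox h𝔛).presheaf x hxW hxW _ _ hgerm
  obtain ⟨W', hW', hW'W, hxW', hW'V⟩ := ComplPull.exists_affine_pre p (V := V') (U := W) hxV' hxW
  let r' : Fin l → Γ(X, W') := fun j => X.presheaf.map (homOfLE hW'W).op (rW j)
  let t' : Fin l → Levels.A 𝔛 h𝔛.1 (ComplSec.pre p W') := fun j =>
    CohPres.resA h𝔛.1 ((p 0).preimage_mono hW'W) (tW j)
  have hrel : ∑ j, t' j * ComplPull.shA h𝔛 p hp W' (r' j) = 0 := by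
    have e : ∀ v, CohPres.resA h𝔛.1 hW'V ((𝔛.Osh h𝔛.1).obj.map i₁.op v) =
        CohPres.resA h𝔛.1 ((p 0).preimage_mono hW'W) v := fun v =>
      (ConcreteCategory.congr_hom ((𝔛.Osh h𝔛.1).obj.map_comp i₁.op (homOfLE hW'V).op) v).symm.trans rfl
    have h1 := congrArg (CohPres.resA h𝔛.1 hW'V) hV'
    rw [map_zero] at h1
    refine Eq.trans ?_ (((e _).symm.trans h1).trans (map_zero _))
    rw [map_sum]
    exact Finset.sum_congr rfl fun j _ => by rw [map_mul, ComplPull.shA_res]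
  haveI : IsNoetherianRing Γ(X, W') := IsLocallyNoetherian.component_noetherian ⟨W', hW'⟩
  let φ : (Fin l → Γ(X, W')) →ₗ[Γ(X, W')] Γ(X, W') := Fintype.linearCombination _ r'
  obtain ⟨m, s, hs⟩ := Submodule.fg_iff_exists_fin_generating_family.1
    (IsNoetherian.noetherian (LinearMap.ker φ))
  obtain ⟨d, hd⟩ := exists_ring_rel h𝔛 p hp hker hW' r' s (fun c hc => by
    have hm : c ∈ LinearMap.ker φ := by
      rw [LinearMap.mem_ker]
      simpa [φ, Fintype.linearCombination_apply, smul_eq_mul] using hc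
    rw [← hs, Submodule.mem_span_range_iff_exists_fun] at hm
    obtain ⟨d, hd⟩ := hm
    exact ⟨d, fun j => by rw [← hd]; simp⟩) t' hrel
  refine ⟨m, fun j i => X.presheaf.germ W' _ hxW' (s i j),
    fun i => (Ox h𝔛).presheaf.germ (ComplSec.pre p W') x hxW' (d i), fun j => ?_, fun i => ?_⟩
  · rw [← htW j, ← TopCat.Presheaf.germ_res_apply (Ox h𝔛).presheaf
      (homOfLE ((p 0).preimage_mono hW'W)) x hxW' (tW j)]
    refine (congrArg _ (hd j)).trans ?_
    rw [map_sum]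
    refine Finset.sum_congr rfl fun i _ => ?_
    rw [map_mul, ← stx_germ h𝔛 p hp x W' hxW', mul_comm]
    rfl
  · have hsi : ∑ j, s i j * r' j = 0 := by
      have := LinearMap.mem_ker.1 (hs ▸ Submodule.subset_span ⟨i, rfl⟩ : s i ∈ LinearMap.ker φ)
      simpa [φ, Fintype.linearCombination_apply, smul_eq_mul] using this
    refine Eq.trans ?_ ((congrArg (X.presheaf.germ W' _ hxW') hsi).trans (map_zero _))
    rw [map_sum]
    refine Finset.sum_congr rfl fun j _ => ?_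
    rw [map_mul, mul_comm, ← hrW j]
    exact congrArg₂ (· * ·) rfl (TopCat.Presheaf.germ_res_apply X.presheaf _ _ hxW' _).symm

include hker in
/-- The completion is flat over the scheme. -/
theorem isFlat : ModSite.RMor.IsFlat (FSch.toSchemeMor 𝔛 h𝔛.1 p hp) :=
  Groth.Agent.S6845.result (p 0).base (𝔛.Osh h𝔛.1) X.sheaf (FSch.schSharp 𝔛 h𝔛.1 p hp)
    (flat_stx h𝔛 p hp hker)

end Groth.Agent.H30.ComplFlat
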