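import Groth.Agent.Lib.EtMod.SubSheaf
import Mathlib.Algebra.Category.ModuleCat.Sheaf.Quasicoherent

/-!
# Local form of a presentation of a sheaf of modules (helper30)
-/

set_option autoImplicit false
set_option linter.style.haveILetI false

universe u u₁ v₁

open CategoryTheory CategoryTheory.Limits Opposite
open Groth.Agent.Lib.EtMod

namespace Groth.Agent.H30.PresGen

variable {C : Type u₁} [Category.{v₁} C] {J : GrothendieckTopology C} {R : Sheaf J RingCat.{u}}
  [HasSheafify J AddCommGrpCat.{u}] [J.WEqualsLocallyBijective AddCommGrpCat.{u}]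
  {M : SheafOfModules.{u} R}

/-- The value of a generator on an object. -/
noncomputable abbrev gen (σ : M.GeneratingSections) (i : σ.I) (X : C) : M.val.obj (op X) :=
  PresheafOfModules.sections.eval (σ.s i) (op X)

theorem gen_map (σ : M.GeneratingSections) (i : σ.I) {X Y : C} (g : Y ⟶ X) :
    M.val.map g.op (gen σ i X) = gen σ i Y :=
  (σ.s i).2 g.op

/-- Finite combinations of generators. -/
noncomputable abbrev lc (σ : M.GeneratingSections) (X : C) :
    (σ.I →₀ R.obj.obj (op X)) →ₗ[R.obj.obj (op X)] M.val.obj (op X) :=
  Finsupp.linearCombination _ fun i => gen σ i X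

/-- Restriction of coefficients. -/
noncomputable def resC {I : Type u} {X Y : C} (g : Y ⟶ X) (b : I →₀ R.obj.obj (op X)) :
    I →₀ R.obj.obj (op Y) :=
  Finsupp.mapRange (R.obj.map g.op) (map_zero (R.obj.map g.op).hom) b

theorem map_linearCombination (N : SheafOfModules.{u} R) {I : Type u} {X Y : C} (g : Y ⟶ X)
    (s : I → N.sections) (b : I →₀ R.obj.obj (op X)) :
    N.val.map g.op (Finsupp.linearCombination _
        (fun i => PresheafOfModules.sections.eval (s i) (op X)) b) =
      Finsupp.linearCombination _ (fun i => PresheafOfModules.sections.eval (s i) (op Y)) (resC g b) := by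
  induction b using Finsupp.induction_linear with
  | zero =>
    rw [resC, Finsupp.mapRange_zero, map_zero, map_zero]
    rfl
  | add a b ha hb =>
    refine (congrArg _ (map_add _ a b)).trans ((map_add (N.val.map g.op).hom _ _).trans
      ((congrArg₂ (fun p q : N.val.obj (op Y) => p + q) ha hb).trans ?_))
    rw [show resC g (a + b) = resC g a + resC g b from
      Finsupp.ext fun i => map_add (R.obj.map g.op).hom (a i) (b i), map_add]
  | single i a =>
    rw [resC, Finsupp.mapRange_single, Finsupp.linearCombination_single,
      Finsupp.linearCombination_single, PresheafOfModules.map_smul]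
    exact congrArg _ ((s i).2 g.op)

theorem lc_map (σ : M.GeneratingSections) {X Y : C} (g : Y ⟶ X) (b : σ.I →₀ R.obj.obj (op X)) :
    M.val.map g.op (lc σ X b) = lc σ Y (resC g b) :=
  map_linearCombination M g σ.s b

theorem combFree_map {I : Type u} {X Y : C} (g : Y ⟶ X) (b : I →₀ R.obj.obj (op X)) :
    (SheafOfModules.free (R := R) I).val.map g.op (SubSheaf.combFree X b) =
      SubSheaf.combFree Y (resC g b) :=
  map_linearCombination _ g SheafOfModules.freeSection b

theorem π_combFree (σ : M.GeneratingSections) (X : C) (b : σ.I →₀ R.obj.obj (op X)) :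
    σ.π.val.app (op X) (SubSheaf.combFree X b) = lc σ X b := by
  rw [SubSheaf.freeHomEquiv_app_combFree]
  exact congrArg (fun s : σ.I → M.sections => Finsupp.linearCombination _
    (fun i => PresheafOfModules.sections.eval (s i) (op X)) b)
    ((M.freeHomEquiv).apply_symm_apply σ.s)

/-- Every section is locally a combination of the generators. -/
theorem exists_local_lc (σ : M.GeneratingSections) {X : C} (m : M.val.obj (op X)) :
    ∃ S ∈ J X, ∀ ⦃Y : C⦄ (f : Y ⟶ X), S f → ∃ b, lc σ Y b = M.val.map f.op m := by
  haveI : Epi (M.freeHomEquiv.symm σ.s) := σ.epi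
  exact ⟨_, SubSheaf.span_mem_of_epi σ.s m, fun Y f hf =>
    LinearMap.mem_range.1 (show _ ∈ LinearMap.range (lc σ Y) by
      rw [lc, Finsupp.range_linearCombination]
      exact hf)⟩

variable (p : M.Presentation)

/-- The value of a relation in the free module. -/
noncomputable def rel (j : p.relations.I) (X : C) :
    (SheafOfModules.free (R := R) p.generators.I).val.obj (op X) :=
  (kernel.ι p.generators.π).val.app (op X) (gen p.relations j X)

theorem rel_map (j : p.relations.I) {X Y : C} (g : Y ⟶ X) :
    (SheafOfModules.free (R := R) p.generators.I).val.map g.op (rel p j X) = rel p j Y :=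
  (PresheafOfModules.naturality_apply (kernel.ι p.generators.π).val g.op _).symm.trans
    (congrArg _ (gen_map p.relations j g))

theorem π_rel (j : p.relations.I) (X : C) : p.generators.π.val.app (op X) (rel p j X) = 0 :=
  congrArg (fun φ : kernel p.generators.π ⟶ M => φ.val.app (op X) (gen p.relations j X))
    (kernel.condition p.generators.π)

/-- Every relation is locally a combination of the given ones. -/
theorem exists_local_rel {X : C} (b : p.generators.I →₀ R.obj.obj (op X))
    (hb : lc p.generators X b = 0) :
    ∃ S ∈ J X, ∀ ⦃Y : C⦄ (f : Y ⟶ X), S f → ∃ d : p.relations.I →₀ R.obj.obj (op Y),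
      Finsupp.linearCombination _ (fun j => rel p j Y) d = SubSheaf.combFree Y (resC f b) := by
  obtain ⟨t, ht⟩ := SubSheaf.exists_kernel_lift p.generators.π (SubSheaf.combFree X b)
    ((π_combFree p.generators X b).trans hb)
  obtain ⟨S, hS, hS'⟩ := exists_local_lc p.relations t
  refine ⟨S, hS, fun Y f hf => ?_⟩
  obtain ⟨d, hd⟩ := hS' f hf
  refine ⟨d, ?_⟩
  rw [← combFree_map, ← ht, ← PresheafOfModules.naturality_apply, ← hd,
    Finsupp.linearCombination_apply, Finsupp.linearCombination_apply, Finsupp.sum, Finsupp.sum,
    map_sum]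
  exact Finset.sum_congr rfl fun j _ => (map_smul _ _ _).symm

/-- Every relation is locally a combination of expansions of the given ones. -/
theorem exists_local_rel_expand {W X : C} (g : X ⟶ W)
    (B : p.relations.I → p.generators.I →₀ R.obj.obj (op W))
    (hB : ∀ j, SubSheaf.combFree W (B j) = rel p j W)
    (b : p.generators.I →₀ R.obj.obj (op X)) (hb : lc p.generators X b = 0) :
    ∃ S ∈ J X, ∀ ⦃Y : C⦄ (f : Y ⟶ X), S f → ∃ d : p.relations.I →₀ R.obj.obj (op Y),
      resC f b = d.sum fun j a => a • resC (f ≫ g) (B j) := by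
  obtain ⟨S, hS, hS'⟩ := exists_local_rel p b hb
  refine ⟨S, hS, fun Y f hf => ?_⟩
  obtain ⟨d, hd⟩ := hS' f hf
  refine ⟨d, SubSheaf.combFree_injective Y ?_⟩
  rw [← hd, Finsupp.linearCombination_apply, Finsupp.sum, Finsupp.sum, map_sum]
  exact Finset.sum_congr rfl fun j _ => ((map_smul _ _ _).trans (congrArg (d j • ·)
    (by rw [← combFree_map, hB, rel_map]))).symm

theorem lc_eq_zero_of_combFree (j : p.relations.I) {X : C} (b : p.generators.I →₀ R.obj.obj (op X))
    (hb : SubSheaf.combFree X b = rel p j X) : lc p.generators X b = 0 :=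
  (π_combFree p.generators X b).symm.trans ((congrArg _ hb).trans (π_rel p j X))

/-- The coordinates of a free module. -/
noncomputable def coord {I : Type u} [DecidableEq I] (i : I) :
    SheafOfModules.free (R := R) I ⟶ SheafOfModules.unit R :=
  (SheafOfModules.unit R).freeHomEquiv.symm fun j =>
    if j = i then PresheafOfModules.sectionsMk (M := (SheafOfModules.unit R).val)
      (fun Y => (1 : R.obj.obj Y)) (fun Y Y' g => map_one (R.obj.map g).hom)
    else PresheafOfModules.sectionsMk (M := (SheafOfModules.unit R).val)
      (fun Y => (0 : R.obj.obj Y)) (fun Y Y' g => map_zero (R.obj.map g).hom)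

theorem coord_combFree {I : Type u} [DecidableEq I] (i : I) (X : C) (b : I →₀ R.obj.obj (op X)) :
    (coord (R := R) i).val.app (op X) (SubSheaf.combFree X b) = b i := by
  rw [coord, SubSheaf.freeHomEquiv_app_combFree, Equiv.apply_symm_apply,
    Finsupp.linearCombination_apply, Finsupp.sum, Finset.sum_eq_single (s := b.support) i]
  · rw [if_pos rfl]
    exact mul_one (b i)
  · intro j _ hj
    rw [if_neg hj]
    exact mul_zero (b j)
  · intro hi
    rw [Finsupp.notMem_support_iff.1 hi, zero_smul]

/-- A section of a free module with locally bounded support is a combination of the basis. -/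
theorem eq_combFree_of_local {I : Type u} {X : C}
    (m : (SheafOfModules.free (R := R) I).val.obj (op X)) (s : Finset I) {S : Sieve X} (hS : S ∈ J X)
    (h : ∀ ⦃Y : C⦄ (f : Y ⟶ X), S f → ∃ b : I →₀ R.obj.obj (op Y), b.support ⊆ s ∧
      SubSheaf.combFree Y b = (SheafOfModules.free (R := R) I).val.map f.op m) :
    ∃ b : I →₀ R.obj.obj (op X), SubSheaf.combFree X b = m := by
  classical
  let c : I → R.obj.obj (op X) := fun i => (coord (R := R) i).val.app (op X) m
  refine ⟨Finsupp.indicator s fun i _ => c i, SubSheaf.sections_ext _ hS fun Y f hf => ?_⟩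
  obtain ⟨b, hb, he⟩ := h f hf
  rw [combFree_map, ← he]
  congr 1
  ext i
  rw [resC, Finsupp.mapRange_apply, Finsupp.indicator_apply]
  split_ifs with hi
  · refine Eq.trans ?_ (coord_combFree i Y b)
    rw [he]
    exact (PresheafOfModules.naturality_apply (coord (R := R) i).val f.op m).symm
  · rw [map_zero]
    exact (Finsupp.notMem_support_iff.1 fun h' => hi (hb h')).symm

end Groth.Agent.H30.PresGen
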