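import Groth.Agent.H30.FSch.CohCons
import Groth.Agent.H30.FSch.PresGen

/-!
# Quasi-coherent modules of finite type on a Noetherian formal scheme are coherent (helper30)
-/

set_option autoImplicit false
set_option linter.style.haveILetI false

universe u

open CategoryTheory CategoryTheory.Limits AlgebraicGeometry TopologicalSpace Opposite
open Groth.Agent.H30 Groth.Agent.H30.RealLimSec
open Groth.Agent.Lib.EtMod

namespace Groth.Agent.H30.QcFT

variable {𝔛 : FSch.Sys.{u}} (h𝔛 : 𝔛.IsLocNoethFormal)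

/-- Vectors with entries in an ideal. -/
theorem mem_smul_top {R : Type u} [CommRing R] (I : Ideal R) {n : ℕ} (v : Fin n → R)
    (hv : ∀ i, v i ∈ I) : v ∈ I • (⊤ : Submodule R (Fin n → R)) := by
  rw [pi_eq_sum_univ' v]
  exact Submodule.sum_mem _ fun i _ => Submodule.smul_mem_smul (hv i) trivial

/-- Local membership in a span of vectors of functions is global on affine opens. -/
theorem exists_coeff_of_locally {W : (𝔛.X 0).Opens} (hW : IsAffineOpen W) {n m : ℕ}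
    (r : Fin m → Fin n → Levels.A 𝔛 h𝔛.1 W) (y : Fin n → Levels.A 𝔛 h𝔛.1 W)
    (h : ∀ z ∈ W, ∃ (V : (𝔛.X 0).Opens) (e : V ≤ W) (_ : z ∈ V)
      (d : Fin m → Levels.A 𝔛 h𝔛.1 V),
        ∀ i, CohPres.resA h𝔛.1 e (y i) = ∑ j, d j * CohPres.resA h𝔛.1 e (r j i)) :
    ∃ d : Fin m → Levels.A 𝔛 h𝔛.1 W, ∀ i, y i = ∑ j, d j * r j i := by
  haveI := (Levels.adic h𝔛 hW).1
  haveI := Levels.isNoetherianRing_A h𝔛 hW
  let S : Submodule (Levels.A 𝔛 h𝔛.1 W) (Fin n → Levels.A 𝔛 h𝔛.1 W) :=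
    LinearMap.range (Fintype.linearCombination _ r)
  haveI : IsHausdorff (Levels.J (h := h𝔛.1) W) ((Fin n → Levels.A 𝔛 h𝔛.1 W) ⧸ S) :=
    IsHausdorff.of_le_jacobson _ _ (IsAdicComplete.le_jacobson_bot _)
  have hS : S.mkQ y = 0 := by
    refine IsHausdorff.haus ‹_› _ fun t => ?_
    obtain ⟨d, hd⟩ := SchPres.exists_coeff_of_locally
      (OshBasic.isAffineOpen_lvU 𝔛 h𝔛.1 t hW)
      (fun j i => Levels.proj 𝔛 h𝔛.1 t W (r j i)) (fun i => Levels.proj 𝔛 h𝔛.1 t W (y i))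
      fun x hx => by
        obtain ⟨V, e, hzV, d, hd⟩ := h (𝔛.gInv h𝔛.1 t x) hx
        refine ⟨_, CohPres.lvU_mono h𝔛.1 t e, hzV, fun j => Levels.proj 𝔛 h𝔛.1 t V (d j),
          fun i => ?_⟩
        refine (CohPres.proj_resA h𝔛.1 t e (y i)).symm.trans ((congrArg _ (hd i)).trans ?_)
        rw [map_sum]
        exact Finset.sum_congr rfl fun j _ => (map_mul _ _ _).trans
          (congrArg (Levels.proj 𝔛 h𝔛.1 t V (d j) * ·) (CohPres.proj_resA h𝔛.1 t e (r j i)))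
    choose D hD using fun j => ((Levels.adic h𝔛 hW).2.1 t).1 (d j)
    rw [SModEq.sub_mem, sub_zero]
    have hk : ∀ i, y i - ∑ j, D j * r j i ∈ Levels.J (h := h𝔛.1) W ^ t := fun i => by
      refine Ideal.pow_le_pow_right (Nat.le_succ t) ?_
      rw [← ((Levels.adic h𝔛 hW).2.1 t).2, RingHom.mem_ker, map_sub, map_sum, sub_eq_zero]
      simp only [map_mul, hD]
      exact hd i
    have h2 := Submodule.mem_map_of_mem (f := S.mkQ)
      (mem_smul_top _ (fun i => y i - ∑ j, D j * r j i) hk)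
    rw [Submodule.map_smul'', Submodule.map_top, Submodule.range_mkQ] at h2
    convert h2 using 1
    rw [eq_comm, ← sub_eq_zero, ← map_sub, Submodule.mkQ_apply, Submodule.Quotient.mk_eq_zero]
    exact ⟨-D, funext fun i => by simp [Fintype.linearCombination_apply]⟩
  rw [Submodule.mkQ_apply, Submodule.Quotient.mk_eq_zero] at hS
  obtain ⟨d, hd⟩ := hS
  exact ⟨d, fun i => by simp [← hd, Fintype.linearCombination_apply]⟩

/-- Restriction of coefficients. -/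
noncomputable def rA {I : Type u} {W V : (𝔛.X 0).Opens} (e : V ≤ W)
    (b : I →₀ Levels.A 𝔛 h𝔛.1 W) : I →₀ Levels.A 𝔛 h𝔛.1 V :=
  Finsupp.mapRange (CohPres.resA h𝔛.1 e) (map_zero _) b

theorem rA_apply {I : Type u} {W V : (𝔛.X 0).Opens} (e : V ≤ W)
    (b : I →₀ Levels.A 𝔛 h𝔛.1 W) (i : I) : rA h𝔛 e b i = CohPres.resA h𝔛.1 e (b i) := rfl

/-- The same for finitely supported vectors. -/
theorem exists_finsupp_coeff_of_locally {W : (𝔛.X 0).Opens} (hW : IsAffineOpen W) {I : Type u}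
    {ι : Type u} [Fintype ι] (r : ι → I →₀ Levels.A 𝔛 h𝔛.1 W) (y : I →₀ Levels.A 𝔛 h𝔛.1 W)
    (h : ∀ z ∈ W, ∃ (V : (𝔛.X 0).Opens) (e : V ≤ W) (_ : z ∈ V) (d : ι → Levels.A 𝔛 h𝔛.1 V),
      rA h𝔛 e y = ∑ j, d j • rA h𝔛 e (r j)) :
    ∃ d : ι → Levels.A 𝔛 h𝔛.1 W, y = ∑ j, d j • r j := by
  classical
  let s : Finset I := y.support ∪ Finset.univ.biUnion fun j => (r j).support
  let e₁ := Fintype.equivFin ι
  let e₂ := s.equivFin
  obtain ⟨d, hd⟩ := exists_coeff_of_locally h𝔛 hW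
    (fun a b => r (e₁.symm a) (e₂.symm b).1) (fun b => y (e₂.symm b).1) fun z hz => by
      obtain ⟨V, e, hzV, d, hd⟩ := h z hz
      refine ⟨V, e, hzV, fun a => d (e₁.symm a), fun b => ?_⟩
      have := congrArg (fun v : I →₀ Levels.A 𝔛 h𝔛.1 V => v (e₂.symm b).1) hd
      simp only [Finsupp.coe_finsetSum, Finset.sum_apply, Finsupp.smul_apply, rA_apply,
        smul_eq_mul] at this
      rw [this]
      exact (e₁.symm.sum_comp fun j => d j * CohPres.resA h𝔛.1 e (r j (e₂.symm b).1)).symm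
  refine ⟨fun j => d (e₁ j), Finsupp.ext fun i => ?_⟩
  simp only [Finsupp.coe_finsetSum, Finset.sum_apply, Finsupp.smul_apply, smul_eq_mul]
  by_cases hi : i ∈ s
  · have := hd (e₂ ⟨i, hi⟩)
    simp only [Equiv.symm_apply_apply] at this
    rw [this, ← e₁.sum_comp]
    simp only [Equiv.symm_apply_apply]
  · rw [Finset.mem_union, not_or, Finset.mem_biUnion] at hi
    rw [Finsupp.notMem_support_iff.1 hi.1]
    refine (Finset.sum_eq_zero fun j hj => ?_).symm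
    rw [Finsupp.notMem_support_iff.1 fun hj' => hi.2 ⟨j, hj, hj'⟩, mul_zero]

section Chart

variable {G : FSch.ModF 𝔛 h𝔛.1} {W₀ : (𝔛.X 0).Opens}

/-- An open as an object over `W₀`. -/
abbrev ov {W : (𝔛.X 0).Opens} (e : W ≤ W₀) : Over W₀ := Over.mk (homOfLE e)

/-- An inclusion over `W₀`. -/
noncomputable abbrev ovMap {W V : (𝔛.X 0).Opens} (e : W ≤ W₀) (e' : V ≤ W) :
    ov (e'.trans e) ⟶ ov e :=
  Over.homMk (homOfLE e') rfl

theorem exists_of_mem {W : (𝔛.X 0).Opens} (e : W ≤ W₀) {S : Sieve (ov e)}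
    (hS : S ∈ ((Opens.grothendieckTopology (𝔛.X 0)).over W₀) (ov e)) {z : 𝔛.X 0} (hz : z ∈ W) :
    ∃ (V : (𝔛.X 0).Opens) (e' : V ≤ W), z ∈ V ∧ S (ovMap e e') := by
  obtain ⟨V, g, hg, hzV⟩ := (GrothendieckTopology.mem_over_iff _ _).1 hS z hz
  rw [Sieve.overEquiv_iff] at hg
  exact ⟨V, leOfHom g, hzV, hg⟩

variable (σ : (SheafOfModules.over G W₀).GeneratingSections)

/-- The value of a generator. -/
noncomputable def σv (i : σ.I) {W : (𝔛.X 0).Opens} (e : W ≤ W₀) : sec h𝔛.1 G W :=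
  PresGen.gen σ i (ov e)

theorem σv_res (i : σ.I) {W V : (𝔛.X 0).Opens} (e : W ≤ W₀) (e' : V ≤ W) :
    CohPres.resF h𝔛.1 G e' (σv h𝔛 σ i e) = σv h𝔛 σ i (e'.trans e) :=
  PresGen.gen_map σ i (ovMap e e')

/-- Finite combinations of the generators. -/
noncomputable def comb {W : (𝔛.X 0).Opens} (e : W ≤ W₀) :
    (σ.I →₀ Levels.A 𝔛 h𝔛.1 W) →ₗ[Levels.A 𝔛 h𝔛.1 W] sec h𝔛.1 G W :=
  Finsupp.linearCombination _ fun i => σv h𝔛 σ i e

theorem comb_res {W V : (𝔛.X 0).Opens} (e : W ≤ W₀) (e' : V ≤ W)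
    (b : σ.I →₀ Levels.A 𝔛 h𝔛.1 W) :
    CohPres.resF h𝔛.1 G e' (comb h𝔛 σ e b) = comb h𝔛 σ (e'.trans e) (rA h𝔛 e' b) :=
  PresGen.lc_map σ (ovMap e e') b

theorem exists_local_comb {W : (𝔛.X 0).Opens} (e : W ≤ W₀) (y : sec h𝔛.1 G W) {z : 𝔛.X 0}
    (hz : z ∈ W) :
    ∃ (V : (𝔛.X 0).Opens) (e' : V ≤ W) (_ : z ∈ V) (b : σ.I →₀ Levels.A 𝔛 h𝔛.1 V),
      comb h𝔛 σ (e'.trans e) b = CohPres.resF h𝔛.1 G e' y := by
  obtain ⟨S, hS, hS'⟩ := PresGen.exists_local_lc σ (X := ov e) y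
  obtain ⟨V, e', hzV, hf⟩ := exists_of_mem e hS hz
  obtain ⟨b, hb⟩ := hS' _ hf
  exact ⟨V, e', hzV, b, hb⟩

variable (p : (SheafOfModules.over G W₀).Presentation)

theorem exists_support {W : (𝔛.X 0).Opens} (hW : IsAffineOpen W) (e : W ≤ W₀)
    (j : p.relations.I) :
    ∃ b : p.generators.I →₀ Levels.A 𝔛 h𝔛.1 W,
      SubSheaf.combFree (R := (ModSite.ringSh (𝔛.Osh h𝔛.1)).over W₀) (ov e) b = PresGen.rel p j (ov e) := by
  classical
  obtain ⟨S, hS, hS'⟩ := SubSheaf.exists_local_combFree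
    (R := (ModSite.ringSh (𝔛.Osh h𝔛.1)).over W₀) (PresGen.rel p j (ov e))
  choose V e' hzV hf using fun z : W => exists_of_mem e hS z.2
  choose b hb using fun z => hS' _ (hf z)
  obtain ⟨T, hT⟩ := hW.isCompact.elim_finite_subcover (fun z : W => (V z : Set (𝔛.X 0)))
    (fun z => (V z).2) fun z hz => Set.mem_iUnion.2 ⟨⟨z, hz⟩, hzV ⟨z, hz⟩⟩
  let S' : Sieve (ov e) :=
    Sieve.generate (Presieve.ofArrows (fun z : T => ov ((e' z.1).trans e)) fun z => ovMap e (e' z.1))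
  have hS'' : S' ∈ ((Opens.grothendieckTopology (𝔛.X 0)).over W₀) (ov e) := by
    rw [GrothendieckTopology.mem_over_iff]
    intro z hz
    obtain ⟨w, hw, hzw⟩ := Set.mem_iUnion₂.1 (hT hz)
    refine ⟨V w, homOfLE (e' w), ?_, hzw⟩
    rw [Sieve.overEquiv_iff]
    exact Sieve.le_generate _ _ _ (Presieve.ofArrows.mk (⟨w, hw⟩ : T))
  refine PresGen.eq_combFree_of_local (R := (ModSite.ringSh (𝔛.Osh h𝔛.1)).over W₀) (PresGen.rel p j (ov e))
    (T.biUnion fun z => (b z).support) hS'' fun Y f hf' => ?_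
  obtain ⟨Z, g, _, ⟨w⟩, rfl⟩ := hf'
  refine ⟨PresGen.resC g (b w.1), fun i hi => Finset.mem_biUnion.2
    ⟨w.1, w.2, Finsupp.support_mapRange hi⟩, ?_⟩
  rw [← PresGen.combFree_map, hb, op_comp]
  exact (PresheafOfModules.map_comp_apply _ _ _ _).symm

/-- Relations are locally combinations of global ones. -/
theorem exists_local_exact {W : (𝔛.X 0).Opens} (hW : IsAffineOpen W) (e : W ≤ W₀) :
    ∃ (K : Type u) (B : K → p.generators.I →₀ Levels.A 𝔛 h𝔛.1 W),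
      (∀ j, comb h𝔛 p.generators e (B j) = 0) ∧
      ∀ (Z : (𝔛.X 0).Opens) (eZ : Z ≤ W) (b : p.generators.I →₀ Levels.A 𝔛 h𝔛.1 Z),
        comb h𝔛 p.generators (eZ.trans e) b = 0 → ∀ z ∈ Z,
        ∃ (V : (𝔛.X 0).Opens) (eV : V ≤ Z) (_ : z ∈ V) (d : K →₀ Levels.A 𝔛 h𝔛.1 V),
          rA h𝔛 eV b = d.sum fun j a => a • rA h𝔛 (eV.trans eZ) (B j) := by
  choose B hB using exists_support h𝔛 p hW e
  refine ⟨p.relations.I, B, fun j => PresGen.lc_eq_zero_of_combFree p j (X := ov e) (B j) (hB j),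
    fun Z eZ b hb z hz => ?_⟩
  obtain ⟨S, hS, hS'⟩ := PresGen.exists_local_rel_expand p (ovMap e eZ) B hB b hb
  obtain ⟨V, eV, hzV, hf⟩ := exists_of_mem (eZ.trans e) hS hz
  obtain ⟨d, hd⟩ := hS' _ hf
  exact ⟨V, eV, hzV, d, hd⟩

/-- Locally generating generators span on affine opens. -/
theorem mem_span_of_local_gen {W : (𝔛.X 0).Opens} (hW : IsAffineOpen W) (e : W ≤ W₀)
    (t : Finset p.generators.I)
    (hgen : ∀ i, ∀ z ∈ W, ∃ (V : (𝔛.X 0).Opens) (e' : V ≤ W) (_ : z ∈ V)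
      (c : t → Levels.A 𝔛 h𝔛.1 V),
        σv h𝔛 p.generators i (e'.trans e) = ∑ k : t, c k • σv h𝔛 p.generators k.1 (e'.trans e))
    (i : p.generators.I) :
    ∃ a : t → Levels.A 𝔛 h𝔛.1 W, σv h𝔛 p.generators i e = ∑ k : t, a k • σv h𝔛 p.generators k.1 e := by
  classical
  obtain ⟨K, B, hB, hex⟩ := exists_local_exact h𝔛 p hW e
  choose V e' hzV c hc using fun z : W => hgen i z.1 z.2
  have hrel : ∀ z : W, comb h𝔛 p.generators ((e' z).trans e)
      (Finsupp.single i 1 - ∑ k : t, Finsupp.single k.1 (c z k)) = 0 := fun z => by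
    simp only [comb, map_sub, map_sum, Finsupp.linearCombination_single, one_smul]
    exact sub_eq_zero.2 (hc z)
  choose V' eV hzV' d hd using fun z : W => hex _ (e' z) _ (hrel z) z.1 (hzV z)
  obtain ⟨T, hT⟩ := hW.isCompact.elim_finite_subcover (fun z : W => (V' z : Set (𝔛.X 0)))
    (fun z => (V' z).2) fun z hz => Set.mem_iUnion.2 ⟨⟨z, hz⟩, hzV' ⟨z, hz⟩⟩
  let U : Finset K := T.biUnion fun z => (d z).support
  obtain ⟨a, ha⟩ := exists_finsupp_coeff_of_locally h𝔛 hW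
    (Sum.elim (fun k : t => Finsupp.single k.1 1) fun j : U => B j.1) (Finsupp.single i 1)
    fun z hz => by
      obtain ⟨w, hw, hzw⟩ := Set.mem_iUnion₂.1 (hT hz)
      refine ⟨V' w, (eV w).trans (e' w), hzw,
        Sum.elim (fun k => CohPres.resA h𝔛.1 (eV w) (c w k)) (fun j => d w j.1), ?_⟩
      have h1 : ∑ j : U, d w j.1 • rA h𝔛 ((eV w).trans (e' w)) (B j.1) =
          rA h𝔛 (eV w) (Finsupp.single i 1 - ∑ k : t, Finsupp.single k.1 (c w k)) := by
        rw [hd w, Finsupp.sum_of_support_subset (d w) (s := U)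
          (fun j hj => Finset.mem_biUnion.2 ⟨w, hw, hj⟩)
          (fun j a => a • rA h𝔛 ((eV w).trans (e' w)) (B j)) (fun j _ => zero_smul _ _)]
        exact Finset.sum_coe_sort U fun j => d w j • rA h𝔛 ((eV w).trans (e' w)) (B j)
      rw [Fintype.sum_sum_type]
      simp only [Sum.elim_inl, Sum.elim_inr]
      rw [h1]
      ext l
      simp only [Finsupp.add_apply, Finsupp.coe_finsetSum, Finset.sum_apply, Finsupp.smul_apply,
        rA_apply, Finsupp.sub_apply, map_sub, map_sum, smul_eq_mul]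
      simp only [Finsupp.single_apply, apply_ite (CohPres.resA h𝔛.1 _), map_one, map_zero, mul_ite,
        mul_one, mul_zero]
      ring
  refine ⟨fun k => a (Sum.inl k), ?_⟩
  have h := congrArg (comb h𝔛 p.generators e) ha
  rw [Fintype.sum_sum_type, map_add, map_sum, map_sum] at h
  simp only [Sum.elim_inl, Sum.elim_inr, map_smul, hB, smul_zero, Finset.sum_const_zero, add_zero] at h
  simp only [comb, Finsupp.linearCombination_single, one_smul] at h
  exact h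

end Chart

section Global

variable {G : FSch.ModF 𝔛 h𝔛.1}

theorem exists_presentation [SheafOfModules.IsQuasicoherent.{u} G] (x : 𝔛.X 0) :
    ∃ (W₀ : (𝔛.X 0).Opens), x ∈ W₀ ∧ Nonempty (SheafOfModules.over G W₀).Presentation := by
  obtain ⟨q⟩ := SheafOfModules.IsQuasicoherent.nonempty_quasicoherentData (M := G)
  obtain ⟨V, g, ⟨i, ⟨g'⟩⟩, hV⟩ := q.coversTop ⊤ x trivial
  exact ⟨q.X i, leOfHom g' hV, ⟨q.presentation i⟩⟩

theorem exists_gens_of_gs {W₁ : (𝔛.X 0).Opens} (σ : (SheafOfModules.over G W₁).GeneratingSections)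
    [Finite σ.I] :
    ∃ (n : ℕ) (g : Fin n → sec h𝔛.1 G W₁),
      ∀ (Z : (𝔛.X 0).Opens) (hZ : Z ≤ W₁) (s : sec h𝔛.1 G Z), ∀ z ∈ Z,
        ∃ (V : (𝔛.X 0).Opens) (hVZ : V ≤ Z) (_ : z ∈ V) (c : Fin n → Levels.A 𝔛 h𝔛.1 V),
          CohPres.resF h𝔛.1 G hVZ s = ∑ k, c k • CohPres.resF h𝔛.1 G (hVZ.trans hZ) (g k) := by
  classical
  obtain ⟨n, ⟨e⟩⟩ := Finite.exists_equiv_fin σ.I
  refine ⟨n, fun k => σv h𝔛 σ (e.symm k) le_rfl, fun Z hZ s z hz => ?_⟩
  obtain ⟨V, e', hzV, b, hb⟩ := exists_local_comb h𝔛 σ hZ s hz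
  refine ⟨V, e', hzV, fun k => b (e.symm k), ?_⟩
  haveI : Fintype σ.I := Fintype.ofFinite _
  rw [← hb, comb, Finsupp.linearCombination_apply,
    Finsupp.sum_fintype b (fun i' a => a • σv h𝔛 σ i' (e'.trans hZ)) (fun j => zero_smul _ _),
    ← e.symm.sum_comp]
  exact Finset.sum_congr rfl fun k _ => congrArg (_ • ·)
    (σv_res h𝔛 σ (e.symm k) le_rfl (e'.trans hZ)).symm

theorem exists_gens_of_finiteType [hG : SheafOfModules.IsFiniteType.{u} G] (x : 𝔛.X 0) :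
    ∃ (W₁ : (𝔛.X 0).Opens) (n : ℕ) (g : Fin n → sec h𝔛.1 G W₁), x ∈ W₁ ∧
      ∀ (Z : (𝔛.X 0).Opens) (hZ : Z ≤ W₁) (s : sec h𝔛.1 G Z), ∀ z ∈ Z,
        ∃ (V : (𝔛.X 0).Opens) (hVZ : V ≤ Z) (_ : z ∈ V) (c : Fin n → Levels.A 𝔛 h𝔛.1 V),
          CohPres.resF h𝔛.1 G hVZ s = ∑ k, c k • CohPres.resF h𝔛.1 G (hVZ.trans hZ) (g k) := by
  obtain ⟨q, hq⟩ := hG.exists_localGeneratorsData
  obtain ⟨V, g, ⟨i, ⟨g'⟩⟩, hV⟩ := q.coversTop ⊤ x trivial
  haveI := (hq.isFiniteType i).finite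
  obtain ⟨n, g₀, h₀⟩ := exists_gens_of_gs h𝔛 (q.generators i)
  exact ⟨q.X i, n, g₀, leOfHom g' hV, h₀⟩

variable {W₀ : (𝔛.X 0).Opens} (p : (SheafOfModules.over G W₀).Presentation)

/-- Substitution of expressions for the generators. -/
noncomputable def subst {t : Finset p.generators.I} {W : (𝔛.X 0).Opens}
    (a : p.generators.I → t → Levels.A 𝔛 h𝔛.1 W) :
    (p.generators.I →₀ Levels.A 𝔛 h𝔛.1 W) →ₗ[Levels.A 𝔛 h𝔛.1 W] (t → Levels.A 𝔛 h𝔛.1 W) :=
  Finsupp.linearCombination _ a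

theorem subst_res {t : Finset p.generators.I} {W V : (𝔛.X 0).Opens} (e : V ≤ W)
    (a : p.generators.I → t → Levels.A 𝔛 h𝔛.1 W) (b : p.generators.I →₀ Levels.A 𝔛 h𝔛.1 W) (k : t) :
    subst h𝔛 p (fun i k => CohPres.resA h𝔛.1 e (a i k)) (rA h𝔛 e b) k =
      CohPres.resA h𝔛.1 e (subst h𝔛 p a b k) := by
  induction b using Finsupp.induction_linear with
  | zero => simp [rA]
  | add b c hb hc =>
    rw [show rA h𝔛 e (b + c) = rA h𝔛 e b + rA h𝔛 e c from
      Finsupp.ext fun i => map_add (CohPres.resA h𝔛.1 e) (b i) (c i)]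
    simp only [map_add, Pi.add_apply, hb, hc]
  | single i c =>
    simp only [rA, subst, Finsupp.mapRange_single, Finsupp.linearCombination_single, Pi.smul_apply,
      smul_eq_mul, map_mul]

theorem comb_subst {t : Finset p.generators.I} {W : (𝔛.X 0).Opens} (e : W ≤ W₀)
    (a : p.generators.I → t → Levels.A 𝔛 h𝔛.1 W)
    (ha : ∀ i, σv h𝔛 p.generators i e = ∑ k : t, a i k • σv h𝔛 p.generators k.1 e)
    (b : p.generators.I →₀ Levels.A 𝔛 h𝔛.1 W) :
    comb h𝔛 p.generators e b = ∑ k : t, subst h𝔛 p a b k • σv h𝔛 p.generators k.1 e := by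
  induction b using Finsupp.induction_linear with
  | zero => simp
  | add b c hb hc => simp [hb, hc, add_smul, Finset.sum_add_distrib]
  | single i c =>
    simp only [comb, subst, Finsupp.linearCombination_single, Pi.smul_apply, smul_eq_mul, mul_smul]
    rw [ha i, Finset.smul_sum]

theorem subst_sum {t : Finset p.generators.I} {W V : (𝔛.X 0).Opens} (e : V ≤ W)
    (a : p.generators.I → t → Levels.A 𝔛 h𝔛.1 W) {K : Type u} (d : K →₀ Levels.A 𝔛 h𝔛.1 V)
    (B : K → p.generators.I →₀ Levels.A 𝔛 h𝔛.1 W) (k : t) :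
    subst h𝔛 p (fun i k => CohPres.resA h𝔛.1 e (a i k)) (d.sum fun j x => x • rA h𝔛 e (B j)) k =
      d.sum fun j x => x * CohPres.resA h𝔛.1 e (subst h𝔛 p a (B j) k) := by
  simp only [Finsupp.sum, map_sum, map_smul, Finset.sum_apply, Pi.smul_apply, smul_eq_mul, subst_res]

theorem sum_coeff {W V : (𝔛.X 0).Opens} (e : V ≤ W) {K : Type u} {n m : ℕ}
    (d : K →₀ Levels.A 𝔛 h𝔛.1 V) (ε : K → Fin m → Levels.A 𝔛 h𝔛.1 W)
    (r : Fin m → Fin n → Levels.A 𝔛 h𝔛.1 W) (k : Fin n) :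
    ∑ l, (d.sum fun j x => x * CohPres.resA h𝔛.1 e (ε j l)) * CohPres.resA h𝔛.1 e (r l k) =
      d.sum fun j x => x * CohPres.resA h𝔛.1 e (∑ l, ε j l * r l k) := by
  simp only [Finsupp.sum, Finset.sum_mul, map_sum, map_mul, Finset.mul_sum, mul_assoc]
  exact Finset.sum_comm

/-- Quasi-coherent modules of finite type are coherent. -/
theorem isCohF [SheafOfModules.IsQuasicoherent.{u} G] [SheafOfModules.IsFiniteType.{u} G] :
    FSch.IsCohF 𝔛 h𝔛.1 G := by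
  refine PresSh.isFinitePresentation_of_isPres fun x => ?_
  classical
  obtain ⟨W₀, hxW₀, ⟨p⟩⟩ := exists_presentation h𝔛 (G := G) x
  obtain ⟨W₁, n₁, g, hxW₁, hg⟩ := exists_gens_of_finiteType h𝔛 (G := G) x
  choose V eV hxV b hb using fun k => exists_local_comb h𝔛 p.generators (W := W₀ ⊓ W₁) inf_le_left
    (CohPres.resF h𝔛.1 G inf_le_right (g k)) (z := x) ⟨hxW₀, hxW₁⟩
  obtain ⟨W, hW, hxW, hWle⟩ := Opens.isBasis_iff_nbhd.1 (CohPres.isBasis_affine (𝔛.X 0))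
    (U := (W₀ ⊓ W₁) ⊓ Finset.univ.inf V) (x := x)
    ⟨⟨hxW₀, hxW₁⟩, by
      rw [Opens.coe_finset_inf, Finset.inf_set_eq_iInter]
      exact Set.mem_iInter₂.2 fun k _ => hxV k⟩
  have hW0 : W ≤ W₀ := hWle.trans (inf_le_left.trans inf_le_left)
  have hW1 : W ≤ W₁ := hWle.trans (inf_le_left.trans inf_le_right)
  have hWV : ∀ k, W ≤ V k := fun k => hWle.trans (inf_le_right.trans (Finset.inf_le (Finset.mem_univ k)))
  let t : Finset p.generators.I := Finset.univ.biUnion fun k => (b k).support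
  have hgk : ∀ k, CohPres.resF h𝔛.1 G hW1 (g k) =
      ∑ i : t, rA h𝔛 (hWV k) (b k) i.1 • σv h𝔛 p.generators i.1 hW0 := by
    intro k
    have h1 := congrArg (CohPres.resF h𝔛.1 G (hWV k)) (hb k)
    rw [comb_res] at h1
    refine Eq.trans ?_ ((h1.symm.trans (by
      rw [comb, Finsupp.linearCombination_apply, Finsupp.sum_of_support_subset (rA h𝔛 (hWV k) (b k)) (s := t)
        (fun i hi => Finset.mem_biUnion.2 ⟨k, Finset.mem_univ k, Finsupp.support_mapRange hi⟩)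
        (fun i a => a • σv h𝔛 p.generators i hW0) (fun i _ => zero_smul _ _)])).trans (Finset.sum_coe_sort t fun i =>
          rA h𝔛 (hWV k) (b k) i • σv h𝔛 p.generators i hW0).symm)
    exact ((PresSh.res_res G _ _ _).trans (PresSh.res_res G _ _ _)).symm
  have hloc : ∀ (Z : (𝔛.X 0).Opens) (hZ : Z ≤ W) (s : sec h𝔛.1 G Z), ∀ z ∈ Z,
      ∃ (U : (𝔛.X 0).Opens) (hUZ : U ≤ Z) (_ : z ∈ U) (c : t → Levels.A 𝔛 h𝔛.1 U),
        CohPres.resF h𝔛.1 G hUZ s = ∑ i : t, c i • σv h𝔛 p.generators i.1 ((hUZ.trans hZ).trans hW0) := by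
    intro Z hZ s z hz
    obtain ⟨U, hUZ, hzU, c, hc⟩ := hg Z (hZ.trans hW1) s z hz
    refine ⟨U, hUZ, hzU, fun i => ∑ k, c k * CohPres.resA h𝔛.1 (hUZ.trans hZ)
      (rA h𝔛 (hWV k) (b k) i.1), ?_⟩
    rw [hc]
    simp only [Finset.sum_smul]
    rw [Finset.sum_comm]
    refine Finset.sum_congr rfl fun k _ => ?_
    have := congrArg (CohPres.resF h𝔛.1 G (hUZ.trans hZ)) (hgk k)
    simp only [map_sum, CohPres.resF_smul, σv_res] at this
    simp only [mul_smul, ← Finset.smul_sum]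
    refine congrArg (c k • ·) ?_
    exact (PresSh.res_res G _ _ _).symm.trans this
  choose a₀ ha₀ using mem_span_of_local_gen h𝔛 p hW hW0 t fun i z hz => by
    obtain ⟨U, hU, hzU, c, hc⟩ := hloc W le_rfl (σv h𝔛 p.generators i hW0) z hz
    exact ⟨U, hU, hzU, c, (σv_res h𝔛 p.generators i hW0 hU).symm.trans hc⟩
  let a : p.generators.I → t → Levels.A 𝔛 h𝔛.1 W := fun i =>
    if hi : i ∈ t then Pi.single ⟨i, hi⟩ 1 else a₀ i
  have ha : ∀ i, σv h𝔛 p.generators i hW0 = ∑ k : t, a i k • σv h𝔛 p.generators k.1 hW0 := by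
    intro i
    by_cases hi : i ∈ t
    · simp only [a, dif_pos hi, Pi.single_apply, ite_smul, one_smul, zero_smul,
        Finset.sum_ite_eq', Finset.mem_univ, if_true]
    · simp only [a, dif_neg hi]
      exact ha₀ i
  have ha' : ∀ k : t, a k.1 = Pi.single k 1 := fun k => dif_pos k.2
  let e₁ := t.equivFin
  haveI := Levels.isNoetherianRing_A h𝔛 hW
  let φ : (Fin t.card → Levels.A 𝔛 h𝔛.1 W) →ₗ[Levels.A 𝔛 h𝔛.1 W] sec h𝔛.1 G W :=
    Fintype.linearCombination _ fun k => σv h𝔛 p.generators (e₁.symm k).1 hW0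
  obtain ⟨m, r, hr⟩ := Submodule.fg_iff_exists_fin_generating_family.1
    (IsNoetherian.noetherian (LinearMap.ker φ))
  have hr0 : ∀ j, φ (r j) = 0 := fun j =>
    LinearMap.mem_ker.1 (hr ▸ Submodule.subset_span ⟨j, rfl⟩)
  refine ⟨W, t.card, m, fun k => σv h𝔛 p.generators (e₁.symm k).1 hW0, r, hxW, ⟨fun j => ?_,
    fun Z hZ s z hz => ?_, fun Z hZ c hc z hz => ?_⟩⟩
  · exact (Fintype.linearCombination_apply _ _ _).symm.trans (hr0 j)
  · obtain ⟨U, hUZ, hzU, c, hc⟩ := hloc Z hZ s z hz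
    refine ⟨U, hUZ, hUZ.trans hZ, hzU, fun k => c (e₁.symm k), hc.trans ?_⟩
    rw [← e₁.symm.sum_comp]
    exact Finset.sum_congr rfl fun k _ => congrArg (_ • ·) (σv_res h𝔛 p.generators _ hW0 (hUZ.trans hZ)).symm
  · obtain ⟨K, B, hB, hex⟩ := exists_local_exact h𝔛 p hW hW0
    let b' : p.generators.I →₀ Levels.A 𝔛 h𝔛.1 Z := ∑ k : t, Finsupp.single k.1 (c (e₁ k))
    have hb' : comb h𝔛 p.generators (hZ.trans hW0) b' = 0 := by
      refine Eq.trans ?_ hc
      simp only [b', map_sum, comb, Finsupp.linearCombination_single]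
      rw [← e₁.symm.sum_comp]
      refine Finset.sum_congr rfl fun k _ => ?_
      rw [Equiv.apply_symm_apply]
      exact congrArg (_ • ·) (σv_res h𝔛 p.generators _ hW0 hZ).symm
    obtain ⟨U, hUZ, hzU, d, hd⟩ := hex Z hZ b' hb' z hz
    let v : K → Fin t.card → Levels.A 𝔛 h𝔛.1 W := fun j k => subst h𝔛 p a (B j) (e₁.symm k)
    have hv : ∀ j, ∃ ε : Fin m → Levels.A 𝔛 h𝔛.1 W, ∀ k, v j k = ∑ l, ε l * r l k := by
      intro j
      have hmem : v j ∈ LinearMap.ker φ := by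
        rw [LinearMap.mem_ker, ← hB j, comb_subst h𝔛 p hW0 a ha, ← e₁.symm.sum_comp]
        exact Fintype.linearCombination_apply _ _ _
      rw [← hr, Submodule.mem_span_range_iff_exists_fun] at hmem
      obtain ⟨ε, hε⟩ := hmem
      exact ⟨ε, fun k => by rw [← hε]; simp⟩
    choose ε hε using hv
    refine ⟨U, hUZ, hUZ.trans hZ, hzU,
      fun l => d.sum fun j x => x * CohPres.resA h𝔛.1 (hUZ.trans hZ) (ε j l), fun k => ?_⟩
    have h1 : subst h𝔛 p (fun i k => CohPres.resA h𝔛.1 (hUZ.trans hZ) (a i k))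
        (rA h𝔛 hUZ b') (e₁.symm k) = CohPres.resA h𝔛.1 hUZ (c k) := by
      rw [show rA h𝔛 hUZ b' = ∑ j : t, Finsupp.single j.1 (CohPres.resA h𝔛.1 hUZ (c (e₁ j))) from
        Finsupp.ext fun i => by
          simp only [b', rA_apply, Finsupp.coe_finsetSum, Finset.sum_apply, map_sum,
            Finsupp.single_apply, apply_ite (CohPres.resA h𝔛.1 hUZ), map_zero]]
      simp only [subst, map_sum, Finsupp.linearCombination_single, Finset.sum_apply, Pi.smul_apply,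
        smul_eq_mul, ha']
      rw [Finset.sum_eq_single (e₁.symm k)]
      · simp
      · intro j _ hj
        simp [Pi.single_apply, Ne.symm hj]
      · intro h
        exact absurd (Finset.mem_univ _) h
    refine h1.symm.trans ?_
    refine (congrArg (fun w => subst h𝔛 p (fun i k => CohPres.resA h𝔛.1 (hUZ.trans hZ) (a i k)) w
      (e₁.symm k)) hd).trans ?_
    refine (subst_sum h𝔛 p (hUZ.trans hZ) a d B (e₁.symm k)).trans ?_
    refine Eq.trans ?_ (sum_coeff h𝔛 (hUZ.trans hZ) d ε r k).symm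
    exact Finsupp.sum_congr fun j _ => congrArg (d j * ·) (congrArg _ (hε j k))

/-- Quasi-coherent submodules of coherent modules are of finite type. -/
theorem isFiniteType_of_mono {F : FSch.ModF 𝔛 h𝔛.1} (hF : FSch.IsCohF 𝔛 h𝔛.1 F)
    [SheafOfModules.IsQuasicoherent.{u} G] (ι : G ⟶ F) [Mono ι] :
    SheafOfModules.IsFiniteType (R := ModSite.ringSh (𝔛.Osh h𝔛.1)) G := by
  refine CohCons.isFiniteType_of_gen fun x => ?_
  classical
  obtain ⟨W₀, hxW₀, ⟨p⟩⟩ := exists_presentation h𝔛 (G := G) x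
  obtain ⟨W, hW, hxW, hW0⟩ := Opens.isBasis_iff_nbhd.1 (CohPres.isBasis_affine (𝔛.X 0))
    (U := W₀) (x := x) hxW₀
  haveI := CohExact.finite_sec h𝔛 hF hW
  haveI := Levels.isNoetherianRing_A h𝔛 hW
  obtain ⟨n, y, hy⟩ := Submodule.fg_iff_exists_fin_generating_family.1
    (IsNoetherian.noetherian (LinearMap.range (secMap h𝔛.1 ι W ∘ₗ comb h𝔛 p.generators hW0)))
  choose b hb using fun k => LinearMap.mem_range.1 (hy ▸ Submodule.subset_span ⟨k, rfl⟩ :
    y k ∈ LinearMap.range (secMap h𝔛.1 ι W ∘ₗ comb h𝔛 p.generators hW0))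
  let f : Fin n → sec h𝔛.1 G W := fun k => comb h𝔛 p.generators hW0 (b k)
  have hspan : ∀ i, ∃ a : Fin n → Levels.A 𝔛 h𝔛.1 W, σv h𝔛 p.generators i hW0 = ∑ k, a k • f k := by
    intro i
    have hm : secMap h𝔛.1 ι W (σv h𝔛 p.generators i hW0) ∈
        LinearMap.range (secMap h𝔛.1 ι W ∘ₗ comb h𝔛 p.generators hW0) :=
      ⟨Finsupp.single i 1, by simp [comb]⟩
    rw [← hy, Submodule.mem_span_range_iff_exists_fun] at hm
    obtain ⟨a, ha⟩ := hm
    refine ⟨a, CohCons.secMap_injective ι W ?_⟩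
    rw [← ha, map_sum]
    exact Finset.sum_congr rfl fun k _ => by rw [map_smul, ← hb k]; rfl
  choose a ha using hspan
  refine ⟨W, n, f, hxW, fun Z hZ s z hz => ?_⟩
  obtain ⟨V, hVZ, hzV, c, hc⟩ := exists_local_comb h𝔛 p.generators (hZ.trans hW0) s hz
  refine ⟨V, hVZ, hVZ.trans hZ, hzV,
    fun k => c.sum fun i x => x * CohPres.resA h𝔛.1 (hVZ.trans hZ) (a i k), ?_⟩
  refine hc.symm.trans ?_
  simp only [comb, Finsupp.linearCombination_apply, Finsupp.sum, Finset.sum_smul]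
  rw [Finset.sum_comm]
  refine Finset.sum_congr rfl fun i _ => ?_
  have := congrArg (CohPres.resF h𝔛.1 G (hVZ.trans hZ)) (ha i)
  simp only [map_sum, CohPres.resF_smul, σv_res] at this
  refine Eq.trans ?_ (Finset.sum_congr rfl fun k _ => (mul_smul (c i) _ _).symm)
  refine Eq.trans ?_ Finset.smul_sum
  exact congrArg (c i • ·) this

/-- Quotients of coherent modules are of finite type. -/
theorem isFiniteType_of_epi {F : FSch.ModF 𝔛 h𝔛.1} [SheafOfModules.IsFiniteType.{u} F]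
    (π : F ⟶ G) [Epi π] :
    SheafOfModules.IsFiniteType (R := ModSite.ringSh (𝔛.Osh h𝔛.1)) G := by
  refine CohCons.isFiniteType_of_gen fun x => ?_
  obtain ⟨W₁, n, g, hxW₁, hg⟩ := exists_gens_of_finiteType h𝔛 (G := F) x
  refine ⟨W₁, n, fun k => secMap h𝔛.1 π W₁ (g k), hxW₁, fun Z hZ s z hz => ?_⟩
  obtain ⟨S, hS, hS'⟩ := SubSheaf.exists_local_preimage π s
  obtain ⟨V, f, hf, hzV⟩ := hS z hz
  obtain ⟨y, hy⟩ := hS' f hf
  obtain ⟨U, hUV, hzU, c, hc⟩ := hg V ((leOfHom f).trans hZ) y z hzV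
  refine ⟨U, hUV.trans (leOfHom f), (hUV.trans (leOfHom f)).trans hZ, hzU, c, ?_⟩
  have h2 := congrArg (secMap h𝔛.1 π U) hc
  rw [CohCons.secMap_sum] at h2
  refine Eq.trans ?_ h2
  refine Eq.trans ?_ (LevelAdj.secMap_map π hUV y).symm
  refine (PresSh.res_res G (leOfHom f) hUV s).symm.trans ?_
  exact congrArg (CohPres.resF h𝔛.1 G hUV) hy.symm

end Global

end Groth.Agent.H30.QcFT
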