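import Groth.Agent.H22.IndColim.Five
import Groth.Agent.H30.FSch.QcFT
import Groth.Agent.S17027
import Groth.Agent.S17040
import Groth.Agent.S17041
import Groth.Prelude.Def_WeakSerre

/-!
# Coherent modules on a locally Noetherian formal scheme form a weak Serre class (helper30)
-/

set_option autoImplicit false
set_option linter.style.haveILetI false

universe u

open CategoryTheory CategoryTheory.Limits AlgebraicGeometry TopologicalSpace Opposite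
open Groth.Agent.H30 Groth.Agent.H30.RealLimSec Groth.Agent.H22

namespace Groth.Agent.H30.CohSerre

variable {𝔛 : FSch.Sys.{u}} (h𝔛 : 𝔛.IsLocNoethFormal)

theorem isCohF_of_iso {F G : FSch.ModF 𝔛 h𝔛.1} (e : F ≅ G) (hF : FSch.IsCohF 𝔛 h𝔛.1 F) :
    FSch.IsCohF 𝔛 h𝔛.1 G := by
  haveI : SheafOfModules.IsQuasicoherent.{u} F :=
    Groth.Agent.S17027.result 𝔛 h𝔛 F (ObjectProperty.le_ind _ F hF)
  haveI : SheafOfModules.IsQuasicoherent.{u} G :=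
    ObjectProperty.prop_of_iso (SheafOfModules.isQuasicoherent (R := ModSite.ringSh (𝔛.Osh h𝔛.1))) e ‹_›
  exact Groth.Agent.S17040.result 𝔛 h𝔛 hF e.inv

theorem isCohF_kernel {F G : FSch.ModF 𝔛 h𝔛.1} (φ : F ⟶ G) (hF : FSch.IsCohF 𝔛 h𝔛.1 F)
    (hG : FSch.IsCohF 𝔛 h𝔛.1 G) : FSch.IsCohF 𝔛 h𝔛.1 (kernel φ) := by
  haveI := Groth.Agent.S17027.result 𝔛 h𝔛 _
    (IndColim.ind_kernel h𝔛 (ObjectProperty.le_ind _ F hF) (ObjectProperty.le_ind _ G hG) φ)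
  exact Groth.Agent.S17040.result 𝔛 h𝔛 hF (kernel.ι φ)

theorem isCohF_cokernel {F G : FSch.ModF 𝔛 h𝔛.1} (φ : F ⟶ G) (hF : FSch.IsCohF 𝔛 h𝔛.1 F)
    (hG : FSch.IsCohF 𝔛 h𝔛.1 G) : FSch.IsCohF 𝔛 h𝔛.1 (cokernel φ) := by
  haveI := Groth.Agent.S17027.result 𝔛 h𝔛 _
    (IndColim.ind_cokernel h𝔛 (ObjectProperty.le_ind _ F hF) (ObjectProperty.le_ind _ G hG) φ)
  exact Groth.Agent.S17041.result 𝔛 h𝔛 hG (cokernel.π φ)

theorem isCohF_ext {S : ShortComplex (FSch.ModF 𝔛 h𝔛.1)} (hS : S.ShortExact)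
    (h₁ : FSch.IsCohF 𝔛 h𝔛.1 S.X₁) (h₃ : FSch.IsCohF 𝔛 h𝔛.1 S.X₃) : FSch.IsCohF 𝔛 h𝔛.1 S.X₂ := by
  haveI : IsLocallyNoetherian (𝔛.X 0) := h𝔛.2.2 0
  obtain ⟨hg, hq⟩ := IndColim.gen_q_ext h𝔛 hS (ObjectProperty.le_ind _ _ h₁) (ObjectProperty.le_ind _ _ h₃)
  refine IndColim.isCohF_of_mono h𝔛 (𝟙 S.X₂) hq fun x => ?_
  obtain ⟨W, hW, hxW⟩ := CohCons.exists_affine (𝔛 := 𝔛) x
  haveI := CohExact.finite_sec h𝔛 h₁ hW
  haveI := CohExact.finite_sec h𝔛 h₃ hW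
  haveI : Module.Finite (Levels.A 𝔛 h𝔛.1 W) (sec h𝔛.1 S.X₂ W) := by
    refine ⟨Submodule.fg_of_fg_map_of_fg_inf_ker (secMap h𝔛.1 S.g W) ?_ ?_⟩
    · rw [Submodule.map_top, LinearMap.range_eq_top.2 (IndColim.surjective_of_ind h𝔛 hS (ObjectProperty.le_ind _ _ h₁) hW)]
      exact Module.Finite.fg_top
    · have h0 : (⊤ : Submodule (Levels.A 𝔛 h𝔛.1 W) (sec h𝔛.1 S.X₂ W)) ⊓ LinearMap.ker (secMap h𝔛.1 S.g W) =
          (⊤ : Submodule (Levels.A 𝔛 h𝔛.1 W) (sec h𝔛.1 S.X₁ W)).map (secMap h𝔛.1 S.f W) := by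
        refine le_antisymm (fun y hy => ?_) ?_
        · obtain ⟨t, ht⟩ := IndColim.exists_lift h𝔛 hS y hy.2
          exact ⟨t, trivial, ht⟩
        · rintro _ ⟨t, -, rfl⟩
          refine ⟨trivial, ?_⟩
          show secMap h𝔛.1 S.g W (secMap h𝔛.1 S.f W t) = 0
          rw [← IndColim.secMap_comp, S.zero]
          rfl
      rw [h0]
      exact Module.Finite.fg_top.map _
  obtain ⟨n, g, hgen⟩ := Submodule.fg_iff_exists_fin_generating_family.1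
    (Module.Finite.fg_top (R := Levels.A 𝔛 h𝔛.1 W) (M := sec h𝔛.1 S.X₂ W))
  refine ⟨W, n, g, hxW, hW, fun Z hZ s z hz => ?_⟩
  obtain ⟨V, hVZ, hzV, hm⟩ := hg W hW Z hZ s z hz
  refine ⟨V, hVZ, hzV, Submodule.span_le.2 ?_ hm⟩
  rintro _ ⟨t, rfl⟩
  have ht : t ∈ Submodule.span (Levels.A 𝔛 h𝔛.1 W) (Set.range g) := hgen ▸ trivial
  obtain ⟨c, rfl⟩ := (Submodule.mem_span_range_iff_exists_fun _).1 ht
  rw [IndColim.sum_res]
  exact Submodule.sum_mem _ fun q _ => Submodule.smul_mem _ _ (Submodule.subset_span ⟨q, rfl⟩)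

theorem isWeakSerre :
    WSerre.IsWeakSerre (fun F : FSch.ModF 𝔛 h𝔛.1 => FSch.IsCohF 𝔛 h𝔛.1 F) where
  exists_zero := ⟨kernel (𝟙 (FSch.unitF 𝔛 h𝔛.1)), isZero_kernel_of_mono _,
    isCohF_kernel h𝔛 _ (CohCons.isCohF_unit) (CohCons.isCohF_unit)⟩
  kernels_le := fun _ ⟨_, k, hk, hf⟩ =>
    isCohF_of_iso h𝔛 ((limit.isLimit _).conePointUniqueUpToIso hk) (isCohF_kernel h𝔛 _ hf.1 hf.2)
  cokernels_le := fun _ ⟨_, k, hk, hf⟩ =>
    isCohF_of_iso h𝔛 ((colimit.isColimit _).coconePointUniqueUpToIso hk) (isCohF_cokernel h𝔛 _ hf.1 hf.2)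
  prop_X₂_of_shortExact := fun hS h₁ h₃ => isCohF_ext h𝔛 hS h₁ h₃

/-- Ind-coherent modules on a Noetherian formal scheme form a weak Serre class. -/
theorem isWeakSerre_ind [CompactSpace (𝔛.X 0)] :
    WSerre.IsWeakSerre (ObjectProperty.ind.{u} fun F : FSch.ModF 𝔛 h𝔛.1 => FSch.IsCohF 𝔛 h𝔛.1 F) where
  exists_zero := ⟨kernel (𝟙 (FSch.unitF 𝔛 h𝔛.1)), isZero_kernel_of_mono _,
    ObjectProperty.le_ind _ _ (isCohF_kernel h𝔛 _ (CohCons.isCohF_unit) (CohCons.isCohF_unit))⟩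
  kernels_le := fun _ ⟨_, k, hk, hf⟩ => ObjectProperty.prop_of_iso _
    ((limit.isLimit _).conePointUniqueUpToIso hk) (IndColim.ind_kernel h𝔛 hf.1 hf.2 _)
  cokernels_le := fun _ ⟨_, k, hk, hf⟩ => ObjectProperty.prop_of_iso _
    ((colimit.isColimit _).coconePointUniqueUpToIso hk) (IndColim.ind_cokernel h𝔛 hf.1 hf.2 _)
  prop_X₂_of_shortExact := fun hS h₁ h₃ => IndColim.ind_ext h𝔛 hS h₁ h₃

end Groth.Agent.H30.CohSerre
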