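import Groth.Agent.H30.FSch.CohExact
import Groth.Agent.Lib.QCoh.Closure

/-!
# Kernels and surjectivity for coherent modules on formal schemes (helper30)
-/

set_option autoImplicit false
set_option linter.style.haveILetI false

universe u

open CategoryTheory CategoryTheory.Limits AlgebraicGeometry TopologicalSpace Opposite
open Groth.Agent.H30 Groth.Agent.H30.RealLimSec
open Groth.Agent.Lib

namespace Groth.Agent.H30.CohCons

section FT

variable {X : TopCat.{u}} {R : Sheaf (Opens.grothendieckTopology X) RingCat.{u}}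
  {M : SheafOfModules.{u} R}

/-- Locally finitely generated modules are of finite type. -/
theorem isFiniteType_of_gen
    (h : ∀ x : X, ∃ (W : Opens X) (n : ℕ) (f : Fin n → M.val.obj (op W)), x ∈ W ∧
      ∀ (Z : Opens X) (_ : Z ≤ W) (s : M.val.obj (op Z)), ∀ z ∈ Z,
        ∃ (V : Opens X) (hVZ : V ≤ Z) (hVW : V ≤ W) (_ : z ∈ V) (c : Fin n → R.obj.obj (op V)),
          PresSh.res M hVZ s = ∑ i, c i • PresSh.res M hVW (f i)) :
    M.IsFiniteType := by
  choose W n f hx hgen using h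
  let q : SheafOfModules.LocalGeneratorsData.{u} (C := Opens X) (R := R) M :=
    { I := X
      X := W
      coversTop := (Opens.coversTop_iff _ _).mpr
        (eq_top_iff.mpr fun x _ => Opens.mem_iSup.mpr ⟨x, hx x⟩)
      generators := fun x =>
        { I := ULift.{u} (Fin (n x))
          s := fun i => PresSh.secOver M (f x i.down)
          epi := by
            show Epi (PresSh.gensMap (f x))
            refine PresSh.epi_of_locally _ fun Z s z hz => ?_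
            obtain ⟨V, hVZ, hVW, hzV, c, hc⟩ := hgen x Z.left (leOfHom Z.hom) s z hz
            let Z' : Over (W x) := Over.mk (homOfLE hVW)
            exact ⟨Z', Over.homMk (homOfLE hVZ) (Subsingleton.elim _ _), hzV,
              ∑ i, (show (R.over (W x)).obj.obj (op Z') from c i) • PresSh.basis R Z' i,
              (PresSh.gensMap_sum Z' _).trans hc.symm⟩ } }
  have hq : q.IsFiniteType :=
    SheafOfModules.LocalGeneratorsData.IsFiniteType.mk (C := Opens X) (R := R) (p := q)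
      fun x => ⟨inferInstanceAs (Finite (ULift.{u} (Fin (n x))))⟩
  exact SheafOfModules.IsFiniteType.mk (M := M) (R := R) ⟨q, hq⟩

end FT

variable {𝔛 : FSch.Sys.{u}} {h : 𝔛.IsFormal}

theorem exists_kernel {F G : FSch.ModF 𝔛 h} (φ : F ⟶ G) {V : (𝔛.X 0).Opens} (y : sec h F V)
    (hy : secMap h φ V y = 0) :
    ∃ t : sec h (kernel φ) V, secMap h (kernel.ι φ) V t = y := by
  let E := SheafOfModules.evaluation.{u} (ModSite.ringSh (𝔛.Osh h)) (op V)
  haveI : E.PreservesZeroMorphisms := ⟨fun _ _ => rfl⟩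
  let t₀ := (ModuleCat.kernelIsoKer (E.map φ)).inv ⟨y, hy⟩
  refine ⟨(PreservesKernel.iso E φ).inv t₀, ?_⟩
  have h1 : (PreservesKernel.iso E φ).inv ≫ E.map (kernel.ι φ) = kernel.ι (E.map φ) := by
    rw [Iso.inv_comp_eq, PreservesKernel.iso_hom, kernelComparison_comp_ι]
  refine (ConcreteCategory.congr_hom h1 t₀).trans ?_
  exact ConcreteCategory.congr_hom (ModuleCat.kernelIsoKer_inv_kernel_ι (E.map φ)) ⟨y, hy⟩

theorem secMap_injective {F G : FSch.ModF 𝔛 h} (φ : F ⟶ G) [Mono φ] (V : (𝔛.X 0).Opens) :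
    Function.Injective (secMap h φ V) :=
  (ModuleCat.mono_iff_injective _).1
    (inferInstanceAs (Mono ((SheafOfModules.evaluation (ModSite.ringSh (𝔛.Osh h)) (op V)).map φ)))

theorem secMap_sum {F G : FSch.ModF 𝔛 h} (φ : F ⟶ G) {W V : (𝔛.X 0).Opens} (e : V ≤ W) {n : ℕ}
    (a : Fin n → Levels.A 𝔛 h V) (f : Fin n → sec h F W) :
    secMap h φ V (∑ i, a i • CohPres.resF h F e (f i)) =
      ∑ i, a i • CohPres.resF h G e (secMap h φ W (f i)) := by
  rw [map_sum]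
  exact Finset.sum_congr rfl fun i _ =>
    (map_smul _ _ _).trans (congrArg (_ • ·) (LevelAdj.secMap_map φ e (f i)))

/-- A kernel generated on affine opens by finitely many sections is of finite type. -/
theorem isFiniteType_kernel {F G : FSch.ModF 𝔛 h} (φ : F ⟶ G)
    (hk : ∀ x : 𝔛.X 0, ∃ (W : (𝔛.X 0).Opens) (n : ℕ) (g : Fin n → sec h F W), x ∈ W ∧
      (∀ i, secMap h φ W (g i) = 0) ∧
      ∀ (V : (𝔛.X 0).Opens) (_ : IsAffineOpen V) (e : V ≤ W) (y : sec h F V), secMap h φ V y = 0 →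
        ∃ a : Fin n → Levels.A 𝔛 h V, y = ∑ i, a i • CohPres.resF h F e (g i)) :
    SheafOfModules.IsFiniteType (R := ModSite.ringSh (𝔛.Osh h)) (kernel φ) := by
  refine isFiniteType_of_gen fun x => ?_
  obtain ⟨W, n, g, hxW, hg0, hgen⟩ := hk x
  choose t ht using fun i => exists_kernel φ (g i) (hg0 i)
  refine ⟨W, n, t, hxW, fun Z hZ s z hz => ?_⟩
  obtain ⟨V, hV, hzV, hVZ⟩ := Opens.isBasis_iff_nbhd.1 (CohPres.isBasis_affine (𝔛.X 0)) hz
  have h0 : secMap h φ V (secMap h (kernel.ι φ) V (CohPres.resF h (kernel φ) hVZ s)) = 0 :=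
    congrArg (fun ψ : kernel φ ⟶ G => secMap h ψ V (CohPres.resF h (kernel φ) hVZ s))
      (kernel.condition φ)
  obtain ⟨a, ha⟩ := hgen V hV (hVZ.trans hZ) _ h0
  refine ⟨V, hVZ, hVZ.trans hZ, hzV, a, secMap_injective (kernel.ι φ) V (ha.trans ?_)⟩
  refine Eq.trans ?_ (secMap_sum (kernel.ι φ) (hVZ.trans hZ) a t).symm
  exact Finset.sum_congr rfl fun i _ => by rw [ht]

variable (h𝔛 : 𝔛.IsLocNoethFormal)

/-- `O_𝔛` is coherent. -/
theorem isCohF_unit : FSch.IsCohF 𝔛 h (FSch.unitF 𝔛 h) := by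
  refine PresSh.isFinitePresentation_of_isPres fun x => ?_
  refine ⟨⊤, 1, 0, fun _ => (1 : Levels.A 𝔛 h ⊤), Fin.elim0, trivial, ⟨fun j => j.elim0,
    fun Z hZ s z hz => ?_, fun Z hZ c hc z hz => ?_⟩⟩
  · refine ⟨Z, le_rfl, hZ, hz, fun _ => PresSh.res _ le_rfl s, ?_⟩
    rw [Fin.sum_univ_one]
    show _ = _ * (CohPres.resA h hZ 1)
    rw [map_one]
    exact (mul_one _).symm
  · refine ⟨Z, le_rfl, hZ, hz, Fin.elim0, fun i => ?_⟩
    rw [Finset.univ_eq_empty, Finset.sum_empty]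
    rw [Fin.sum_univ_one] at hc
    have hc' : (show Levels.A 𝔛 h Z from c 0) * CohPres.resA h hZ 1 = 0 := hc
    rw [map_one, mul_one] at hc'
    obtain rfl : i = 0 := Subsingleton.elim _ _
    exact (congrArg _ hc').trans (map_zero _)

theorem exists_affine (x : 𝔛.X 0) : ∃ W : (𝔛.X 0).Opens, IsAffineOpen W ∧ x ∈ W := by
  obtain ⟨W, hW, hx, -⟩ := Opens.isBasis_iff_nbhd.1 (CohPres.isBasis_affine (𝔛.X 0))
    (U := (⊤ : (𝔛.X 0).Opens)) (x := x) trivial
  exact ⟨W, hW, hx⟩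

theorem exists_fin_gens {W : (𝔛.X 0).Opens} (hW : IsAffineOpen W) {F : FSch.ModF 𝔛 h𝔛.1}
    (hF : FSch.IsCohF 𝔛 h𝔛.1 F) :
    ∃ (n : ℕ) (f : Fin n → sec h𝔛.1 F W),
      ∀ x, ∃ a : Fin n → Levels.A 𝔛 h𝔛.1 W, x = ∑ i, a i • f i := by
  haveI := CohExact.finite_sec h𝔛 hF hW
  obtain ⟨n, φ, hφ⟩ := Module.Finite.exists_fin' (Levels.A 𝔛 h𝔛.1 W) (sec h𝔛.1 F W)
  refine ⟨n, fun i => φ (Pi.single i 1), fun x => ?_⟩
  obtain ⟨a, rfl⟩ := hφ x
  refine ⟨a, ?_⟩
  conv_lhs => rw [pi_eq_sum_univ' a]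
  simp only [map_sum, map_smul]

/-- The kernel of a map of coherent modules over an affine open generates it over smaller ones. -/
theorem ker_gens {F G : FSch.ModF 𝔛 h𝔛.1} (hF : FSch.IsCohF 𝔛 h𝔛.1 F)
    (hG : FSch.IsCohF 𝔛 h𝔛.1 G) (φ : F ⟶ G) {W : (𝔛.X 0).Opens} (hW : IsAffineOpen W)
    {l : ℕ} (g : Fin l → sec h𝔛.1 F W)
    (hg : ∀ y, secMap h𝔛.1 φ W y = 0 → ∃ e : Fin l → Levels.A 𝔛 h𝔛.1 W, y = ∑ i, e i • g i)
    {V : (𝔛.X 0).Opens} (hV : IsAffineOpen V) (e : V ≤ W) (y : sec h𝔛.1 F V)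
    (hy : secMap h𝔛.1 φ V y = 0) :
    ∃ a : Fin l → Levels.A 𝔛 h𝔛.1 V, y = ∑ i, a i • CohPres.resF h𝔛.1 F e (g i) := by
  haveI := Levels.isNoetherianRing_A h𝔛 hW
  obtain ⟨n, f, hf⟩ := exists_fin_gens h𝔛 hW hF
  let ψ : (Fin n → Levels.A 𝔛 h𝔛.1 W) →ₗ[Levels.A 𝔛 h𝔛.1 W] sec h𝔛.1 G W :=
    Fintype.linearCombination _ fun i => secMap h𝔛.1 φ W (f i)
  have hψ : ∀ a, ψ a = ∑ i, a i • secMap h𝔛.1 φ W (f i) := fun a =>
    Fintype.linearCombination_apply _ _ a
  obtain ⟨m, r, hr⟩ := Submodule.fg_iff_exists_fin_generating_family.1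
    (IsNoetherian.noetherian (LinearMap.ker ψ))
  obtain ⟨a, rfl⟩ := CohExact.gen_of_le h𝔛 hF hW f hf hV e y
  rw [secMap_sum] at hy
  obtain ⟨d, hd⟩ := CohExact.rel_of_le h𝔛 hG hW _ r (fun c hc => by
    rw [← hψ, ← LinearMap.mem_ker, ← hr, Submodule.mem_span_range_iff_exists_fun] at hc
    obtain ⟨d, hd⟩ := hc
    exact ⟨d, fun i => by rw [← hd]; simp⟩) hV e a hy
  choose ε hε using fun j => hg (∑ i, r j i • f i) (by
    rw [map_sum]
    simp only [map_smul]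
    rw [← hψ]
    exact LinearMap.mem_ker.1 (hr ▸ Submodule.subset_span ⟨j, rfl⟩))
  refine ⟨fun p => ∑ j, d j * CohPres.resA h𝔛.1 e (ε j p), ?_⟩
  simp only [hd, Finset.sum_smul]
  rw [Finset.sum_comm]
  conv_rhs => rw [Finset.sum_comm]
  refine Finset.sum_congr rfl fun j _ => ?_
  have := congrArg (CohPres.resF h𝔛.1 F e) (hε j)
  simp only [map_sum, CohPres.resF_smul] at this
  simp only [mul_smul, ← Finset.smul_sum, this]

/-- Kernels of maps of coherent modules are of finite type. -/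
theorem isFiniteType_kernel_of_isCohF {F G : FSch.ModF 𝔛 h𝔛.1} (hF : FSch.IsCohF 𝔛 h𝔛.1 F)
    (hG : FSch.IsCohF 𝔛 h𝔛.1 G) (φ : F ⟶ G) :
    SheafOfModules.IsFiniteType (R := ModSite.ringSh (𝔛.Osh h𝔛.1)) (kernel φ) := by
  refine isFiniteType_kernel φ fun x => ?_
  obtain ⟨W, hW, hxW⟩ := exists_affine x
  haveI := CohExact.finite_sec h𝔛 hF hW
  haveI := Levels.isNoetherianRing_A h𝔛 hW
  obtain ⟨l, g, hg⟩ := Submodule.fg_iff_exists_fin_generating_family.1
    (IsNoetherian.noetherian (LinearMap.ker (secMap h𝔛.1 φ W)))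
  refine ⟨W, l, g, hxW, fun i => LinearMap.mem_ker.1 (hg ▸ Submodule.subset_span ⟨i, rfl⟩),
    fun V hV e y hy => ker_gens h𝔛 hF hG φ hW g (fun z hz => ?_) hV e y hy⟩
  rw [← LinearMap.mem_ker, ← hg, Submodule.mem_span_range_iff_exists_fun] at hz
  obtain ⟨c, hc⟩ := hz
  exact ⟨c, hc.symm⟩

section Free

variable (h) in
/-- The coordinate maps of a finite free module. -/
noncomputable def coord {n : ℕ} (k : Fin n) :
    SheafOfModules.free (R := ModSite.ringSh (𝔛.Osh h)) (ULift.{u} (Fin n)) ⟶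
      SheafOfModules.unit (ModSite.ringSh (𝔛.Osh h)) :=
  Cofan.IsColimit.desc (SheafOfModules.isColimitFreeCofan _)
    fun j => if j.down = k then 𝟙 _ else 0

variable (h) in
/-- The basis sections of a finite free module. -/
noncomputable def bas {n : ℕ} (V : (𝔛.X 0).Opens) (i : Fin n) :
    sec h (SheafOfModules.free (R := ModSite.ringSh (𝔛.Osh h)) (ULift.{u} (Fin n))) V :=
  secMap h (SheafOfModules.ιFree (R := ModSite.ringSh (𝔛.Osh h)) (ULift.up i)) V
    (1 : Levels.A 𝔛 h V)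

theorem bas_res {n : ℕ} {W V : (𝔛.X 0).Opens} (e : V ≤ W) (i : Fin n) :
    CohPres.resF h _ e (bas h W i) = bas h V i := by
  refine (LevelAdj.secMap_map
    (SheafOfModules.ιFree (R := ModSite.ringSh (𝔛.Osh h)) (ULift.up i)) e _).symm.trans ?_
  exact congrArg _ (map_one (CohPres.resA h e))

theorem coord_bas {n : ℕ} (V : (𝔛.X 0).Opens) (k i : Fin n) :
    secMap h (coord h k) V (bas h V i) = if i = k then (1 : Levels.A 𝔛 h V) else (0 : Levels.A 𝔛 h V) := by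
  have := Cofan.IsColimit.fac (SheafOfModules.isColimitFreeCofan
      (R := ModSite.ringSh (𝔛.Osh h)) (ULift.{u} (Fin n)))
    (fun j => if j.down = k then 𝟙 (SheafOfModules.unit (ModSite.ringSh (𝔛.Osh h))) else 0)
    (ULift.up i)
  refine (congrArg (fun φ : SheafOfModules.unit (ModSite.ringSh (𝔛.Osh h)) ⟶
    SheafOfModules.unit (ModSite.ringSh (𝔛.Osh h)) => secMap h φ V (1 : Levels.A 𝔛 h V)) this).trans ?_
  dsimp only
  split_ifs with h1
  · rfl
  · rfl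

theorem eq_sum_coord {n : ℕ} (V : (𝔛.X 0).Opens)
    (x : sec h (SheafOfModules.free (R := ModSite.ringSh (𝔛.Osh h)) (ULift.{u} (Fin n))) V) :
    x = ∑ i, (show Levels.A 𝔛 h V from secMap h (coord h i) V x) • bas h V i := by
  classical
  let p : ULift.{u} (Fin n) → (SheafOfModules.free (R := ModSite.ringSh (𝔛.Osh h)) (ULift.{u} (Fin n)) ⟶
      SheafOfModules.unit (ModSite.ringSh (𝔛.Osh h))) := fun i => coord h i.down
  have hp : ∀ i j, SheafOfModules.ιFree (R := ModSite.ringSh (𝔛.Osh h)) j ≫ p i =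
      if j = i then 𝟙 _ else 0 := fun i j => by
    refine (Cofan.IsColimit.fac (SheafOfModules.isColimitFreeCofan _) _ j).trans ?_
    simp only [ULift.ext_iff]
  have hsum : ∑ i, p i ≫ SheafOfModules.ιFree (R := ModSite.ringSh (𝔛.Osh h)) i = 𝟙 _ := by
    refine Cofan.IsColimit.hom_ext (SheafOfModules.isColimitFreeCofan _) _ _ fun j => ?_
    refine (Preadditive.comp_sum (f := SheafOfModules.ιFree (R := ModSite.ringSh (𝔛.Osh h)) j) ..).trans ?_
    refine Eq.trans ?_ (Category.comp_id _).symm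
    rw [Finset.sum_eq_single j]
    · rw [← Category.assoc, hp, if_pos rfl, Category.id_comp]
      rfl
    · intro b _ hb
      rw [← Category.assoc, hp, if_neg (Ne.symm hb), zero_comp]
    · exact fun h => absurd (Finset.mem_univ j) h
  let Φ : (SheafOfModules.free (R := ModSite.ringSh (𝔛.Osh h)) (ULift.{u} (Fin n)) ⟶
      SheafOfModules.free (R := ModSite.ringSh (𝔛.Osh h)) (ULift.{u} (Fin n))) →+
      sec h (SheafOfModules.free (R := ModSite.ringSh (𝔛.Osh h)) (ULift.{u} (Fin n))) V :=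
    { toFun := fun φ => secMap h φ V x
      map_zero' := rfl
      map_add' := fun _ _ => rfl }
  have h' := congrArg Φ hsum
  rw [map_sum] at h'
  refine Eq.trans (show x = Φ (𝟙 _) from rfl) (h'.symm.trans ?_)
  refine (Equiv.sum_comp Equiv.ulift.{u}.symm
    (fun a => Φ (p a ≫ SheafOfModules.ιFree (R := ModSite.ringSh (𝔛.Osh h)) a))).symm.trans ?_
  refine Finset.sum_congr rfl fun i _ => ?_
  refine (congrArg (secMap h (SheafOfModules.ιFree (R := ModSite.ringSh (𝔛.Osh h)) (ULift.up i)) V)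
    (mul_one (show Levels.A 𝔛 h V from secMap h (coord h i) V x)).symm).trans ?_
  exact map_smul (secMap h (SheafOfModules.ιFree (R := ModSite.ringSh (𝔛.Osh h)) (ULift.up i)) V)
    (show Levels.A 𝔛 h V from secMap h (coord h i) V x) (1 : Levels.A 𝔛 h V)

/-- Finite free modules are coherent. -/
theorem isCohF_free (n : ℕ) :
    FSch.IsCohF 𝔛 h (SheafOfModules.free (R := ModSite.ringSh (𝔛.Osh h)) (ULift.{u} (Fin n))) := by
  refine PresSh.isFinitePresentation_of_isPres fun x => ?_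
  refine ⟨⊤, n, 0, bas h ⊤, Fin.elim0, trivial, ⟨fun j => j.elim0, fun Z hZ s z hz => ?_,
    fun Z hZ c hc z hz => ?_⟩⟩
  · refine ⟨Z, le_rfl, hZ, hz, fun i => secMap h (coord h i) Z s, ?_⟩
    refine Eq.trans ?_ ((eq_sum_coord Z s).trans
      (Finset.sum_congr rfl fun i _ => congrArg (_ • ·) (bas_res hZ i).symm))
    exact (congrArg (fun g => (SheafOfModules.free (R := ModSite.ringSh (𝔛.Osh h)) _).val.map g s)
      (Subsingleton.elim (homOfLE (le_refl Z)).op (𝟙 _))).trans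
      (congrArg (fun φ => φ.hom s)
        ((SheafOfModules.free (R := ModSite.ringSh (𝔛.Osh h)) _).val.map_id (op Z)))
  · refine ⟨Z, le_rfl, hZ, hz, Fin.elim0, fun i => ?_⟩
    rw [Finset.univ_eq_empty, Finset.sum_empty]
    have hc' : ∑ j, (show Levels.A 𝔛 h Z from c j) • bas h Z j = 0 :=
      (Finset.sum_congr rfl fun j _ =>
        congrArg ((show Levels.A 𝔛 h Z from c j) • ·) (bas_res hZ j).symm).trans hc
    have h1 := congrArg (secMap h (coord h i) Z) hc'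
    rw [map_sum, map_zero, Finset.sum_eq_single i (fun b _ hb => ?_)
      (fun hi => absurd (Finset.mem_univ i) hi)] at h1
    · rw [map_smul, coord_bas, if_pos rfl] at h1
      have h2 : (show Levels.A 𝔛 h Z from c i) = 0 := (mul_one _).symm.trans h1
      exact (congrArg _ h2).trans (map_zero _)
    · rw [map_smul, coord_bas, if_neg hb]
      exact mul_zero (show Levels.A 𝔛 h Z from c b)

end Free

/-- A map into a coherent module is surjective on affine opens if it is so modulo the ideal. -/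
theorem surjective_of_mod {F G : FSch.ModF 𝔛 h𝔛.1} (hG : FSch.IsCohF 𝔛 h𝔛.1 G) (φ : F ⟶ G)
    {V : (𝔛.X 0).Opens} (hV : IsAffineOpen V)
    (hφ : ∀ y, ∃ x, LevelPull.η h𝔛.1 0 G V (secMap h𝔛.1 φ V x) = LevelPull.η h𝔛.1 0 G V y) :
    Function.Surjective (secMap h𝔛.1 φ V) := by
  haveI := CohExact.finite_sec h𝔛 hG hV
  haveI := (Levels.adic h𝔛 hV).1
  rw [← LinearMap.range_eq_top, eq_top_iff]
  refine Submodule.le_of_le_smul_of_le_jacobson_bot (Module.finite_def.1 inferInstance)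
    (IsAdicComplete.le_jacobson_bot (Levels.J (h := h𝔛.1) V)) fun y _ => ?_
  obtain ⟨x, hx⟩ := hφ y
  refine Submodule.mem_sup.2 ⟨_, ⟨x, rfl⟩, y - secMap h𝔛.1 φ V x, ?_, add_sub_cancel _ _⟩
  have hker := (CohExact.η_spec h𝔛 hG hV 0).2
  rw [zero_add, pow_one] at hker
  exact hker.le (LinearMap.mem_ker.2 (by rw [map_sub, hx, sub_self]))

/-- Epimorphisms from surjectivity on affine opens. -/
theorem epi_of_surjective {F G : FSch.ModF 𝔛 h} (φ : F ⟶ G)
    (hφ : ∀ V : (𝔛.X 0).affineOpens, Function.Surjective (secMap h φ V.1)) : Epi φ := by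
  haveI : Sheaf.IsLocallySurjective ((SheafOfModules.toSheaf _).map φ) := by
    refine ⟨fun {U} s z hz => ?_⟩
    obtain ⟨V, hV, hzV, hVU⟩ := Opens.isBasis_iff_nbhd.1 (CohPres.isBasis_affine (𝔛.X 0)) hz
    obtain ⟨a, ha⟩ := hφ ⟨V, hV⟩ (CohPres.resF h G hVU s)
    exact ⟨V, homOfLE hVU, ⟨a, ha⟩, hzV⟩
  exact (SheafOfModules.toSheaf _).epi_of_epi_map inferInstance

/-- Monomorphisms from injectivity on affine opens. -/
theorem mono_of_injective {F G : FSch.ModF 𝔛 h} (φ : F ⟶ G)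
    (hφ : ∀ V : (𝔛.X 0).affineOpens, Function.Injective (secMap h φ V.1)) : Mono φ := by
  refine ⟨fun a b hab => LevelAdj.hom_extF fun V x => hφ V ?_⟩
  exact congrArg (fun ψ => secMap h ψ V.1 x) hab

/-- Surjectivity at level zero gives surjectivity on affine opens. -/
theorem surjective_of_epi_pull {F G : FSch.ModF 𝔛 h𝔛.1} (hF : FSch.IsCohF 𝔛 h𝔛.1 F)
    (hG : FSch.IsCohF 𝔛 h𝔛.1 G) (φ : F ⟶ G) [Epi ((FSch.levelMor 𝔛 h𝔛.1 0).pull.map φ)]
    {V : (𝔛.X 0).Opens} (hV : IsAffineOpen V) : Function.Surjective (secMap h𝔛.1 φ V) := by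
  refine surjective_of_mod h𝔛 hG φ hV fun y => ?_
  haveI : (LevelPull.pullk h𝔛.1 0 F).IsQuasicoherent := (CohF.isCoh_sys h𝔛 F hF 0).1
  haveI : (LevelPull.pullk h𝔛.1 0 G).IsQuasicoherent := (CohF.isCoh_sys h𝔛 G hG 0).1
  haveI hepi : @Epi (𝔛.X 0).Modules _ (LevelPull.pullk h𝔛.1 0 F) (LevelPull.pullk h𝔛.1 0 G)
    ((FSch.levelMor 𝔛 h𝔛.1 0).pull.map φ) := ‹Epi ((FSch.levelMor 𝔛 h𝔛.1 0).pull.map φ)›
  obtain ⟨w, hw⟩ := QCoh.Closure.sections_surjective_of_epi
    (M := LevelPull.pullk h𝔛.1 0 F) (N := LevelPull.pullk h𝔛.1 0 G)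
    ((FSch.levelMor 𝔛 h𝔛.1 0).pull.map φ) (OshBasic.isAffineOpen_lvU 𝔛 h𝔛.1 0 hV)
    (LevelPull.η h𝔛.1 0 G V y)
  obtain ⟨x, hx⟩ := (CohExact.η_spec h𝔛 hF hV 0).1 w
  refine ⟨x, ?_⟩
  refine (congrArg (fun ψ => secMap h𝔛.1 ψ V x)
    ((FSch.levelMor 𝔛 h𝔛.1 0).adj.unit.naturality φ)).trans ?_
  exact (congrArg _ hx).trans hw

end Groth.Agent.H30.CohCons

namespace Groth.Agent.H30.CohCons

variable {𝔛 : FSch.Sys.{u}} (h𝔛 : 𝔛.IsLocNoethFormal)

theorem pow_smul_top_unit {V : (𝔛.X 0).Opens} (t : ℕ)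
    (y : sec h𝔛.1 (FSch.unitF 𝔛 h𝔛.1) V)
    (hy : y ∈ Levels.J (h := h𝔛.1) V ^ t •
      (⊤ : Submodule (Levels.A 𝔛 h𝔛.1 V) (sec h𝔛.1 (FSch.unitF 𝔛 h𝔛.1) V))) :
    (show Levels.A 𝔛 h𝔛.1 V from y) ∈ Levels.J (h := h𝔛.1) V ^ t := by
  induction hy using Submodule.smul_induction_on' with
  | smul a ha b _ => exact Ideal.mul_mem_right (show Levels.A 𝔛 h𝔛.1 V from b) _ ha
  | add a _ b _ ha hb => exact Ideal.add_mem _ ha hb

/-- The kernel of `O_𝔛 → u_{n*} u_n^* O_𝔛` is of finite type. -/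
theorem isFiniteType_kernel_unit_level (n : ℕ) :
    SheafOfModules.IsFiniteType (R := ModSite.ringSh (𝔛.Osh h𝔛.1))
      (kernel ((FSch.levelMor 𝔛 h𝔛.1 n).adj.unit.app (FSch.unitF 𝔛 h𝔛.1))) := by
  refine isFiniteType_kernel _ fun x => ?_
  obtain ⟨W, hW, hxW⟩ := exists_affine (𝔛 := 𝔛) x
  haveI := Levels.isNoetherianRing_A h𝔛 hW
  obtain ⟨l, g, hg⟩ := Submodule.fg_iff_exists_fin_generating_family.1
    (IsNoetherian.noetherian (Levels.J (h := h𝔛.1) W ^ (n + 1)))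
  refine ⟨W, l, g, hxW, fun i => ?_, fun V hV e y hy => ?_⟩
  · have hi : g i ∈ Levels.J (h := h𝔛.1) W ^ (n + 1) := hg ▸ Submodule.subset_span ⟨i, rfl⟩
    refine LinearMap.mem_ker.1 ((CohExact.η_spec h𝔛 isCohF_unit hW n).2.ge ?_)
    have : (g i : sec h𝔛.1 (FSch.unitF 𝔛 h𝔛.1) W) = g i • (show sec h𝔛.1 (FSch.unitF 𝔛 h𝔛.1) W from
        (1 : Levels.A 𝔛 h𝔛.1 W)) := (mul_one (g i)).symm
    rw [this]
    exact Submodule.smul_mem_smul hi trivial
  · have hy' := pow_smul_top_unit h𝔛 (n + 1) y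
      ((CohExact.η_spec h𝔛 isCohF_unit hV n).2.le (LinearMap.mem_ker.2 hy))
    rw [← CohExact.J_map h𝔛 hW hV e, ← Ideal.map_pow, ← hg, ← Ideal.span, Ideal.map_span,
      ← Set.range_comp] at hy'
    obtain ⟨a, ha⟩ := Submodule.mem_span_range_iff_exists_fun _ |>.1 hy'
    exact ⟨a, ha.symm⟩

end Groth.Agent.H30.CohCons
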