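import Groth.Agent.H30.FSch.TorsLevel
import Groth.Agent.H22.IndColim.Coreflect
import Groth.Agent.Lib.FSchInd28.Ind
import Groth.Agent.H22.IndColim.Five
import Mathlib.Algebra.Homology.ExactSequence

/-!
# Closure properties of quasi-coherent torsion modules on formal schemes (helper30)
-/

set_option autoImplicit false
set_option maxHeartbeats 1000000
set_option linter.style.haveILetI false
set_option linter.unusedSectionVars false

universe u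

open CategoryTheory CategoryTheory.Limits AlgebraicGeometry TopologicalSpace Opposite
open scoped Pointwise
open Groth.Agent.H30 Groth.Agent.H30.RealLimSec Groth.Agent.H22.IndColim Groth.Agent.Lib

namespace Groth.Agent.H30.TorsClosure

section Tors

variable {𝔛 : FSch.Sys.{u}} {h : 𝔛.IsFormal}

/-- A section with torsion image under a monomorphism is torsion. -/
theorem isTorsSect_of_mono {M N : FSch.ModF 𝔛 h} (φ : M ⟶ N) [Mono φ] {U : (𝔛.X 0).Opens}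
    (s : sec h M U) (hs : FTors.IsTorsSect (FTors.openIdealFam 𝔛 h) N (secMap h φ U s)) :
    FTors.IsTorsSect (FTors.openIdealFam 𝔛 h) M s := by
  refine (Opens.grothendieckTopology _).superset_covering ?_ hs
  rintro V g ⟨n, hn⟩
  refine ⟨n, fun W g' a ha => CohCons.secMap_injective φ W ?_⟩
  refine ((map_smul (secMap h φ W) a _).trans ?_).trans (map_zero _).symm
  rw [show secMap h φ W (FTors.res M g' (FTors.res M g s)) =
    FTors.res N g' (FTors.res N g (secMap h φ U s)) from by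
      exact ((FTors.res_hom M φ g' _).trans (congrArg _ rfl)).symm.trans
        (congrArg (FTors.res N g') (FTors.res_hom M φ g s).symm)]
  exact hn g' a ha

theorem isTors_of_mono {M N : FSch.ModF 𝔛 h} (φ : M ⟶ N) [Mono φ] (hN : FTors.IsTorsF 𝔛 h N) :
    FTors.IsTorsF 𝔛 h M :=
  fun U s => isTorsSect_of_mono φ s (hN U _)

theorem isTors_gammaT (M : FSch.ModF 𝔛 h) : FTors.IsTorsF 𝔛 h ((FTors.gammaT 𝔛 h).obj M) := fun U s => by
  haveI := TorsLevel.mono_gammaι (FTors.openIdealFam 𝔛 h) M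
  exact isTorsSect_of_mono ((FTors.gammaTι 𝔛 h).app M) s s.2

theorem isIso_gammaTι {M : FSch.ModF 𝔛 h} (hM : FTors.IsTorsF 𝔛 h M) :
    IsIso ((FTors.gammaTι 𝔛 h).app M) := by
  haveI := TorsLevel.mono_gammaι (FTors.openIdealFam 𝔛 h) M
  haveI : Epi ((FTors.gammaTι 𝔛 h).app M) :=
    CohCons.epi_of_surjective _ fun V s => ⟨⟨s, hM V.1 s⟩, rfl⟩
  exact Groth.Agent.H22.IndColim.isIso_of_epi_mono _

theorem isTors_of_epi_gammaTι {M : FSch.ModF 𝔛 h} [Epi ((FTors.gammaTι 𝔛 h).app M)] :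
    FTors.IsTorsF 𝔛 h M := fun U s => by
  haveI := TorsLevel.mono_gammaι (FTors.openIdealFam 𝔛 h) M
  haveI : IsIso ((FTors.gammaTι 𝔛 h).app M) := Groth.Agent.H22.IndColim.isIso_of_epi_mono _
  have h1 : secMap h ((FTors.gammaTι 𝔛 h).app M) U (secMap h (inv ((FTors.gammaTι 𝔛 h).app M)) U s) = s := by
    rw [← secMap_comp, IsIso.inv_hom_id]
    rfl
  rw [← h1]
  exact (secMap h (inv ((FTors.gammaTι 𝔛 h).app M)) U s).2

/-- Modules jointly covered by torsion modules are torsion. -/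
theorem isTors_of_jointly_epi {ι : Type*} {D : ι → FSch.ModF 𝔛 h} {L : FSch.ModF 𝔛 h}
    (hD : ∀ j, FTors.IsTorsF 𝔛 h (D j)) (π : ∀ j, D j ⟶ L)
    (hπ : ∀ {Z : FSch.ModF 𝔛 h} (a b : L ⟶ Z), (∀ j, π j ≫ a = π j ≫ b) → a = b) :
    FTors.IsTorsF 𝔛 h L := by
  haveI : Epi ((FTors.gammaTι 𝔛 h).app L) := ⟨fun a b hab => hπ a b fun j => by
    haveI := isIso_gammaTι (hD j)
    have hfac : π j = inv ((FTors.gammaTι 𝔛 h).app (D j)) ≫ (FTors.gammaT 𝔛 h).map (π j) ≫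
        (FTors.gammaTι 𝔛 h).app L := by
      rw [(FTors.gammaTι 𝔛 h).naturality (π j), IsIso.inv_hom_id_assoc]
      rfl
    rw [hfac]
    simp only [Category.assoc]
    exact congrArg (fun t => inv ((FTors.gammaTι 𝔛 h).app (D j)) ≫ (FTors.gammaT 𝔛 h).map (π j) ≫ t) hab⟩
  exact isTors_of_epi_gammaTι

theorem isTors_of_epi {M N : FSch.ModF 𝔛 h} (φ : M ⟶ N) [Epi φ] (hM : FTors.IsTorsF 𝔛 h M) :
    FTors.IsTorsF 𝔛 h N :=
  isTors_of_jointly_epi (ι := PUnit.{1}) (fun _ => hM) (fun _ => φ)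
    fun _ _ hab => (cancel_epi φ).1 (hab PUnit.unit)

end Tors

variable {𝔛 : FSch.Sys.{u}} (h𝔛 : 𝔛.IsLocNoethFormal)

theorem isQuasicoherent_of_ind {M : FSch.ModF 𝔛 h𝔛.1}
    (hM : (ObjectProperty.ind.{u} fun 𝔊 : FSch.ModF 𝔛 h𝔛.1 => FSch.IsCohF 𝔛 h𝔛.1 𝔊) M) :
    SheafOfModules.IsQuasicoherent.{u} M := by
  haveI : IsLocallyNoetherian (𝔛.X 0) := h𝔛.2.2 0
  exact FSchInd28.Ind.isQuasicoherent_of_ind h𝔛 hM

theorem isQCT_gammaT (M : FSch.ModF 𝔛 h𝔛.1) [SheafOfModules.IsQuasicoherent.{u} M] :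
    FTors.IsQCT 𝔛 h𝔛.1 ((FTors.gammaT 𝔛 h𝔛.1).obj M) :=
  ⟨isTors_gammaT M, TorsLevel.isQuasicoherent_gammaT h𝔛 M⟩

theorem ind_of_isQCT {M : FSch.ModF 𝔛 h𝔛.1} (hM : FTors.IsQCT 𝔛 h𝔛.1 M) :
    (ObjectProperty.ind.{u} fun 𝔊 : FSch.ModF 𝔛 h𝔛.1 => FSch.IsCohF 𝔛 h𝔛.1 𝔊) M := by
  haveI := isIso_gammaTι hM.1
  haveI : SheafOfModules.IsQuasicoherent.{u} M := hM.2
  exact ObjectProperty.prop_of_iso _ (asIso ((FTors.gammaTι 𝔛 h𝔛.1).app M)) (TorsLevel.ind_gammaT h𝔛 M)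

theorem isQCT_of_ind {M : FSch.ModF 𝔛 h𝔛.1} (ht : FTors.IsTorsF 𝔛 h𝔛.1 M)
    (hM : (ObjectProperty.ind.{u} fun 𝔊 : FSch.ModF 𝔛 h𝔛.1 => FSch.IsCohF 𝔛 h𝔛.1 𝔊) M) :
    FTors.IsQCT 𝔛 h𝔛.1 M :=
  ⟨ht, isQuasicoherent_of_ind h𝔛 hM⟩

theorem isQCT_coh {T : FSch.ModF 𝔛 h𝔛.1} (hT : FSch.IsCohF 𝔛 h𝔛.1 T) (ht : FTors.IsTorsF 𝔛 h𝔛.1 T) :
    FTors.IsQCT 𝔛 h𝔛.1 T :=
  isQCT_of_ind h𝔛 ht (ObjectProperty.le_ind _ _ hT)

theorem isQCT_kernel {X Y : FSch.ModF 𝔛 h𝔛.1} (hX : FTors.IsQCT 𝔛 h𝔛.1 X)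
    (hY : FTors.IsQCT 𝔛 h𝔛.1 Y) (φ : X ⟶ Y) : FTors.IsQCT 𝔛 h𝔛.1 (kernel φ) :=
  isQCT_of_ind h𝔛 (isTors_of_mono (kernel.ι φ) hX.1)
    (ind_kernel h𝔛 (ind_of_isQCT h𝔛 hX) (ind_of_isQCT h𝔛 hY) φ)

theorem isQCT_cokernel {X Y : FSch.ModF 𝔛 h𝔛.1} (hX : FTors.IsQCT 𝔛 h𝔛.1 X)
    (hY : FTors.IsQCT 𝔛 h𝔛.1 Y) (φ : X ⟶ Y) : FTors.IsQCT 𝔛 h𝔛.1 (cokernel φ) :=
  isQCT_of_ind h𝔛 (isTors_of_epi (cokernel.π φ) hY.1)
    (ind_cokernel h𝔛 (ind_of_isQCT h𝔛 hX) (ind_of_isQCT h𝔛 hY) φ)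

theorem isQCT_ext {S : ShortComplex (FSch.ModF 𝔛 h𝔛.1)} (hS : S.ShortExact)
    (h₁ : FTors.IsQCT 𝔛 h𝔛.1 S.X₁) (h₃ : FTors.IsQCT 𝔛 h𝔛.1 S.X₃) :
    FTors.IsQCT 𝔛 h𝔛.1 S.X₂ := by
  classical
  haveI := hS.mono_f
  refine ⟨fun U s => ?_, ?_⟩
  · intro z hz
    obtain ⟨V₁, e, n, hzV₁, hn⟩ :=
      TorsCoh.exists_killed_of_isTorsSect (secMap h𝔛.1 S.g U s) (h₃.1 U _) z hz
    obtain ⟨V, hV, hzV, hle⟩ := Opens.isBasis_iff_nbhd.1 (CohPres.isBasis_affine (𝔛.X 0)) hzV₁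
    let eV : V ≤ U := hle.trans e
    haveI := Levels.isNoetherianRing_A h𝔛 hV
    obtain ⟨k, g, hg⟩ := Submodule.fg_iff_exists_fin_generating_family.1
      (IsNoetherian.noetherian (Levels.J (h := h𝔛.1) V ^ (n + 1)))
    have hgJ : ∀ l, Levels.proj 𝔛 h𝔛.1 n V (g l) = 0 := fun l => RingHom.mem_ker.1
      (((Levels.adic h𝔛 hV).2.1 n).2.symm ▸ hg ▸ Submodule.subset_span ⟨l, rfl⟩)
    choose t ht using fun l => Groth.Agent.H22.IndColim.exists_lift h𝔛 hS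
      (g l • CohPres.resF h𝔛.1 S.X₂ eV s) (by
        rw [map_smul, secMap_res]
        have h1 := hn V hle (g l) (hgJ l)
        rw [TorsCoh.resF_resF] at h1
        exact h1)
    choose q hq using fun l => TorsCoh.exists_killed hV.isCompact (t l) (h₁.1 V _)
    let m := Finset.univ.sup q
    obtain ⟨k', g', hg'⟩ := Submodule.fg_iff_exists_fin_generating_family.1
      (IsNoetherian.noetherian (Levels.J (h := h𝔛.1) V ^ (m + 1)))
    have hgJ' : ∀ l, Levels.proj 𝔛 h𝔛.1 m V (g' l) = 0 := fun l => RingHom.mem_ker.1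
      (((Levels.adic h𝔛 hV).2.1 m).2.symm ▸ hg' ▸ Submodule.subset_span ⟨l, rfl⟩)
    refine ⟨V, homOfLE eV, ⟨n + m + 1, (TorsCoh.killed_iff _ _ _).2 ?_⟩, hzV⟩
    refine TorsQcoh.killed_of_gens h𝔛 hV (n + m + 1) (fun p : Fin k' × Fin k => g' p.1 * g p.2) ?_ _ ?_
    · have hset : Set.range (fun p : Fin k' × Fin k => g' p.1 * g p.2) = Set.range g' * Set.range g := by
        ext x
        simp [Set.mem_mul]
      rw [show n + m + 1 + 1 = (m + 1) + (n + 1) by omega, pow_add, ← hg, ← hg', hset]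
      exact (Ideal.span_mul_span' _ _).symm
    · rintro ⟨l', l⟩
      rw [mul_smul, show g l • FTors.res S.X₂ (homOfLE eV) s = secMap h𝔛.1 S.f V (t l) from (ht l).symm,
        ← map_smul]
      have h1 := ((hq l).mono (Finset.le_sup (Finset.mem_univ l))) V le_rfl (g' l') (hgJ' l')
      rw [show CohPres.resF h𝔛.1 S.X₁ (le_refl V) (t l) = t l from ConcreteCategory.congr_hom
        ((congrArg (fun φ => S.X₁.val.presheaf.map φ) (Subsingleton.elim (homOfLE (le_refl V)).op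
          (𝟙 (op V)))).trans (S.X₁.val.presheaf.map_id (op V))) _] at h1
      rw [h1, map_zero]
  · obtain ⟨hg, hq⟩ := gen_q_ext h𝔛 hS (ind_of_isQCT h𝔛 h₁) (ind_of_isQCT h𝔛 h₃)
    refine FSchInd28.Span.isQuasicoherent_of_span _ fun x => ?_
    obtain ⟨W, hW, hxW⟩ := CohCons.exists_affine (𝔛 := 𝔛) x
    refine ⟨W, hxW, TorsQcoh.nonempty_presentation h𝔛 (𝟙 S.X₂) (W := W) ⊤ (fun y _ => ⟨y, rfl⟩)
      (fun _ _ => True) (fun _ _ => trivial) (fun Z hZ s _ z hz => ?_)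
      fun m b _ Z hZ c hc => (hq W hW (Fin m) b Z hZ c hc).mono fun _ hr => hr⟩
    obtain ⟨V, hVZ, hzV, hm⟩ := hg W hW Z hZ s z hz
    obtain ⟨m, a, t, ht⟩ := exists_of_mem_span_range (hVZ.trans hZ) hm
    exact ⟨V, hVZ, m, a, t, hzV, fun _ => trivial, ht⟩

/-- The middle term of a five-term exact sequence. -/
theorem isQCT_five (S : ComposableArrows (FSch.ModF 𝔛 h𝔛.1) 4) (hS : S.Exact)
    (h₀ : FTors.IsQCT 𝔛 h𝔛.1 (S.obj 0)) (h₁ : FTors.IsQCT 𝔛 h𝔛.1 (S.obj 1))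
    (h₃ : FTors.IsQCT 𝔛 h𝔛.1 (S.obj 3)) (h₄ : FTors.IsQCT 𝔛 h𝔛.1 (S.obj 4)) :
    FTors.IsQCT 𝔛 h𝔛.1 (S.obj 2) := by
  let s₁ := S.sc' hS.toIsComplex 0 1 2
  let s₂ := S.sc' hS.toIsComplex 1 2 3
  let s₃ := S.sc' hS.toIsComplex 2 3 4
  have e₁ : s₁.Exact := hS.exact' 0 1 2
  have e₂ : s₂.Exact := hS.exact' 1 2 3
  have e₃ : s₃.Exact := hS.exact' 2 3 4
  let f : cokernel s₁.f ⟶ s₂.X₂ := cokernel.desc s₁.f s₁.g s₁.zero
  let g : s₂.X₂ ⟶ kernel s₃.g := kernel.lift s₃.g s₃.f s₃.zero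
  haveI : Mono f := e₁.mono_cokernelDesc
  haveI : Epi g := e₃.epi_kernelLift
  have w : f ≫ g = 0 := coequalizer.hom_ext (equalizer.hom_ext (by
    simp only [Category.assoc, comp_zero, zero_comp]
    rw [cokernel.π_desc_assoc, kernel.lift_ι]
    exact s₂.zero))
  let T : ShortComplex (FSch.ModF 𝔛 h𝔛.1) := ShortComplex.mk f g w
  let η : s₂ ⟶ ShortComplex.mk f (g ≫ kernel.ι s₃.g) (by rw [← Category.assoc, w, zero_comp]) :=
    { τ₁ := cokernel.π s₁.f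
      τ₂ := 𝟙 _
      τ₃ := 𝟙 _
      comm₁₂ := (cokernel.π_desc _ _ _).trans (Category.comp_id _).symm
      comm₂₃ := (Category.id_comp _).trans ((kernel.lift_ι _ _ _).trans (Category.comp_id _).symm) }
  haveI : Epi η.τ₁ := inferInstanceAs (Epi (cokernel.π s₁.f))
  haveI : IsIso η.τ₂ := inferInstanceAs (IsIso (𝟙 s₂.X₂))
  haveI : Mono η.τ₃ := inferInstanceAs (Mono (𝟙 s₂.X₃))
  have e₄ := (ShortComplex.exact_iff_of_epi_of_isIso_of_mono η).1 e₂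
  let θ : T ⟶ ShortComplex.mk f (g ≫ kernel.ι s₃.g) (by rw [← Category.assoc, w, zero_comp]) :=
    { τ₁ := 𝟙 _
      τ₂ := 𝟙 _
      τ₃ := kernel.ι s₃.g
      comm₁₂ := (Category.id_comp _).trans (Category.comp_id _).symm
      comm₂₃ := Category.id_comp _ }
  haveI : Epi θ.τ₁ := inferInstanceAs (Epi (𝟙 T.X₁))
  haveI : IsIso θ.τ₂ := inferInstanceAs (IsIso (𝟙 T.X₂))
  haveI : Mono θ.τ₃ := inferInstanceAs (Mono (kernel.ι s₃.g))
  have e₅ : T.Exact := (ShortComplex.exact_iff_of_epi_of_isIso_of_mono θ).2 e₄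
  exact isQCT_ext h𝔛 (S := T) { exact := e₅, mono_f := ‹_›, epi_g := ‹_› }
    (isQCT_cokernel h𝔛 h₀ h₁ _) (isQCT_kernel h𝔛 h₃ h₄ _)

theorem isClosedUnderColimitsOfShape (J : Type u) [SmallCategory J] :
    (FTors.IsQCT 𝔛 h𝔛.1).IsClosedUnderColimitsOfShape J where
  colimitsOfShape_le := by
    rintro L ⟨hL⟩
    have ht : FTors.IsTorsF 𝔛 h𝔛.1 L :=
      isTors_of_jointly_epi (fun j => (hL.prop_diag_obj j).1) (fun j => hL.ι.app j)
        fun a b hab => hL.isColimit.hom_ext hab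
    haveI := Groth.Agent.H22.IndColim.isClosedUnderColimitsOfShape h𝔛 J
    refine isQCT_of_ind h𝔛 ht ?_
    exact (ObjectProperty.IsClosedUnderColimitsOfShape.colimitsOfShape_le
      (P := ObjectProperty.ind.{u} fun 𝔊 : FSch.ModF 𝔛 h𝔛.1 => FSch.IsCohF 𝔛 h𝔛.1 𝔊) (J := J)) L
        ⟨{ toColimitPresentation := hL.toColimitPresentation
           prop_diag_obj := fun j => ind_of_isQCT h𝔛 (hL.prop_diag_obj j) }⟩

/-- The inclusion of quasi-coherent torsion modules has a right adjoint. -/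
theorem isLeftAdjoint_ι : (FTors.IsQCT 𝔛 h𝔛.1).ι.IsLeftAdjoint := by
  let P := FTors.IsQCT 𝔛 h𝔛.1
  haveI : P.IsClosedUnderIsomorphisms := ⟨fun {X Y} e hX => by
    refine ⟨isTors_of_epi e.hom hX.1, ?_⟩
    exact (SheafOfModules.isQuasicoherent (ModSite.ringSh (𝔛.Osh h𝔛.1))).prop_of_iso e hX.2⟩
  haveI : ∀ (J : Type u) [SmallCategory J], P.IsClosedUnderColimitsOfShape J :=
    fun J _ => isClosedUnderColimitsOfShape h𝔛 J
  haveI : HasColimitsOfSize.{u, u} P.FullSubcategory := ⟨fun _ _ => inferInstance⟩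
  haveI : PreservesColimitsOfSize.{u, u} P.ι :=
    ⟨fun {J} {_} => ⟨fun {K} => preservesColimit_of_createsColimit_and_hasColimit K P.ι⟩⟩
  haveI := Groth.Agent.Lib.DerivedOX.Grothendieck.isGrothendieckAbelian_sheafOfModules
    (ModSite.ringSh (𝔛.Osh h𝔛.1))
  haveI : WellPowered.{u} (FSch.ModF 𝔛 h𝔛.1) := inferInstance
  haveI := Abelian.wellPowered_opposite (C := FSch.ModF 𝔛 h𝔛.1)
  haveI : P.ι.PreservesEpimorphisms := inferInstance
  haveI := Groth.Agent.H22.IndColim.wellPowered_op_of_ι P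
  obtain ⟨U₀, hU₀⟩ := Groth.Agent.H22.IndColim.exists_cover h𝔛
  let κ : Type u := Shrink.{u} {S : Subobject U₀ // P (cokernel S.arrow)}
  let g : κ → P.FullSubcategory := fun k =>
    ⟨cokernel ((equivShrink _).symm k).1.arrow, ((equivShrink _).symm k).2⟩
  have hsep : (ObjectProperty.ofObj g).IsSeparating := by
    intro F G a b hab
    refine P.hom_ext (LevelAdj.hom_extF fun V x => ?_)
    haveI : SheafOfModules.IsQuasicoherent.{u} F.obj := F.property.2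
    obtain ⟨T, χ, hχ, hT, ht⟩ := TorsLevel.exists_coh_through h𝔛 F.obj V.2 (m := 1)
      fun _ => ⟨x, F.property.1 V.1 x⟩
    obtain ⟨t, ht⟩ := ht 0
    have hPT : P T := isQCT_coh h𝔛 hT (isTors_of_mono χ (isTors_gammaT F.obj))
    obtain ⟨φ, _⟩ := hU₀ _ hT
    let K : Subobject U₀ := Subobject.mk (kernel.ι φ)
    let e : cokernel K.arrow ≅ T :=
      cokernelIsoOfEq (Subobject.underlyingIso_hom_comp_eq_mk (kernel.ι φ)).symm ≪≫
        cokernelEpiComp _ _ ≪≫ (cokernelIsCokernel (kernel.ι φ)).coconePointUniqueUpToIso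
          (Abelian.epiIsCokernelOfKernel _ (limit.isLimit (parallelPair φ 0)))
    have hK : P (cokernel K.arrow) := ObjectProperty.prop_of_iso _ e.symm hPT
    let k : κ := equivShrink _ ⟨K, hK⟩
    have hk : (g k).obj = cokernel K.arrow := by
      exact congrArg (fun t : {S : Subobject U₀ // P (cokernel S.arrow)} => cokernel t.1.arrow)
        (Equiv.symm_apply_apply _ _)
    let ψ : (g k).obj ⟶ F.obj := eqToHom hk ≫ e.hom ≫ χ ≫ (FTors.gammaTι 𝔛 h𝔛.1).app F.obj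
    have h1 := congrArg (fun t => P.ι.map t) (hab (g k) ⟨k⟩ (ObjectProperty.homMk ψ))
    simp only [Functor.map_comp] at h1
    change ψ ≫ a.hom = ψ ≫ b.hom at h1
    simp only [ψ, Category.assoc, cancel_epi] at h1
    have hx : secMap h𝔛.1 ((FTors.gammaTι 𝔛 h𝔛.1).app F.obj) V.1 (secMap h𝔛.1 χ V.1 t) = x :=
      (congrArg (secMap h𝔛.1 ((FTors.gammaTι 𝔛 h𝔛.1).app F.obj) V.1) ht).trans rfl
    rw [← hx]
    exact congrArg (fun ψ => secMap h𝔛.1 ψ V.1 t) h1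
  exact isLeftAdjoint_of_preservesColimits_of_isSeparating hsep P.ι

end Groth.Agent.H30.TorsClosure
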