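import Groth.Agent.H30.FSch.CohF
import Mathlib.RingTheory.Filtration

/-!
# Relations of arbitrary families of sections of coherent modules (helper30)

By the Artin–Rees lemma the relations over an affine open generate the relations over every smaller
affine open; consequences for coherent modules.
-/

set_option autoImplicit false
set_option linter.style.haveILetI false

universe u

open CategoryTheory CategoryTheory.Limits AlgebraicGeometry TopologicalSpace Opposite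
open Groth.Agent.H30 Groth.Agent.H30.RealLimSec
open Groth.Agent.Lib

namespace Groth.Agent.H30.CohExact

variable {𝔛 : FSch.Sys.{u}} (h𝔛 : 𝔛.IsLocNoethFormal) {W V : (𝔛.X 0).Opens}

theorem resA_mem_pow (hW : IsAffineOpen W) (hV : IsAffineOpen V) (e : V ≤ W) (t : ℕ)
    {a : Levels.A 𝔛 h𝔛.1 W} (ha : a ∈ Levels.J (h := h𝔛.1) W ^ t) :
    CohPres.resA h𝔛.1 e a ∈ Levels.J (h := h𝔛.1) V ^ t := by
  cases t with
  | zero => simp
  | succ t =>
    rw [← ((Levels.adic h𝔛 hV).2.1 t).2, RingHom.mem_ker, CohPres.proj_resA]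
    rw [← ((Levels.adic h𝔛 hW).2.1 t).2, RingHom.mem_ker] at ha
    rw [ha, map_zero]

/-- The ideal of definition over a smaller affine open is generated by the restrictions. -/
theorem J_map (hW : IsAffineOpen W) (hV : IsAffineOpen V) (e : V ≤ W) :
    (Levels.J (h := h𝔛.1) W).map (CohPres.resA h𝔛.1 e) = Levels.J (h := h𝔛.1) V := by
  obtain ⟨hc, hs, hfg⟩ := Levels.adic h𝔛 hV
  have hle : (Levels.J (h := h𝔛.1) W).map (CohPres.resA h𝔛.1 e) ≤ Levels.J (h := h𝔛.1) V :=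
    Ideal.map_le_iff_le_comap.2 fun a ha => by
      simpa using resA_mem_pow h𝔛 hW hV e 1 (by simpa using ha)
  refine le_antisymm hle ?_
  haveI := Levels.isNoetherianRing_A h𝔛 hV
  haveI := hc
  refine Adic.Complete.le_of_le_sup_smul (I := Levels.J (h := h𝔛.1) V)
    (IsNoetherian.noetherian _) hle ?_
  intro a ha
  haveI := FSch.Sys.toX_isClosedImmersion 𝔛 h𝔛.1 1
  let U : (𝔛.X 1).affineOpens := ⟨_, OshBasic.isAffineOpen_lvU 𝔛 h𝔛.1 1 hW⟩
  let U' : (𝔛.X 1).affineOpens := ⟨_, OshBasic.isAffineOpen_lvU 𝔛 h𝔛.1 1 hV⟩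
  have hUU : U' ≤ U := CohPres.lvU_mono h𝔛.1 1 e
  have hmem : Levels.proj 𝔛 h𝔛.1 1 V a ∈ (𝔛.toX 1).ker.ideal U' := by
    rw [Scheme.Hom.ker_apply, ← Levels.ker_toZero 𝔛 h𝔛.1 1 V, RingHom.mem_ker]
    exact (ConcreteCategory.congr_hom (Levels.proj_toZero 𝔛 h𝔛.1 1 V) a).trans ha
  rw [← (𝔛.toX 1).ker.map_ideal hUU, Scheme.Hom.ker_apply, ← Levels.ker_toZero 𝔛 h𝔛.1 1 W,
    ← CohSys.map_proj_J h𝔛 hW, Ideal.map_map] at hmem
  rw [show ((𝔛.X 1).presheaf.map (homOfLE hUU).op).hom.comp (Levels.proj 𝔛 h𝔛.1 1 W).hom =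
    (Levels.proj 𝔛 h𝔛.1 1 V).hom.comp (CohPres.resA h𝔛.1 e) from
    RingHom.ext fun b => (CohPres.proj_resA h𝔛.1 1 e b).symm] at hmem
  rw [← Ideal.map_map] at hmem
  obtain ⟨b, hb, hab⟩ := (Ideal.mem_map_iff_of_surjective _ (hs 1).1).1 hmem
  refine Submodule.mem_sup.2 ⟨b, hb, a - b, ?_, add_sub_cancel b a⟩
  rw [smul_eq_mul, ← pow_two, ← (hs 1).2, RingHom.mem_ker, map_sub, hab, sub_self]

section Sys

variable (𝔐 : FSch.ModSys 𝔛) (h𝔐 : 𝔐.IsCoh)

include h𝔐 in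
/-- Relations over an affine open generate those over smaller affine opens. -/
theorem relations_of_le (hW : IsAffineOpen W) {n m : ℕ}
    (f : Fin n → sec h𝔛.1 (𝔐.realMod h𝔛.1) W) (r : Fin m → Fin n → Levels.A 𝔛 h𝔛.1 W)
    (hex : ∀ a : Fin n → Levels.A 𝔛 h𝔛.1 W, ∑ i, a i • f i = 0 →
      ∃ d : Fin m → Levels.A 𝔛 h𝔛.1 W, ∀ i, a i = ∑ j, d j * r j i)
    (hV : IsAffineOpen V) (e : V ≤ W) (a : Fin n → Levels.A 𝔛 h𝔛.1 V)
    (ha : ∑ i, a i • CohPres.resF h𝔛.1 _ e (f i) = 0) :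
    ∃ d : Fin m → Levels.A 𝔛 h𝔛.1 V, ∀ i, a i = ∑ j, d j * CohPres.resA h𝔛.1 e (r j i) := by
  haveI := (Levels.adic h𝔛 hV).1
  haveI := Levels.isNoetherianRing_A h𝔛 hV
  haveI := Levels.isNoetherianRing_A h𝔛 hW
  haveI := (CohSys.main h𝔛 𝔐 h𝔐 hW).1
  let φ : (Fin n → Levels.A 𝔛 h𝔛.1 W) →ₗ[Levels.A 𝔛 h𝔛.1 W] sec h𝔛.1 (𝔐.realMod h𝔛.1) W :=
    Fintype.linearCombination _ f
  obtain ⟨s, hs⟩ := Ideal.exists_pow_inf_eq_pow_smul (Levels.J (h := h𝔛.1) W) (LinearMap.range φ)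
  let S : Submodule (Levels.A 𝔛 h𝔛.1 V) (Fin n → Levels.A 𝔛 h𝔛.1 V) :=
    LinearMap.range (Fintype.linearCombination _ fun j i => CohPres.resA h𝔛.1 e (r j i))
  haveI : IsHausdorff (Levels.J (h := h𝔛.1) V) ((Fin n → Levels.A 𝔛 h𝔛.1 V) ⧸ S) :=
    IsHausdorff.of_le_jacobson _ _ (IsAdicComplete.le_jacobson_bot _)
  have hS : S.mkQ a = 0 := by
    refine IsHausdorff.haus ‹_› _ fun t => ?_
    -- work at level `k = t + s`
    set k := t + s with hk
    haveI : (𝔐.F k).IsQuasicoherent := (h𝔐 k).1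
    haveI := h𝔛.2.2 k
    haveI : IsNoetherianRing Γ(𝔛.X k, 𝔛.lvU h𝔛.1 k W) := Levels.isNoetherianRing_B h𝔛 hW k
    let φk : (Fin n → Γ(𝔛.X k, 𝔛.lvU h𝔛.1 k W)) →ₗ[Γ(𝔛.X k, 𝔛.lvU h𝔛.1 k W)]
        Γ(𝔐.F k, 𝔛.lvU h𝔛.1 k W) := Fintype.linearCombination _ (CohPres.levGen h𝔛 𝔐 f k)
    have hφk : ∀ c, φk c = ∑ i, c i • CohPres.levGen h𝔛 𝔐 f k i := fun c =>
      Fintype.linearCombination_apply _ _ c
    obtain ⟨l, ρ, hρ⟩ := Submodule.fg_iff_exists_fin_generating_family.1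
      (IsNoetherian.noetherian (LinearMap.ker φk))
    have hρex : ∀ c : Fin n → Γ(𝔛.X k, 𝔛.lvU h𝔛.1 k W), ∑ i, c i • CohPres.levGen h𝔛 𝔐 f k i = 0 →
        ∃ d : Fin l → Γ(𝔛.X k, 𝔛.lvU h𝔛.1 k W), ∀ i, c i = ∑ j, d j * ρ j i := by
      intro c hc
      rw [← hφk, ← LinearMap.mem_ker, ← hρ, Submodule.mem_span_range_iff_exists_fun] at hc
      obtain ⟨d, hd⟩ := hc
      exact ⟨d, fun i => by rw [← hd]; simp⟩
    -- lift the relations at level `k` and correct them by Artin–Rees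
    have hcor : ∀ j, ∃ (d : Fin m → Levels.A 𝔛 h𝔛.1 W) (b : Fin n → Levels.A 𝔛 h𝔛.1 W),
        (∀ i, b i ∈ Levels.J (h := h𝔛.1) W ^ (k + 1 - s)) ∧
          ∀ i, Levels.proj 𝔛 h𝔛.1 k W (∑ j', d j' * r j' i + b i) = ρ j i := by
      intro j
      choose c hc using fun i => ((Levels.adic h𝔛 hW).2.1 k).1 (ρ j i)
      have hρ0 : φk (ρ j) = 0 := LinearMap.mem_ker.1 (hρ ▸ Submodule.subset_span ⟨j, rfl⟩)
      have h1 : φ c ∈ Levels.J (h := h𝔛.1) W ^ (k + 1) • ⊤ ⊓ LinearMap.range φ := by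
        refine ⟨((CohSys.main h𝔛 𝔐 h𝔐 hW).2.2 k).2.le (LinearMap.mem_ker.2 ?_), ⟨c, rfl⟩⟩
        refine (congrArg (π h𝔛.1 𝔐.F 𝔐.toPush k W) (Fintype.linearCombination_apply _ f c)).trans ?_
        refine (CohPres.π_sum h𝔛.1 𝔐.F 𝔐.toPush k c f).trans (Eq.trans ?_ ((hφk _).symm.trans hρ0))
        exact Finset.sum_congr rfl fun i _ => congrArg (fun q : Γ(𝔛.X k, 𝔛.lvU h𝔛.1 k W) =>
          q • (show Γ(𝔐.F k, 𝔛.lvU h𝔛.1 k W) from CohPres.levGen h𝔛 𝔐 f k i)) (hc i)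
      rw [hs (k + 1) (by omega)] at h1
      have h2 : φ c ∈ (Levels.J (h := h𝔛.1) W ^ (k + 1 - s) •
          (⊤ : Submodule _ (Fin n → Levels.A 𝔛 h𝔛.1 W))).map φ := by
        rw [Submodule.map_smul'', Submodule.map_top]
        exact Submodule.smul_mono le_rfl inf_le_right h1
      obtain ⟨b, hb, hbc⟩ := h2
      obtain ⟨d, hd⟩ := hex (c - b) (by
        rw [← Fintype.linearCombination_apply]
        show φ (c - b) = 0
        rw [map_sub, hbc, sub_self])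
      refine ⟨d, b, Adic.Complete.mem_of_mem_smul_top_pi hb, fun i => ?_⟩
      rw [← hc i]
      refine congrArg _ ?_
      have := hd i
      simp only [Pi.sub_apply] at this
      rw [← this, sub_add_cancel]
    choose d b hb hdb using hcor
    obtain ⟨hp, hpk⟩ := (Levels.adic h𝔛 hV).2.1 k
    obtain ⟨d', hd'⟩ := SchPres.exact_of_affine_le (𝔐.F k)
      (OshBasic.isAffineOpen_lvU 𝔛 h𝔛.1 k hW) (CohPres.levGen h𝔛 𝔐 f k) ρ hρex
      (OshBasic.isAffineOpen_lvU 𝔛 h𝔛.1 k hV) (CohPres.lvU_mono h𝔛.1 k e)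
      (fun i => Levels.proj 𝔛 h𝔛.1 k V (a i)) (by
        refine Eq.trans ?_ ((CohPres.π_sum h𝔛.1 𝔐.F 𝔐.toPush k a _).symm.trans
          ((congrArg (π h𝔛.1 𝔐.F 𝔐.toPush k V) ha).trans (map_zero _)))
        exact Finset.sum_congr rfl fun i _ =>
          congrArg (_ • ·) (CohPres.π_res h𝔛.1 𝔐.F 𝔐.toPush k e (f i)).symm)
    choose δ hδ using fun j => hp (d' j)
    let D : Fin m → Levels.A 𝔛 h𝔛.1 V := fun j' => ∑ j, δ j * CohPres.resA h𝔛.1 e (d j j')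
    have hmem : ∀ i, a i - ∑ j', D j' * CohPres.resA h𝔛.1 e (r j' i) ∈
        Levels.J (h := h𝔛.1) V ^ t := by
      intro i
      have h1 : a i - ∑ j, δ j * CohPres.resA h𝔛.1 e (∑ j', d j j' * r j' i + b j i) ∈
          Levels.J (h := h𝔛.1) V ^ (k + 1) := by
        rw [← hpk, RingHom.mem_ker, map_sub, sub_eq_zero, map_sum]
        refine (hd' i).trans (Finset.sum_congr rfl fun j _ => ?_)
        rw [map_mul, hδ, CohPres.proj_resA, hdb]
      have h2 : ∑ j, δ j * CohPres.resA h𝔛.1 e (b j i) ∈ Levels.J (h := h𝔛.1) V ^ t :=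
        Ideal.sum_mem _ fun j _ => Ideal.mul_mem_left _ _
          (resA_mem_pow h𝔛 hW hV e t (Ideal.pow_le_pow_right (by omega) (hb j i)))
      have h3 := add_mem (Ideal.pow_le_pow_right (show t ≤ k + 1 by omega) h1) h2
      convert h3 using 1
      simp only [D, map_add, map_sum, map_mul, mul_add, Finset.sum_add_distrib, Finset.sum_mul,
        Finset.mul_sum]
      rw [Finset.sum_comm]
      simp only [mul_assoc]
      ring
    have h1 := Submodule.mem_map_of_mem (f := S.mkQ)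
      (Adic.Complete.mem_smul_top_pi (x := a - Fintype.linearCombination _
        (fun j i => CohPres.resA h𝔛.1 e (r j i)) D) fun i => by
          simpa [Fintype.linearCombination_apply] using hmem i)
    rw [Submodule.map_smul''] at h1
    have h2 := Submodule.smul_mono le_rfl le_top h1
    rw [map_sub] at h2
    have h3 : S.mkQ (Fintype.linearCombination _ (fun j i => CohPres.resA h𝔛.1 e (r j i)) D) = 0 :=
      (Submodule.Quotient.mk_eq_zero S).2 ⟨D, rfl⟩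
    rw [h3, sub_zero] at h2
    exact SModEq.zero.2 h2
  obtain ⟨D, hD⟩ := (Submodule.Quotient.mk_eq_zero S).1 hS
  exact ⟨D, fun i => by rw [← hD]; simp [Fintype.linearCombination_apply]⟩

end Sys

section Coherent

variable {F : FSch.ModF 𝔛 h𝔛.1} (hF : FSch.IsCohF 𝔛 h𝔛.1 F)

include hF in
theorem θ_bijective (V : (𝔛.X 0).Opens) :
    Function.Bijective (secMap h𝔛.1 (CohF.θ F) V) := by
  haveI := CohF.isIso_θ h𝔛 F hF
  exact ConcreteCategory.bijective_of_isIso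
    ((SheafOfModules.evaluation (ModSite.ringSh (𝔛.Osh h𝔛.1)) (op V)).map (CohF.θ F))

include hF in
/-- Sections of a coherent module on an affine open form a finite module. -/
theorem finite_sec (hV : IsAffineOpen V) : Module.Finite (Levels.A 𝔛 h𝔛.1 V) (sec h𝔛.1 F V) := by
  haveI := (CohSys.main h𝔛 _ (CohF.isCoh_sys h𝔛 F hF) hV).1
  exact Module.Finite.equiv
    (LinearEquiv.ofBijective (secMap h𝔛.1 (CohF.θ F) V) (θ_bijective h𝔛 hF V)).symm

include hF in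
/-- The unit is surjective on affine opens, with kernel `J^(k+1) • F`. -/
theorem η_spec (hV : IsAffineOpen V) (k : ℕ) :
    Function.Surjective (LevelPull.η h𝔛.1 k F V) ∧
      LinearMap.ker (LevelPull.η h𝔛.1 k F V) =
        Levels.J (h := h𝔛.1) V ^ (k + 1) • (⊤ : Submodule _ (sec h𝔛.1 F V)) := by
  obtain ⟨hs, hk⟩ := (CohSys.main h𝔛 _ (CohF.isCoh_sys h𝔛 F hF) hV).2.2 k
  have hb := θ_bijective h𝔛 hF V
  have hcomp : LevelPull.η h𝔛.1 k F V =
      (π h𝔛.1 _ _ k V).comp (secMap h𝔛.1 (CohF.θ F) V) :=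
    LinearMap.ext fun x => (CohF.π_θ F k V x).symm
  refine ⟨?_, ?_⟩
  · rw [hcomp]
    exact hs.comp hb.2
  · ext x
    rw [LinearMap.mem_ker, hcomp]
    refine (Iff.trans (LinearMap.mem_ker).symm (SetLike.ext_iff.1 hk (secMap h𝔛.1 (CohF.θ F) V x))).trans ?_
    have himg : (Levels.J (h := h𝔛.1) V ^ (k + 1) • (⊤ : Submodule _ (sec h𝔛.1 F V))).map
        (secMap h𝔛.1 (CohF.θ F) V) = Levels.J (h := h𝔛.1) V ^ (k + 1) • ⊤ := by
      rw [Submodule.map_smul'', Submodule.map_top, LinearMap.range_eq_top.2 hb.2]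
    constructor
    · intro hx
      obtain ⟨y, hy, he⟩ := himg.ge hx
      exact hb.1 he ▸ hy
    · intro hx
      exact himg.le ⟨x, hx, rfl⟩

include hF in
/-- Generators over an affine open generate over smaller affine opens. -/
theorem gen_of_le (hW : IsAffineOpen W) {n : ℕ} (f : Fin n → sec h𝔛.1 F W)
    (hf : ∀ x, ∃ a : Fin n → Levels.A 𝔛 h𝔛.1 W, x = ∑ i, a i • f i)
    (hV : IsAffineOpen V) (e : V ≤ W) (x : sec h𝔛.1 F V) :
    ∃ a : Fin n → Levels.A 𝔛 h𝔛.1 V, x = ∑ i, a i • CohPres.resF h𝔛.1 F e (f i) := by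
  have hcoh := CohF.isCoh_sys h𝔛 F hF
  have hb := θ_bijective h𝔛 hF
  haveI := Levels.isNoetherianRing_A h𝔛 hW
  let f' := fun i => secMap h𝔛.1 (CohF.θ F) W (f i)
  let φ : (Fin n → Levels.A 𝔛 h𝔛.1 W) →ₗ[Levels.A 𝔛 h𝔛.1 W]
      sec h𝔛.1 ((CohF.sys F).realMod h𝔛.1) W := Fintype.linearCombination _ f'
  have hφ : ∀ a, φ a = ∑ i, a i • f' i := fun a => Fintype.linearCombination_apply _ f' a
  obtain ⟨m, r, hr⟩ := Submodule.fg_iff_exists_fin_generating_family.1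
    (IsNoetherian.noetherian (LinearMap.ker φ))
  have hg : CohPres.Gens h𝔛 (CohF.sys F) f' r := by
    refine ⟨fun y => ?_, fun j => ?_, fun a ha => ?_⟩
    · obtain ⟨x', rfl⟩ := (hb W).2 y
      obtain ⟨a, rfl⟩ := hf x'
      exact ⟨a, by simp only [map_sum, map_smul]; rfl⟩
    · rw [← hφ]
      exact LinearMap.mem_ker.1 (hr ▸ Submodule.subset_span ⟨j, rfl⟩)
    · rw [← hφ, ← LinearMap.mem_ker, ← hr, Submodule.mem_span_range_iff_exists_fun] at ha
      obtain ⟨d, hd⟩ := ha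
      exact ⟨d, fun i => by rw [← hd]; simp⟩
  obtain ⟨a, ha⟩ := CohPres.gen_of_le h𝔛 (CohF.sys F) hcoh
    (CohPres.isPres_lev h𝔛 (CohF.sys F) hcoh hW hg) hV e (secMap h𝔛.1 (CohF.θ F) V x)
  refine ⟨a, (hb V).1 (ha.trans ?_)⟩
  rw [map_sum]
  exact Finset.sum_congr rfl fun i _ =>
    ((map_smul _ _ _).trans (congrArg (_ • ·) (LevelAdj.secMap_map (CohF.θ F) e (f i)))).symm

include hF in
/-- The kernel of a map of coherent modules is generated by its sections over affine opens. -/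
theorem rel_of_le (hW : IsAffineOpen W) {n m : ℕ} (f : Fin n → sec h𝔛.1 F W)
    (r : Fin m → Fin n → Levels.A 𝔛 h𝔛.1 W)
    (hex : ∀ a : Fin n → Levels.A 𝔛 h𝔛.1 W, ∑ i, a i • f i = 0 →
      ∃ d : Fin m → Levels.A 𝔛 h𝔛.1 W, ∀ i, a i = ∑ j, d j * r j i)
    (hV : IsAffineOpen V) (e : V ≤ W) (a : Fin n → Levels.A 𝔛 h𝔛.1 V)
    (ha : ∑ i, a i • CohPres.resF h𝔛.1 F e (f i) = 0) :
    ∃ d : Fin m → Levels.A 𝔛 h𝔛.1 V, ∀ i, a i = ∑ j, d j * CohPres.resA h𝔛.1 e (r j i) := by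
  refine relations_of_le h𝔛 _ (CohF.isCoh_sys h𝔛 F hF) hW
    (fun i => secMap h𝔛.1 (CohF.θ F) W (f i)) r (fun c hc => hex c ((θ_bijective h𝔛 hF W).1 ?_))
    hV e a ?_
  · rw [map_zero, ← hc]
    simp only [map_sum, map_smul]
  · refine Eq.trans ?_ ((congrArg (secMap h𝔛.1 (CohF.θ F) V) ha).trans (map_zero _))
    rw [map_sum]
    exact Finset.sum_congr rfl fun i _ =>
      ((map_smul _ _ _).trans (congrArg (_ • ·) (LevelAdj.secMap_map (CohF.θ F) e (f i)))).symm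

end Coherent

end Groth.Agent.H30.CohExact
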