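import Groth.Agent.H30.FSch.LevelCoh
import Groth.Agent.H30.FSch.CohSerre
import Groth.Prelude.Def_FTors2

/-!
# Coherent torsion modules on a Noetherian formal scheme (helper30)
-/

set_option autoImplicit false
set_option linter.style.haveILetI false
set_option linter.unusedSectionVars false

universe u

open CategoryTheory CategoryTheory.Limits AlgebraicGeometry TopologicalSpace Opposite
open Groth.Agent.H30 Groth.Agent.H30.RealLimSec Groth.Agent.Lib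

namespace Groth.Agent.H30.TorsCoh

variable {𝔛 : FSch.Sys.{u}}

section Basic

variable {h : 𝔛.IsFormal}

/-- Sections vanishing locally vanish. -/
theorem eq_zero_of_locally (M : FSch.ModF 𝔛 h) {U : (𝔛.X 0).Opens} (x : sec h M U)
    (hx : ∀ z ∈ U, ∃ (V : (𝔛.X 0).Opens) (e : V ≤ U), z ∈ V ∧ CohPres.resF h M e x = 0) : x = 0 :=
  TopCat.Presheaf.section_ext (C := AddCommGrpCat.{u}) (X := (𝔛.X 0).carrier)
    ((SheafOfModules.toSheaf (ModSite.ringSh (𝔛.Osh h))).obj M) U _ _ fun z hz => by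
      obtain ⟨V, e, hzV, he⟩ := hx z hz
      exact TopCat.Presheaf.germ_ext (C := AddCommGrpCat.{u}) (X := (𝔛.X 0).carrier)
        ((SheafOfModules.toSheaf (ModSite.ringSh (𝔛.Osh h))).obj M).obj V hzV (homOfLE e) (homOfLE e)
        (he.trans (map_zero _).symm)

theorem resF_resF (M : FSch.ModF 𝔛 h) {U V W : (𝔛.X 0).Opens} (e : V ≤ U) (e' : W ≤ V) (x : sec h M U) :
    CohPres.resF h M e' (CohPres.resF h M e x) = CohPres.resF h M (e'.trans e) x :=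
  PresSh.res_res M e e' x

/-- Killed by the `n`-th open ideal. -/
def Killed (n : ℕ) (M : FSch.ModF 𝔛 h) {U : (𝔛.X 0).Opens} (x : sec h M U) : Prop :=
  ∀ (V : (𝔛.X 0).Opens) (e : V ≤ U) (a : Levels.A 𝔛 h V), Levels.proj 𝔛 h n V a = 0 →
    a • CohPres.resF h M e x = 0

theorem killed_iff (n : ℕ) (M : FSch.ModF 𝔛 h) {U : (𝔛.X 0).Opens} (x : sec h M U) :
    FTors.KilledBy (FTors.openIdealFam 𝔛 h) M n x ↔ Killed n M x :=
  ⟨fun hx _ e a ha => hx (homOfLE e) a (RingHom.mem_ker.2 ha),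
    fun hx W g a ha => hx W (leOfHom g) a (RingHom.mem_ker.1 ha)⟩

theorem Killed.mono {n m : ℕ} (hnm : n ≤ m) {M : FSch.ModF 𝔛 h} {U : (𝔛.X 0).Opens} {x : sec h M U}
    (hx : Killed n M x) : Killed m M x :=
  (killed_iff m M x).1 (((killed_iff n M x).2 hx).mono hnm)

theorem Killed.of_locally {n : ℕ} {M : FSch.ModF 𝔛 h} {U : (𝔛.X 0).Opens} {x : sec h M U}
    (hx : ∀ z ∈ U, ∃ (V : (𝔛.X 0).Opens) (e : V ≤ U), z ∈ V ∧ Killed n M (CohPres.resF h M e x)) :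
    Killed n M x := fun V e a ha => by
  refine eq_zero_of_locally M _ fun z hz => ?_
  obtain ⟨W, eW, hzW, hW⟩ := hx z (e hz)
  refine ⟨V ⊓ W, inf_le_left, ⟨hz, hzW⟩, ?_⟩
  rw [CohPres.resF_smul, resF_resF]
  have h1 := hW (V ⊓ W) inf_le_right (CohPres.resA h inf_le_left a)
    ((CohPres.proj_resA h n inf_le_left a).trans ((congrArg _ ha).trans (map_zero _)))
  rw [resF_resF] at h1
  exact h1

theorem exists_killed_of_isTorsSect {M : FSch.ModF 𝔛 h} {U : (𝔛.X 0).Opens} (x : sec h M U)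
    (hx : FTors.IsTorsSect (FTors.openIdealFam 𝔛 h) M x) (z : 𝔛.X 0) (hz : z ∈ U) :
    ∃ (V : (𝔛.X 0).Opens) (e : V ≤ U) (n : ℕ), z ∈ V ∧ Killed n M (CohPres.resF h M e x) := by
  obtain ⟨V, g, ⟨n, hn⟩, hzV⟩ := hx z hz
  exact ⟨V, leOfHom g, n, hzV, (killed_iff n M _).1 hn⟩

/-- A torsion section over a compact open is killed by one open ideal. -/
theorem exists_killed {M : FSch.ModF 𝔛 h} {U : (𝔛.X 0).Opens} (hU : IsCompact (U : Set (𝔛.X 0)))
    (x : sec h M U) (hx : FTors.IsTorsSect (FTors.openIdealFam 𝔛 h) M x) : ∃ n, Killed n M x := by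
  choose V e n hzV hV using fun z : U => exists_killed_of_isTorsSect x hx z.1 z.2
  obtain ⟨t, ht⟩ := hU.elim_finite_subcover (fun z : U => (V z : Set (𝔛.X 0))) (fun z => (V z).2)
    fun z hz => Set.mem_iUnion.2 ⟨⟨z, hz⟩, hzV ⟨z, hz⟩⟩
  refine ⟨t.sup n, Killed.of_locally fun z hz => ?_⟩
  obtain ⟨w, hw, hzw⟩ := Set.mem_iUnion₂.1 (ht hz)
  exact ⟨V w, e w, hzw, (hV w).mono (Finset.le_sup hw)⟩

end Basic

variable (h𝔛 : 𝔛.IsLocNoethFormal)

/-- Coherent modules killed by a power of the ideal of definition. -/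
def Bdd : ObjectProperty (FSch.ModF 𝔛 h𝔛.1) := fun M =>
  FSch.IsCohF 𝔛 h𝔛.1 M ∧ ∃ n : ℕ, ∀ V : (𝔛.X 0).Opens, IsAffineOpen V →
    Levels.J (h := h𝔛.1) V ^ (n + 1) • (⊤ : Submodule (Levels.A 𝔛 h𝔛.1 V) (sec h𝔛.1 M V)) = ⊥

theorem bdd_of_isTors [CompactSpace (𝔛.X 0)] (M : FSch.ModF 𝔛 h𝔛.1) (hM : FSch.IsCohF 𝔛 h𝔛.1 M)
    (ht : FTors.IsTorsF 𝔛 h𝔛.1 M) : Bdd h𝔛 M := by
  classical
  refine ⟨hM, ?_⟩
  choose W hW hxW using fun x : 𝔛.X 0 => CohCons.exists_affine (𝔛 := 𝔛) x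
  obtain ⟨t, htc⟩ := isCompact_univ.elim_finite_subcover (fun x => (W x : Set (𝔛.X 0))) (fun x => (W x).2)
    fun x _ => Set.mem_iUnion.2 ⟨x, hxW x⟩
  choose l g hg using fun x => CohCons.exists_fin_gens h𝔛 (hW x) hM
  choose N hN using fun (p : Σ x : 𝔛.X 0, Fin (l x)) =>
    exists_killed (hW p.1).isCompact (g p.1 p.2) (ht _ _)
  let m := t.sup fun x => Finset.univ.sup fun i => N ⟨x, i⟩
  refine ⟨m, fun V hV => le_bot_iff.1 (Submodule.smul_le.2 fun a ha s _ => (Submodule.mem_bot _).2 ?_)⟩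
  refine eq_zero_of_locally M _ fun z hz => ?_
  obtain ⟨x, hx, hzx⟩ := Set.mem_iUnion₂.1 (htc (Set.mem_univ z))
  obtain ⟨V', hV', hzV', hle⟩ := Opens.isBasis_iff_nbhd.1 (CohPres.isBasis_affine (𝔛.X 0))
    (show z ∈ V ⊓ W x from ⟨hz, hzx⟩)
  obtain ⟨c, hc⟩ := CohExact.gen_of_le h𝔛 hM (hW x) (g x) (hg x) hV' (hle.trans inf_le_right)
    (CohPres.resF h𝔛.1 M (hle.trans inf_le_left) s)
  refine ⟨V', hle.trans inf_le_left, hzV', ?_⟩
  rw [CohPres.resF_smul, hc, Finset.smul_sum]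
  refine Finset.sum_eq_zero fun i _ => ?_
  rw [smul_comm]
  have hk : Killed m M (g x i) := (hN ⟨x, i⟩).mono
    ((Finset.le_sup (f := fun i => N ⟨x, i⟩) (Finset.mem_univ i)).trans
      (Finset.le_sup (f := fun x => Finset.univ.sup fun i => N ⟨x, i⟩) hx))
  rw [hk V' (hle.trans inf_le_right) _ (RingHom.mem_ker.1
    (((Levels.adic h𝔛 hV').2.1 m).2.symm ▸ CohExact.resA_mem_pow h𝔛 hV hV' _ (m + 1) ha)), smul_zero]

theorem smul_eq_zero_of_bot {R : Type*} [CommRing R] {N : Type*} [AddCommGroup N] [Module R N] {I : Ideal R}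
    (h : I • (⊤ : Submodule R N) = ⊥) {a : R} (ha : a ∈ I) (x : N) : a • x = 0 :=
  (Submodule.mem_bot R).1 (h ▸ Submodule.smul_mem_smul ha (Submodule.mem_top : x ∈ (⊤ : Submodule R N)))

theorem isWeakSerre : WSerre.IsWeakSerre (Bdd h𝔛) := by
  have hiso : ∀ {F G : FSch.ModF 𝔛 h𝔛.1} (_ : F ≅ G), Bdd h𝔛 F → Bdd h𝔛 G := fun {F G} e ⟨hF, n, hn⟩ => by
    refine ⟨CohSerre.isCohF_of_iso h𝔛 e hF, n, fun V hV => le_bot_iff.1 ?_⟩
    refine Submodule.smul_le.2 fun a ha s _ => (Submodule.mem_bot _).2 ?_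
    have h1 : a • secMap h𝔛.1 e.inv V s = 0 := smul_eq_zero_of_bot (hn V hV) ha _
    rw [← map_smul] at h1
    exact CohCons.secMap_injective e.inv V (h1.trans (map_zero _).symm)
  have hker : ∀ {F G : FSch.ModF 𝔛 h𝔛.1} (φ : F ⟶ G), Bdd h𝔛 F → Bdd h𝔛 G → Bdd h𝔛 (kernel φ) :=
    fun φ ⟨hF, n, hn⟩ hG => ⟨CohSerre.isCohF_kernel h𝔛 φ hF hG.1, n, fun V hV => le_bot_iff.1
      (Submodule.smul_le.2 fun a ha s _ => (Submodule.mem_bot _).2
        (CohCons.secMap_injective (kernel.ι φ) V (((map_smul _ a s).trans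
          (smul_eq_zero_of_bot (hn V hV) ha _)).trans (map_zero _).symm)))⟩
  have hcoker : ∀ {F G : FSch.ModF 𝔛 h𝔛.1} (φ : F ⟶ G), Bdd h𝔛 F → Bdd h𝔛 G → Bdd h𝔛 (cokernel φ) := by
    intro F G φ hF ⟨hG, n, hn⟩
    have hC := CohSerre.isCohF_cokernel h𝔛 φ hF.1 hG
    have hSE : (ShortComplex.mk (kernel.ι (cokernel.π φ)) (cokernel.π φ) (kernel.condition _)).ShortExact :=
      ShortComplex.ShortExact.mk' (ShortComplex.exact_kernel _) inferInstance inferInstance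
    refine ⟨hC, n, fun V hV => le_bot_iff.1 (Submodule.smul_le.2 fun a ha s _ => (Submodule.mem_bot _).2 ?_)⟩
    obtain ⟨t, rfl⟩ := Groth.Agent.H22.IndColim.surjective_of_ind h𝔛 hSE
      (ObjectProperty.le_ind _ _ (CohSerre.isCohF_kernel h𝔛 _ hG hC)) hV s
    rw [← map_smul, smul_eq_zero_of_bot (hn V hV) ha t]
    exact map_zero _
  refine { exists_zero := ?_, kernels_le := ?_, cokernels_le := ?_, prop_X₂_of_shortExact := ?_ }
  · have hz : IsZero (kernel (𝟙 (FSch.unitF 𝔛 h𝔛.1))) := isZero_kernel_of_mono _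
    refine ⟨_, hz, CohSerre.isCohF_kernel h𝔛 _ CohCons.isCohF_unit CohCons.isCohF_unit, 0,
      fun V hV => le_bot_iff.1 (Submodule.smul_le.2 fun a ha s _ => (Submodule.mem_bot _).2 ?_)⟩
    exact (congrArg (fun ψ => secMap h𝔛.1 ψ V (a • s)) (hz.eq_of_src (𝟙 _) 0)).trans rfl
  · exact fun _ ⟨_, k, hk, hf⟩ => hiso ((limit.isLimit _).conePointUniqueUpToIso hk) (hker _ hf.1 hf.2)
  · exact fun _ ⟨_, k, hk, hf⟩ => hiso ((colimit.isColimit _).coconePointUniqueUpToIso hk) (hcoker _ hf.1 hf.2)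
  · intro S hS ⟨h₁, n, hn⟩ ⟨h₃, m, hm⟩
    refine ⟨CohSerre.isCohF_ext h𝔛 hS h₁ h₃, n + m + 1, fun V hV => le_bot_iff.1 ?_⟩
    rw [show n + m + 1 + 1 = (n + 1) + (m + 1) by omega, pow_add, Submodule.mul_smul]
    refine (Submodule.smul_mono le_rfl (fun y hy => ?_ :
      Levels.J (h := h𝔛.1) V ^ (m + 1) • (⊤ : Submodule (Levels.A 𝔛 h𝔛.1 V) (sec h𝔛.1 S.X₂ V)) ≤
        LinearMap.range (secMap h𝔛.1 S.f V))).trans ?_
    · obtain ⟨t, ht⟩ := Groth.Agent.H22.IndColim.exists_lift h𝔛 hS y (by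
        have h2 := Submodule.mem_map_of_mem (f := secMap h𝔛.1 S.g V) hy
        rw [Submodule.map_smul''] at h2
        exact (Submodule.mem_bot _).1 (hm V hV ▸ Submodule.smul_mono le_rfl le_top h2))
      exact ⟨t, ht⟩
    · rw [← Submodule.map_top, ← Submodule.map_smul'', hn V hV, Submodule.map_bot]

end Groth.Agent.H30.TorsCoh
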