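import Groth.Agent.Lib.TowerExt.Opens
import Groth.Agent.Lib.MLSeq.Basic

/-!
# Cohomology of the limit of a tower of abelian sheaves (helper30)
-/

set_option autoImplicit false
set_option linter.unusedSectionVars false

universe u

open CategoryTheory CategoryTheory.Limits CategoryTheory.Abelian Opposite TopologicalSpace
open Groth.Agent.Lib

namespace Groth.Agent.H30.HTower

variable {T : TopCat.{u}}

/-- The constant sheaf `ℤ`, whose `Ext` groups are cohomology. -/
noncomputable abbrev cst (T : TopCat.{u}) : CohTop.Ab T :=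
  (constantSheaf (Opens.grothendieckTopology T) AddCommGrpCat.{u}).obj (AddCommGrpCat.of (ULift.{u} ℤ))

namespace Gen

variable {C : Type (u + 1)} [Category.{u} C] [Abelian C] [HasExt.{u} C] [HasProductsOfShape ℕ C] (P : C)

/-- An isomorphism on `Ext` groups. -/
noncomputable def isoEquiv {F G : C} (e : F ≅ G) (i : ℕ) : Ext P F i ≃+ Ext P G i :=
  AddMonoidHom.toAddEquiv ((Ext.mk₀ e.hom).postcomp P (add_zero i)) ((Ext.mk₀ e.inv).postcomp P (add_zero i))
    (AddMonoidHom.ext fun x => by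
      show Ext.comp (Ext.comp x _ (add_zero i)) _ (add_zero i) = x
      rw [Ext.comp_assoc_of_second_deg_zero, Ext.mk₀_comp_mk₀, e.hom_inv_id, Ext.comp_mk₀_id])
    (AddMonoidHom.ext fun x => by
      show Ext.comp (Ext.comp x _ (add_zero i)) _ (add_zero i) = x
      rw [Ext.comp_assoc_of_second_deg_zero, Ext.mk₀_comp_mk₀, e.inv_hom_id, Ext.comp_mk₀_id])

theorem map_comp {F G K : C} (a : F ⟶ G) (b : G ⟶ K) (i : ℕ) (x : Ext P F i) :
    (x.comp (Ext.mk₀ a) (add_zero i)).comp (Ext.mk₀ b) (add_zero i) = x.comp (Ext.mk₀ (a ≫ b)) (add_zero i) := by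
  rw [Ext.comp_assoc_of_second_deg_zero, Ext.mk₀_comp_mk₀]

variable (G : ℕᵒᵖ ⥤ C)

/-- The compatible families. -/
noncomputable def fam (i : ℕ) : AddSubgroup (∀ n, Ext P (G.obj (op n)) i) where
  carrier := {y | ∀ n, (y (n + 1)).comp (Ext.mk₀ (G.map (homOfLE (Nat.le_succ n)).op)) (add_zero i) = y n}
  zero_mem' := fun n => by simp only [Pi.zero_apply, Ext.zero_comp]
  add_mem' := fun {a b} ha hb n => (Ext.add_comp _ _ _ _).trans (congrArg₂ (· + ·) (ha n) (hb n))
  neg_mem' := fun {a} ha n => (Ext.neg_comp _ _ _).trans (congrArg Neg.neg (ha n))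

theorem proj_mem [HasLimit G] (i : ℕ) (x : Ext P (limit G) i) :
    (fun n => x.comp (Ext.mk₀ (limit.π G (op n))) (add_zero i)) ∈ fam P G i := fun n => by
  show (x.comp (Ext.mk₀ (limit.π G (op (n + 1)))) (add_zero i)).comp _ (add_zero i) = _
  rw [map_comp, limit.w]

/-- To the compatible families. -/
noncomputable def toFam [HasLimit G] (i : ℕ) : Ext P (limit G) i →+ fam P G i :=
  (TowerExt.limCompare G P i).codRestrict _ fun x => proj_mem P G i x

theorem zero_case [HasLimit G] (x : Ext P (limit G) 0)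
    (hx : ∀ n, x.comp (Ext.mk₀ (limit.π G (op n))) (add_zero 0) = 0) : x = 0 := by
  obtain ⟨f, rfl⟩ := (Ext.mk₀_bijective P (limit G)).2 x
  have hf : f = 0 := limit.hom_ext fun n => by
    obtain ⟨n⟩ := n
    have h := hx n
    rw [Ext.mk₀_comp_mk₀] at h
    rw [zero_comp]
    exact (Ext.mk₀_bijective _ _).1 (h.trans (Ext.mk₀_zero _ _).symm)
  rw [hf, Ext.mk₀_zero]

theorem bij_succ [HasLimit G] [EnoughInjectives C] {κ : Type u} {gen : κ → C} (hgen : TowerExt.Detects gen)
    (hF : ∀ n, TowerExt.Acyclic gen (TowerExt.obj G n))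
    (hsurj : ∀ k n (y : gen k ⟶ TowerExt.obj G n), ∃ x : gen k ⟶ TowerExt.obj G (n + 1), x ≫ TowerExt.trans G n = y)
    (i : ℕ)
    (hlim : ∀ j, j + 1 = i → Subsingleton (Formal2.limOne (fun n => Ext P (TowerExt.obj G n) j)
      (fun n => (Ext.mk₀ (TowerExt.trans G n)).postcomp P (add_zero j)))) :
    Function.Bijective (toFam P G i) := by
  refine ⟨(injective_iff_map_eq_zero _).2 fun x hx => ?_, ?_⟩
  · have hx' : ∀ n, x.comp (Ext.mk₀ (limit.π G (op n))) (add_zero i) = 0 :=
      fun n => congrFun (congrArg Subtype.val hx) n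
    cases i with
    | zero => exact zero_case P G x hx'
    | succ j =>
      obtain ⟨e⟩ := TowerExt.nonempty_ker_equiv G hgen hF hsurj P (j + 1) j rfl
      haveI := hlim j rfl
      have hmem : x ∈ (TowerExt.limCompare G P (j + 1)).ker := AddMonoidHom.mem_ker.2 (funext hx')
      exact congrArg Subtype.val (e.injective (Subsingleton.elim (e ⟨x, hmem⟩) (e 0)))
  · rintro ⟨y, hy⟩
    obtain ⟨η, hη⟩ := TowerExt.exists_limCompare_eq G hgen hF hsurj P i y hy
    exact ⟨η, Subtype.ext hη⟩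

end Gen

/-- An isomorphism of sheaves on cohomology. -/
noncomputable def hIso {F G : CohTop.Ab T} (e : F ≅ G) (i : ℕ) : Sheaf.H.{u} F i ≃+ Sheaf.H.{u} G i :=
  Gen.isoEquiv (cst T) e i

theorem map_comp {F G K : CohTop.Ab T} (a : F ⟶ G) (b : G ⟶ K) (i : ℕ) (x : Sheaf.H.{u} F i) :
    Sheaf.H.map b i (Sheaf.H.map a i x) = Sheaf.H.map (a ≫ b) i x :=
  Gen.map_comp (cst T) a b i x

variable (G : ℕᵒᵖ ⥤ CohTop.Ab T)

/-- The compatible families. -/
noncomputable abbrev limH (i : ℕ) : AddSubgroup (∀ n, Sheaf.H.{u} (G.obj (op n)) i) := Gen.fam (cst T) G i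

/-- To the limit of the cohomology groups. -/
noncomputable abbrev toLim [HasLimit G] (i : ℕ) : Sheaf.H.{u} (limit G) i →+ limH G i :=
  Gen.toFam (cst T) G i

/-- The system of cohomology groups. -/
noncomputable abbrev sys (i : ℕ) : ℕᵒᵖ ⥤ AddCommGrpCat.{u} :=
  G ⋙ Abelian.extFunctorObj.{u} (cst T) i

variable (B : Set (Opens T)) (hB : Opens.IsBasis B)
  (hsurj : ∀ V ∈ B, ∀ n : ℕ,
    Function.Surjective ((G.map (homOfLE (Nat.le_succ n)).op).hom.app (op V)).hom)
  (hvan : ∀ V ∈ B, ∀ (n i : ℕ), 0 < i → Subsingleton (CohTop.HU (G.obj (op n)) i V))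

include hB hsurj hvan in
theorem toLim_bijective (i : ℕ) (hML : ∀ j, j + 1 = i → MLSeq.Basic.ML (sys G j)) :
    Function.Bijective (toLim G i) :=
  Gen.bij_succ (cst T) G (TowerExt.Opens.detects B hB) (TowerExt.Opens.acyclic B G hvan)
    (TowerExt.Opens.lift_trans B G hsurj) i fun j hj =>
      TowerExt.Opens.subsingleton_limOne (sys G j) ((MLSeq.Basic.ml_iff _).2 (hML j hj))

end Groth.Agent.H30.HTower
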