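import Groth.Agent.H30.FSch.ProperML
import Groth.Agent.H30.ColimCoh.Main
import Groth.Agent.Lib.SiteMod.Basic
import Mathlib.CategoryTheory.ObjectProperty.Ind

/-!
# Coherent and ind-coherent modules are acyclic on affine opens of a formal scheme (helper30)
-/

set_option autoImplicit false
set_option linter.style.haveILetI false

universe u

open CategoryTheory CategoryTheory.Limits AlgebraicGeometry TopologicalSpace Opposite
open Groth.Agent.H30 Groth.Agent.H30.RealLimSec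
open Groth.Agent.Lib Groth.Agent.Lib.ZarCoh.Basic

namespace Groth.Agent.H30.AffAcyclic

variable {𝔛 : FSch.Sys.{u}} (h𝔛 : 𝔛.IsLocNoethFormal) {V : (𝔛.X 0).Opens} (hV : IsAffineOpen V)

include hV in
theorem subsingleton_limit (𝔐 : FSch.ModSys 𝔛) (h𝔐 : 𝔐.IsCoh) (i : ℕ) (hi : 0 < i) :
    Subsingleton (Abelian.Ext.{u} (Zs.obj V) (limit (GrLevel.G h𝔛 𝔐)) i) := by
  let B : Set (Opens (𝔛.X 0)) := {W | IsAffineOpen (W : (𝔛.X 0).Opens)}
  have hvan : ∀ W ∈ B, ∀ (k m : ℕ), 0 < m → Subsingleton (CohTop.HU ((GrLevel.G h𝔛 𝔐).obj (op k)) m W) :=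
    fun W hW k m hm => ProperML.acyclic h𝔛 𝔐 h𝔐 hW k m hm
  have hsurj : ∀ W ∈ B, ∀ k : ℕ, Function.Surjective
      (((GrLevel.G h𝔛 𝔐).map (homOfLE (Nat.le_succ k)).op).hom.app (op W)).hom := fun W hW k y => by
    obtain ⟨x, hx⟩ := (CohSys.tr_spec h𝔛 𝔐 h𝔐 hW k).1 y
    exact ⟨x, (GrLevel.t_apply h𝔛 𝔐 k W x).trans hx⟩
  have hb := HTower.Gen.bij_succ (Zs.obj V) (GrLevel.G h𝔛 𝔐)
    (TowerExt.Opens.detects B (Scheme.isBasis_affineOpens _)) (TowerExt.Opens.acyclic B _ hvan)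
    (TowerExt.Opens.lift_trans B _ hsurj) i fun j hj => by
      refine TowerExt.Opens.subsingleton_limOne
        (GrLevel.G h𝔛 𝔐 ⋙ Abelian.extFunctorObj.{u} (Zs.obj V) j) ((MLSeq.Basic.ml_iff _).2 ?_)
      rcases Nat.eq_zero_or_pos j with rfl | hj0
      · intro n
        refine ⟨n, le_rfl, fun k hnk x => ?_⟩
        obtain ⟨d, rfl⟩ := Nat.exists_eq_add_of_le hnk
        induction d with
        | zero => exact AddMonoidHom.mem_range.2 ⟨x, rfl⟩
        | succ d ih =>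
          obtain ⟨y, hy⟩ := AddMonoidHom.mem_range.1 (ih (Nat.le_add_right n d))
          obtain ⟨g, rfl⟩ := TowerExt.mk₀_surjective y
          obtain ⟨g', hg'⟩ := TowerExt.Opens.lift_trans B _ hsurj ⟨V, hV⟩ (n + d) g
          refine AddMonoidHom.mem_range.2 ⟨Abelian.Ext.mk₀ g', ?_⟩
          refine Eq.trans ?_ hy
          show Abelian.Ext.comp (Abelian.Ext.mk₀ g') (Abelian.Ext.mk₀ _) (add_zero 0) =
            Abelian.Ext.comp (Abelian.Ext.mk₀ g) (Abelian.Ext.mk₀ _) (add_zero 0)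
          rw [Abelian.Ext.mk₀_comp_mk₀, Abelian.Ext.mk₀_comp_mk₀, ← hg', Category.assoc]
          exact congrArg (fun φ => Abelian.Ext.mk₀ (g' ≫ φ)) ((GrLevel.G h𝔛 𝔐).map_comp _ _)
      · intro n
        refine ⟨n, le_rfl, fun k hnk x => ?_⟩
        haveI : Subsingleton (Abelian.Ext.{u} (Zs.obj V) ((GrLevel.G h𝔛 𝔐).obj (op n)) j) := hvan V hV n j hj0
        exact AddMonoidHom.mem_range.2 ⟨0, Subsingleton.elim
          (α := Abelian.Ext.{u} (Zs.obj V) ((GrLevel.G h𝔛 𝔐).obj (op n)) j) _ _⟩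
  haveI : ∀ n, Subsingleton (Abelian.Ext.{u} (Zs.obj V) ((GrLevel.G h𝔛 𝔐).obj (op n)) i) := fun n =>
    hvan V hV n i hi
  exact hb.1.subsingleton

/-- The underlying sheaf of a coherent module is the limit of its levels. -/
theorem exists_iso_limit (F : FSch.ModF 𝔛 h𝔛.1) (hF : FSch.IsCohF 𝔛 h𝔛.1 F) :
    Nonempty ((SheafOfModules.toSheaf _).obj F ≅ limit (GrLevel.G h𝔛 (CohF.sys F))) := by
  haveI := CohF.isIso_θ h𝔛 F hF
  haveI hps : PreservesLimitsOfShape ℕᵒᵖ (SheafOfModules.toSheaf.{u} (ModSite.ringSh (𝔛.Osh h𝔛.1))) :=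
    (preservesSmallestLimits_of_preservesLimits
      (SheafOfModules.toSheaf.{u} (ModSite.ringSh (𝔛.Osh h𝔛.1)))).preservesLimitsOfShape
  haveI : PreservesLimit (FSch.levelSysOf 𝔛 h𝔛.1 (CohF.sys F).F (CohF.sys F).toPush)
      (SheafOfModules.toSheaf.{u} (ModSite.ringSh (𝔛.Osh h𝔛.1))) :=
    @PreservesLimitsOfShape.preservesLimit _ _ _ _ _ _ _ hps _
  exact ⟨(SheafOfModules.toSheaf _).mapIso (asIso (CohF.θ F)) ≪≫
    preservesLimitIso (SheafOfModules.toSheaf.{u} (ModSite.ringSh (𝔛.Osh h𝔛.1)))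
      (FSch.levelSysOf 𝔛 h𝔛.1 (CohF.sys F).F (CohF.sys F).toPush)⟩

include hV in
theorem subsingleton_isCohF (F : FSch.ModF 𝔛 h𝔛.1) (hF : FSch.IsCohF 𝔛 h𝔛.1 F) (i : ℕ) (hi : 0 < i) :
    Subsingleton (Abelian.Ext.{u} (Zs.obj V) ((SheafOfModules.toSheaf _).obj F) i) := by
  obtain ⟨e⟩ := exists_iso_limit h𝔛 F hF
  haveI := subsingleton_limit h𝔛 hV (CohF.sys F) (CohF.isCoh_sys h𝔛 F hF) i hi
  exact (HTower.Gen.isoEquiv (Zs.obj V) e i).toEquiv.subsingleton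

include hV in
theorem subsingleton_ind [PrespectralSpace (𝔛.X 0)] [QuasiSeparatedSpace (𝔛.X 0)]
    (F : FSch.ModF 𝔛 h𝔛.1)
    (hF : (ObjectProperty.ind.{u} fun 𝔊 : FSch.ModF 𝔛 h𝔛.1 => FSch.IsCohF 𝔛 h𝔛.1 𝔊) F) (i : ℕ) (hi : 0 < i) :
    Subsingleton (Abelian.Ext.{u} (Zs.obj V) ((SheafOfModules.toSheaf _).obj F) i) := by
  obtain ⟨J, _, _, pres, hp⟩ := hF
  haveI : PreservesColimitsOfSize.{u, u} (SheafOfModules.toSheaf.{u} (ModSite.ringSh (𝔛.Osh h𝔛.1))) :=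
    inferInstance
  let D := pres.diag ⋙ SheafOfModules.toSheaf.{u} (ModSite.ringSh (𝔛.Osh h𝔛.1))
  let e : colimit D ≅ (SheafOfModules.toSheaf _).obj F :=
    (colimit.isColimit D).coconePointUniqueUpToIso (isColimitOfPreserves (SheafOfModules.toSheaf _) pres.isColimit)
  have hc : IsCompact (V : Set (𝔛.X 0)) := hV.isCompact
  haveI : ∀ j, Subsingleton (Abelian.Ext.{u} (Zs.obj V) (D.obj j) i) := fun j =>
    subsingleton_isCohF h𝔛 hV (pres.diag.obj j) (hp j) i hi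
  haveI : Subsingleton (Abelian.Ext.{u} (Zs.obj V) (colimit D) i) := by
    refine subsingleton_of_forall_eq 0 fun x => ?_
    obtain ⟨j, y, rfl⟩ := (ColimCoh.Main.good (U := V) hc D i).1 x
    rw [show y = 0 from Subsingleton.elim (α := Abelian.Ext.{u} (Zs.obj V) (D.obj j) i) y 0]
    exact map_zero _
  exact (HTower.Gen.isoEquiv (Zs.obj V) e.symm i).toEquiv.subsingleton

end Groth.Agent.H30.AffAcyclic
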