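import Groth.Agent.Lib.TowerExt.Opens
import Mathlib.CategoryTheory.Sites.EpiMono

/-!
# Abelian sheaves and bases (helper30)
-/

set_option autoImplicit false

universe u

open CategoryTheory CategoryTheory.Limits Opposite TopologicalSpace

namespace Groth.Agent.H30.AbBasis

variable {T : TopCat.{u}} {F G : CohTop.Ab T} (φ : F ⟶ G) (B : Set (Opens T)) (hB : Opens.IsBasis B)

include hB in
theorem isLocallySurjective_of (h : ∀ V ∈ B, Function.Surjective (φ.hom.app (op V)).hom) :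
    Sheaf.IsLocallySurjective φ := by
  refine ⟨fun {U} s z hz => ?_⟩
  obtain ⟨V, hV, hzV, hVU⟩ := Opens.isBasis_iff_nbhd.1 hB hz
  obtain ⟨a, ha⟩ := h V hV (G.obj.map (homOfLE hVU).op s)
  exact ⟨V, homOfLE hVU, ⟨a, ha⟩, hzV⟩

include hB in
theorem epi_of (h : ∀ V ∈ B, Function.Surjective (φ.hom.app (op V)).hom) : Epi φ :=
  haveI := isLocallySurjective_of φ B hB h
  Sheaf.epi_of_isLocallySurjective φ

include hB in
theorem isIso_of (h : ∀ V ∈ B, Function.Bijective (φ.hom.app (op V)).hom) : IsIso φ := by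
  have := isLocallySurjective_of φ B hB fun V hV => (h V hV).2
  have : Sheaf.IsLocallyInjective φ := by
    refine ⟨fun {U} x y e z hz => ?_⟩
    obtain ⟨V, hV, hzV, hVU⟩ := Opens.isBasis_iff_nbhd.1 hB hz
    refine ⟨V, homOfLE hVU, ?_, hzV⟩
    refine (h V hV).1 ?_
    refine (NatTrans.naturality_apply φ.hom (homOfLE hVU).op x).trans ?_
    refine Eq.trans ?_ (NatTrans.naturality_apply φ.hom (homOfLE hVU).op y).symm
    exact congrArg _ e
  exact (Sheaf.isLocallyBijective_iff_isIso φ).1 ⟨‹_›, ‹_›⟩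

include hB in
theorem hom_ext {φ ψ : F ⟶ G} (h : ∀ V ∈ B, ∀ x, (φ.hom.app (op V)).hom x = (ψ.hom.app (op V)).hom x) :
    φ = ψ :=
  Sheaf.hom_ext (TopCat.Sheaf.hom_ext (F := F.obj) (F' := G) (B := fun V : B => V.1)
    (by simpa using hB) fun V => ConcreteCategory.hom_ext _ _ fun x => h V.1 V.2 x)

end Groth.Agent.H30.AbBasis
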