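import Groth.Agent.Lib.Adic.Complete

/-!
# Presentations of modules separated by a sequence of projections, over complete rings (helper30)
-/

set_option autoImplicit false
set_option linter.unusedSectionVars false
set_option linter.style.haveILetI false

universe u v w

open Submodule

namespace Groth.Agent.H30.AdicPres

open Groth.Agent.Lib.Adic

variable {A : Type u} [CommRing A] {J : Ideal A} {M : Type v} [AddCommGroup M] [Module A M]

/-- A submodule is finitely generated if a Noetherian image of it has kernel inside the ideal times it. -/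
theorem fg_of_ker_le [IsPrecomplete J A] [IsHausdorff J M] {T : Type w} [AddCommGroup T] [Module A T]
    [IsNoetherian A T] (p : M →ₗ[A] T) (K : Submodule A M) (h : ∀ x ∈ K, p x = 0 → x ∈ J • K) :
    K.FG := by
  classical
  obtain ⟨s, hs⟩ := IsNoetherian.noetherian (K.map p)
  have hl : ∀ y ∈ s, ∃ x ∈ K, p x = y := fun y hy => Submodule.mem_map.1 (hs ▸ subset_span hy)
  choose g hgK hg using hl
  let N : Submodule A M := span A (Set.range fun y : {y // y ∈ s} => g y.1 y.2)
  have hN : N.FG := fg_span (Set.finite_range _)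
  have hNK : N ≤ K := span_le.2 (by rintro _ ⟨y, rfl⟩; exact hgK _ _)
  have hmap : K.map p ≤ N.map p :=
    hs ▸ span_le.2 fun y hy => ⟨g y hy, subset_span ⟨⟨y, hy⟩, rfl⟩, hg y hy⟩
  have hKN : K ≤ N := Complete.le_of_le_sup_smul (I := J) hN hNK fun x hx => by
    obtain ⟨z, hz, hzx⟩ := Submodule.mem_map.1 (hmap (Submodule.mem_map_of_mem hx))
    refine mem_sup.2 ⟨z, hz, x - z, h _ (K.sub_mem hx (hNK hz)) ?_, add_sub_cancel z x⟩
    rw [map_sub, hzx, sub_self]
  exact le_antisymm hKN hNK ▸ hN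

section Seq

variable {T : ℕ → Type w} [∀ k, AddCommGroup (T k)] [∀ k, Module A (T k)] (pr : ∀ k, M →ₗ[A] T k)
  (hsep : ∀ x, (∀ k, pr k x = 0) → x = 0) (hJ : ∀ k, J ^ (k + 1) • (⊤ : Submodule A M) ≤ LinearMap.ker (pr k))

include hsep hJ in
theorem isHausdorff : IsHausdorff J M :=
  ⟨fun x hx => hsep x fun k => LinearMap.mem_ker.1 (hJ k (SModEq.zero.1 (hx (k + 1))))⟩

theorem ker_le {r : ℕ} {a : Fin r → A} (ha : ∀ i, a i ∈ J) {N : ℕ}
    (hdec : ∀ n, N ≤ n → ∀ x, pr (n + 1) x = 0 → ∃ y : Fin r → M, (∀ i, pr n (y i) = 0) ∧ x = ∑ i, a i • y i)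
    (s : ℕ) : LinearMap.ker (pr (N + s)) ≤ J ^ s • LinearMap.ker (pr N) := by
  induction s with
  | zero => rw [pow_zero, Ideal.one_eq_top, Submodule.top_smul, add_zero]
  | succ s ih =>
    intro x hx
    obtain ⟨y, hy, rfl⟩ := hdec (N + s) (Nat.le_add_right N s) x (LinearMap.mem_ker.1 hx)
    rw [pow_succ', Submodule.mul_smul]
    exact Submodule.sum_mem _ fun i _ => smul_mem_smul (ha i) (ih (LinearMap.mem_ker.2 (hy i)))

include hsep hJ in
theorem finite [IsPrecomplete J A] [∀ k, IsNoetherian A (T k)] {r : ℕ} {a : Fin r → A} (ha : ∀ i, a i ∈ J)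
    {N : ℕ}
    (hdec : ∀ n, N ≤ n → ∀ x, pr (n + 1) x = 0 → ∃ y : Fin r → M, (∀ i, pr n (y i) = 0) ∧ x = ∑ i, a i • y i) :
    Module.Finite A M := by
  haveI := isHausdorff pr hsep hJ
  have hK : (LinearMap.ker (pr N)).FG := fg_of_ker_le (J := J) (pr (N + 1)) _ fun x _ hx => by
    have := ker_le pr ha hdec 1 (LinearMap.mem_ker.2 hx)
    rwa [pow_one] at this
  refine ⟨Submodule.fg_of_fg_map_of_fg_inf_ker (pr N) (IsNoetherian.noetherian _) ?_⟩
  rwa [top_inf_eq]

variable (hmono : ∀ j k, j ≤ k → ∀ x, pr k x = 0 → pr j x = 0) {n m : ℕ}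
  (φ : (Fin n → A) →ₗ[A] M) (ρ : (Fin m → A) →ₗ[A] (Fin n → A)) {N : ℕ}
  (hker : ∀ k c, pr (k + N) (φ c) = 0 → c ∈ J ^ k • (⊤ : Submodule A (Fin n → A)) ⊔ LinearMap.range ρ)

include hker in
theorem ker_le_range [IsNoetherianRing A] [IsAdicComplete J A] (c : Fin n → A) (hc : φ c = 0) :
    c ∈ LinearMap.range ρ := by
  haveI : IsHausdorff J ((Fin n → A) ⧸ LinearMap.range ρ) :=
    IsHausdorff.of_le_jacobson _ _ (IsAdicComplete.le_jacobson_bot _)
  refine (Submodule.Quotient.mk_eq_zero _).1 (IsHausdorff.haus ‹IsHausdorff J _› _ fun k => ?_)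
  obtain ⟨e, he, d, hd, rfl⟩ := mem_sup.1 (hker k c (by rw [hc, map_zero]))
  rw [SModEq.zero, Submodule.Quotient.mk_add, (Submodule.Quotient.mk_eq_zero _).2 hd, add_zero]
  have := Submodule.mem_map_of_mem (f := (LinearMap.range ρ).mkQ) he
  rw [Submodule.map_smul''] at this
  exact Submodule.smul_mono le_rfl le_top this

include hsep hJ hmono hker in
theorem surjective [IsAdicComplete J A] (hρ : ∀ d, φ (ρ d) = 0)
    (hlift : ∀ k x, ∃ c, pr k x = pr k (φ c)) : Function.Surjective φ := by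
  intro x
  choose c hc using fun k => hlift (k + N) x
  have hstep : ∀ k, ∃ d, c (k + 1) - c k - ρ d ∈ J ^ k • (⊤ : Submodule A (Fin n → A)) := fun k => by
    have h0 : pr (k + N) (φ (c (k + 1) - c k)) = 0 := by
      rw [map_sub, map_sub, sub_eq_zero, ← hc k, ← sub_eq_zero, ← map_sub]
      refine hmono _ _ (by omega : k + N ≤ k + 1 + N) _ ?_
      rw [map_sub, ← hc (k + 1), sub_self]
    obtain ⟨e, he, _, ⟨d, rfl⟩, hed⟩ := mem_sup.1 (hker k _ h0)
    exact ⟨d, by rwa [← hed, add_sub_cancel_right]⟩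
  choose d hd using hstep
  let e : ℕ → Fin n → A := fun k => c k - ρ (∑ l ∈ Finset.range k, d l)
  have he : ∀ k, e (k + 1) - e k ∈ J ^ k • (⊤ : Submodule A (Fin n → A)) := fun k => by
    have : e (k + 1) - e k = c (k + 1) - c k - ρ (d k) := by
      simp only [e, Finset.sum_range_succ, map_add]
      abel
    rw [this]
    exact hd k
  have hcauchy : ∀ {k l : ℕ}, k ≤ l → e k ≡ e l [SMOD (J ^ k • ⊤ : Submodule A (Fin n → A))] := by
    intro k l hkl
    induction l, hkl using Nat.le_induction with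
    | base => exact SModEq.refl _
    | succ l hkl ih =>
      refine ih.trans (SModEq.symm (SModEq.sub_mem.2 ?_))
      exact Submodule.smul_mono (Ideal.pow_le_pow_right hkl) le_rfl (he l)
  haveI := Complete.isPrecomplete_pi (I := J) (Fin n)
  obtain ⟨L, hL⟩ := IsPrecomplete.prec (I := J) (M := Fin n → A) ‹_› (f := e) hcauchy
  refine ⟨L, (sub_eq_zero.1 (hsep (x - φ L) fun k => ?_)).symm⟩
  have h1 : pr (k + 1 + N) (φ (e (k + 1))) = pr (k + 1 + N) x := by
    simp only [e, map_sub, hρ, sub_zero]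
    exact (hc (k + 1)).symm
  have h2 : pr k (x - φ (e (k + 1))) = 0 :=
    hmono k (k + 1 + N) (by omega) _ (by rw [map_sub, h1, sub_self])
  have h3 : φ (e (k + 1)) - φ L ∈ J ^ (k + 1) • (⊤ : Submodule A M) := by
    rw [← map_sub]
    have := Submodule.mem_map_of_mem (f := φ) (SModEq.sub_mem.1 (hL (k + 1)))
    rw [Submodule.map_smul''] at this
    exact Submodule.smul_mono le_rfl le_top this
  rw [← sub_add_sub_cancel x (φ (e (k + 1))) (φ L), map_add, h2, LinearMap.mem_ker.1 (hJ k h3), add_zero]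

end Seq

section Loc

variable {B : Type u} [CommRing B] (res : A →+* B) {I : Ideal B}

/-- Coefficients of a relation after localisation. -/
theorem mem_sup_of_loc (hJI : J.map res ≤ I) {k n m : ℕ} (r : Fin m → Fin n → A) {v w : B}
    (hv : IsUnit v) (hw : IsUnit w) (c : Fin n → B) (b : Fin n → A)
    (hb : ∀ i, v * c i - res (b i) ∈ I ^ k) (β : Fin n → A) (hβ : ∀ i, β i ∈ J ^ k) (g : A)
    (hg : res g = w) (d : Fin m → A) (e : ∀ i, g * b i = β i + ∑ j, d j * r j i) :
    c ∈ I ^ k • (⊤ : Submodule B (Fin n → B)) ⊔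
      LinearMap.range (Fintype.linearCombination B fun j i => res (r j i)) := by
  obtain ⟨z, hz⟩ := (hw.mul hv).exists_left_inv
  refine Submodule.mem_sup.2 ⟨fun i => z * (w * (v * c i - res (b i)) + res (β i)), ?_,
    Fintype.linearCombination B (fun j i => res (r j i)) (fun j => z * res (d j)), ⟨_, rfl⟩, ?_⟩
  · refine Complete.mem_smul_top_pi fun i => Ideal.mul_mem_left _ _ (Ideal.add_mem _ ?_ ?_)
    · exact Ideal.mul_mem_left _ _ (hb i)
    · exact Ideal.pow_right_mono hJI k (Ideal.map_pow res J k ▸ Ideal.mem_map_of_mem res (hβ i))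
  · funext i
    have h1 : w * res (b i) = res (β i) + ∑ j, res (d j) * res (r j i) := by
      rw [← hg, ← map_mul, e i, map_add, map_sum]
      simp only [map_mul]
    simp only [Pi.add_apply, Fintype.linearCombination_apply, Finset.sum_apply, Pi.smul_apply, smul_eq_mul]
    have h2 : ∑ j, z * res (d j) * res (r j i) = z * ∑ j, res (d j) * res (r j i) := by
      rw [Finset.mul_sum]
      exact Finset.sum_congr rfl fun j _ => mul_assoc _ _ _
    rw [h2]
    linear_combination c i * hz - z * h1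

end Loc

end Groth.Agent.H30.AdicPres
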