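import Groth.Agent.S3868
import Groth.Agent.S13342
import Groth.Agent.H30.SysLemmas
import Groth.Prelude.Def_FSch4
import Groth.Prelude.Def_FSch5

/-!
# A proper morphism over an affine open of the base (helper30)
-/

set_option autoImplicit false
set_option linter.style.haveILetI false
set_option linter.unusedSectionVars false

universe u

open CategoryTheory CategoryTheory.Limits AlgebraicGeometry TopologicalSpace Opposite
open Groth.Agent.H30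

namespace Groth.Agent.H30.AffineBase

variable {𝔛 𝔜 : FSch.Sys.{u}} (h𝔛 : 𝔛.IsLocNoethFormal) (h𝔜 : 𝔜.IsLocNoethFormal)

theorem lvU_zero (U : (𝔜.X 0).Opens) : 𝔜.lvU h𝔜.1 0 U = U := by
  ext x
  have h1 : (𝔜.gInv h𝔜.1 0) x = x := ConcreteCategory.congr_hom (𝔜.toX_base_gInv h𝔜.1 0) x
  exact (congrArg (· ∈ U) h1).to_iff

theorem exists_iso_spf {V : (𝔜.X 0).Opens} (hV : IsAffineOpen V) :
    ∃ (A : Type u) (_ : CommRing A) (J : Ideal A),
      IsNoetherianRing A ∧ IsAdicComplete J A ∧ Nonempty (𝔜.restrictOpen h𝔜.1 V ≅ FSch.spf A J) := by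
  have h' := (Groth.Agent.S13342.result 𝔜 h𝔜.1 V).2.1 h𝔜
  haveI : IsAffine ((𝔜.restrictOpen h𝔜.1 V).X 0) :=
    (show IsAffineOpen (𝔜.lvU h𝔜.1 0 V) from (lvU_zero h𝔜 V).symm ▸ hV)
  haveI := h'.2.2 0
  haveI := h'.2.2 1
  refine Groth.Agent.S3868.result _ h'.1 h'.2.1 fun W => ?_
  haveI : IsNoetherianRing Γ((𝔜.restrictOpen h𝔜.1 V).X 1, W) := IsLocallyNoetherian.component_noetherian W
  exact IsNoetherian.noetherian _

theorem isAdicHom_comp_iso {P Q R : FSch.Sys.{u}} {a : P ⟶ Q} (ha : FSch.IsAdicHom a) (e : Q ≅ R) :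
    FSch.IsAdicHom (a ≫ e.hom) := fun n => by
  have hI : ∀ k, IsIso ((e.hom : FSch.Hom _ _).app k) := fun k => ⟨(e.inv : FSch.Hom _ _).app k,
    congrArg (fun t : Q ⟶ Q => (t : FSch.Hom _ _).app k) e.hom_inv_id,
    congrArg (fun t : R ⟶ R => (t : FSch.Hom _ _).app k) e.inv_hom_id⟩
  haveI := hI n
  haveI := hI (n + 1)
  exact (ha n).paste_vert (IsPullback.of_vert_isIso ⟨((e.hom : FSch.Hom _ _).comm n).symm⟩)

theorem isProperHom_restrict (f : 𝔛 ⟶ 𝔜) (hf : FSch.IsProperHom f) (V : (𝔜.X 0).Opens) :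
    FSch.IsProperHom (FSch.Hom.restrictOpen f h𝔛.1 h𝔜.1 V) := by
  obtain ⟨hA, hF⟩ := hf
  refine ⟨fun n => ?_, ?_⟩
  · refine Scheme.Hom.isPullback_resLE (hA n) (𝔜.lvU_le h𝔜.1 n V)
      (FSch.Hom.lvU_preimage f h𝔛.1 h𝔜.1 (n + 1) V).ge ?_
    rw [𝔛.lvU_succ h𝔛.1 n, FSch.Hom.lvU_preimage f h𝔛.1 h𝔜.1 n V, inf_idem]
  · have key : ∀ (V' : (𝔛.X 0).Opens) (W : (𝔜.X 0).Opens) (e : V' = (f : FSch.Hom _ _).app 0 ⁻¹ᵁ W),
        IsProper (((f : FSch.Hom _ _).app 0).resLE W V' e.le) := by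
      rintro V' W rfl
      rw [Scheme.Hom.resLE_eq_morphismRestrict]
      exact MorphismProperty.of_isPullback (isPullback_morphismRestrict _ W).flip hF
    exact key _ _ (FSch.Hom.lvU_preimage f h𝔛.1 h𝔜.1 0 V).symm

theorem isProperHom_comp_iso {P Q R : FSch.Sys.{u}} {a : P ⟶ Q} (ha : FSch.IsProperHom a) (e : Q ≅ R) :
    FSch.IsProperHom (a ≫ e.hom) := by
  refine ⟨isAdicHom_comp_iso ha.1 e, ?_⟩
  haveI := ha.2
  haveI : IsIso ((e.hom : FSch.Hom _ _).app 0) := ⟨(e.inv : FSch.Hom _ _).app 0,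
    congrArg (fun t : Q ⟶ Q => (t : FSch.Hom _ _).app 0) e.hom_inv_id,
    congrArg (fun t : R ⟶ R => (t : FSch.Hom _ _).app 0) e.inv_hom_id⟩
  exact (inferInstance : IsProper ((a : FSch.Hom _ _).app 0 ≫ (e.hom : FSch.Hom _ _).app 0))

include h𝔜 in
/-- Over an affine open the morphism is proper to a formal spectrum. -/
theorem exists_proper (f : 𝔛 ⟶ 𝔜) (hf : FSch.IsProperHom f) {V : (𝔜.X 0).Opens} (hV : IsAffineOpen V) :
    ∃ (A : Type u) (_ : CommRing A) (J : Ideal A), IsNoetherianRing A ∧ IsAdicComplete J A ∧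
      ∃ g : 𝔛.restrictOpen h𝔛.1 ((f : FSch.Hom _ _).app 0 ⁻¹ᵁ V) ⟶ FSch.spf A J, FSch.IsProperHom g := by
  obtain ⟨A, iA, J, hN, hC, ⟨e⟩⟩ := exists_iso_spf h𝔜 hV
  exact ⟨A, iA, J, hN, hC, _, isProperHom_comp_iso (isProperHom_restrict h𝔛 h𝔜 f hf V) e⟩

end Groth.Agent.H30.AffineBase
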