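import Groth.Agent.H30.FSch.RealLimSec
import Groth.Agent.Lib.ClSub.Basis

/-!
# Maps to direct images from a level (helper30)
-/

set_option autoImplicit false

universe u

open CategoryTheory CategoryTheory.Limits AlgebraicGeometry TopologicalSpace Opposite
open Groth.Agent.H30 Groth.Agent.H30.RealLimSec
open Groth.Agent.Lib

namespace Groth.Agent.H30.LevelAdj

variable {𝔛 : FSch.Sys.{u}} {h : 𝔛.IsFormal} {k : ℕ}

/-- The affine opens of the level `k` coming from the common space. -/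
noncomputable abbrev aff (h : 𝔛.IsFormal) (k : ℕ) (V : (𝔛.X 0).affineOpens) : (𝔛.X k).Opens :=
  𝔛.lvU h k V.1

theorem isBasis_aff (h : 𝔛.IsFormal) (k : ℕ) : Opens.IsBasis (Set.range (aff h k)) := by
  rw [Opens.isBasis_iff_nbhd]
  intro U x hx
  have hinv : ∀ y, (𝔛.toX k).base (𝔛.gInv h k y) = y := fun y =>
    ConcreteCategory.congr_hom (𝔛.gInv_toX_base h k) y
  obtain ⟨V, hVU, hxV⟩ := ClSub.Basis.exists_affine_le (U := (𝔛.toX k) ⁻¹ᵁ U)
    (x := 𝔛.gInv h k x) (show (𝔛.toX k).base (𝔛.gInv h k x) ∈ U by rw [hinv]; exact hx)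
  refine ⟨aff h k V, ⟨V, rfl⟩, hxV, fun y hy => ?_⟩
  have := hVU (show 𝔛.gInv h k y ∈ V.1 from hy)
  exact hinv y ▸ this

theorem le_of_aff_le {V W : (𝔛.X 0).affineOpens} (e : aff h k V ≤ aff h k W) : V.1 ≤ W.1 := by
  intro z hz
  have hg : 𝔛.gInv h k ((𝔛.toX k).base z) = z :=
    ConcreteCategory.congr_hom (𝔛.toX_base_gInv h k) z
  have := e (show (𝔛.toX k).base z ∈ aff h k V by
    show 𝔛.gInv h k ((𝔛.toX k).base z) ∈ V.1
    rw [hg]; exact hz)
  rw [← hg]
  exact this

/-- Morphisms are determined on affine opens. -/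
theorem hom_ext {G N : (𝔛.X k).Modules} {a b : G ⟶ N}
    (hab : ∀ (V : (𝔛.X 0).affineOpens) (x : Γ(G, aff h k V)), a.app _ x = b.app _ x) : a = b := by
  refine Scheme.Modules.hom_ext _ _ (fun U => ConcreteCategory.hom_ext _ _ fun x => ?_)
  refine TopCat.Presheaf.section_ext (F := ⟨N.presheaf, N.isSheaf⟩) U _ _ fun z hz => ?_
  obtain ⟨_, ⟨V, rfl⟩, hzV, hVU⟩ := Opens.isBasis_iff_nbhd.1 (isBasis_aff h k) hz
  show N.presheaf.germ U z hz (a.app U x) = N.presheaf.germ U z hz (b.app U x)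
  rw [← ClSub.Basis.germ_map hVU hzV (a.app U x), ← ClSub.Basis.map_app, hab,
    ClSub.Basis.map_app, ClSub.Basis.germ_map hVU hzV]

variable (F : FSch.ModF 𝔛 h) (G : (𝔛.X k).Modules)
  (p : F ⟶ (FSch.levelMor 𝔛 h k).push.obj G)

/-- `p` exhibits `G` as `F` modulo the kernel of the projection to level `k`. -/
structure IsRed : Prop where
  surj : ∀ V : (𝔛.X 0).affineOpens, Function.Surjective (secMap h p V.1)
  ker : ∀ V : (𝔛.X 0).affineOpens, ∀ x : sec h F V.1, secMap h p V.1 x = 0 →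
    x ∈ RingHom.ker (Levels.proj 𝔛 h k V.1).hom • (⊤ : Submodule (Levels.A 𝔛 h V.1) (sec h F V.1))

variable {F G p}

theorem secMap_map {F F' : FSch.ModF 𝔛 h} (φ : F ⟶ F') {V W : (𝔛.X 0).Opens} (e : W ≤ V)
    (x : sec h F V) :
    secMap h φ W (F.val.map (homOfLE e).op x) = F'.val.map (homOfLE e).op (secMap h φ V x) :=
  PresheafOfModules.naturality_apply φ.val (homOfLE e).op x

theorem eq_of_eq (hp : IsRed F G p) {N : (𝔛.X k).Modules}
    (α : F ⟶ (FSch.levelMor 𝔛 h k).push.obj N) (V : (𝔛.X 0).affineOpens) (a b : sec h F V.1)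
    (hab : secMap h p V.1 a = secMap h p V.1 b) : secMap h α V.1 a = secMap h α V.1 b := by
  rw [← sub_eq_zero, ← map_sub] at hab ⊢
  refine Submodule.smul_induction_on (hp.ker V _ hab) (fun r hr m _ => ?_) fun x y hx hy => by
    rw [map_add, hx, hy, add_zero]
  rw [map_smul]
  show Levels.proj 𝔛 h k V.1 r • (show Γ(N, aff h k V) from secMap h α V.1 m) = 0
  rw [RingHom.mem_ker.1 hr, zero_smul]

section Ext

variable (hp : IsRed F G p) {N : (𝔛.X k).Modules} (α : F ⟶ (FSch.levelMor 𝔛 h k).push.obj N)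

/-- The induced map on an affine open. -/
noncomputable def beta (V : (𝔛.X 0).affineOpens) : Γ(G, aff h k V) →+ Γ(N, aff h k V) :=
  AddMonoidHom.mk' (fun y => secMap h α V.1 (Function.surjInv (hp.surj V) y)) fun y z =>
    ((eq_of_eq hp α V _ (_ + _) (((Function.surjInv_eq (hp.surj V) _).trans
      (congr_arg₂ (· + ·) (Function.surjInv_eq (hp.surj V) y).symm
        (Function.surjInv_eq (hp.surj V) z).symm)).trans (map_add _ _ _).symm)).trans (map_add _ _ _))

theorem beta_secMap (V : (𝔛.X 0).affineOpens) (x : sec h F V.1) :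
    beta hp α V (secMap h p V.1 x) = secMap h α V.1 x :=
  eq_of_eq hp α V _ _ (Function.surjInv_eq (hp.surj V) _)

theorem beta_map {V W : (𝔛.X 0).affineOpens} (e : aff h k W ≤ aff h k V) (y : Γ(G, aff h k V)) :
    beta hp α W (G.presheaf.map (homOfLE e).op y) = N.presheaf.map (homOfLE e).op (beta hp α V y) := by
  obtain ⟨x, rfl⟩ := hp.surj V y
  have e' : W.1 ≤ V.1 := le_of_aff_le e
  rw [beta_secMap]
  have h1 : secMap h p W.1 (F.val.map (homOfLE e').op x) =
      G.presheaf.map (homOfLE e).op (secMap h p V.1 x) := secMap_map p e' x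
  have h2 : secMap h α W.1 (F.val.map (homOfLE e').op x) =
      N.presheaf.map (homOfLE e).op (secMap h α V.1 x) := secMap_map α e' x
  rw [← h2, ← h1, beta_secMap]

/-- The extension to a morphism of abelian presheaves. -/
noncomputable def extAb : G.presheaf ⟶ N.presheaf :=
  TopCat.Sheaf.restrictHomEquivHom G.presheaf
    (⟨N.presheaf, N.isSheaf⟩ : TopCat.Sheaf Ab.{u} (𝔛.X k).carrier) (isBasis_aff h k)
    { app := fun V => AddCommGrpCat.ofHom (beta hp α V.unop)
      naturality := fun V W f => by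
        refine ConcreteCategory.hom_ext _ _ fun y => ?_
        exact beta_map hp α (leOfHom f.unop.hom) y }

theorem extAb_apply (V : (𝔛.X 0).affineOpens) (y : Γ(G, aff h k V)) :
    (extAb hp α).app (op (aff h k V)) y = beta hp α V y :=
  ConcreteCategory.congr_hom (TopCat.Sheaf.extend_hom_app G.presheaf
    (⟨N.presheaf, N.isSheaf⟩ : TopCat.Sheaf Ab.{u} (𝔛.X k).carrier) (isBasis_aff h k) _ V) y

theorem extAb_map {U V : (𝔛.X k).Opens} (e : V ≤ U) (m : Γ(G, U)) :
    (extAb hp α).app (op V) (G.presheaf.map (homOfLE e).op m) =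
      N.presheaf.map (homOfLE e).op ((extAb hp α).app (op U) m) :=
  ConcreteCategory.congr_hom ((extAb hp α).naturality (homOfLE e).op) m

theorem extAb_smul (U : (𝔛.X k).Opens) (r : Γ(𝔛.X k, U)) (m : Γ(G, U)) :
    (extAb hp α).app (op U) (r • m) = r • (show Γ(N, U) from (extAb hp α).app (op U) m) := by
  refine TopCat.Presheaf.section_ext (F := ⟨N.presheaf, N.isSheaf⟩) U _ _ fun z hz => ?_
  obtain ⟨_, ⟨V, rfl⟩, hzV, hVU⟩ := Opens.isBasis_iff_nbhd.1 (isBasis_aff h k) hz
  show N.presheaf.germ U z hz _ = N.presheaf.germ U z hz _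
  rw [← ClSub.Basis.germ_map hVU hzV, ← extAb_map hp α hVU, Scheme.Modules.map_smul, extAb_apply,
    ← ClSub.Basis.germ_map hVU hzV (r • (show Γ(N, U) from (extAb hp α).app (op U) m)),
    Scheme.Modules.map_smul, ← extAb_map hp α hVU, extAb_apply]
  congr 1
  obtain ⟨x, hx⟩ := hp.surj V (G.presheaf.map (homOfLE hVU).op m)
  obtain ⟨a, ha⟩ := OshBasic.OshProj_surjective 𝔛 h k V.2 ((𝔛.X k).presheaf.map (homOfLE hVU).op r)
  rw [← ha, ← hx]
  refine (congr_arg (beta hp α V) (map_smul (secMap h p V.1) a x).symm).trans ?_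
  rw [beta_secMap, beta_secMap]
  exact map_smul (secMap h α V.1) a x

/-- The morphism factoring `α` through `p`. -/
noncomputable def ext : G ⟶ N :=
  ⟨PresheafOfModules.homMk (extAb hp α) fun U r m => extAb_smul hp α U.unop r m⟩

theorem ext_app (V : (𝔛.X 0).affineOpens) (y : Γ(G, aff h k V)) :
    (ext hp α).app (aff h k V) y = beta hp α V y :=
  extAb_apply hp α V y

end Ext

/-- Morphisms of modules on `𝔛` are determined on affine opens of `X 0`. -/
theorem hom_extF {F F' : FSch.ModF 𝔛 h} {a b : F ⟶ F'}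
    (hab : ∀ (V : (𝔛.X 0).affineOpens) (x : sec h F V.1), secMap h a V.1 x = secMap h b V.1 x) :
    a = b := by
  apply (SheafOfModules.toSheaf _).map_injective
  refine Sheaf.hom_ext (TopCat.Sheaf.hom_ext
    (F := ((SheafOfModules.toSheaf _).obj F).obj)
    (F' := ((SheafOfModules.toSheaf _).obj F'))
    (B := fun V : (𝔛.X 0).affineOpens => V.1) ?_ fun V => ?_)
  · have := (𝔛.X 0).isBasis_affineOpens
    simpa [Scheme.affineOpens, Subtype.range_coe_subtype] using this
  · exact ConcreteCategory.hom_ext _ _ fun x => hab V x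

/-- Precomposition with `p` is bijective. -/
theorem bijective (hp : IsRed F G p) (N : (𝔛.X k).Modules) :
    Function.Bijective (fun ψ : G ⟶ N => p ≫ (FSch.levelMor 𝔛 h k).push.map ψ) := by
  refine ⟨fun a b hab => hom_ext (h := h) fun V y => ?_, fun α => ⟨ext hp α, hom_extF fun V x => ?_⟩⟩
  · obtain ⟨x, rfl⟩ := hp.surj V y
    exact congr_arg (fun φ => secMap h φ V.1 x) hab
  · show (ext hp α).app (aff h k V) (secMap h p V.1 x) = _
    rw [ext_app, beta_secMap]

/-- The adjunct of `p` is an isomorphism. -/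
theorem isIso_adjunct (hp : IsRed F G p) :
    IsIso (((FSch.levelMor 𝔛 h k).adj.homEquiv _ _).symm p) := by
  have key : ∀ N : (𝔛.X k).Modules, Function.Bijective
      (fun ψ : G ⟶ N => ((FSch.levelMor 𝔛 h k).adj.homEquiv _ _).symm p ≫ ψ) := by
    intro N
    have : (fun ψ : G ⟶ N => ((FSch.levelMor 𝔛 h k).adj.homEquiv _ _).symm p ≫ ψ) =
        ((FSch.levelMor 𝔛 h k).adj.homEquiv F N).symm ∘
          fun ψ : G ⟶ N => p ≫ (FSch.levelMor 𝔛 h k).push.map ψ := by
      funext ψ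
      exact (Adjunction.homEquiv_naturality_right_symm _ _ _).symm
    rw [this]
    exact (Equiv.bijective _).comp (bijective hp N)
  obtain ⟨g, hg⟩ := (key _).2 (𝟙 _)
  refine ⟨⟨g, hg, (key G).1 ?_⟩⟩
  show _ ≫ g ≫ _ = _ ≫ 𝟙 G
  rw [← Category.assoc, show _ ≫ g = 𝟙 _ from hg, Category.id_comp, Category.comp_id]

end Groth.Agent.H30.LevelAdj
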