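import Groth.Agent.H30.FSch.CohSys
import Groth.Agent.H30.FSch.LevelAdj

/-!
# The levels of the module of a coherent system (helper30)
-/

set_option autoImplicit false

universe u

open CategoryTheory CategoryTheory.Limits AlgebraicGeometry TopologicalSpace Opposite
open Groth.Agent.H30 Groth.Agent.H30.RealLimSec

namespace Groth.Agent.H30.CohRed

variable {𝔛 : FSch.Sys.{u}} (h𝔛 : 𝔛.IsLocNoethFormal) (𝔐 : FSch.ModSys 𝔛) (h𝔐 : 𝔐.IsCoh)

include h𝔐 in
/-- The projections of the module of a coherent system are reductions. -/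
theorem isRed (k : ℕ) :
    LevelAdj.IsRed (𝔐.realMod h𝔛.1) (𝔐.F k) (FSch.realProj 𝔛 h𝔛.1 𝔐.F 𝔐.toPush k) where
  surj V := ((CohSys.main h𝔛 𝔐 h𝔐 V.2).2.2 k).1
  ker V x hx := by
    rw [((Levels.adic h𝔛 V.2).2.1 k).2]
    have hk := ((CohSys.main h𝔛 𝔐 h𝔐 V.2).2.2 k).2
    exact hk.le (LinearMap.mem_ker.2 hx)

end Groth.Agent.H30.CohRed
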