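import Groth.Agent.H30.FSch.ComplSec
import Groth.Agent.H30.FSch.CohCons
import Groth.Agent.Lib.RMorLocal.Pull

/-!
# The inverse image of a coherent module on a completion (helper30)
-/

set_option autoImplicit false
set_option linter.style.haveILetI false

universe u

open CategoryTheory CategoryTheory.Limits AlgebraicGeometry TopologicalSpace Opposite
open Groth.Agent.H30 Groth.Agent.H30.RealLimSec
open Groth.Agent.Lib

namespace Groth.Agent.H30.ComplPull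

variable {X : Scheme.{u}} [IsLocallyNoetherian X] {𝔛 : FSch.Sys.{u}} (h𝔛 : 𝔛.IsLocNoethFormal)
  (p : ∀ n, 𝔛.X n ⟶ X) (hp : ∀ n, 𝔛.ι n ≫ p (n + 1) = p n) [∀ k, IsClosedImmersion (p k)]

/-- The structure map on sections. -/
noncomputable def shA (U : X.Opens) : Γ(X, U) →+* Levels.A 𝔛 h𝔛.1 (ComplSec.pre p U) :=
  ((FSch.toSchemeMor 𝔛 h𝔛.1 p hp).sharp.hom.app (op U)).hom

theorem proj_shA (k : ℕ) (U : X.Opens) (r : Γ(X, U)) :
    Levels.proj 𝔛 h𝔛.1 k (ComplSec.pre p U) (shA h𝔛 p hp U r) =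
      (p k).appLE U _ (ComplSec.lvU_pre h𝔛.1 p hp k U).le r :=
  congrArg (fun φ => φ.hom.app (op U) r) (FSch.schSharp_proj 𝔛 h𝔛.1 p hp k)

theorem shA_res {U U' : X.Opens} (e : U' ≤ U) (r : Γ(X, U)) :
    CohPres.resA h𝔛.1 ((p 0).preimage_mono e) (shA h𝔛 p hp U r) =
      shA h𝔛 p hp U' (X.presheaf.map (homOfLE e).op r) :=
  (ConcreteCategory.congr_hom ((FSch.toSchemeMor 𝔛 h𝔛.1 p hp).sharp.hom.naturality (homOfLE e).op) r).symm

variable (F : X.Modules)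

local notation "PS" => ComplSec.pullSys p hp F

omit [IsLocallyNoetherian X] [∀ k, IsClosedImmersion (p k)] in
theorem σ_smul (k : ℕ) (U : X.Opens) (r : Γ(X, U)) (m : Γ(F, U)) :
    ComplSec.σ h𝔛.1 p hp F k U (r • m) =
      (p k).appLE U _ (ComplSec.lvU_pre h𝔛.1 p hp k U).le r •
        (show Γ((PS).F k, 𝔛.lvU h𝔛.1 k (ComplSec.pre p U)) from ComplSec.σ h𝔛.1 p hp F k U m) :=
  (congrArg _ (Scheme.Modules.Hom.app_smul
    ((Scheme.Modules.pullbackPushforwardAdjunction (p k)).unit.app F) r m)).trans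
    (Scheme.Modules.map_smul _ _ _ _)

omit [IsLocallyNoetherian X] [∀ k, IsClosedImmersion (p k)] in
theorem σ_res (k : ℕ) {U U' : X.Opens} (e : U' ≤ U) (m : Γ(F, U)) :
    ((PS).F k).presheaf.map (homOfLE (CohPres.lvU_mono h𝔛.1 k ((p 0).preimage_mono e))).op
        (ComplSec.σ h𝔛.1 p hp F k U m) =
      ComplSec.σ h𝔛.1 p hp F k U' (F.presheaf.map (homOfLE e).op m) := by
  refine Eq.trans ?_ (congrArg (((PS).F k).presheaf.map
      (homOfLE (ComplSec.lvU_pre h𝔛.1 p hp k U').le).op)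
    ((((Scheme.Modules.pullbackPushforwardAdjunction (p k)).unit.app F).mapPresheaf.naturality_apply
      (homOfLE e).op m))).symm
  refine (CohDelta.Units.map_map _ _ _
    (homOfLE ((ComplSec.lvU_pre h𝔛.1 p hp k U').le.trans ((p k).preimage_mono e))).op _).trans ?_
  exact (CohDelta.Units.map_map _ _ _ _ _).symm

/-- The completion of a section. -/
noncomputable def ehat (U : X.Opens) (m : Γ(F, U)) :
    sec h𝔛.1 (FSch.realLim 𝔛 h𝔛.1 (PS).F (PS).toPush) (ComplSec.pre p U) :=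
  (RealLimSec.exists_of_compatible h𝔛.1 (PS).F (PS).toPush
    (fun k => ComplSec.σ h𝔛.1 p hp F k U m) fun k => ComplSec.tr_σ h𝔛.1 p hp F h𝔛 k U m).choose

theorem π_ehat (k : ℕ) (U : X.Opens) (m : Γ(F, U)) :
    π h𝔛.1 (PS).F (PS).toPush k (ComplSec.pre p U) (ehat h𝔛 p hp F U m) =
      ComplSec.σ h𝔛.1 p hp F k U m :=
  (RealLimSec.exists_of_compatible h𝔛.1 (PS).F (PS).toPush
    (fun k => ComplSec.σ h𝔛.1 p hp F k U m)
    fun k => ComplSec.tr_σ h𝔛.1 p hp F h𝔛 k U m).choose_spec k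

theorem ehat_smul (U : X.Opens) (r : Γ(X, U)) (m : Γ(F, U)) :
    ehat h𝔛 p hp F U (r • m) = shA h𝔛 p hp U r • ehat h𝔛 p hp F U m := by
  refine RealLimSec.ext_of_π h𝔛.1 _ _ _ _ fun k => ?_
  rw [map_smul, π_ehat, π_ehat, σ_smul h𝔛 p hp, lev_smul, proj_shA]

theorem ehat_add (U : X.Opens) (m m' : Γ(F, U)) :
    ehat h𝔛 p hp F U (m + m') = ehat h𝔛 p hp F U m + ehat h𝔛 p hp F U m' := by
  refine RealLimSec.ext_of_π h𝔛.1 _ _ _ _ fun k => ?_
  rw [map_add, π_ehat, π_ehat, π_ehat, map_add]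

theorem ehat_res {U U' : X.Opens} (e : U' ≤ U) (m : Γ(F, U)) :
    CohPres.resF h𝔛.1 _ ((p 0).preimage_mono e) (ehat h𝔛 p hp F U m) =
      ehat h𝔛 p hp F U' (F.presheaf.map (homOfLE e).op m) := by
  refine RealLimSec.ext_of_π h𝔛.1 _ _ _ _ fun k => ?_
  rw [π_ehat]
  refine (CohPres.π_res h𝔛.1 _ _ k _ _).trans ?_
  rw [π_ehat]
  exact σ_res h𝔛 p hp F k e m

/-- `F` maps to the direct image of its completion. -/
noncomputable def τ :
    (F : ModSite.Mod X.sheaf) ⟶ (FSch.toSchemeMor 𝔛 h𝔛.1 p hp).push.obj (FSch.realLim 𝔛 h𝔛.1 (PS).F (PS).toPush) :=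
  ⟨PresheafOfModules.homMk
    { app := fun U => AddCommGrpCat.ofHom
        (AddMonoidHom.mk' (fun m => ehat h𝔛 p hp F U.unop m) (ehat_add h𝔛 p hp F U.unop))
      naturality := fun U U' i => by
        refine ConcreteCategory.hom_ext _ _ fun m => ?_
        exact (ehat_res h𝔛 p hp F (leOfHom i.unop) m).symm }
    fun U r m => ehat_smul h𝔛 p hp F U.unop r m⟩

/-- The canonical map `u^* F ⟶ F̂`. -/
noncomputable def γ :
    (FSch.toSchemeMor 𝔛 h𝔛.1 p hp).pull.obj F ⟶ (PS).realMod h𝔛.1 :=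
  ((FSch.toSchemeMor 𝔛 h𝔛.1 p hp).adj.homEquiv _ _).symm (τ h𝔛 p hp F)

theorem homEquiv_γ : (FSch.toSchemeMor 𝔛 h𝔛.1 p hp).adj.homEquiv _ _ (γ h𝔛 p hp F) = τ h𝔛 p hp F :=
  Equiv.apply_symm_apply _ _

/-- Sections pulled back. -/
noncomputable def plF {U : X.Opens} {V : (𝔛.X 0).Opens} (e : V ≤ ComplSec.pre p U) (m : Γ(F, U)) :
    sec h𝔛.1 ((FSch.toSchemeMor 𝔛 h𝔛.1 p hp).pull.obj F) V :=
  RMorLocal.Pull.pl (FSch.toSchemeMor 𝔛 h𝔛.1 p hp) (F : ModSite.Mod X.sheaf) (d := U) (homOfLE e) m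

theorem plF_smul {U : X.Opens} {V : (𝔛.X 0).Opens} (e : V ≤ ComplSec.pre p U) (r : Γ(X, U))
    (m : Γ(F, U)) :
    plF h𝔛 p hp F e (r • m) = CohPres.resA h𝔛.1 e (shA h𝔛 p hp U r) • plF h𝔛 p hp F e m :=
  RMorLocal.Pull.pl_smul (FSch.toSchemeMor 𝔛 h𝔛.1 p hp) (F : ModSite.Mod X.sheaf) (d := U) (homOfLE e) r m

theorem plF_add {U : X.Opens} {V : (𝔛.X 0).Opens} (e : V ≤ ComplSec.pre p U) (m m' : Γ(F, U)) :
    plF h𝔛 p hp F e (m + m') = plF h𝔛 p hp F e m + plF h𝔛 p hp F e m' :=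
  RMorLocal.Pull.pl_add (FSch.toSchemeMor 𝔛 h𝔛.1 p hp) (F : ModSite.Mod X.sheaf) (d := U) (homOfLE e) m m'

theorem plF_res {U : X.Opens} {V V' : (𝔛.X 0).Opens} (e : V ≤ ComplSec.pre p U) (e' : V' ≤ V)
    (m : Γ(F, U)) :
    CohPres.resF h𝔛.1 _ e' (plF h𝔛 p hp F e m) = plF h𝔛 p hp F (e'.trans e) m :=
  RMorLocal.Pull.res_pl (FSch.toSchemeMor 𝔛 h𝔛.1 p hp) (F : ModSite.Mod X.sheaf) (d := U)
    (homOfLE e') (homOfLE e) m

theorem plF_map {U U' : X.Opens} {V : (𝔛.X 0).Opens} (e' : U' ≤ U) (e : V ≤ ComplSec.pre p U')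
    (m : Γ(F, U)) :
    plF h𝔛 p hp F e (F.presheaf.map (homOfLE e').op m) =
      plF h𝔛 p hp F (e.trans ((p 0).preimage_mono e')) m :=
  RMorLocal.Pull.pl_res (FSch.toSchemeMor 𝔛 h𝔛.1 p hp) (F : ModSite.Mod X.sheaf) (d := U) (d' := U')
    (homOfLE e) (homOfLE e') m

theorem γ_plF {U : X.Opens} {V : (𝔛.X 0).Opens} (e : V ≤ ComplSec.pre p U) (m : Γ(F, U)) :
    secMap h𝔛.1 (γ h𝔛 p hp F) V (plF h𝔛 p hp F e m) =
      CohPres.resF h𝔛.1 _ e (ehat h𝔛 p hp F U m) := by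
  refine (PresheafOfModules.naturality_apply (γ h𝔛 p hp F).val (homOfLE e).op _).trans ?_
  refine congrArg (CohPres.resF h𝔛.1 (FSch.realLim 𝔛 h𝔛.1 (PS).F (PS).toPush) e) ?_
  exact congrArg (fun q => q.val.app (op U) m)
    ((((FSch.toSchemeMor 𝔛 h𝔛.1 p hp).adj.homEquiv_unit _ _ _).symm).trans (homEquiv_γ h𝔛 p hp F))

section Affine

variable {U : X.Opens} (hU : IsAffineOpen U) {n : ℕ} (f : Fin n → Γ(F, U))
  (hf : Submodule.span Γ(X, U) (Set.range f) = ⊤)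

include hU in
theorem surjective_appLE (k : ℕ) :
    Function.Surjective ((p k).appLE U _ (ComplSec.lvU_pre h𝔛.1 p hp k U).le) :=
  by
    intro y
    obtain ⟨r, hr⟩ := Scheme.Hom.app_surjective (p k) U hU
      ((𝔛.X k).presheaf.map (homOfLE (ComplSec.lvU_pre h𝔛.1 p hp k U).ge).op y)
    refine ⟨r, ?_⟩
    show (𝔛.X k).presheaf.map _ ((p k).app U r) = y
    rw [hr]
    exact (ConcreteCategory.congr_hom ((𝔛.X k).presheaf.map_comp _ _) y).symm.trans
      ((congrArg (fun g => (𝔛.X k).presheaf.map g y) (Subsingleton.elim _ (𝟙 _))).trans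
        (ConcreteCategory.congr_hom ((𝔛.X k).presheaf.map_id _) y))

include hU hf in
theorem span_ehat (hc : (PS).IsCoh) (x : sec h𝔛.1 (FSch.realLim 𝔛 h𝔛.1 (PS).F (PS).toPush) (ComplSec.pre p U))
    [F.IsQuasicoherent] :
    ∃ a : Fin n → Levels.A 𝔛 h𝔛.1 (ComplSec.pre p U), x = ∑ i, a i • ehat h𝔛 p hp F U (f i) := by
  have hV := ComplSec.isAffineOpen_pre p hU
  obtain ⟨hfin, -, hπ⟩ := CohSys.main h𝔛 _ hc hV
  haveI := hfin
  haveI := (Levels.adic h𝔛 hV).1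
  have hle : (⊤ : Submodule (Levels.A 𝔛 h𝔛.1 (ComplSec.pre p U)) _) ≤
      Submodule.span _ (Set.range fun i => ehat h𝔛 p hp F U (f i)) := by
    refine Submodule.le_of_le_smul_of_le_jacobson_bot (Module.finite_def.1 hfin)
      (IsAdicComplete.le_jacobson_bot (Levels.J (h := h𝔛.1) (ComplSec.pre p U))) fun y _ => ?_
    obtain ⟨m, hm⟩ := ComplSec.σ_surjective h𝔛.1 p hp F 0 hU
      (π h𝔛.1 (PS).F (PS).toPush 0 (ComplSec.pre p U) y)
    refine Submodule.mem_sup.2 ⟨ehat h𝔛 p hp F U m, ?_, y - ehat h𝔛 p hp F U m, ?_, add_sub_cancel _ _⟩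
    · obtain ⟨c, hc'⟩ := (Submodule.mem_span_range_iff_exists_fun _).1 (hf ▸ trivial :
        m ∈ Submodule.span Γ(X, U) (Set.range f))
      let E : Γ(F, U) →+ sec h𝔛.1 (FSch.realLim 𝔛 h𝔛.1 (PS).F (PS).toPush) (ComplSec.pre p U) :=
        AddMonoidHom.mk' _ (ehat_add h𝔛 p hp F U)
      rw [← hc', show ehat h𝔛 p hp F U (∑ i, c i • f i) = ∑ i, ehat h𝔛 p hp F U (c i • f i) from
        map_sum E _ _]
      exact Submodule.sum_mem _ fun i _ => ehat_smul h𝔛 p hp F U (c i) (f i) ▸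
        Submodule.smul_mem _ _ (Submodule.subset_span ⟨i, rfl⟩)
    · have hker := (hπ 0).2
      rw [zero_add, pow_one] at hker
      exact hker.le (LinearMap.mem_ker.2 (by rw [map_sub, π_ehat, hm, sub_self]))
  obtain ⟨a, ha⟩ := (Submodule.mem_span_range_iff_exists_fun _).1
    (hle (Submodule.mem_top (x := x)))
  exact ⟨a, ha.symm⟩

include hU hf in
theorem exists_rel_coeff [F.IsQuasicoherent] {m : ℕ} (r : Fin m → Fin n → Γ(X, U))
    (hr : ∀ c : Fin n → Γ(X, U), ∑ i, c i • f i = 0 →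
      ∃ d : Fin m → Γ(X, U), ∀ i, c i = ∑ j, d j * r j i)
    (a : Fin n → Levels.A 𝔛 h𝔛.1 (ComplSec.pre p U))
    (ha : ∑ i, a i • ehat h𝔛 p hp F U (f i) = 0) :
    ∃ d : Fin m → Levels.A 𝔛 h𝔛.1 (ComplSec.pre p U),
      ∀ i, a i = ∑ j, d j * shA h𝔛 p hp U (r j i) := by
  have hV := ComplSec.isAffineOpen_pre p hU
  haveI := (Levels.adic h𝔛 hV).1
  haveI := Levels.isNoetherianRing_A h𝔛 hV
  let R := Levels.A 𝔛 h𝔛.1 (ComplSec.pre p U)
  let S : Submodule R (Fin n → R) :=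
    LinearMap.range (Fintype.linearCombination R fun j i => shA h𝔛 p hp U (r j i))
  haveI : IsHausdorff (Levels.J (h := h𝔛.1) (ComplSec.pre p U)) ((Fin n → R) ⧸ S) :=
    IsHausdorff.of_le_jacobson _ _ (IsAdicComplete.le_jacobson_bot _)
  have hS : S.mkQ a = 0 := by
    refine IsHausdorff.haus ‹_› _ fun t => ?_
    choose α hα using fun i => surjective_appLE h𝔛 p hp hU t
      (Levels.proj 𝔛 h𝔛.1 t (ComplSec.pre p U) (a i))
    have h0 : ComplSec.σ h𝔛.1 p hp F t U (∑ i, α i • f i) = 0 := by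
      rw [map_sum]
      refine Eq.trans ?_ ((congrArg (π h𝔛.1 (PS).F (PS).toPush t (ComplSec.pre p U)) ha).trans (map_zero _))
      rw [map_sum]
      refine Finset.sum_congr rfl fun i _ => ?_
      rw [σ_smul h𝔛 p hp F t U, hα, map_smul, π_ehat, lev_smul]
    have h1 := (ComplSec.σ_eq_zero_iff h𝔛.1 p hp F t hU _).1 h0
    rw [← hf] at h1
    obtain ⟨c, hcI, hcs⟩ := Submodule.mem_ideal_smul_span_iff_exists_sum _ f _ |>.1 h1
    have hc2 : ∑ i, (α i - c i) • f i = 0 := by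
      rw [Finsupp.sum_fintype c (fun i x => x • f i) (fun i => zero_smul _ _)] at hcs
      simp only [sub_smul, Finset.sum_sub_distrib, hcs, sub_self]
    obtain ⟨δ, hδ⟩ := hr _ hc2
    rw [SModEq.sub_mem, sub_zero]
    have hk : ∀ i, a i - ∑ j, shA h𝔛 p hp U (δ j) * shA h𝔛 p hp U (r j i) ∈
        Levels.J (h := h𝔛.1) (ComplSec.pre p U) ^ t := fun i => by
      refine Ideal.pow_le_pow_right (Nat.le_succ t) ?_
      rw [← ((Levels.adic h𝔛 hV).2.1 t).2, RingHom.mem_ker]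
      simp only [map_sub, map_sum, ← map_mul, proj_shA]
      rw [← map_sum, ← hδ i, map_sub, hα]
      refine (sub_sub_cancel _ _).trans ?_
      have hc0 : (p t).app U (c i) = 0 := by
        have := hcI i
        rwa [Scheme.Hom.ker_apply, RingHom.mem_ker] at this
      show (𝔛.X t).presheaf.map _ ((p t).app U (c i)) = 0
      rw [hc0]
      exact map_zero _
    have hvec : (fun i => a i - ∑ j, shA h𝔛 p hp U (δ j) * shA h𝔛 p hp U (r j i)) ∈
        Levels.J (h := h𝔛.1) (ComplSec.pre p U) ^ t • (⊤ : Submodule R (Fin n → R)) := by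
      rw [pi_eq_sum_univ' fun i => a i - ∑ j, shA h𝔛 p hp U (δ j) * shA h𝔛 p hp U (r j i)]
      exact Submodule.sum_mem _ fun i _ => Submodule.smul_mem_smul (hk i) trivial
    have h2 := Submodule.mem_map_of_mem (f := S.mkQ) hvec
    rw [Submodule.map_smul'', Submodule.map_top, Submodule.range_mkQ] at h2
    convert h2 using 1
    rw [eq_comm, ← sub_eq_zero, ← map_sub, Submodule.mkQ_apply, Submodule.Quotient.mk_eq_zero]
    exact ⟨-fun j => shA h𝔛 p hp U (δ j),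
      funext fun i => by simp [Fintype.linearCombination_apply]⟩
  rw [Submodule.mkQ_apply, Submodule.Quotient.mk_eq_zero] at hS
  obtain ⟨d, hd⟩ := hS
  exact ⟨d, fun i => by simp [← hd, Fintype.linearCombination_apply]⟩

end Affine

theorem exists_affine_pre {x : 𝔛.X 0} {U : X.Opens} {V : (𝔛.X 0).Opens} (hx : x ∈ V)
    (hxU : (p 0).base x ∈ U) :
    ∃ W : X.Opens, IsAffineOpen W ∧ W ≤ U ∧ x ∈ ComplSec.pre p W ∧ ComplSec.pre p W ≤ V := by
  obtain ⟨_, ⟨W₁, rfl⟩, hxW, hWV⟩ := Opens.isBasis_iff_nbhd.1 (ComplSec.isBasis_pre p) hx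
  obtain ⟨W, hW, hxW', hWle⟩ := Opens.isBasis_iff_nbhd.1 X.isBasis_affineOpens
    (U := W₁.1 ⊓ U) (x := (p 0).base x) ⟨hxW, hxU⟩
  exact ⟨W, hW, hWle.trans inf_le_right, hxW',
    ((p 0).preimage_mono (hWle.trans inf_le_left)).trans hWV⟩

/-- Sections of the inverse image are locally combinations of pulled back sections. -/
theorem exists_local_plF {V : (𝔛.X 0).Opens}
    (z : sec h𝔛.1 ((FSch.toSchemeMor 𝔛 h𝔛.1 p hp).pull.obj F) V) {x : 𝔛.X 0} (hx : x ∈ V)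
    {U : X.Opens} (hxU : (p 0).base x ∈ U) :
    ∃ (W : X.Opens) (_ : IsAffineOpen W) (_ : W ≤ U) (eW : ComplSec.pre p W ≤ V)
      (_ : x ∈ ComplSec.pre p W) (l : ℕ) (a : Fin l → Levels.A 𝔛 h𝔛.1 (ComplSec.pre p W))
      (m : Fin l → Γ(F, W)),
      CohPres.resF h𝔛.1 _ eW z = ∑ q, a q • plF h𝔛 p hp F le_rfl (m q) := by
  obtain ⟨S, hS, hS'⟩ := RMorLocal.Pull.exists_cover_eps (FSch.toSchemeMor 𝔛 h𝔛.1 p hp)
    (F : ModSite.Mod X.sheaf) (c := V) (ι := Unit) (fun _ => z)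
  obtain ⟨V', g, hg, hxV'⟩ := hS x hx
  obtain ⟨w, hw⟩ := hS' g hg
  have hspan : ∀ y : (RMorLocal.Pull.Fr (FSch.toSchemeMor 𝔛 h𝔛.1 p hp)
      (F : ModSite.Mod X.sheaf)).obj (op V'),
      ∃ (W : X.Opens) (_ : W ≤ U) (eW : ComplSec.pre p W ≤ V') (_ : (p 0).base x ∈ W) (l : ℕ)
        (a : Fin l → Levels.A 𝔛 h𝔛.1 (ComplSec.pre p W)) (m : Fin l → Γ(F, W)),
        CohPres.resF h𝔛.1 _ eW
            ((RMorLocal.Pull.eps (FSch.toSchemeMor 𝔛 h𝔛.1 p hp) (F : ModSite.Mod X.sheaf)).app (op V') y) =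
          ∑ q, a q • plF h𝔛 p hp F le_rfl (m q) := by
    obtain ⟨W₀, -, hW₀U, hxW₀, hW₀V⟩ := exists_affine_pre p hxV' hxU
    intro y
    induction y using Finsupp.induction_linear with
    | zero =>
      refine ⟨W₀, hW₀U, hW₀V, hxW₀, 0, fun q => q.elim0, fun q => q.elim0, ?_⟩
      rw [Finset.univ_eq_empty, Finset.sum_empty]
      exact (congrArg _ (map_zero _)).trans (map_zero _)
    | add y y' hy hy' =>
      obtain ⟨W₁, hW₁U, e₁, hx₁, l₁, a₁, m₁, h₁⟩ := hy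
      obtain ⟨W₂, hW₂U, e₂, hx₂, l₂, a₂, m₂, h₂⟩ := hy'
      have i₁ : W₁ ⊓ W₂ ≤ W₁ := inf_le_left
      have i₂ : W₁ ⊓ W₂ ≤ W₂ := inf_le_right
      refine ⟨W₁ ⊓ W₂, i₁.trans hW₁U, ((p 0).preimage_mono i₁).trans e₁, ⟨hx₁, hx₂⟩, l₁ + l₂,
        Fin.append (fun q => CohPres.resA h𝔛.1 ((p 0).preimage_mono i₁) (a₁ q))
          (fun q => CohPres.resA h𝔛.1 ((p 0).preimage_mono i₂) (a₂ q)),
        Fin.append (fun q => F.presheaf.map (homOfLE i₁).op (m₁ q))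
          (fun q => F.presheaf.map (homOfLE i₂).op (m₂ q)), ?_⟩
      have h₁' := congrArg (CohPres.resF h𝔛.1 _ ((p 0).preimage_mono i₁)) h₁
      have h₂' := congrArg (CohPres.resF h𝔛.1 _ ((p 0).preimage_mono i₂)) h₂
      simp only [map_sum, CohPres.resF_smul, plF_res] at h₁' h₂'
      rw [Fin.sum_univ_add]
      simp only [Fin.append_left, Fin.append_right, plF_map]
      rw [← h₁', ← h₂']
      refine (congrArg _ (map_add _ y y')).trans ((map_add _ _ _).trans ?_)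
      exact congrArg₂ (· + ·) (PresSh.res_res _ _ _ _).symm (PresSh.res_res _ _ _ _).symm
    | single s c =>
      obtain ⟨⟨d, ψ⟩, m⟩ := s
      have hxd : (p 0).base x ∈ d := leOfHom ψ hxV'
      have i₁ : W₀ ⊓ d ≤ W₀ := inf_le_left
      refine ⟨W₀ ⊓ d, i₁.trans hW₀U, ((p 0).preimage_mono i₁).trans hW₀V, ⟨hxW₀, hxd⟩, 1,
        fun _ => CohPres.resA h𝔛.1 (((p 0).preimage_mono i₁).trans hW₀V) c,
        fun _ => F.presheaf.map (homOfLE inf_le_right).op m, ?_⟩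
      rw [Fin.sum_univ_one, plF_map]
      have e1 : (RMorLocal.Pull.eps (FSch.toSchemeMor 𝔛 h𝔛.1 p hp) (F : ModSite.Mod X.sheaf)).app (op V')
          (Finsupp.single ⟨⟨d, ψ⟩, m⟩ c) = (show Levels.A 𝔛 h𝔛.1 V' from c) • plF h𝔛 p hp F (leOfHom ψ) m := by
        refine (congrArg _ (Finsupp.smul_single_one _ c).symm).trans ?_
        refine (map_smul _ _ _).trans ?_
        exact congrArg (c • ·) (RMorLocal.Pull.eps_b (FSch.toSchemeMor 𝔛 h𝔛.1 p hp)
          (F : ModSite.Mod X.sheaf) (c := op V') ψ m)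
      refine (congrArg _ e1).trans ?_
      rw [CohPres.resF_smul, plF_res]
  obtain ⟨W, hWU, eW, hxW, l, a, m, hm⟩ := hspan (w ())
  obtain ⟨W', hW', hW'W, hxW', -⟩ := exists_affine_pre p (V := ComplSec.pre p W) (U := W)
    (show x ∈ ComplSec.pre p W from hxW) hxW
  refine ⟨W', hW', hW'W.trans hWU, (((p 0).preimage_mono hW'W).trans eW).trans (leOfHom g), hxW', l,
    fun q => CohPres.resA h𝔛.1 ((p 0).preimage_mono hW'W) (a q),
    fun q => F.presheaf.map (homOfLE hW'W).op (m q), ?_⟩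
  have h' := congrArg (CohPres.resF h𝔛.1 _ ((p 0).preimage_mono hW'W)) hm
  simp only [map_sum, CohPres.resF_smul, plF_res] at h'
  simp only [plF_map]
  rw [← h', hw ()]
  exact ((PresSh.res_res _ _ _ _).trans (PresSh.res_res _ _ _ _)).symm

/-- `u^* F ⟶ F̂` is an isomorphism. -/
theorem isIso_γ (hF : Coh.IsCoh F) (hc : (PS).IsCoh) : IsIso (γ h𝔛 p hp F) := by
  classical
  haveI := hF.1
  haveI : SheafOfModules.IsFiniteType (R := X.ringCatSheaf) F := hF.2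
  have hB := ComplSec.isBasis_pre p
  have hgens : ∀ U : X.Opens, IsAffineOpen U → ∃ (n : ℕ) (f : Fin n → Γ(F, U)),
      Submodule.span Γ(X, U) (Set.range f) = ⊤ := fun U hU =>
    haveI := CohBasics.Affine.finite_sections (M := F) hU
    Module.Finite.exists_fin
  have hsurj : ∀ U : X.affineOpens, Function.Surjective (secMap h𝔛.1 (γ h𝔛 p hp F) (ComplSec.pre p U.1)) := by
    intro U y
    obtain ⟨n, f, hf⟩ := hgens U.1 U.2
    obtain ⟨a, rfl⟩ := span_ehat h𝔛 p hp F U.2 f hf hc y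
    refine ⟨∑ i, a i • plF h𝔛 p hp F le_rfl (f i), ?_⟩
    rw [map_sum]
    refine Finset.sum_congr rfl fun i _ => ?_
    rw [map_smul, γ_plF]
    refine congrArg (a i • ·) ?_
    exact (congrArg (fun g => (FSch.realLim 𝔛 h𝔛.1 (PS).F (PS).toPush).val.map g (ehat h𝔛 p hp F U.1 (f i)))
      (Subsingleton.elim (homOfLE (le_refl (ComplSec.pre p U.1))).op (𝟙 _))).trans
      (congrArg (fun φ => φ.hom (ehat h𝔛 p hp F U.1 (f i)))
        ((FSch.realLim 𝔛 h𝔛.1 (PS).F (PS).toPush).val.map_id (op (ComplSec.pre p U.1))))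
  have hinj : ∀ U : X.affineOpens, Function.Injective (secMap h𝔛.1 (γ h𝔛 p hp F) (ComplSec.pre p U.1)) := by
    intro U
    rw [injective_iff_map_eq_zero]
    intro z hz
    refine TopCat.Presheaf.section_ext
      (F := (SheafOfModules.toSheaf _).obj ((FSch.toSchemeMor 𝔛 h𝔛.1 p hp).pull.obj F))
      (ComplSec.pre p U.1) z 0 fun x hx => ?_
    obtain ⟨W, hW, -, eW, hxW, l, b, m, hm⟩ := exists_local_plF h𝔛 p hp F z hx (U := U.1) hx
    obtain ⟨n, f, hf⟩ := hgens W hW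
    choose c hc' using fun q => (Submodule.mem_span_range_iff_exists_fun _).1
      (hf ▸ trivial : m q ∈ Submodule.span Γ(X, W) (Set.range f))
    let a : Fin n → Levels.A 𝔛 h𝔛.1 (ComplSec.pre p W) := fun i =>
      ∑ q, b q * shA h𝔛 p hp W (c q i)
    let P : Γ(F, W) →+ sec h𝔛.1 ((FSch.toSchemeMor 𝔛 h𝔛.1 p hp).pull.obj F) (ComplSec.pre p W) :=
      AddMonoidHom.mk' _ (plF_add h𝔛 p hp F (le_refl (ComplSec.pre p W)))
    have hid : ∀ v : Levels.A 𝔛 h𝔛.1 (ComplSec.pre p W), CohPres.resA h𝔛.1 le_rfl v = v := fun v =>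
      (congrArg (fun g => (𝔛.Osh h𝔛.1).obj.map g v)
        (Subsingleton.elim (homOfLE (le_refl (ComplSec.pre p W))).op (𝟙 _))).trans
        (congrArg (fun φ => φ.hom v) ((𝔛.Osh h𝔛.1).obj.map_id (op (ComplSec.pre p W))))
    have hP : ∀ (r : Γ(X, W)) (v : Γ(F, W)), P (r • v) = shA h𝔛 p hp W r • P v := fun r v =>
      (plF_smul h𝔛 p hp F le_rfl r v).trans (congrArg (· • P v) (hid _))
    have hz' : CohPres.resF h𝔛.1 _ eW z = ∑ i, a i • P (f i) := by
      rw [hm]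
      simp only [a, Finset.sum_smul]
      rw [Finset.sum_comm]
      refine Finset.sum_congr rfl fun q _ => ?_
      show b q • P (m q) = _
      rw [← hc' q, map_sum, Finset.smul_sum]
      exact Finset.sum_congr rfl fun i _ => by rw [hP, mul_smul]
    have hrel : ∑ i, a i • ehat h𝔛 p hp F W (f i) = 0 := by
      have h1 := congrArg (secMap h𝔛.1 (γ h𝔛 p hp F) (ComplSec.pre p W)) hz'
      rw [map_sum] at h1
      refine Eq.trans ?_ ((h1.symm.trans (LevelAdj.secMap_map (γ h𝔛 p hp F) eW z)).trans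
        ((congrArg _ hz).trans (map_zero _)))
      refine Finset.sum_congr rfl fun i _ => ?_
      rw [map_smul]
      refine congrArg (a i • ·) ?_
      refine Eq.trans ?_ (γ_plF h𝔛 p hp F le_rfl (f i)).symm
      exact ((congrArg (fun g => (FSch.realLim 𝔛 h𝔛.1 (PS).F (PS).toPush).val.map g (ehat h𝔛 p hp F W (f i)))
        (Subsingleton.elim (homOfLE (le_refl (ComplSec.pre p W))).op (𝟙 _))).trans
        (congrArg (fun φ => φ.hom (ehat h𝔛 p hp F W (f i)))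
          ((FSch.realLim 𝔛 h𝔛.1 (PS).F (PS).toPush).val.map_id (op (ComplSec.pre p W))))).symm
    haveI : IsNoetherianRing Γ(X, W) := IsLocallyNoetherian.component_noetherian ⟨W, hW⟩
    let φ : (Fin n → Γ(X, W)) →ₗ[Γ(X, W)] Γ(F, W) := Fintype.linearCombination _ f
    obtain ⟨k, r, hr⟩ := Submodule.fg_iff_exists_fin_generating_family.1
      (IsNoetherian.noetherian (LinearMap.ker φ))
    obtain ⟨d, hd⟩ := exists_rel_coeff h𝔛 p hp F hW f hf r (fun c hc0 => by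
      have : c ∈ LinearMap.ker φ :=
        LinearMap.mem_ker.2 ((Fintype.linearCombination_apply _ _ _).trans hc0)
      rw [← hr, Submodule.mem_span_range_iff_exists_fun] at this
      obtain ⟨d, hd⟩ := this
      exact ⟨d, fun i => by rw [← hd]; simp⟩) a hrel
    have hr0 : ∀ j, φ (r j) = 0 := fun j =>
      LinearMap.mem_ker.1 (hr ▸ Submodule.subset_span ⟨j, rfl⟩)
    have h0 : ∑ i, a i • P (f i) = 0 := by
      simp only [hd, Finset.sum_smul, mul_smul, ← hP]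
      rw [Finset.sum_comm]
      refine Finset.sum_eq_zero fun j _ => ?_
      rw [← Finset.smul_sum, ← map_sum, ← Fintype.linearCombination_apply]
      show d j • P (φ (r j)) = 0
      rw [hr0, map_zero, smul_zero]
    rw [h0] at hz'
    refine Eq.trans ?_ (map_zero _).symm
    refine (TopCat.Presheaf.germ_res_apply
      (TopCat.Sheaf.presheaf ((SheafOfModules.toSheaf _).obj
        ((FSch.toSchemeMor 𝔛 h𝔛.1 p hp).pull.obj F))) (homOfLE eW) x hxW z).symm.trans ?_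
    exact (congrArg _ hz').trans (map_zero _)
  have hm : Mono (γ h𝔛 p hp F) := by
    refine ⟨fun {Z} u v huv => ?_⟩
    apply (SheafOfModules.toSheaf _).map_injective
    refine Sheaf.hom_ext (TopCat.Sheaf.hom_ext
      (F := ((SheafOfModules.toSheaf _).obj Z).obj)
      (F' := ((SheafOfModules.toSheaf _).obj ((FSch.toSchemeMor 𝔛 h𝔛.1 p hp).pull.obj F)))
      hB fun U => ?_)
    exact ConcreteCategory.hom_ext _ _ fun y => hinj U
      (congrArg (fun ψ : Z ⟶ _ => secMap h𝔛.1 ψ (ComplSec.pre p U.1) y) huv)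
  have he : Epi (γ h𝔛 p hp F) := by
    haveI : Sheaf.IsLocallySurjective ((SheafOfModules.toSheaf _).map (γ h𝔛 p hp F)) := by
      refine ⟨fun {V} s z hz => ?_⟩
      obtain ⟨_, ⟨U, rfl⟩, hzU, hUV⟩ := Opens.isBasis_iff_nbhd.1 hB hz
      obtain ⟨a, ha⟩ := hsurj U (CohPres.resF h𝔛.1 _ hUV s)
      exact ⟨ComplSec.pre p U.1, homOfLE hUV, ⟨a, ha⟩, hzU⟩
    exact (SheafOfModules.toSheaf _).epi_of_epi_map inferInstance
  exact isIso_of_mono_of_epi _

/-- The iso `u^* F ≅ F̂` with its defining property, for any system equal to the inverse images. -/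
theorem exists_iso_of_eq (hF : Coh.IsCoh F) (hc : (PS).IsCoh) (A : FSch.ModSys 𝔛) (hA : A = PS)
    (η : ∀ k, F ⟶ (Scheme.Modules.pushforward (p k)).obj (A.F k))
    (hη : ∀ k, HEq (η k) ((Scheme.Modules.pullbackPushforwardAdjunction (p k)).unit.app F)) :
    ∃ e : (FSch.toSchemeMor 𝔛 h𝔛.1 p hp).pull.obj F ≅ A.realMod h𝔛.1,
      ∀ k, ((FSch.toSchemeMor 𝔛 h𝔛.1 p hp).adj.homEquiv _ _ e.hom) ≫
          (FSch.toSchemeMor 𝔛 h𝔛.1 p hp).push.map (FSch.realProj 𝔛 h𝔛.1 A.F A.toPush k) =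
        η k ≫ (FSch.schPushCompare 𝔛 h𝔛.1 p hp k).app _ := by
  subst hA
  haveI := isIso_γ h𝔛 p hp F hF hc
  refine ⟨asIso (γ h𝔛 p hp F), fun k => ?_⟩
  rw [eq_of_heq (hη k), asIso_hom, homEquiv_γ]
  refine SheafOfModules.hom_ext (PresheafOfModules.hom_ext fun U => ?_)
  refine ModuleCat.hom_ext (LinearMap.ext fun m => ?_)
  exact π_ehat h𝔛 p hp F k U.unop m

end Groth.Agent.H30.ComplPull
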