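import Groth.Agent.H30.FSch.ComplSec
import Groth.Agent.H30.FSch.ComplPull
import Groth.Agent.H30.FSch.CohRed
import Groth.Agent.H30.IdealLemmas
import Groth.Agent.H78.Formal.Sections
import Groth.Agent.Lib.QCoh.Tilde
import Groth.Agent.Lib.QCoh.Pullback
import Groth.Agent.Lib.Adic.Complete
import Groth.Agent.H78.Formal.Algebraize
import Groth.Agent.Lib.Cyc.FP.Stalk

/-!
# Coherent systems on the formal spectrum come from finite modules (helper30)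
-/

set_option autoImplicit false
set_option linter.style.haveILetI false

universe u

open CategoryTheory CategoryTheory.Limits AlgebraicGeometry TopologicalSpace Opposite
open Groth.Agent.H30 Groth.Agent.H30.RealLimSec
open Groth.Agent.Lib

namespace Groth.Agent.H30.AffineEquiv

variable {A : Type u} [CommRing A] [IsNoetherianRing A] {𝔛 : FSch.Sys.{u}} (h𝔛 : 𝔛.IsLocNoethFormal)
  (p : ∀ n, 𝔛.X n ⟶ Spec (CommRingCat.of A)) (hp : ∀ n, 𝔛.ι n ≫ p (n + 1) = p n)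
  [∀ k, IsClosedImmersion (p k)] (J : Ideal A)
  (hI : ∀ k, (p k).ker.ideal ⟨⊤, isAffineOpen_top _⟩ =
    (J ^ (k + 1)).map (Scheme.ΓSpecIso (CommRingCat.of A)).inv.hom)

/-- The common space, as an open. -/
noncomputable abbrev V₀ : (𝔛.X 0).Opens := ComplSec.pre p ⊤

/-- From the ring to the functions on the formal spectrum. -/
noncomputable def c : A →+* Levels.A 𝔛 h𝔛.1 (V₀ p) :=
  (ComplPull.shA h𝔛 p hp ⊤).comp (Scheme.ΓSpecIso (CommRingCat.of A)).inv.hom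

theorem proj_c (k : ℕ) (r : A) :
    Levels.proj 𝔛 h𝔛.1 k (V₀ p) (c h𝔛 p hp r) =
      (p k).appLE ⊤ _ (ComplSec.lvU_pre h𝔛.1 p hp k ⊤).le
        ((Scheme.ΓSpecIso (CommRingCat.of A)).inv r) :=
  ComplPull.proj_shA h𝔛 p hp k ⊤ _

include hI in
theorem proj_c_eq_zero_iff (k : ℕ) (r : A) :
    Levels.proj 𝔛 h𝔛.1 k (V₀ p) (c h𝔛 p hp r) = 0 ↔ r ∈ J ^ (k + 1) := by
  rw [proj_c h𝔛 p hp]
  have h1 : (p k).appLE ⊤ _ (ComplSec.lvU_pre h𝔛.1 p hp k ⊤).le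
      ((Scheme.ΓSpecIso (CommRingCat.of A)).inv r) = 0 ↔
      (Scheme.ΓSpecIso (CommRingCat.of A)).inv r ∈ (p k).ker.ideal ⟨⊤, isAffineOpen_top _⟩ := by
    rw [Scheme.Hom.ker_apply, RingHom.mem_ker]
    constructor
    · intro h
      have h2 := congrArg ((𝔛.X k).presheaf.map (homOfLE (ComplSec.lvU_pre h𝔛.1 p hp k ⊤).ge).op) h
      rw [map_zero] at h2
      refine Eq.trans ?_ h2
      rw [Scheme.Hom.app_eq_appLE]
      exact (ConcreteCategory.congr_hom ((p k).appLE_map _ _) _).symm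
    · intro h
      exact (congrArg ((𝔛.X k).presheaf.map (homOfLE (ComplSec.lvU_pre h𝔛.1 p hp k ⊤).le).op) h).trans
        (map_zero _)
  rw [h1, hI]
  constructor
  · intro h
    have := Ideal.mem_map_of_mem (Scheme.ΓSpecIso (CommRingCat.of A)).hom.hom h
    rw [Ideal.map_map, ← CommRingCat.hom_comp, Iso.inv_hom_id, CommRingCat.hom_id, Ideal.map_id] at this
    rwa [show (Scheme.ΓSpecIso (CommRingCat.of A)).hom ((Scheme.ΓSpecIso (CommRingCat.of A)).inv r) = r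
      from ConcreteCategory.congr_hom (Scheme.ΓSpecIso (CommRingCat.of A)).inv_hom_id r] at this
  · exact fun h => Ideal.mem_map_of_mem _ h

include hI in
theorem c_surjective [IsAdicComplete J A] : Function.Surjective (c h𝔛 p hp) := by
  intro x
  have hq : ∀ k, ∃ a, Levels.proj 𝔛 h𝔛.1 k (V₀ p) (c h𝔛 p hp a) = Levels.proj 𝔛 h𝔛.1 k (V₀ p) x := by
    intro k
    obtain ⟨s, hs⟩ := ComplPull.surjective_appLE h𝔛 p hp (isAffineOpen_top _) k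
      (Levels.proj 𝔛 h𝔛.1 k (V₀ p) x)
    refine ⟨(Scheme.ΓSpecIso (CommRingCat.of A)).hom s, ?_⟩
    rw [proj_c h𝔛 p hp]
    refine (congrArg _ ?_).trans hs
    exact ConcreteCategory.congr_hom (Scheme.ΓSpecIso (CommRingCat.of A)).hom_inv_id s
  choose a ha using hq
  have hstep : ∀ k, a (k + 1) - a k ∈ J ^ (k + 1) := by
    intro k
    rw [← proj_c_eq_zero_iff h𝔛 p hp J hI, map_sub, map_sub, sub_eq_zero, ha k,
      ← Levels.proj_trans 𝔛 h𝔛.1 k (V₀ p)]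
    exact congrArg (Levels.trans 𝔛 h𝔛.1 k (V₀ p)) (ha (k + 1))
  have hd : ∀ m d, a (m + d) - a m ∈ J ^ (m + 1) := by
    intro m d
    induction d with
    | zero => simp
    | succ d ih =>
      rw [← sub_add_sub_cancel (a (m + (d + 1))) (a (m + d)) (a m)]
      exact add_mem (Ideal.pow_le_pow_right (by omega) (hstep (m + d))) ih
  obtain ⟨L, hL⟩ := IsPrecomplete.prec (I := J) (inferInstance : IsPrecomplete J A) (f := a)
    (fun {m n} hmn => by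
      obtain ⟨d, rfl⟩ := Nat.exists_eq_add_of_le hmn
      rw [Adic.Complete.pow_mul_top, SModEq.comm, SModEq.sub_mem]
      exact Ideal.pow_le_pow_right (by omega) (hd m d))
  refine ⟨L, sub_eq_zero.1 (Levels.ext_of_proj _ fun k => ?_)⟩
  have h2 : a (k + 1) - L ∈ J ^ (k + 1) := by
    simpa [Adic.Complete.pow_mul_top, SModEq.sub_mem] using hL (k + 1)
  have h3 : a k - L ∈ J ^ (k + 1) := by
    rw [show a k - L = (a (k + 1) - L) - (a (k + 1) - a k) by ring]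
    exact sub_mem h2 (hstep k)
  rw [← proj_c_eq_zero_iff h𝔛 p hp J hI, map_sub, map_sub, sub_eq_zero, ha] at h3
  rw [map_sub, sub_eq_zero]
  exact h3.symm

variable (𝔐 : FSch.ModSys 𝔛)

/-- The finite module of a coherent system. -/
noncomputable def Gm : ModuleCat.{u} (CommRingCat.of A) :=
  (ModuleCat.restrictScalars (c h𝔛 p hp)).obj
    (ModuleCat.of (Levels.A 𝔛 h𝔛.1 (V₀ p)) (sec h𝔛.1 (𝔐.realMod h𝔛.1) (V₀ p)))

/-- An element of the module, as a section. -/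
noncomputable abbrev toSec (m : Gm h𝔛 p hp 𝔐) : sec h𝔛.1 (𝔐.realMod h𝔛.1) (V₀ p) := m

theorem toSec_smul (r : A) (m : Gm h𝔛 p hp 𝔐) :
    toSec h𝔛 p hp 𝔐 (r • m) = c h𝔛 p hp r • toSec h𝔛 p hp 𝔐 m := rfl

variable (h𝔐 : 𝔐.IsCoh) [IsAdicComplete J A]

include hI h𝔐 in
theorem finite_Gm : Module.Finite A (Gm h𝔛 p hp 𝔐) := by
  obtain ⟨hfin, -⟩ := CohSys.main h𝔛 𝔐 h𝔐 (ComplSec.isAffineOpen_pre p (isAffineOpen_top _))
  obtain ⟨s, hs⟩ := hfin.fg_top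
  let s' : Finset (Gm h𝔛 p hp 𝔐) := s
  refine ⟨⟨s', eq_top_iff.2 fun x _ => ?_⟩⟩
  have hx : toSec h𝔛 p hp 𝔐 x ∈ Submodule.span (Levels.A 𝔛 h𝔛.1 (V₀ p)) (s : Set (sec h𝔛.1 (𝔐.realMod h𝔛.1) (V₀ p))) := by
    rw [hs]; trivial
  refine Submodule.span_induction (p := fun (y : sec h𝔛.1 (𝔐.realMod h𝔛.1) (V₀ p)) _ => (show Gm h𝔛 p hp 𝔐 from y) ∈ Submodule.span A (s' : Set (Gm h𝔛 p hp 𝔐)))
    (fun y hy => Submodule.subset_span hy) (Submodule.zero_mem _) (fun y z _ _ hy hz => Submodule.add_mem _ hy hz)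
    (fun a y _ hy => ?_) hx
  obtain ⟨r, rfl⟩ := c_surjective h𝔛 p hp J hI a
  exact Submodule.smul_mem _ r hy

/-- The projection to level `k`. -/
noncomputable abbrev proj' (k : ℕ) (m : Gm h𝔛 p hp 𝔐) : lev h𝔛.1 𝔐.F k (V₀ p) :=
  π h𝔛.1 𝔐.F 𝔐.toPush k (V₀ p) (toSec h𝔛 p hp 𝔐 m)

include hI h𝔐 in
theorem proj'_eq_zero_iff (k : ℕ) (m : Gm h𝔛 p hp 𝔐) :
    proj' h𝔛 p hp 𝔐 k m = 0 ↔ m ∈ J ^ (k + 1) • (⊤ : Submodule A (Gm h𝔛 p hp 𝔐)) := by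
  obtain ⟨-, -, hπ⟩ := CohSys.main h𝔛 𝔐 h𝔐 (ComplSec.isAffineOpen_pre p (isAffineOpen_top _))
  have hJ : ∀ r, r ∈ J ^ (k + 1) ↔ c h𝔛 p hp r ∈ Levels.J (h := h𝔛.1) (V₀ p) ^ (k + 1) := fun r => by
    rw [← proj_c_eq_zero_iff h𝔛 p hp J hI,
      ← ((Levels.adic h𝔛 (ComplSec.isAffineOpen_pre p (isAffineOpen_top _))).2.1 k).2]
    exact Iff.rfl
  constructor
  · intro hm
    have hm' : toSec h𝔛 p hp 𝔐 m ∈ Levels.J (h := h𝔛.1) (V₀ p) ^ (k + 1) •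
        (⊤ : Submodule (Levels.A 𝔛 h𝔛.1 (V₀ p)) (sec h𝔛.1 (𝔐.realMod h𝔛.1) (V₀ p))) :=
      (hπ k).2.le (LinearMap.mem_ker.2 hm)
    refine Submodule.smul_induction_on
      (p := fun (y : sec h𝔛.1 (𝔐.realMod h𝔛.1) (V₀ p)) =>
        (show Gm h𝔛 p hp 𝔐 from y) ∈ J ^ (k + 1) • (⊤ : Submodule A (Gm h𝔛 p hp 𝔐))) hm'
      (fun a ha y _ => ?_) fun y z hy hz => Submodule.add_mem _ hy hz
    obtain ⟨r, rfl⟩ := c_surjective h𝔛 p hp J hI a
    exact Submodule.smul_mem_smul ((hJ r).2 ha) (Submodule.mem_top (x := (show Gm h𝔛 p hp 𝔐 from y)))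
  · intro hm
    refine LinearMap.mem_ker.1 ((hπ k).2.ge ?_)
    refine Submodule.smul_induction_on (p := fun y => toSec h𝔛 p hp 𝔐 y ∈ Levels.J (h := h𝔛.1) (V₀ p) ^ (k + 1) •
        (⊤ : Submodule (Levels.A 𝔛 h𝔛.1 (V₀ p)) (sec h𝔛.1 (𝔐.realMod h𝔛.1) (V₀ p)))) hm
      (fun r hr y _ => ?_) fun y z hy hz => Submodule.add_mem _ hy hz
    exact Submodule.smul_mem_smul ((hJ r).1 hr) Submodule.mem_top

/-- The comparison `M → Γ(X_k, F_k)`. -/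
noncomputable def lin (k : ℕ) : Gm h𝔛 p hp 𝔐 ⟶
    (moduleSpecΓFunctor (R := CommRingCat.of A)).obj ((Scheme.Modules.pushforward (p k)).obj (𝔐.F k)) :=
  ModuleCat.homEquiv.symm
    { toFun := fun m => (𝔐.F k).presheaf.map (homOfLE (ComplSec.lvU_pre h𝔛.1 p hp k ⊤).ge).op
        (proj' h𝔛 p hp 𝔐 k m)
      map_add' := fun m m' => (congrArg _ (map_add _ _ _)).trans (map_add _ _ _)
      map_smul' := fun r m => by
        show (𝔐.F k).presheaf.map (homOfLE (ComplSec.lvU_pre h𝔛.1 p hp k ⊤).ge).op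
            (π h𝔛.1 𝔐.F 𝔐.toPush k (V₀ p) (c h𝔛 p hp r • toSec h𝔛 p hp 𝔐 m)) =
          (p k).app ⊤ ((Spec (CommRingCat.of A)).presheaf.map (homOfLE le_top).op
              ((Scheme.ΓSpecIso (CommRingCat.of A)).inv r)) •
            (show Γ(𝔐.F k, p k ⁻¹ᵁ ⊤) from
              (𝔐.F k).presheaf.map (homOfLE (ComplSec.lvU_pre h𝔛.1 p hp k ⊤).ge).op (proj' h𝔛 p hp 𝔐 k m))
        refine (congrArg _ ((map_smul _ _ _).trans
          ((lev_smul h𝔛.1 𝔐.F k _ _ _).trans (congrArg (· • _) (proj_c h𝔛 p hp k r))))).trans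
          ((Scheme.Modules.map_smul _ _ _ _).trans ?_)
        congr 1
        rw [Scheme.Hom.app_eq_appLE]
        refine (ConcreteCategory.congr_hom ((p k).appLE_map _ _) _).trans ?_
        refine congrArg ((p k).appLE ⊤ _ _) ?_
        exact (ConcreteCategory.congr_hom ((Spec (CommRingCat.of A)).presheaf.map_id _) _).symm }

/-- The map `M~ → (p_k)_* F_k`. -/
noncomputable def hk (k : ℕ) :
    tilde (Gm h𝔛 p hp 𝔐) ⟶ (Scheme.Modules.pushforward (p k)).obj (𝔐.F k) :=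
  ((tilde.adjunction (R := CommRingCat.of A)).homEquiv _ _).symm (lin h𝔛 p hp 𝔐 k)

/-- The global section of `M~` of an element. -/
noncomputable abbrev top (M : ModuleCat.{u} (CommRingCat.of A)) (m : M) :
    Γ(tilde M, (⊤ : (Spec (CommRingCat.of A)).Opens)) :=
  (tilde.toOpen M ⊤).hom m

omit [IsNoetherianRing A] [∀ k, IsClosedImmersion (p k)] [IsAdicComplete J A] in
theorem top_bijective (M : ModuleCat.{u} (CommRingCat.of A)) : Function.Bijective (top M) :=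
  haveI := tilde.isIso_toOpen_top (M := M)
  ConcreteCategory.bijective_of_isIso (C := ModuleCat (CommRingCat.of A)) (tilde.toOpen M ⊤)

omit [IsNoetherianRing A] [∀ k, IsClosedImmersion (p k)] [IsAdicComplete J A] in
/-- Maps from `M~` are determined by their values on `M`. -/
theorem hom_ext_top {M : ModuleCat.{u} (CommRingCat.of A)} {N : (Spec (CommRingCat.of A)).Modules}
    {φ ψ : tilde M ⟶ N} (h : ∀ m, φ.app ⊤ (top M m) = ψ.app ⊤ (top M m)) : φ = ψ := by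
  refine ((tilde.adjunction (R := CommRingCat.of A)).homEquiv M N).injective ?_
  rw [Adjunction.homEquiv_unit, Adjunction.homEquiv_unit]
  exact ModuleCat.hom_ext (LinearMap.ext h)

theorem hk_top (k : ℕ) (m : Gm h𝔛 p hp 𝔐) :
    (hk h𝔛 p hp 𝔐 k).app ⊤ (top (Gm h𝔛 p hp 𝔐) m) =
      (𝔐.F k).presheaf.map (homOfLE (ComplSec.lvU_pre h𝔛.1 p hp k ⊤).ge).op (proj' h𝔛 p hp 𝔐 k m) := by
  have h := Equiv.apply_symm_apply ((tilde.adjunction (R := CommRingCat.of A)).homEquiv (Gm h𝔛 p hp 𝔐) _)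
    (lin h𝔛 p hp 𝔐 k)
  rw [Adjunction.homEquiv_unit] at h
  refine Eq.trans ?_ (ConcreteCategory.congr_hom h m)
  rfl

/-- The comparison at level `k`. -/
noncomputable def g (k : ℕ) :
    (Scheme.Modules.pullback (p k)).obj (tilde (Gm h𝔛 p hp 𝔐)) ⟶ 𝔐.F k :=
  ((Scheme.Modules.pullbackPushforwardAdjunction (p k)).homEquiv _ _).symm (hk h𝔛 p hp 𝔐 k)

theorem homEquiv_g (k : ℕ) :
    ((Scheme.Modules.pullbackPushforwardAdjunction (p k)).homEquiv _ _) (g h𝔛 p hp 𝔐 k) =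
      hk h𝔛 p hp 𝔐 k :=
  Equiv.apply_symm_apply _ _

theorem g_σ (k : ℕ) (m : Gm h𝔛 p hp 𝔐) :
    (g h𝔛 p hp 𝔐 k).app (𝔛.lvU h𝔛.1 k (V₀ p))
        (ComplSec.σ h𝔛.1 p hp (tilde (Gm h𝔛 p hp 𝔐)) k ⊤ (top _ m)) =
      proj' h𝔛 p hp 𝔐 k m := by
  rw [ComplSec.σ_apply]
  refine ((g h𝔛 p hp 𝔐 k).mapPresheaf.naturality_apply
    (homOfLE (ComplSec.lvU_pre h𝔛.1 p hp k ⊤).le).op _).trans ?_
  have h1 : (g h𝔛 p hp 𝔐 k).app (p k ⁻¹ᵁ ⊤) (CohDelta.Units.eta (p k) (tilde (Gm h𝔛 p hp 𝔐)) ⊤ (top _ m)) =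
      (𝔐.F k).presheaf.map (homOfLE (ComplSec.lvU_pre h𝔛.1 p hp k ⊤).ge).op (proj' h𝔛 p hp 𝔐 k m) := by
    refine Eq.trans ?_ (hk_top h𝔛 p hp 𝔐 k m)
    have h := homEquiv_g h𝔛 p hp 𝔐 k
    rw [Adjunction.homEquiv_unit] at h
    exact ConcreteCategory.congr_hom (congrArg (fun χ => χ.app ⊤) h) _
  refine (congrArg _ h1).trans ((CohDelta.Units.map_map _ _ _ (𝟙 _) _).trans ?_)
  exact ConcreteCategory.congr_hom ((𝔐.F k).presheaf.map_id _) _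

include hI h𝔐 in
theorem isIso_g (k : ℕ) : IsIso (g h𝔛 p hp 𝔐 k) := by
  haveI := (h𝔐 k).1
  haveI : (tilde (Gm h𝔛 p hp 𝔐)).IsQuasicoherent := QCoh.Tilde.isQCoh_tildeFunctor_obj _
  haveI : ((Scheme.Modules.pullback (p k)).obj (tilde (Gm h𝔛 p hp 𝔐))).IsQuasicoherent :=
    QCoh.Pullback.isQCoh_pullback (p k) _
  refine H78.Formal.Sections.isIso_of_cover (g h𝔛 p hp 𝔐 k) fun x => ?_
  refine ⟨𝔛.lvU h𝔛.1 k (V₀ p), OshBasic.isAffineOpen_lvU 𝔛 h𝔛.1 k (ComplSec.isAffineOpen_pre p (isAffineOpen_top _)),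
    (ComplSec.lvU_pre h𝔛.1 p hp k ⊤).ge trivial, ?_, fun y => ?_⟩
  · rw [injective_iff_map_eq_zero]
    intro y hy
    obtain ⟨w, rfl⟩ := ComplSec.σ_surjective h𝔛.1 p hp (tilde (Gm h𝔛 p hp 𝔐)) k (isAffineOpen_top _) y
    obtain ⟨m, rfl⟩ := (top_bijective (Gm h𝔛 p hp 𝔐)).2 w
    have hm := (proj'_eq_zero_iff h𝔛 p hp J hI 𝔐 h𝔐 k m).1 ((g_σ h𝔛 p hp 𝔐 k m).symm.trans hy)
    refine (ComplSec.σ_eq_zero_iff h𝔛.1 p hp (tilde (Gm h𝔛 p hp 𝔐)) k (isAffineOpen_top _) _).2 ?_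
    rw [hI]
    refine Submodule.smul_induction_on
      (p := fun y => top _ y ∈ _) hm (fun r hr n _ => ?_) fun a b ha hb => ?_
    · refine Eq.subst (motive := fun z => z ∈ _) ((map_smul (tilde.toOpen (Gm h𝔛 p hp 𝔐) ⊤).hom r n).symm.trans rfl)
        ?_
      refine Eq.subst (motive := fun z => z ∈ _) ?_
        (Submodule.smul_mem_smul (Ideal.mem_map_of_mem (Scheme.ΓSpecIso (CommRingCat.of A)).inv.hom hr)
          (Submodule.mem_top (x := top (Gm h𝔛 p hp 𝔐) n)))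
      exact congrArg (· • top (Gm h𝔛 p hp 𝔐) n)
        (ConcreteCategory.congr_hom ((Spec (CommRingCat.of A)).presheaf.map_id _) _).symm
    · exact Eq.subst (motive := fun z => z ∈ _) (map_add _ a b).symm (Submodule.add_mem _ ha hb)
  · obtain ⟨-, -, hπ⟩ := CohSys.main h𝔛 𝔐 h𝔐 (ComplSec.isAffineOpen_pre p (isAffineOpen_top _))
    obtain ⟨m, hm⟩ := (hπ k).1 y
    exact ⟨_, (g_σ h𝔛 p hp 𝔐 k m).trans hm⟩

omit [IsNoetherianRing A] [∀ k, IsClosedImmersion (p k)] [IsAdicComplete J A] in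
/-- The transition maps through any larger open. -/
theorem tr_res (𝔑 : FSch.ModSys 𝔛) (k : ℕ) {V : (𝔛.X 0).Opens} (W : (𝔛.X (k + 1)).Opens)
    (e1 : 𝔛.lvU h𝔛.1 (k + 1) V ≤ W) (e2 : 𝔛.lvU h𝔛.1 k V ≤ 𝔛.ι k ⁻¹ᵁ W) (x : Γ(𝔑.F (k + 1), W)) :
    (𝔑.F k).presheaf.map (homOfLE e2).op ((𝔑.e k).hom.app (𝔛.ι k ⁻¹ᵁ W)
        (CohDelta.Units.eta (𝔛.ι k) (𝔑.F (k + 1)) W x)) =
      tr h𝔛.1 𝔑.F 𝔑.toPush k V ((𝔑.F (k + 1)).presheaf.map (homOfLE e1).op x) := by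
  rw [CohSys.tr_eq h𝔛]
  symm
  refine (congrArg (fun z => (𝔑.F k).presheaf.map (homOfLE (𝔛.lvU_le h𝔛.1 k V)).op ((𝔑.e k).hom.app _ z))
    (((Scheme.Modules.pullbackPushforwardAdjunction (𝔛.ι k)).unit.app (𝔑.F (k + 1))).mapPresheaf.naturality_apply
      (homOfLE e1).op x)).trans ?_
  refine (congrArg ((𝔑.F k).presheaf.map (homOfLE (𝔛.lvU_le h𝔛.1 k V)).op)
    ((𝔑.e k).hom.mapPresheaf.naturality_apply (homOfLE ((𝔛.ι k).preimage_mono e1)).op _)).trans ?_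
  exact CohDelta.Units.map_map _ _ _ _ _

theorem g_comm (k : ℕ) :
    (Scheme.Modules.pullback (𝔛.ι k)).map (g h𝔛 p hp 𝔐 (k + 1)) ≫ (𝔐.e k).hom =
      ((ComplSec.pullSys p hp (tilde (Gm h𝔛 p hp 𝔐))).e k).hom ≫ g h𝔛 p hp 𝔐 k := by
  refine ((Scheme.Modules.pullbackPushforwardAdjunction (𝔛.ι k)).homEquiv _ _).injective ?_
  refine ((Scheme.Modules.pullbackPushforwardAdjunction (p (k + 1))).homEquiv _ _).injective ?_
  refine hom_ext_top fun m => ?_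
  have hT := tr_π h𝔛.1 𝔐.F 𝔐.toPush k (V₀ p)
  have key : ∀ (β : (Scheme.Modules.pullback (𝔛.ι k)).obj
      ((ComplSec.pullSys p hp (tilde (Gm h𝔛 p hp 𝔐))).F (k + 1)) ⟶ 𝔐.F k),
      (((Scheme.Modules.pullbackPushforwardAdjunction (p (k + 1))).homEquiv _ _)
        (((Scheme.Modules.pullbackPushforwardAdjunction (𝔛.ι k)).homEquiv _ _) β)).app ⊤ (top _ m) =
      β.app (𝔛.ι k ⁻¹ᵁ (p (k + 1) ⁻¹ᵁ ⊤)) (CohDelta.Units.eta (𝔛.ι k) _ _
        (CohDelta.Units.eta (p (k + 1)) (tilde (Gm h𝔛 p hp 𝔐)) ⊤ (top _ m))) := by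
    intro β
    rw [Adjunction.homEquiv_unit, Adjunction.homEquiv_unit]
    rfl
  rw [key, key]
  refine (CohSys.restrict_bijective (𝔐.F k)
    (show 𝔛.lvU h𝔛.1 k (V₀ p) ≤ 𝔛.ι k ⁻¹ᵁ (p (k + 1) ⁻¹ᵁ ⊤) from fun _ _ => trivial)
    (fun z hz => (ComplSec.lvU_pre h𝔛.1 p hp k ⊤).ge trivial)).1 ?_
  set t := top (Gm h𝔛 p hp 𝔐) m
  have hL : ((Scheme.Modules.pullback (𝔛.ι k)).map (g h𝔛 p hp 𝔐 (k + 1))).app
      (𝔛.ι k ⁻¹ᵁ (p (k + 1) ⁻¹ᵁ ⊤)) (CohDelta.Units.eta (𝔛.ι k) _ _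
        (CohDelta.Units.eta (p (k + 1)) (tilde (Gm h𝔛 p hp 𝔐)) ⊤ t)) =
      CohDelta.Units.eta (𝔛.ι k) (𝔐.F (k + 1)) (p (k + 1) ⁻¹ᵁ ⊤)
        ((g h𝔛 p hp 𝔐 (k + 1)).app (p (k + 1) ⁻¹ᵁ ⊤)
          (CohDelta.Units.eta (p (k + 1)) (tilde (Gm h𝔛 p hp 𝔐)) ⊤ t)) :=
    CohDelta.Units.eta_map _ _ _ _
  refine ((congrArg (fun z => (𝔐.F k).presheaf.map _ ((𝔐.e k).hom.app _ z)) hL).trans ?_)
  refine (tr_res h𝔛 𝔐 k (p (k + 1) ⁻¹ᵁ ⊤) (ComplSec.lvU_pre h𝔛.1 p hp (k + 1) ⊤).le _ _).trans ?_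
  have h1 : (𝔐.F (k + 1)).presheaf.map (homOfLE (ComplSec.lvU_pre h𝔛.1 p hp (k + 1) ⊤).le).op
      ((g h𝔛 p hp 𝔐 (k + 1)).app (p (k + 1) ⁻¹ᵁ ⊤)
          (CohDelta.Units.eta (p (k + 1)) (tilde (Gm h𝔛 p hp 𝔐)) ⊤ t)) =
      π h𝔛.1 𝔐.F 𝔐.toPush (k + 1) (V₀ p) (toSec h𝔛 p hp 𝔐 m) :=
    ((g h𝔛 p hp 𝔐 (k + 1)).mapPresheaf.naturality_apply
      (homOfLE (ComplSec.lvU_pre h𝔛.1 p hp (k + 1) ⊤).le).op _).symm.trans (g_σ h𝔛 p hp 𝔐 (k + 1) m)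
  refine ((congrArg _ h1).trans (LinearMap.congr_fun hT _)).trans ?_
  refine ((g_σ h𝔛 p hp 𝔐 k m).symm.trans ?_)
  have hN := tr_res h𝔛 (ComplSec.pullSys p hp (tilde (Gm h𝔛 p hp 𝔐))) k (p (k + 1) ⁻¹ᵁ ⊤)
    (ComplSec.lvU_pre h𝔛.1 p hp (k + 1) ⊤).le
    (show 𝔛.lvU h𝔛.1 k (V₀ p) ≤ 𝔛.ι k ⁻¹ᵁ (p (k + 1) ⁻¹ᵁ ⊤) from fun _ _ => trivial)
    (CohDelta.Units.eta (p (k + 1)) (tilde (Gm h𝔛 p hp 𝔐)) ⊤ t)
  refine Eq.trans ?_ ((g h𝔛 p hp 𝔐 k).mapPresheaf.naturality_apply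
      (homOfLE (show 𝔛.lvU h𝔛.1 k (V₀ p) ≤ 𝔛.ι k ⁻¹ᵁ (p (k + 1) ⁻¹ᵁ ⊤) from fun _ _ => trivial)).op _)
  refine congrArg ((g h𝔛 p hp 𝔐 k).app (𝔛.lvU h𝔛.1 k (V₀ p))) ?_
  exact ((ComplSec.tr_σ h𝔛.1 p hp (tilde (Gm h𝔛 p hp 𝔐)) h𝔛 k ⊤ t).symm.trans hN.symm)

/-- The comparison of systems. -/
noncomputable def iso : ComplSec.pullSys p hp (tilde (Gm h𝔛 p hp 𝔐)) ⟶ 𝔐 :=
  ⟨g h𝔛 p hp 𝔐, g_comm h𝔛 p hp 𝔐⟩

include hI h𝔐 in
/-- A coherent system comes from its module. -/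
theorem exists_iso : Module.Finite A (Gm h𝔛 p hp 𝔐) ∧
    Nonempty (𝔐 ≅ ComplSec.pullSys p hp (tilde (Gm h𝔛 p hp 𝔐))) := by
  refine ⟨finite_Gm h𝔛 p hp J hI 𝔐 h𝔐, ⟨?_⟩⟩
  have hgi := isIso_g h𝔛 p hp J hI 𝔐 h𝔐
  let e : ∀ k, (ComplSec.pullSys p hp (tilde (Gm h𝔛 p hp 𝔐))).F k ≅ 𝔐.F k := fun k =>
    @asIso _ _ _ _ (g h𝔛 p hp 𝔐 k) (hgi k)
  refine Iso.symm
    { hom := iso h𝔛 p hp 𝔐
      inv := ⟨fun k => (e k).inv, fun k => ?_⟩
      hom_inv_id := FSch.ModSys.Hom.ext (funext fun k => (e k).hom_inv_id)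
      inv_hom_id := FSch.ModSys.Hom.ext (funext fun k => (e k).inv_hom_id) }
  rw [← Functor.mapIso_inv, Iso.inv_comp_eq, ← Category.assoc, Iso.eq_comp_inv]
  exact (g_comm h𝔛 p hp 𝔐 k).symm

section FullyFaithful

variable (N : ModuleCat.{u} (CommRingCat.of A))

local notation "PSN" => ComplSec.pullSys p hp (tilde N)

/-- A finite module maps to the module of its completion. -/
noncomputable def E : N →ₗ[A] Gm h𝔛 p hp (PSN) where
  toFun n := ComplPull.ehat h𝔛 p hp (tilde N) ⊤ (top N n)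
  map_add' n n' := (congrArg (ComplPull.ehat h𝔛 p hp (tilde N) ⊤) (map_add _ n n')).trans
    (ComplPull.ehat_add h𝔛 p hp (tilde N) ⊤ _ _)
  map_smul' r n := by
    have h1 : top N (r • n) = (Scheme.ΓSpecIso (CommRingCat.of A)).inv r • top N n :=
      (map_smul (tilde.toOpen N ⊤).hom r n).trans (congrArg (fun s : Γ(Spec (CommRingCat.of A), ⊤) => s • top N n)
        (ConcreteCategory.congr_hom ((Spec (CommRingCat.of A)).presheaf.map_id _) _))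
    exact (congrArg (ComplPull.ehat h𝔛 p hp (tilde N) ⊤) h1).trans
      (ComplPull.ehat_smul h𝔛 p hp (tilde N) ⊤ ((Scheme.ΓSpecIso (CommRingCat.of A)).inv r) (top N n))

theorem π_E (k : ℕ) (n : N) :
    proj' h𝔛 p hp (PSN) k (E h𝔛 p hp N n) = ComplSec.σ h𝔛.1 p hp (tilde N) k ⊤ (top N n) :=
  ComplPull.π_ehat h𝔛 p hp (tilde N) k ⊤ _

variable [Module.Finite A N]

omit [∀ k, IsClosedImmersion (p k)] [IsAdicComplete J A] in
theorem isCoh_pull : (PSN).IsCoh := fun k =>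
  Cyc.FP.Stalk.isCoh_pullback (p k) (H78.Formal.Algebraize.isCoh_tilde N)

include hI in
theorem E_bijective : Function.Bijective (E h𝔛 p hp N) := by
  haveI : (tilde N).IsQuasicoherent := QCoh.Tilde.isQCoh_tildeFunctor_obj _
  haveI := Adic.Complete.isAdicComplete_of_finite (I := J) (M := N)
  constructor
  · rw [injective_iff_map_eq_zero]
    intro n hn
    refine IsHausdorff.haus (I := J) inferInstance n fun k => ?_
    rw [SModEq.zero]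
    have h0 : ComplSec.σ h𝔛.1 p hp (tilde N) k ⊤ (top N n) = 0 := by
      rw [← π_E h𝔛 p hp N k n, hn]
      exact map_zero _
    have h1 := (ComplSec.σ_eq_zero_iff h𝔛.1 p hp (tilde N) k (isAffineOpen_top _) _).1 h0
    rw [hI] at h1
    have h2 : ∀ z ∈ (J ^ (k + 1)).map (Scheme.ΓSpecIso (CommRingCat.of A)).inv.hom •
        (⊤ : Submodule Γ(Spec (CommRingCat.of A), ⊤) Γ(tilde N, ⊤)),
        ∀ n', top N n' = z → n' ∈ J ^ (k + 1) • (⊤ : Submodule A N) := by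
      intro z hz
      refine Submodule.smul_induction_on hz (fun r hr w _ n' hn' => ?_) fun a b ha hb n' hn' => ?_
      · obtain ⟨r₀, hr₀, rfl⟩ := (Ideal.mem_map_iff_of_surjective _
          (ConcreteCategory.bijective_of_isIso (Scheme.ΓSpecIso (CommRingCat.of A)).inv).2).1 hr
        obtain ⟨w, rfl⟩ := (top_bijective N).2 w
        have : n' = r₀ • w := (top_bijective N).1 (hn'.trans ((congrArg (· • top N w)
          (ConcreteCategory.congr_hom ((Spec (CommRingCat.of A)).presheaf.map_id _) _).symm).trans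
          (map_smul (tilde.toOpen N ⊤).hom r₀ w).symm))
        rw [this]
        exact Submodule.smul_mem_smul hr₀ Submodule.mem_top
      · obtain ⟨a, rfl⟩ := (top_bijective N).2 a
        obtain ⟨b, rfl⟩ := (top_bijective N).2 b
        have : n' = a + b := (top_bijective N).1 (hn'.trans (map_add _ a b).symm)
        rw [this]
        exact add_mem (ha a rfl) (hb b rfl)
    exact Submodule.smul_mono_left (Ideal.pow_le_pow_right (Nat.le_succ k)) (h2 _ h1 n rfl)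
  · have hcoh := isCoh_pull p hp N
    haveI := finite_Gm h𝔛 p hp J hI (PSN) hcoh
    rw [← LinearMap.range_eq_top, eq_top_iff]
    refine Submodule.le_of_le_smul_of_le_jacobson_bot Module.Finite.fg_top
      (IsAdicComplete.le_jacobson_bot J) fun y _ => ?_
    obtain ⟨w, hw⟩ := ComplSec.σ_surjective h𝔛.1 p hp (tilde N) 0 (isAffineOpen_top _)
      (proj' h𝔛 p hp (PSN) 0 y)
    obtain ⟨n, rfl⟩ := (top_bijective N).2 w
    refine Submodule.mem_sup.2 ⟨E h𝔛 p hp N n, ⟨n, rfl⟩, y - E h𝔛 p hp N n, ?_, add_sub_cancel _ _⟩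
    rw [← pow_one J]
    refine (proj'_eq_zero_iff h𝔛 p hp J hI (PSN) hcoh 0 _).1 ?_
    refine (map_sub (π h𝔛.1 (PSN).F (PSN).toPush 0 (V₀ p)) _ _).trans ?_
    exact sub_eq_zero.2 (hw.symm.trans (π_E h𝔛 p hp N 0 n).symm)

end FullyFaithful

omit [IsNoetherianRing A] [∀ k, IsClosedImmersion (p k)] [IsAdicComplete J A] in
theorem π_realModMap {𝔐 𝔑 : FSch.ModSys 𝔛} (Φ : 𝔐 ⟶ 𝔑) (k : ℕ) (V : (𝔛.X 0).Opens)
    (x : sec h𝔛.1 (𝔐.realMod h𝔛.1) V) :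
    π h𝔛.1 𝔑.F 𝔑.toPush k V (secMap h𝔛.1 (FSch.ModSys.realModMap h𝔛.1 Φ) V x) =
      (Φ.app k).app (𝔛.lvU h𝔛.1 k V) (π h𝔛.1 𝔐.F 𝔐.toPush k V x) :=
  congrArg (fun ψ => secMap h𝔛.1 ψ V x) (FSch.realLimMap_realProj 𝔛 h𝔛.1 Φ.app
    (FSch.ModSys.Hom.toPush_comm Φ) k)

include h𝔛 hI in
/-- `u ↦ u^Δ` is bijective on finite modules. -/
theorem pullSysMap_bijective (M N : ModuleCat.{u} (CommRingCat.of A)) [Module.Finite A M] [Module.Finite A N] :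
    Function.Bijective (fun u : M ⟶ N => ComplSec.pullSysMap p hp (tilde.map u)) := by
  have hEN := E_bijective h𝔛 p hp J hI N
  have htop : ∀ (u : M ⟶ N) (m : M), (tilde.map u).app ⊤ (top M m) = top N (u.hom m) := fun u m =>
    ConcreteCategory.congr_hom (tilde.toOpen_map_app u ⊤) m
  have hσ : ∀ (u : M ⟶ N) k (m : M), ((ComplSec.pullSysMap p hp (tilde.map u)).app k).app
      (𝔛.lvU h𝔛.1 k (V₀ p)) (ComplSec.σ h𝔛.1 p hp (tilde M) k ⊤ (top M m)) =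
      proj' h𝔛 p hp (ComplSec.pullSys p hp (tilde N)) k (E h𝔛 p hp N (u.hom m)) := fun u k m => by
    rw [← ComplSec.σ_map h𝔛.1 p hp (tilde M) (tilde.map u) k ⊤, htop, π_E]
  refine ⟨fun u v huv => ?_, fun Φ => ?_⟩
  · refine ModuleCat.hom_ext (LinearMap.ext fun m => hEN.1 (RealLimSec.ext_of_π h𝔛.1 _ _ _ _ fun k => ?_))
    refine (hσ u k m).symm.trans (Eq.trans ?_ (hσ v k m))
    exact congrArg (fun z : ComplSec.pullSys p hp (tilde M) ⟶ ComplSec.pullSys p hp (tilde N) =>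
      (z.app k).app (𝔛.lvU h𝔛.1 k (V₀ p)) (ComplSec.σ h𝔛.1 p hp (tilde M) k ⊤ (top M m))) huv
  · let T : Gm h𝔛 p hp (ComplSec.pullSys p hp (tilde M)) →ₗ[A]
        Gm h𝔛 p hp (ComplSec.pullSys p hp (tilde N)) :=
      ((ModuleCat.restrictScalars (c h𝔛 p hp)).map
        (ModuleCat.ofHom (secMap h𝔛.1 (FSch.ModSys.realModMap h𝔛.1 Φ) (V₀ p)))).hom
    let u : M ⟶ N := ModuleCat.ofHom
      ((LinearEquiv.ofBijective (E h𝔛 p hp N) hEN).symm.toLinearMap ∘ₗ T ∘ₗ E h𝔛 p hp M)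
    have hu : ∀ m, E h𝔛 p hp N (u.hom m) = T (E h𝔛 p hp M m) := fun m =>
      (LinearEquiv.ofBijective (E h𝔛 p hp N) hEN).apply_symm_apply _
    refine ⟨u, FSch.ModSys.Hom.ext (funext fun k => ?_)⟩
    refine ((Scheme.Modules.pullbackPushforwardAdjunction (p k)).homEquiv _ _).injective ?_
    refine hom_ext_top fun m => ?_
    rw [Adjunction.homEquiv_unit, Adjunction.homEquiv_unit]
    refine (CohSys.restrict_bijective ((ComplSec.pullSys p hp (tilde N)).F k)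
      (ComplSec.lvU_pre h𝔛.1 p hp k ⊤).le (ComplSec.lvU_pre h𝔛.1 p hp k ⊤).ge).1 ?_
    refine (((ComplSec.pullSysMap p hp (tilde.map u)).app k).mapPresheaf.naturality_apply
        (homOfLE (ComplSec.lvU_pre h𝔛.1 p hp k ⊤).le).op _).symm.trans (Eq.trans ?_
      ((Φ.app k).mapPresheaf.naturality_apply (homOfLE (ComplSec.lvU_pre h𝔛.1 p hp k ⊤).le).op _))
    refine (hσ u k m).trans ?_
    refine (congrArg (proj' h𝔛 p hp (ComplSec.pullSys p hp (tilde N)) k) (hu m)).trans ?_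
    refine (π_realModMap h𝔛 Φ k (V₀ p) _).trans ?_
    exact congrArg ((Φ.app k).app (𝔛.lvU h𝔛.1 k (V₀ p))) (π_E h𝔛 p hp M k m)

include h𝔛 hI in
/-- `u ↦ u^Δ` is bijective, with `tilde` as a functor. -/
theorem pullSysMap_bijective' (M N : ModuleCat.{u} (CommRingCat.of A)) [Module.Finite A M] [Module.Finite A N] :
    Function.Bijective (fun u : M ⟶ N =>
      ComplSec.pullSysMap p hp ((tilde.functor (CommRingCat.of A)).map u)) := by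
  have h := pullSysMap_bijective h𝔛 p hp J hI M N
  exact h

omit [IsNoetherianRing A] [∀ k, IsClosedImmersion (p k)] [IsAdicComplete J A] in
/-- Bijectivity, moved along equalities of systems. -/
theorem bijective_of_heq {α : Sort*} {𝔄 𝔅 𝔄' 𝔅' : FSch.ModSys 𝔛} (hA : 𝔄 = 𝔄') (hB : 𝔅 = 𝔅')
    (f : α → (𝔄 ⟶ 𝔅)) (g : α → (𝔄' ⟶ 𝔅')) (h : ∀ u, HEq (f u) (g u)) (hg : Function.Bijective g) :
    Function.Bijective f := by
  subst hA hB
  rwa [funext fun u => eq_of_heq (h u)]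

end Groth.Agent.H30.AffineEquiv
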