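import Groth.Agent.H30.FSch.BaseScalar

/-!
# The filtration of the cohomology over the preimage of an affine open is stable (helper30)
-/

set_option autoImplicit false
set_option linter.style.haveILetI false
set_option linter.unusedSectionVars false

universe u

open CategoryTheory CategoryTheory.Limits AlgebraicGeometry TopologicalSpace Opposite CategoryTheory.Abelian
open Groth.Agent.H30 Groth.Agent.H30.RealLimSec
open Groth.Agent.Lib Groth.Agent.Lib.ZarCoh.Compare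
open Groth.Agent.Lib.ZarCoh.Basic (Zs)

namespace Groth.Agent.H30.BaseFilt

section Gen

/-- An identity of maps of sheaves, on sections. -/
theorem key_of_sections {X : TopCat.{u}} {F F' H : CohTop.Ab X} (T : F ⟶ F') [IsIso T] (s' : F' ⟶ F')
    (i : F ⟶ H) (m : H ⟶ H)
    (h : ∀ (W : (Opens X)ᵒᵖ) (x : F.obj.obj W), ∃ rx : F.obj.obj W,
      (T.hom.app W).hom rx = (s'.hom.app W).hom ((T.hom.app W).hom x) ∧
        (i.hom.app W).hom rx = (m.hom.app W).hom ((i.hom.app W).hom x)) :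
    T ≫ s' ≫ inv T ≫ i = i ≫ m := by
  refine Sheaf.hom_ext (NatTrans.ext (funext fun W => ConcreteCategory.hom_ext _ _ fun x => ?_))
  obtain ⟨rx, h₁, h₂⟩ := h W x
  show (i.hom.app W).hom (((inv T).hom.app W).hom ((s'.hom.app W).hom ((T.hom.app W).hom x))) =
    (m.hom.app W).hom ((i.hom.app W).hom x)
  rw [← h₁, show ((inv T).hom.app W).hom ((T.hom.app W).hom rx) = rx from
    ConcreteCategory.congr_hom (congrArg (fun φ => φ.hom.app W) (IsIso.hom_inv_id T)) rx]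
  exact h₂

/-- A relation of classes from a relation after an isomorphism. -/
theorem relGen {C : Type (u + 1)} [Category.{u} C] [Abelian C] [HasExt.{u} C] {P P' : C} {p : ℕ}
    (κ : ∀ F : C, Ext P F p ≃+ Ext P' F p)
    (hκ : ∀ {F G : C} (φ : F ⟶ G) (x : Ext P F p),
      κ G (x.comp (Ext.mk₀ φ) (add_zero p)) = (κ F x).comp (Ext.mk₀ φ) (add_zero p))
    {F F' H : C} (T : F ⟶ F') [IsIso T] (s' : F' ⟶ F') (i : F ⟶ H) (m : H ⟶ H)
    (key : T ≫ s' ≫ inv T ≫ i = i ≫ m) {ry rz : Ext P' F p}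
    (h : ((κ F).symm rz).comp (Ext.mk₀ T) (add_zero p) =
      (((κ F).symm ry).comp (Ext.mk₀ T) (add_zero p)).comp (Ext.mk₀ s') (add_zero p)) :
    rz.comp (Ext.mk₀ i) (add_zero p) = (ry.comp (Ext.mk₀ i) (add_zero p)).comp (Ext.mk₀ m) (add_zero p) := by
  obtain ⟨y, rfl⟩ := (κ F).surjective ry
  obtain ⟨z, rfl⟩ := (κ F).surjective rz
  simp only [AddEquiv.symm_apply_apply] at h
  have h2 : z = y.comp (Ext.mk₀ (T ≫ s' ≫ inv T)) (add_zero p) := by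
    have h3 := congrArg (fun t => Ext.comp t (Ext.mk₀ (inv T)) (add_zero p)) h
    simpa only [Ext.comp_assoc_of_second_deg_zero, Ext.mk₀_comp_mk₀, IsIso.hom_inv_id, Ext.comp_mk₀_id,
      Category.assoc] using h3
  rw [h2, hκ, Ext.comp_assoc_of_second_deg_zero, Ext.mk₀_comp_mk₀, Ext.comp_assoc_of_second_deg_zero,
    Ext.mk₀_comp_mk₀, Category.assoc, Category.assoc, key]

theorem relTop {X : TopCat.{u}} {F F' H : CohTop.Ab X} {p : ℕ} (T : F ⟶ F') [IsIso T] (s' : F' ⟶ F')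
    (i : F ⟶ H) (m : H ⟶ H) (key : T ≫ s' ≫ inv T ≫ i = i ≫ m) (ry rz : Ext.{u} (Zs.obj (⊤ : Opens X)) F p)
    (h : Ext.comp ((hTop F p).symm rz) (Ext.mk₀ T) (add_zero p) =
      Ext.comp (Ext.comp ((hTop F p).symm ry) (Ext.mk₀ T) (add_zero p)) (Ext.mk₀ s') (add_zero p)) :
    rz.comp (Ext.mk₀ i) (add_zero p) = (ry.comp (Ext.mk₀ i) (add_zero p)).comp (Ext.mk₀ m) (add_zero p) :=
  relGen (C := CohTop.Ab X) (P := HTower.cst X) (P' := Zs.obj (⊤ : Opens X)) (p := p) (fun F => hTop F p)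
    (fun {F G} φ x => hTop_comp x (Ext.mk₀ φ) (add_zero p)) T s' i m key h

theorem isProper_q {A : Type u} [CommRing A] {J : Ideal A} {𝔛 : FSch.Sys.{u}} (g : 𝔛 ⟶ FSch.spf A J)
    (hg : IsProper ((g : FSch.Hom _ _).app 0)) : IsProper (ProperML.q g 0) := by
  haveI : IsClosedImmersion (FSch.spfToSpec A J 0) := IdealLemmas.isClosedImmersion_specQuot A J 0
  infer_instance

end Gen

variable {𝔛 𝔜 : FSch.Sys.{u}} (h𝔛 : 𝔛.IsLocNoethFormal) (h𝔜 : 𝔜.IsLocNoethFormal) (f : 𝔛 ⟶ 𝔜)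
  [HasInjectiveResolutions (FSch.ModF 𝔛 h𝔛.1)] (V : (𝔜.X 0).Opens) (𝔐 : FSch.ModSys 𝔛)

/-- The module of a level. -/
noncomputable abbrev Mk (k : ℕ) : FSch.ModF 𝔛 h𝔛.1 :=
  (FSch.levelSysOf 𝔛 h𝔛.1 𝔐.F 𝔐.toPush).obj (op k)

/-- The unit of the localisation, on abelian sheaves. -/
noncomputable abbrev ηA (k : ℕ) : (GrLevel.G h𝔛 𝔐).obj (op k) ⟶
    (RpushAbNat.ab h𝔛.1).obj ((RpushScalar.J h𝔛.1 f V).obj (Mk h𝔛 𝔐 k)) :=
  (RpushAbNat.ab h𝔛.1).map (RpushScalar.η h𝔛.1 f V (Mk h𝔛 𝔐 k))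

/-- The scalar, on abelian sheaves. -/
noncomputable abbrev mulA (a : Levels.A 𝔜 h𝔜.1 V) (k : ℕ) :
    (RpushAbNat.ab h𝔛.1).obj ((RpushScalar.J h𝔛.1 f V).obj (Mk h𝔛 𝔐 k)) ⟶
      (RpushAbNat.ab h𝔛.1).obj ((RpushScalar.J h𝔛.1 f V).obj (Mk h𝔛 𝔐 k)) :=
  (RpushAbNat.ab h𝔛.1).map (RpushScalar.mul h𝔛.1 h𝔜.1 f V a (Mk h𝔛 𝔐 k))

/-- A class which is `a` times another. -/
def Rel (a : Levels.A 𝔜 h𝔜.1 V) (P : CohTop.Ab (𝔛.X 0).carrier) (p k : ℕ)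
    (y z : Ext.{u} P ((GrLevel.G h𝔛 𝔐).obj (op k)) p) : Prop :=
  z.comp (Ext.mk₀ (ηA h𝔛 f V 𝔐 k)) (add_zero p) =
    (y.comp (Ext.mk₀ (ηA h𝔛 f V 𝔐 k)) (add_zero p)).comp (Ext.mk₀ (mulA h𝔛 h𝔜 f V 𝔐 a k)) (add_zero p)

theorem ηA_bijective (k : ℕ) {W : (𝔛.X 0).Opens} (hW : W ≤ BaseScalar.U f V) :
    Function.Bijective ((ηA h𝔛 f V 𝔐 k).hom.app (op W)).hom :=
  ModLoc.ηApp_bijective (X := (𝔛.X 0).carrier) (𝔛.Osh h𝔛.1) (RpushScalar.pre f V) (Mk h𝔛 𝔐 k) hW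

theorem image_le (W : ((RestrictLevels.sys h𝔛 (BaseScalar.U f V)).X 0).Opens) :
    (RestrictLevels.he h𝔛 (BaseScalar.U f V)).functor.obj W ≤ BaseScalar.U f V :=
  ((RestrictLevels.he h𝔛 (BaseScalar.U f V)).functor.monotone le_top).trans
    (RestrictML.image_top h𝔛 (BaseScalar.U f V)).le

theorem isIso_rst_ηA (k : ℕ) :
    IsIso ((rst (RestrictLevels.he h𝔛 (BaseScalar.U f V))).map (ηA h𝔛 f V 𝔐 k)) := by
  haveI : IsIso ((sheafToPresheaf _ _).map ((rst (RestrictLevels.he h𝔛 (BaseScalar.U f V))).map (ηA h𝔛 f V 𝔐 k))) :=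
    haveI : ∀ W, IsIso (((sheafToPresheaf _ _).map
        ((rst (RestrictLevels.he h𝔛 (BaseScalar.U f V))).map (ηA h𝔛 f V 𝔐 k))).app W) := fun W =>
      (ConcreteCategory.isIso_iff_bijective _).2 (ηA_bijective h𝔛 f V 𝔐 k (image_le h𝔛 f V W.unop))
    NatIso.isIso_of_isIso_app _
  exact isIso_of_reflects_iso _ (sheafToPresheaf _ _)

variable {A : Type u} [CommRing A] {J : Ideal A} (e : 𝔜.restrictOpen h𝔜.1 V ≅ FSch.spf A J) (g : A)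
  (a : Levels.A 𝔜 h𝔜.1 V)
  (ha : ∀ n, (𝔜.lvU h𝔜.1 n V).ι.appLE (𝔜.lvU h𝔜.1 n V) ⊤ (BaseScalar.le_preimage_ι _)
    (Levels.proj 𝔜 h𝔜.1 n V a) = GrLevel.res (BaseScalar.qV h𝔜 V e n) ⊤ g)

instance isIso_T (k : ℕ) : IsIso ((RestrictLevels.towerHom h𝔛 (BaseScalar.U f V) 𝔐).app (op k)) :=
  haveI : IsIso (RestrictLevels.towerHom h𝔛 (BaseScalar.U f V) 𝔐) := RestrictLevels.isIso_towerHom h𝔛 _ 𝔐
  NatIso.isIso_app_of_isIso _ _

/-- The scalar on the restricted tower. -/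
noncomputable abbrev sg : GrLevel.G (RestrictLevels.hsys h𝔛 (BaseScalar.U f V)) (RestrictLevels.mod h𝔛 (BaseScalar.U f V) 𝔐) ⟶
    GrLevel.G (RestrictLevels.hsys h𝔛 (BaseScalar.U f V)) (RestrictLevels.mod h𝔛 (BaseScalar.U f V) 𝔐) :=
  GrLevel.σ (RestrictLevels.hsys h𝔛 (BaseScalar.U f V)) (ProperML.q (BaseScalar.gg h𝔛 h𝔜 f V e))
    (ProperML.hq (BaseScalar.gg h𝔛 h𝔜 f V e)) (RestrictLevels.mod h𝔛 (BaseScalar.U f V) 𝔐) g

set_option maxHeartbeats 800000 in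
include ha in
/-- The scalar on the restricted tower is the scalar of the base. -/
theorem tower_scalar (k : ℕ) :
    (RestrictLevels.towerHom h𝔛 (BaseScalar.U f V) 𝔐).app (op k) ≫ (sg h𝔛 h𝔜 f V 𝔐 e g).app (op k) ≫
        inv ((RestrictLevels.towerHom h𝔛 (BaseScalar.U f V) 𝔐).app (op k)) ≫
        (rst (RestrictLevels.he h𝔛 (BaseScalar.U f V))).map (ηA h𝔛 f V 𝔐 k) =
      (rst (RestrictLevels.he h𝔛 (BaseScalar.U f V))).map (ηA h𝔛 f V 𝔐 k) ≫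
        (rst (RestrictLevels.he h𝔛 (BaseScalar.U f V))).map (mulA h𝔛 h𝔜 f V 𝔐 a k) := by
  refine key_of_sections _ _ _ _ fun W x => ?_
  let I := (RestrictLevels.he h𝔛 (BaseScalar.U f V)).functor.obj W.unop
  let x' : sec h𝔛.1 (Mk h𝔛 𝔐 k) I := x
  let r := CohPres.resA h𝔛.1 (image_le h𝔛 f V W.unop) (RpushScalar.pb h𝔛.1 h𝔜.1 f V a)
  refine ⟨(r • x' : sec h𝔛.1 (Mk h𝔛 𝔐 k) I), ?_, ?_⟩
  · have hT : ∀ y : lev h𝔛.1 𝔐.F k I,
        (((RestrictLevels.towerHom h𝔛 (BaseScalar.U f V) 𝔐).app (op k)).hom.app W).hom y =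
          RestrictLevels.secRes h𝔛 (BaseScalar.U f V) 𝔐 k W.unop y := fun y => rfl
    obtain ⟨e', he'⟩ := BaseScalar.secRes_smul h𝔛 𝔐 k (BaseScalar.U f V) W.unop (Levels.proj 𝔛 h𝔛.1 k I r) x
    refine (hT _).trans (he'.trans ?_)
    rw [BaseScalar.res_eq h𝔛 h𝔜 f V e g ha k I (image_le h𝔛 f V W.unop) _ e']
    refine Eq.trans ?_ (congrArg _ (hT x)).symm
    exact (GrLevel.σ_apply (RestrictLevels.hsys h𝔛 (BaseScalar.U f V)) (ProperML.q (BaseScalar.gg h𝔛 h𝔜 f V e))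
      (ProperML.hq (BaseScalar.gg h𝔛 h𝔜 f V e)) (RestrictLevels.mod h𝔛 (BaseScalar.U f V) 𝔐) g k W.unop
      (RestrictLevels.secRes h𝔛 (BaseScalar.U f V) 𝔐 k W.unop x)).symm
  · refine ((secMap h𝔛.1 (RpushScalar.η h𝔛.1 f V (Mk h𝔛 𝔐 k)) I).map_smul r x').trans ?_
    symm
    refine (ModLoc.mulApp_apply (X := (𝔛.X 0).carrier) (𝔛.Osh h𝔛.1) (RpushScalar.pre f V)
      (RpushScalar.pb h𝔛.1 h𝔜.1 f V a) (Mk h𝔛 𝔐 k) I _).trans ?_
    exact congrArg (fun c => ModLoc.sm (X := (𝔛.X 0).carrier) (𝔛.Osh h𝔛.1) (Mk h𝔛 𝔐 k) c _)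
      (ModLoc.scRes (O := 𝔛.Osh h𝔛.1) (X := (𝔛.X 0).carrier) (image_le h𝔛 f V W.unop)
        (ModLoc.cut_le (RpushScalar.pre f V) I) _).symm

/-- Cohomology over the preimage is cohomology of the restricted tower. -/
noncomputable abbrev E (p k : ℕ) :=
  RestrictML.equiv (RestrictLevels.he h𝔛 (BaseScalar.U f V)) (GrLevel.G h𝔛 𝔐) _
    (RestrictLevels.towerHom h𝔛 (BaseScalar.U f V) 𝔐) p (op k)

set_option maxHeartbeats 800000 in
include ha in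
theorem rel_of_equiv (p k : ℕ)
    (y z : Ext.{u} (Zs.obj ((RestrictLevels.he h𝔛 (BaseScalar.U f V)).functor.obj ⊤))
      ((GrLevel.G h𝔛 𝔐).obj (op k)) p)
    (h : E h𝔛 f V 𝔐 p k z = (E h𝔛 f V 𝔐 p k y).comp (Ext.mk₀ ((sg h𝔛 h𝔜 f V 𝔐 e g).app (op k))) (add_zero p)) :
    Rel h𝔛 h𝔜 f V 𝔐 a _ p k y z := by
  let he := RestrictLevels.he h𝔛 (BaseScalar.U f V)
  let T := (RestrictLevels.towerHom h𝔛 (BaseScalar.U f V) 𝔐).app (op k)
  have hnat : ∀ {G H : CohTop.Ab (𝔛.X 0).carrier} (φ : G ⟶ H) (w : Ext.{u} (Zs.obj (he.functor.obj ⊤)) G p),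
      restrEquiv he ⊤ p H (w.comp (Ext.mk₀ φ) (add_zero p)) =
        (restrEquiv he ⊤ p G w).comp (Ext.mk₀ ((rst he).map φ)) (add_zero p) := fun {G H} φ w => by
    show restrMap he ⊤ p H _ = _
    rw [cmp_comp (rst he) (openGen he ⊤) w (Ext.mk₀ φ) (add_zero p), Ext.mapExactFunctor_mk₀]
    rfl
  apply (restrEquiv he ⊤ p _).injective
  rw [hnat, hnat, hnat]
  exact relTop T ((sg h𝔛 h𝔜 f V 𝔐 e g).app (op k)) ((rst he).map (ηA h𝔛 f V 𝔐 k))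
    ((rst he).map (mulA h𝔛 h𝔜 f V 𝔐 a k)) (tower_scalar h𝔛 h𝔜 f V 𝔐 e g a ha k) _ _ h

variable (hf : FSch.IsProperHom f) (h𝔐 : 𝔐.IsCoh)

set_option maxHeartbeats 1000000 in
include hf h𝔐 in
/-- The filtration is eventually generated by finitely many functions vanishing on the smallest level. -/
theorem decomp (hV : IsAffineOpen V) (p : ℕ) :
    ∃ (r : ℕ) (a : Fin r → Levels.A 𝔜 h𝔜.1 V), (∀ i, Levels.proj 𝔜 h𝔜.1 0 V (a i) = 0) ∧
      ∃ N, ∀ n, N ≤ n → ∀ m ∈ FamFil.Fam (GrLevel.G h𝔛 𝔐) (Zs.obj (BaseScalar.U f V)) p, m (n + 1) = 0 →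
        ∃ y z : Fin r → ∀ k, Ext.{u} (Zs.obj (BaseScalar.U f V)) ((GrLevel.G h𝔛 𝔐).obj (op k)) p,
          (∀ i, y i ∈ FamFil.Fam (GrLevel.G h𝔛 𝔐) (Zs.obj (BaseScalar.U f V)) p) ∧ (∀ i, y i n = 0) ∧
            (∀ i k, Rel h𝔛 h𝔜 f V 𝔐 (a i) _ p k (y i k) (z i k)) ∧ ∀ k, m k = ∑ i, z i k := by
  obtain ⟨A, iA, J, hN, hC, ⟨e⟩⟩ := AffineBase.exists_iso_spf h𝔜 hV
  obtain ⟨r, g, hspan⟩ := Submodule.fg_iff_exists_fin_generating_family.1 (IsNoetherian.noetherian J)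
  have hg : ∀ i, g i ∈ J := fun i => hspan ▸ Submodule.subset_span ⟨i, rfl⟩
  choose a ha using fun i => BaseScalar.exists_scalar h𝔜 V e (g i)
  refine ⟨r, a, fun i => BaseScalar.proj_zero_eq_zero h𝔜 V e (hg i) (ha i), ?_⟩
  have hgg : FSch.IsProperHom (BaseScalar.gg h𝔛 h𝔜 f V e) :=
    AffineBase.isProperHom_comp_iso (AffineBase.isProperHom_restrict h𝔛 h𝔜 f hf V) e
  let h' := RestrictLevels.hsys h𝔛 (BaseScalar.U f V)
  let q' := ProperML.q (BaseScalar.gg h𝔛 h𝔜 f V e)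
  haveI : ∀ n, IsClosedImmersion (FSch.spfToSpec A J n) := fun n => IdealLemmas.isClosedImmersion_specQuot A J n
  haveI : IsProper ((BaseScalar.gg h𝔛 h𝔜 f V e : FSch.Hom _ _).app 0) := hgg.2
  haveI : IsProper (q' 0) := isProper_q (BaseScalar.gg h𝔛 h𝔜 f V e) hgg.2
  have hk := IdealLemmas.isLocNoethFormal_spf A J
  have hJ : ∀ n, ((RestrictLevels.sys h𝔛 (BaseScalar.U f V)).toX n).ker = (FSch.idealSpec A J).comap (q' n) :=
    fun n => by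
      rw [SysLemmas.ker_toX_of_isAdicHom hgg.1 hk.1 n,
        IdealLemmas.ker_toX_eq (FSch.spf A J) (FSch.idealSpec A J) (fun n => FSch.spfToSpec A J n)
          (fun n => CohB1.specQuotTrans_specQuot J n) (IdealLemmas.ker_specQuot A J) n,
        Scheme.IdealSheafData.comap_comp]
  obtain ⟨N, hdec⟩ := GrFil.decomp h' q' (ProperML.hq _) hJ (RestrictLevels.mod h𝔛 (BaseScalar.U f V) 𝔐)
    (RestrictLevels.isCoh_mod h𝔛 _ 𝔐 h𝔐) p g hg hspan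
  refine ⟨N, ?_⟩
  suffices h : ∀ (U' : (𝔛.X 0).Opens), (RestrictLevels.he h𝔛 (BaseScalar.U f V)).functor.obj ⊤ = U' →
      ∀ n, N ≤ n → ∀ m ∈ FamFil.Fam (GrLevel.G h𝔛 𝔐) (Zs.obj U') p, m (n + 1) = 0 →
        ∃ y z : Fin r → ∀ k, Ext.{u} (Zs.obj U') ((GrLevel.G h𝔛 𝔐).obj (op k)) p,
          (∀ i, y i ∈ FamFil.Fam (GrLevel.G h𝔛 𝔐) (Zs.obj U') p) ∧ (∀ i, y i n = 0) ∧
            (∀ i k, Rel h𝔛 h𝔜 f V 𝔐 (a i) _ p k (y i k) (z i k)) ∧ ∀ k, m k = ∑ i, z i k from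
    h _ (RestrictML.image_top h𝔛 _)
  rintro _ rfl n hn m hm h0
  let EE := E h𝔛 f V 𝔐 p
  have hnat : ∀ k (x : Ext.{u} (Zs.obj ((RestrictLevels.he h𝔛 (BaseScalar.U f V)).functor.obj ⊤))
      ((GrLevel.G h𝔛 𝔐).obj (op (k + 1))) p),
      EE k (x.comp (Ext.mk₀ ((GrLevel.G h𝔛 𝔐).map (homOfLE (Nat.le_succ k)).op)) (add_zero p)) =
        (EE (k + 1) x).comp (Ext.mk₀ ((GrLevel.G h' (RestrictLevels.mod h𝔛 (BaseScalar.U f V) 𝔐)).map
          (homOfLE (Nat.le_succ k)).op)) (add_zero p) := fun k x =>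
    RestrictML.equiv_natural _ _ _ _ p (homOfLE (Nat.le_succ k)).op x
  obtain ⟨y', hy', hy0, hsum⟩ := hdec n hn (fun k => EE k (m k))
    (fun k => (hnat k (m (k + 1))).symm.trans (congrArg (EE k) (hm k)))
    ((congrArg (EE (n + 1)) h0).trans (map_zero _))
  refine ⟨fun i k => (EE k).symm (y' i k),
    fun i k => (EE k).symm ((y' i k).comp (Ext.mk₀ ((sg h𝔛 h𝔜 f V 𝔐 e (g i)).app (op k))) (add_zero p)),
    fun i k => (EE k).injective ?_, fun i => (congrArg (EE n).symm (hy0 i)).trans (map_zero _), fun i k => ?_,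
    fun k => ?_⟩
  · refine (hnat k _).trans ((congrArg (fun t => Ext.comp t _ (add_zero p)) ((EE (k + 1)).apply_symm_apply (y' i (k + 1)))).trans ?_)
    exact (hy' i k).trans ((EE k).apply_symm_apply (y' i k)).symm
  · refine rel_of_equiv h𝔛 h𝔜 f V 𝔐 e (g i) (a i) (ha i) p k _ _ ?_
    exact ((EE k).apply_symm_apply _).trans
      (congrArg (fun t => Ext.comp t _ (add_zero p)) ((EE k).apply_symm_apply (y' i k))).symm
  · refine Eq.trans ?_ (map_sum (EE k).symm _ _)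
    refine ((EE k).symm_apply_apply (m k)).symm.trans (congrArg (EE k).symm ?_)
    exact (congrFun hsum k).trans (Finset.sum_apply k _ _)

end Groth.Agent.H30.BaseFilt
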