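import Groth.Agent.H30.FSch.RestrictML
import Groth.Agent.H30.FSch.AffineBase
import Groth.Agent.H30.FSch.AffAcyclic

/-!
# Cohomology of the levels over the preimage of an affine open of the base (helper30)
-/

set_option autoImplicit false
set_option linter.style.haveILetI false
set_option linter.unusedSectionVars false

universe u

open CategoryTheory CategoryTheory.Limits AlgebraicGeometry TopologicalSpace Opposite
open Groth.Agent.H30 Groth.Agent.H30.RealLimSec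
open Groth.Agent.Lib
open Groth.Agent.Lib.ZarCoh.Basic (Zs)

namespace Groth.Agent.H30.BaseML

variable {𝔛 𝔜 : FSch.Sys.{u}} (h𝔛 : 𝔛.IsLocNoethFormal) (h𝔜 : 𝔜.IsLocNoethFormal)
  (f : 𝔛 ⟶ 𝔜) (hf : FSch.IsProperHom f) (𝔐 : FSch.ModSys 𝔛) (h𝔐 : 𝔐.IsCoh)

include h𝔜 hf h𝔐 in
theorem ml {V : (𝔜.X 0).Opens} (hV : IsAffineOpen V) (i : ℕ) :
    MLSeq.Basic.ML (GrLevel.G h𝔛 𝔐 ⋙
      Abelian.extFunctorObj.{u} (Zs.obj ((f : FSch.Hom 𝔛 𝔜).app 0 ⁻¹ᵁ V : (𝔛.X 0).Opens)) i) := by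
  obtain ⟨A, iA, J, hN, hC, g, hg⟩ := AffineBase.exists_proper h𝔛 h𝔜 f hf hV
  exact RestrictML.ml_open h𝔛 _ 𝔐 i
    (ProperML.ml (RestrictLevels.hsys h𝔛 _) _ (RestrictLevels.isCoh_mod h𝔛 _ 𝔐 h𝔐) g hg i)

include h𝔐 in
theorem surjective_trans {W : (𝔛.X 0).Opens} (hW : IsAffineOpen W) (k : ℕ) : Function.Surjective
    (((GrLevel.G h𝔛 𝔐).map (homOfLE (Nat.le_succ k)).op).hom.app (op W)).hom := fun y => by
  obtain ⟨x, hx⟩ := (CohSys.tr_spec h𝔛 𝔐 h𝔐 hW k).1 y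
  exact ⟨x, (GrLevel.t_apply h𝔛 𝔐 k W x).trans hx⟩

include h𝔜 hf h𝔐 in
/-- Cohomology over the preimage of an affine open is the limit of that of the levels. -/
theorem toFam_bijective {V : (𝔜.X 0).Opens} (hV : IsAffineOpen V) (i : ℕ) :
    Function.Bijective (HTower.Gen.toFam (Zs.obj ((f : FSch.Hom 𝔛 𝔜).app 0 ⁻¹ᵁ V : (𝔛.X 0).Opens))
      (GrLevel.G h𝔛 𝔐) i) := by
  let B : Set (Opens (𝔛.X 0)) := {W | IsAffineOpen (W : (𝔛.X 0).Opens)}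
  have hvan : ∀ W ∈ B, ∀ (k m : ℕ), 0 < m → Subsingleton (CohTop.HU ((GrLevel.G h𝔛 𝔐).obj (op k)) m W) :=
    fun W hW k m hm => ProperML.acyclic h𝔛 𝔐 h𝔐 hW k m hm
  exact HTower.Gen.bij_succ _ (GrLevel.G h𝔛 𝔐)
    (TowerExt.Opens.detects B (Scheme.isBasis_affineOpens _)) (TowerExt.Opens.acyclic B _ hvan)
    (TowerExt.Opens.lift_trans B _ fun W hW k => surjective_trans h𝔛 𝔐 h𝔐 hW k) i fun j _ =>
      TowerExt.Opens.subsingleton_limOne _ ((MLSeq.Basic.ml_iff _).2 (ml h𝔛 h𝔜 f hf 𝔐 h𝔐 hV j))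

end Groth.Agent.H30.BaseML
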