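import Groth.Agent.H30.FSch.MLGr
import Groth.Agent.H30.FSch.HTower

/-!
# The filtration of compatible families of classes is stable under a graded ring (helper30)

If the cohomology in degree `q` of the graded pieces of a tower is generated in bounded degrees by multiplications,
then the kernels of the projections of the compatible families are obtained from earlier ones by the same
multiplications.
-/

set_option autoImplicit false
set_option linter.unusedSectionVars false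

universe u

open CategoryTheory CategoryTheory.Limits CategoryTheory.Abelian Opposite
open Groth.Agent.Lib Groth.Agent.H30 Groth.Agent.H30.MLGr

namespace Groth.Agent.H30.FamFil

variable {C : Type (u + 1)} [Category.{u} C] [Abelian C] [HasExt.{u} C] [HasProductsOfShape ℕ C]
  (G : ℕᵒᵖ ⥤ C) (hepi : ∀ l : ℕ, Epi (t G (Nat.le_succ l))) (P : C) (q : ℕ)

/-- Families of classes. -/
noncomputable abbrev Fam : AddSubgroup (∀ n, Ext P (G.obj (op n)) q) := HTower.Gen.fam P G q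

theorem fam_t {m : ∀ n, Ext P (G.obj (op n)) q} (hm : m ∈ Fam G P q) (l : ℕ) :
    (m (l + 1)).comp (Ext.mk₀ (t G (Nat.le_succ l))) (add_zero q) = m l := hm l

theorem fam_zero_of_le {m : ∀ n, Ext P (G.obj (op n)) q} (hm : m ∈ Fam G P q) {j l : ℕ} (h : j ≤ l)
    (h0 : m l = 0) : m j = 0 := by
  induction l, h using Nat.le_induction with
  | base => exact h0
  | succ l _ ih => exact ih (by rw [← fam_t G P q hm l, h0, Ext.zero_comp])

section Mult

variable (σ : G ⟶ G) (hσ : ∀ l : ℕ, kernel.ι (t G (Nat.le_succ l)) ≫ σ.app (op (l + 1)) = 0)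

/-- Multiplication of a family. -/
noncomputable def act (m : ∀ n, Ext P (G.obj (op n)) q) : ∀ n, Ext P (G.obj (op n)) q :=
  fun n => (m n).comp (Ext.mk₀ (σ.app (op n))) (add_zero q)

theorem act_mem {m : ∀ n, Ext P (G.obj (op n)) q} (hm : m ∈ Fam G P q) : act G P q σ m ∈ Fam G P q :=
  fun n => by
    refine (HTower.Gen.map_comp P _ _ q (m (n + 1))).trans ?_
    rw [← t_app G σ (Nat.le_succ n), ← HTower.Gen.map_comp P, fam_t G P q hm n]
    rfl

include hepi hσ in
theorem act_succ {m : ∀ n, Ext P (G.obj (op n)) q} (hm : m ∈ Fam G P q) (l : ℕ) :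
    act G P q σ m (l + 1) = (m l).comp (Ext.mk₀ (μ G hepi σ hσ l)) (add_zero q) := by
  rw [← fam_t G P q hm l, HTower.Gen.map_comp, t_μ]
  rfl

theorem act_zero_of {m : ∀ n, Ext P (G.obj (op n)) q} (l : ℕ) (h : m l = 0) : act G P q σ m l = 0 := by
  show (m l).comp _ _ = 0
  rw [h, Ext.zero_comp]

end Mult

/-- The sum of the first terms at each level. -/
noncomputable def diag (z : ℕ → ∀ n, Ext P (G.obj (op n)) q) : ∀ n, Ext P (G.obj (op n)) q :=
  fun k => ∑ s ∈ Finset.range k, z s k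

theorem diag_mem (z : ℕ → ∀ n, Ext P (G.obj (op n)) q) (hz : ∀ s, z s ∈ Fam G P q) (n : ℕ)
    (h0 : ∀ s, z s (n + s) = 0) : diag G P q z ∈ Fam G P q := fun k => by
  show Ext.comp (∑ s ∈ Finset.range (k + 1), z s (k + 1)) _ _ = _
  refine (map_sum ((Ext.mk₀ (G.map (homOfLE (Nat.le_succ k)).op)).postcomp P (add_zero q)) _ _).trans ?_
  refine (Finset.sum_congr rfl fun s _ => show _ = z s k from hz s k).trans ?_
  rw [Finset.sum_range_succ, fam_zero_of_le G P q (hz k) (Nat.le_add_left k n) (h0 k), add_zero]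
  rfl

variable {A : Type u} [CommRing A] [IsNoetherianRing A] (σ : A → (G ⟶ G)) {r : ℕ} (a : Fin r → A)
  (hσ : ∀ (i : Fin r) (l : ℕ), kernel.ι (t G (Nat.le_succ l)) ≫ (σ (a i)).app (op (l + 1)) = 0)
  (M : ℕ → Type u) [∀ l, AddCommGroup (M l)] [∀ l, Module A (M l)] [∀ l, Module.Finite A (M l)]
  (e : ∀ l, M l ≃+ Ext P (K G (Nat.le_succ l)) q)
  (he : ∀ (b : A) l (m : M l), e l (b • m) = (e l m).comp (Ext.mk₀ (σK G (σ b) (Nat.le_succ l))) (add_zero _))

/-- The graded pieces met by families. -/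
noncomputable def Pl (l : ℕ) : Submodule A (M l) where
  carrier := {z | ∃ m ∈ Fam G P q, m l = 0 ∧
    m (l + 1) = (e l z).comp (Ext.mk₀ (kernel.ι (t G (Nat.le_succ l)))) (add_zero q)}
  zero_mem' := ⟨0, zero_mem _, rfl, by rw [map_zero, Ext.zero_comp]; rfl⟩
  add_mem' := fun {z z'} ⟨m, hm, h0, h1⟩ ⟨m', hm', h0', h1'⟩ =>
    ⟨m + m', add_mem hm hm', by rw [Pi.add_apply, h0, h0', add_zero],
      by rw [map_add, Ext.add_comp, ← h1, ← h1']; rfl⟩
  smul_mem' := fun b z ⟨m, hm, h0, h1⟩ =>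
    ⟨act G P q (σ b) m, act_mem G P q (σ b) hm, act_zero_of G P q (σ b) l h0, by
      show (m (l + 1)).comp _ _ = _
      rw [h1, he, HTower.Gen.map_comp, HTower.Gen.map_comp, σK_ι]⟩

variable (x : Fin r → ∀ l, M l →ₗ[A] M (l + 1))
  (hx : ∀ i l (m : M l), e (l + 1) (x i l m) =
    (e l m).comp (Ext.mk₀ (μK G hepi (σ (a i)) (hσ i) (Nat.le_succ l))) (add_zero _))

include hx in
theorem x_mem (i : Fin r) (l : ℕ) (z : M l) (hz : z ∈ Pl G P q σ M e he l) :
    x i l z ∈ Pl G P q σ M e he (l + 1) := by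
  obtain ⟨m, hm, h0, h1⟩ := hz
  refine ⟨act G P q (σ (a i)) m, act_mem G P q _ hm, ?_, ?_⟩
  · rw [act_succ G hepi P q _ (hσ i) hm, h0, Ext.zero_comp]
  · rw [act_succ G hepi P q _ (hσ i) hm, h1, hx, HTower.Gen.map_comp, HTower.Gen.map_comp, μK_ι]

variable (hcomm : ∀ i j n (m : M n), x i (n + 1) (x j n m) = x j (n + 1) (x i n m)) {N : ℕ}
  (hgen : ∀ n, N ≤ n → (⊤ : Submodule A (M (n + 1))) ≤ ⨆ i, LinearMap.range (x i n))

include hepi hσ he hx hcomm hgen in
/-- One step of the approximation. -/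
theorem exists_step : ∃ N', ∀ n, N' ≤ n → ∀ m ∈ Fam G P q, m (n + 1) = 0 →
    ∃ z : Fin r → ∀ k, Ext P (G.obj (op k)) q, (∀ i, z i ∈ Fam G P q) ∧ (∀ i, z i n = 0) ∧
      (m - ∑ i, act G P q (σ (a i)) (z i)) (n + 2) = 0 := by
  obtain ⟨N', hN'⟩ := H78.Rees.Graded.sub_generated x hcomm hgen (Pl G P q σ M e he)
    (x_mem G hepi P q σ a hσ M e he x hx)
  refine ⟨N', fun n hn m hm h0 => ?_⟩
  obtain ⟨w, hw⟩ : ∃ w : Ext P (K G (Nat.le_succ (n + 1))) q, w.comp (Ext.mk₀ (kernel.ι (t G (Nat.le_succ (n + 1))))) (add_zero q) = m (n + 2) :=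
    Ext.covariant_sequence_exact₂ P (seq_shortExact G hepi (n + 1)) (m (n + 2))
      ((fam_t G P q hm (n + 1)).trans h0)
  have hz : (e (n + 1)).symm w ∈ Pl G P q σ M e he (n + 1) :=
    ⟨m, hm, h0, by rw [AddEquiv.apply_symm_apply]; exact hw.symm⟩
  obtain ⟨f, hf⟩ := (Submodule.mem_iSup_iff_exists_finsupp _ _).1 (hN' n hn hz)
  have hf1 := fun i => Submodule.mem_map.1 (hf.1 i)
  choose zi hzi hxz using hf1
  choose mi hmi hmi0 hmi1 using hzi
  refine ⟨mi, hmi, hmi0, ?_⟩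
  rw [Pi.sub_apply, sub_eq_zero, Finset.sum_apply]
  have hterm : ∀ i, act G P q (σ (a i)) (mi i) (n + 2) =
      (e (n + 1) (f i)).comp (Ext.mk₀ (kernel.ι (t G (Nat.le_succ (n + 1))))) (add_zero q) := fun i => by
    rw [← hxz i, act_succ G hepi P q _ (hσ i) (hmi i), hmi1 i, hx, HTower.Gen.map_comp, HTower.Gen.map_comp,
      μK_ι]
  rw [← hw, Finset.sum_congr rfl fun i _ => hterm i]
  let ψ : M (n + 1) →+ Ext P (G.obj (op (n + 2))) q :=
    ((Ext.mk₀ (kernel.ι (t G (Nat.le_succ (n + 1))))).postcomp P (add_zero q)).comp (e (n + 1)).toAddMonoidHom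
  refine Eq.trans ?_ (map_sum ψ _ _)
  show _ = ψ (∑ i, f i)
  rw [← Finsupp.sum_fintype f (fun _ v => v) (fun _ => rfl), hf.2]
  show _ = (e (n + 1) ((e (n + 1)).symm w)).comp (Ext.mk₀ (kernel.ι (t G (Nat.le_succ (n + 1))))) (add_zero q)
  rw [AddEquiv.apply_symm_apply]

include hepi hσ he hx hcomm hgen in
/-- Kernels of late projections are combinations of earlier ones. -/
theorem exists_decomp : ∃ N', ∀ n, N' ≤ n → ∀ m ∈ Fam G P q, m (n + 1) = 0 →
    ∃ y : Fin r → ∀ k, Ext P (G.obj (op k)) q, (∀ i, y i ∈ Fam G P q) ∧ (∀ i, y i n = 0) ∧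
      m = ∑ i, act G P q (σ (a i)) (y i) := by
  obtain ⟨N', hN'⟩ := exists_step G hepi P q σ a hσ M e he x hx hcomm hgen
  refine ⟨N', fun n hn m hm h0 => ?_⟩
  choose z hzF hz0 hzs using hN'
  let S : ℕ → Type u := fun s => {m' : ∀ k, Ext P (G.obj (op k)) q // m' ∈ Fam G P q ∧ m' (n + s + 1) = 0}
  let zs : ∀ s, S s → Fin r → ∀ k, Ext P (G.obj (op k)) q :=
    fun s m' => z (n + s) (Nat.le_add_right_of_le hn) m'.1 m'.2.1 m'.2.2
  let next : ∀ s, S s → S (s + 1) := fun s m' =>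
    ⟨m'.1 - ∑ i, act G P q (σ (a i)) (zs s m' i),
      sub_mem m'.2.1 (sum_mem fun i _ => act_mem G P q _
        (hzF (n + s) (Nat.le_add_right_of_le hn) m'.1 m'.2.1 m'.2.2 i)),
      hzs (n + s) (Nat.le_add_right_of_le hn) m'.1 m'.2.1 m'.2.2⟩
  let seqm : ∀ s, S s := fun s => Nat.rec (motive := S) ⟨m, hm, h0⟩ next s
  let Z : Fin r → ℕ → ∀ k, Ext P (G.obj (op k)) q := fun i s => zs s (seqm s) i
  have hZF : ∀ i s, Z i s ∈ Fam G P q := fun i s =>
    hzF (n + s) (Nat.le_add_right_of_le hn) _ (seqm s).2.1 (seqm s).2.2 i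
  have hZ0 : ∀ i s, Z i s (n + s) = 0 := fun i s =>
    hz0 (n + s) (Nat.le_add_right_of_le hn) _ (seqm s).2.1 (seqm s).2.2 i
  refine ⟨fun i => diag G P q (Z i), fun i => diag_mem G P q _ (hZF i) n (hZ0 i), fun i => ?_, ?_⟩
  · exact Finset.sum_eq_zero fun s _ => fam_zero_of_le G P q (hZF i s) (Nat.le_add_right n s) (hZ0 i s)
  · funext k
    have key : ∀ p, m k - ∑ i, ∑ s ∈ Finset.range p, act G P q (σ (a i)) (Z i s) k = (seqm p).1 k := by
      intro p
      induction p with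
      | zero => simp [seqm]
      | succ p ih =>
        simp only [Finset.sum_range_succ, Finset.sum_add_distrib]
        rw [← sub_sub, ih]
        show _ = ((seqm p).1 - ∑ i, act G P q (σ (a i)) (Z i p)) k
        rw [Pi.sub_apply, Finset.sum_apply]
    have hk : (seqm k).1 k = 0 :=
      fam_zero_of_le G P q (seqm k).2.1 (show k ≤ n + k + 1 by omega) (seqm k).2.2
    rw [← key k, sub_eq_zero] at hk
    rw [hk, Finset.sum_apply]
    refine Finset.sum_congr rfl fun i _ => ?_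
    exact (map_sum ((Ext.mk₀ ((σ (a i)).app (op k))).postcomp P (add_zero q)) _ _).symm

end Groth.Agent.H30.FamFil
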