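import Groth.Agent.H30.FSch.GrML
import Groth.Agent.H30.FSch.FamFil

/-!
# The filtration of the cohomology of a coherent system is stable under the ideal of definition (helper30)
-/

set_option autoImplicit false
set_option linter.style.haveILetI false
set_option linter.unusedSectionVars false

universe u

open CategoryTheory CategoryTheory.Limits AlgebraicGeometry TopologicalSpace Opposite
open Groth.Agent.H30 Groth.Agent.H30.RealLimSec Groth.Agent.H30.GrLevel Groth.Agent.H30.GrML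
open Groth.Agent.Lib

namespace Groth.Agent.H30.GrFil

variable {A : Type u} [CommRing A] {J : Ideal A} {𝔛 : FSch.Sys.{u}} (h𝔛 : 𝔛.IsLocNoethFormal)
  (q : ∀ n, 𝔛.X n ⟶ Spec (CommRingCat.of A)) (hq : ∀ n, 𝔛.ι n ≫ q (n + 1) = q n)
  (hJ : ∀ n, (𝔛.toX n).ker = (FSch.idealSpec A J).comap (q n))
  (𝔐 : FSch.ModSys 𝔛) (h𝔐 : 𝔐.IsCoh)

set_option maxHeartbeats 2000000 in
include h𝔐 hJ hq in
/-- The filtration of the families of classes is eventually generated by the generators of the ideal. -/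
theorem decomp [IsNoetherianRing A] [IsProper (q 0)] (p : ℕ) {r : ℕ} (g : Fin r → A) (hg : ∀ i, g i ∈ J)
    (hspan : Ideal.span (Set.range g) = J) :
    ∃ N, ∀ n, N ≤ n → ∀ m ∈ FamFil.Fam (G h𝔛 𝔐) (HTower.cst _) p, m (n + 1) = 0 →
      ∃ y : Fin r → ∀ k, Sheaf.H.{u} ((G h𝔛 𝔐).obj (op k)) p,
        (∀ i, y i ∈ FamFil.Fam (G h𝔛 𝔐) (HTower.cst _) p) ∧ (∀ i, y i n = 0) ∧
          m = ∑ i, FamFil.act (G h𝔛 𝔐) (HTower.cst _) p (σ h𝔛 q hq 𝔐 (g i)) (y i) := by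
  letI : (𝔛.X 0).Over (Spec (CommRingCat.of A)) := ⟨q 0⟩
  haveI hp : IsProper ((𝔛.X 0) ↘ Spec (CommRingCat.of A)) := ‹IsProper (q 0)›
  haveI := h𝔛.2.2 0
  haveI : CompactSpace (𝔛.X 0) := QuasiCompact.compactSpace_of_compactSpace (q 0)
  haveI : IsNoetherian (𝔛.X 0) := ⟨⟩
  have hfin : ∀ N : (𝔛.X 0).Modules, Coh.IsCoh N → ∀ k, Module.Finite A (Coh.HH (𝔛.X 0) N k) :=
    fun N hN k => Groth.Agent.S0002.result A (𝔛.X 0) N hN k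
  let S := grSys h𝔛 q hq hJ 𝔐 h𝔐 g hg
  obtain ⟨N, hN⟩ := H78.Rees.System.hgen hfin S (gen_grSys h𝔛 q hq hJ 𝔐 h𝔐 g hg hspan) p
  haveI : ∀ l, Module.Finite A (Coh.HH (𝔛.X 0) (gr 𝔐 l) p) := fun l => hfin _ (isCoh_gr h𝔛 𝔐 h𝔐 l) _
  exact FamFil.exists_decomp (A := A) (G h𝔛 𝔐) (hepi h𝔛 𝔐 h𝔐) (HTower.cst _) p (fun a => σ h𝔛 q hq 𝔐 a) g
    (fun j l => GrLevel.hσ J h𝔛 q hq hJ 𝔐 h𝔐 (hg j) l)
    (fun l => Coh.HH (𝔛.X 0) (gr 𝔐 l) p) (fun l => HTower.hIso (eIso h𝔛 𝔐 h𝔐 l) p)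
    (fun b l m => hIso_smul h𝔛 q hq 𝔐 h𝔐 rfl b l p m)
    (fun j l => H78.FormalFun.Basic.H (A := A) p (xm h𝔛 q hq hJ 𝔐 h𝔐 (hg j) l))
    (fun j l m => hIso_xm h𝔛 q hq hJ 𝔐 h𝔐 (hg j) l p m)
    (fun j k n m => by
      rw [← H78.FormalFun.Basic.H_comp, ← H78.FormalFun.Basic.H_comp,
        xm_comm h𝔛 q hq hJ 𝔐 h𝔐 (hg k) (hg j)]) (N := N) hN

end Groth.Agent.H30.GrFil
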