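import Groth.Agent.H30.FSch.RpushLocal
import Groth.Agent.Lib.RDer.Connecting
import Groth.Agent.Lib.CohDelta.Sect

/-!
# Higher direct images are linear over the functions of an open of the base (helper30)

For a function `a` on an open `V` of the base, the endomorphism given by `a` of a module localised at the preimage of `V`
induces multiplication by `a` on the higher direct images over `V`.
-/

set_option autoImplicit false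
set_option linter.style.haveILetI false
set_option linter.unusedSectionVars false

universe u

open CategoryTheory CategoryTheory.Limits AlgebraicGeometry TopologicalSpace Opposite
open Groth.Agent.H30 Groth.Agent.H30.RealLimSec Groth.Agent.Lib

namespace Groth.Agent.H30.RpushScalar

variable {𝔛 𝔜 : FSch.Sys.{u}} (h𝔛 : 𝔛.IsFormal) (h𝔜 : 𝔜.IsFormal) (f : 𝔛 ⟶ 𝔜)
  [HasInjectiveResolutions (FSch.ModF 𝔛 h𝔛)] (q : ℕ) (V : (𝔜.X 0).Opens) (a : Levels.A 𝔜 h𝔜 V)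

/-- The preimage. -/
noncomputable abbrev pre : (𝔛.X 0).Opens := (f : FSch.Hom 𝔛 𝔜).app 0 ⁻¹ᵁ V

/-- The pullback of the function. -/
noncomputable abbrev pb : Levels.A 𝔛 h𝔛 (pre f V) :=
  ((FSch.Hom.sharp f h𝔛 h𝔜).hom.app (op V)).hom a

/-- Localisation at the preimage. -/
noncomputable abbrev J : FSch.ModF 𝔛 h𝔛 ⥤ FSch.ModF 𝔛 h𝔛 :=
  ModLoc.loc (X := (𝔛.X 0).carrier) (𝔛.Osh h𝔛) (pre f V)

/-- The unit of the localisation. -/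
noncomputable abbrev η (M : FSch.ModF 𝔛 h𝔛) : M ⟶ (J h𝔛 f V).obj M :=
  ModLoc.ηApp (X := (𝔛.X 0).carrier) (𝔛.Osh h𝔛) (pre f V) M

/-- The endomorphism of a localised module. -/
noncomputable abbrev mul (M : FSch.ModF 𝔛 h𝔛) : (J h𝔛 f V).obj M ⟶ (J h𝔛 f V).obj M :=
  ModLoc.mulApp (X := (𝔛.X 0).carrier) (𝔛.Osh h𝔛) (pre f V) (pb h𝔛 h𝔜 f V a) M

/-- The linearity in degree `q`. -/
def Lin : Prop := ∀ (M : FSch.ModF 𝔛 h𝔛) {W : (𝔜.X 0).Opens} (hW : W ≤ V)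
  (y : sec h𝔜 ((FSch.RpushF f h𝔛 h𝔜 q).obj ((J h𝔛 f V).obj M)) W),
  secMap h𝔜 ((FSch.RpushF f h𝔛 h𝔜 q).map (mul h𝔛 h𝔜 f V a M)) W y = CohPres.resA h𝔜 hW a • y

theorem η_rpush_bijective (M : FSch.ModF 𝔛 h𝔛) {W : (𝔜.X 0).Opens} (hW : W ≤ V) :
    Function.Bijective (secMap h𝔜 ((FSch.RpushF f h𝔛 h𝔜 q).map (η h𝔛 f V M)) W) :=
  RpushLocal.rpush_bijective h𝔛 h𝔜 f q (η h𝔛 f V M) V
    (fun _ h => ModLoc.ηApp_bijective (X := (𝔛.X 0).carrier) (𝔛.Osh h𝔛) (pre f V) M h) hW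

theorem pushF_mul (M : FSch.ModF 𝔛 h𝔛) {W : (𝔜.X 0).Opens} (hW : W ≤ V)
    (y : sec h𝔜 ((FSch.pushF f h𝔛 h𝔜).obj ((J h𝔛 f V).obj M)) W) :
    secMap h𝔜 ((FSch.pushF f h𝔛 h𝔜).map (mul h𝔛 h𝔜 f V a M)) W y = CohPres.resA h𝔜 hW a • y := by
  refine Eq.trans (ModLoc.mulApp_apply (X := (𝔛.X 0).carrier) (𝔛.Osh h𝔛) (pre f V) (pb h𝔛 h𝔜 f V a) M _
    (show M.val.obj (op ((ModLoc.cut (pre f V)).obj ((f : FSch.Hom 𝔛 𝔜).app 0 ⁻¹ᵁ W))) from y)) ?_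
  refine congrArg (fun c => ModLoc.sm (X := (𝔛.X 0).carrier) (𝔛.Osh h𝔛) M c
    (show M.val.obj (op ((ModLoc.cut (pre f V)).obj ((f : FSch.Hom 𝔛 𝔜).app 0 ⁻¹ᵁ W))) from y)) ?_
  refine (ModLoc.scRes (O := 𝔛.Osh h𝔛) (X := (𝔛.X 0).carrier)
    (((f : FSch.Hom 𝔛 𝔜).app 0).preimage_mono hW) (ModLoc.cut_le (pre f V) _) (pb h𝔛 h𝔜 f V a)).symm.trans ?_
  exact congrArg _ ((FSch.Hom.sharp f h𝔛 h𝔜).hom.naturality_apply (homOfLE hW).op a).symm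

theorem lin_zero : Lin h𝔛 h𝔜 f 0 V a := by
  intro M W hW y
  haveI : PreservesLimitsOfSize.{0, 0} (FSch.homMor f h𝔛 h𝔜).push :=
    (FSch.homMor f h𝔛 h𝔜).adj.rightAdjoint_preservesLimits
  haveI : PreservesFiniteLimits (FSch.pushF f h𝔛 h𝔜) := PreservesLimitsOfSize.preservesFiniteLimits _
  let ι := (FSch.pushF f h𝔛 h𝔜).rightDerivedZeroIsoSelf
  have hb : Function.Injective (secMap h𝔜 (ι.hom.app ((J h𝔛 f V).obj M)) W) := by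
    refine Function.LeftInverse.injective (g := secMap h𝔜 (ι.inv.app _) W) fun z => ?_
    exact congrArg (fun φ => secMap h𝔜 φ W z) (ι.hom_inv_id_app ((J h𝔛 f V).obj M))
  apply hb
  refine (congrArg (fun φ => secMap h𝔜 φ W y) (ι.hom.naturality (mul h𝔛 h𝔜 f V a M))).trans ?_
  refine (pushF_mul h𝔛 h𝔜 f V a M hW _).trans ?_
  exact ((secMap h𝔜 (ι.hom.app _) W).map_smul _ _).symm

theorem lin_succ (h : Lin h𝔛 h𝔜 f q V a) : Lin h𝔛 h𝔜 f (q + 1) V a := by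
  intro M W hW y
  haveI : EnoughInjectives (FSch.ModF 𝔛 h𝔛) := inferInstance
  haveI : PreservesLimitsOfSize.{0, 0} (FSch.homMor f h𝔛 h𝔜).push :=
    (FSch.homMor f h𝔛 h𝔜).adj.rightAdjoint_preservesLimits
  haveI : PreservesFiniteLimits (FSch.pushF f h𝔛 h𝔜) := PreservesLimitsOfSize.preservesFiniteLimits _
  obtain ⟨Δ⟩ := RDer.Connecting.nonempty_derivedLES (FSch.pushF f h𝔛 h𝔜)
  let I := Injective.under M
  let jι := (J h𝔛 f V).map (Injective.ι M)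
  haveI : Mono jι := ModLoc.mono_loc_map (X := (𝔛.X 0).carrier) (𝔛.Osh h𝔛) (pre f V) (Injective.ι M)
  let S := ShortComplex.mk jι (cokernel.π jι) (cokernel.condition jι)
  have hS : S.ShortExact :=
    { exact := ShortComplex.exact_cokernel _
      mono_f := inferInstanceAs (Mono jι)
      epi_g := inferInstanceAs (Epi (cokernel.π jι)) }
  have hcomm : jι ≫ mul h𝔛 h𝔜 f V a I = mul h𝔛 h𝔜 f V a M ≫ jι :=
    ModLoc.mul_natural (X := (𝔛.X 0).carrier) (𝔛.Osh h𝔛) (pre f V) (pb h𝔛 h𝔜 f V a) (Injective.ι M)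
  let τ := cokernel.map jι jι (mul h𝔛 h𝔜 f V a M) (mul h𝔛 h𝔜 f V a I) hcomm
  let φ : S ⟶ S :=
    { τ₁ := mul h𝔛 h𝔜 f V a M
      τ₂ := mul h𝔛 h𝔜 f V a I
      τ₃ := τ
      comm₁₂ := hcomm.symm
      comm₂₃ := (cokernel.π_desc _ _ _).symm }
  have hτ : τ ≫ η h𝔛 f V (cokernel jι) = η h𝔛 f V (cokernel jι) ≫ mul h𝔛 h𝔜 f V a (cokernel jι) := by
    rw [← cancel_epi (cokernel.π jι)]
    have e1 : cokernel.π jι ≫ τ = mul h𝔛 h𝔜 f V a I ≫ cokernel.π jι := cokernel.π_desc _ _ _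
    have e2 : cokernel.π jι ≫ η h𝔛 f V (cokernel jι) =
        η h𝔛 f V ((J h𝔛 f V).obj I) ≫ (J h𝔛 f V).map (cokernel.π jι) :=
      ModLoc.η_natural (X := (𝔛.X 0).carrier) (𝔛.Osh h𝔛) (pre f V) (cokernel.π jι)
    have e3 : (J h𝔛 f V).map (cokernel.π jι) ≫ mul h𝔛 h𝔜 f V a (cokernel jι) =
        mul h𝔛 h𝔜 f V a ((J h𝔛 f V).obj I) ≫ (J h𝔛 f V).map (cokernel.π jι) :=
      ModLoc.mul_natural (X := (𝔛.X 0).carrier) (𝔛.Osh h𝔛) (pre f V) (pb h𝔛 h𝔜 f V a) (cokernel.π jι)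
    have e4 : mul h𝔛 h𝔜 f V a I ≫ η h𝔛 f V ((J h𝔛 f V).obj I) =
        η h𝔛 f V ((J h𝔛 f V).obj I) ≫ mul h𝔛 h𝔜 f V a ((J h𝔛 f V).obj I) :=
      ModLoc.mul_η (X := (𝔛.X 0).carrier) (𝔛.Osh h𝔛) (pre f V) (pb h𝔛 h𝔜 f V a) I
    rw [← Category.assoc, e1, Category.assoc, e2, ← Category.assoc, e4, Category.assoc, ← e3,
      ← Category.assoc, ← e2, Category.assoc]
  have hQ : ∀ {W' : (𝔜.X 0).Opens} (hW' : W' ≤ V) (z : sec h𝔜 ((FSch.RpushF f h𝔛 h𝔜 q).obj (cokernel jι)) W'),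
      secMap h𝔜 ((FSch.RpushF f h𝔛 h𝔜 q).map τ) W' z = CohPres.resA h𝔜 hW' a • z := fun {W'} hW' z => by
    refine (η_rpush_bijective h𝔛 h𝔜 f q V (cokernel jι) hW').1 ?_
    have e5 := congrArg (fun ψ => secMap h𝔜 ((FSch.RpushF f h𝔛 h𝔜 q).map ψ) W' z) hτ
    simp only [Functor.map_comp] at e5
    refine e5.trans ((h (cokernel jι) hW' _).trans ?_)
    exact ((secMap h𝔜 _ W').map_smul _ _).symm
  have hI : ∀ {W' : (𝔜.X 0).Opens} (hW' : W' ≤ V)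
      (z : sec h𝔜 ((FSch.RpushF f h𝔛 h𝔜 (q + 1)).obj ((J h𝔛 f V).obj I)) W'), z = 0 := fun {W'} hW' z => by
    obtain ⟨z', rfl⟩ := (η_rpush_bijective h𝔛 h𝔜 f (q + 1) V I hW').2 z
    have h0 : IsZero ((FSch.RpushF f h𝔛 h𝔜 (q + 1)).obj I) :=
      (FSch.pushF f h𝔛 h𝔜).isZero_rightDerived_obj_injective_succ q I
    have hz : z' = 0 := by
      have := congrArg (fun ψ => secMap h𝔜 ψ W' z') (h0.eq_of_src (𝟙 _) 0)
      exact this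
    rw [hz, map_zero]
  refine TopCat.Presheaf.section_ext (C := AddCommGrpCat.{u}) (X := (𝔜.X 0).carrier)
    ((RpushAbNat.ab h𝔜).obj ((FSch.RpushF f h𝔛 h𝔜 (q + 1)).obj ((J h𝔛 f V).obj M))) W _ _ fun x hx => ?_
  have hex := (Δ.exact₁ S hS q (q + 1) rfl).map (RpushAbNat.ab h𝔜)
  obtain ⟨W', hW', z, hxW', hz⟩ := CohDelta.Sect.exists_preimage_of_exact hex y (hI hW _) hx
  let R := (FSch.RpushF f h𝔛 h𝔜 (q + 1)).obj ((J h𝔛 f V).obj M)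
  have key : CohPres.resF h𝔜 R hW' (secMap h𝔜 ((FSch.RpushF f h𝔛 h𝔜 (q + 1)).map (mul h𝔛 h𝔜 f V a M)) W y) =
      CohPres.resF h𝔜 R hW' (CohPres.resA h𝔜 hW a • y) := by
    rw [CohPres.resF_smul]
    refine (LevelAdj.secMap_map _ hW' y).symm.trans ?_
    have hz' : secMap h𝔜 (Δ.δ S hS q (q + 1) rfl) W' z = CohPres.resF h𝔜 R hW' y := hz
    rw [← hz']
    refine (congrArg (secMap h𝔜 ((FSch.RpushF f h𝔛 h𝔜 (q + 1)).map (mul h𝔛 h𝔜 f V a M)) W') hz'.symm).trans ?_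
    refine (congrArg (fun ψ => secMap h𝔜 ψ W' z) (Δ.δ_natural hS hS φ q (q + 1) rfl)).symm.trans ?_
    refine (congrArg (secMap h𝔜 (Δ.δ S hS q (q + 1) rfl) W') (hQ (hW'.trans hW) z)).trans ?_
    refine ((secMap h𝔜 (Δ.δ S hS q (q + 1) rfl) W').map_smul _ _).trans ?_
    refine congrArg (· • secMap h𝔜 (Δ.δ S hS q (q + 1) rfl) W' z) ?_
    exact (ModLoc.scRes (O := 𝔜.Osh h𝔜) (X := (𝔜.X 0).carrier) hW hW' a).symm
  exact TopCat.Presheaf.germ_ext (C := AddCommGrpCat.{u}) (X := (𝔜.X 0).carrier)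
    ((RpushAbNat.ab h𝔜).obj R).obj W' hxW' (homOfLE hW') (homOfLE hW') key

/-- Linearity over the functions of `V`. -/
theorem lin : ∀ q, Lin h𝔛 h𝔜 f q V a
  | 0 => lin_zero h𝔛 h𝔜 f V a
  | q + 1 => lin_succ h𝔛 h𝔜 f q V a (lin q)

end Groth.Agent.H30.RpushScalar
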