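import Groth.Agent.H30.FSch.BaseML
import Groth.Agent.H30.FSch.GrFil
import Groth.Agent.H30.FSch.RpushScalar

/-!
# The filtration of the cohomology over the preimage of an affine open of the base (helper30)
-/

set_option autoImplicit false
set_option linter.style.haveILetI false
set_option linter.unusedSectionVars false

universe u

open CategoryTheory CategoryTheory.Limits AlgebraicGeometry TopologicalSpace Opposite CategoryTheory.Abelian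
open Groth.Agent.H30 Groth.Agent.H30.RealLimSec
open Groth.Agent.Lib Groth.Agent.Lib.ZarCoh.Compare
open Groth.Agent.Lib.ZarCoh.Basic (Zs)

namespace Groth.Agent.H30.BaseScalar

section Scheme

variable {A : Type u} [CommRing A]

theorem appLE_ι_bijective {Z : Scheme.{u}} (W : Z.Opens) (e : (⊤ : (W : Scheme.{u}).Opens) ≤ W.ι ⁻¹ᵁ W) :
    Function.Bijective (W.ι.appLE W ⊤ e) := by
  haveI : IsIso (W.ι.app W) := Scheme.Hom.isIso_app _ _ (by rw [Scheme.Opens.opensRange_ι])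
  haveI : IsIso (((W : Scheme.{u}).presheaf.map (homOfLE e).op)) := by
    haveI : IsIso (homOfLE e) := ⟨homOfLE le_top, Subsingleton.elim _ _, Subsingleton.elim _ _⟩
    infer_instance
  rw [Scheme.Hom.appLE]
  exact ConcreteCategory.bijective_of_isIso (W.ι.app W ≫ (W : Scheme.{u}).presheaf.map (homOfLE e).op)

theorem le_preimage_ι {Z : Scheme.{u}} (W : Z.Opens) : (⊤ : (W : Scheme.{u}).Opens) ≤ W.ι ⁻¹ᵁ W :=
  fun z _ => z.2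

theorem res_specQuot_eq_zero {J : Ideal A} {g : A} (hg : g ∈ J) :
    GrLevel.res (CohB1.specQuot J 0) ⊤ g = 0 := by
  have h := ConcreteCategory.congr_hom
    (Scheme.ΓSpecIso_inv_naturality (CommRingCat.ofHom (Ideal.Quotient.mk (J ^ (0 + 1))))) g
  show (Spec (CommRingCat.of (A ⧸ J ^ (0 + 1)))).presheaf.map (homOfLE le_top).op
    ((CohB1.specQuot J 0).appTop ((Scheme.ΓSpecIso (CommRingCat.of A)).inv g)) = 0
  refine (congrArg _ (h.symm.trans ?_)).trans (map_zero _)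
  show (Scheme.ΓSpecIso (CommRingCat.of (A ⧸ J ^ (0 + 1)))).inv (Ideal.Quotient.mk (J ^ (0 + 1)) g) = 0
  rw [show Ideal.Quotient.mk (J ^ (0 + 1)) g = 0 from Ideal.Quotient.eq_zero_iff_mem.2 (by simpa using hg)]
  exact map_zero _

end Scheme

variable {𝔛 𝔜 : FSch.Sys.{u}} (h𝔛 : 𝔛.IsLocNoethFormal) (h𝔜 : 𝔜.IsLocNoethFormal) (f : 𝔛 ⟶ 𝔜)
  (V : (𝔜.X 0).Opens) {A : Type u} [CommRing A] {J : Ideal A}
  (e : 𝔜.restrictOpen h𝔜.1 V ≅ FSch.spf A J)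

/-- The preimage. -/
noncomputable abbrev U : (𝔛.X 0).Opens := RpushScalar.pre f V

/-- The structure maps of the open. -/
noncomputable abbrev qV (n : ℕ) : (𝔜.restrictOpen h𝔜.1 V).X n ⟶ Spec (CommRingCat.of A) :=
  ProperML.q e.hom n

/-- The morphism to the formal spectrum. -/
noncomputable abbrev gg : 𝔛.restrictOpen h𝔛.1 (U f V) ⟶ FSch.spf A J :=
  FSch.Hom.restrictOpen f h𝔛.1 h𝔜.1 V ≫ e.hom

/-- The scalar of the base. -/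
theorem exists_scalar (g : A) : ∃ a : Levels.A 𝔜 h𝔜.1 V, ∀ n,
    (𝔜.lvU h𝔜.1 n V).ι.appLE (𝔜.lvU h𝔜.1 n V) ⊤ (le_preimage_ι _) (Levels.proj 𝔜 h𝔜.1 n V a) =
      GrLevel.res (qV h𝔜 V e n) ⊤ g := by
  choose c hc using fun n => (appLE_ι_bijective (𝔜.lvU h𝔜.1 n V) (le_preimage_ι _)).2
    (GrLevel.res (qV h𝔜 V e n) ⊤ g)
  have hcompat : ∀ n, Levels.trans 𝔜 h𝔜.1 n V (c (n + 1)) = c n := fun n => by
    refine (appLE_ι_bijective (𝔜.lvU h𝔜.1 n V) (le_preimage_ι _)).1 ?_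
    refine Eq.trans ?_ (hc n).symm
    rw [← GrLevel.appLE_res ((𝔜.restrictOpen h𝔜.1 V).ι n) (qV h𝔜 V e (n + 1)) (qV h𝔜 V e n)
      (ProperML.hq e.hom n) ⊤ ⊤ le_top g, ← hc (n + 1)]
    exact ConcreteCategory.congr_hom
      ((FSch.appLE_comp_appLE_of_eq ((𝔜.lvU h𝔜.1 n V).ι) (𝔜.ι n) _ rfl _ _ _ _ _
          (((Scheme.Hom.preimage_mono _ (𝔜.lvU_le h𝔜.1 n V))).trans' (le_preimage_ι _))).trans
        (FSch.appLE_comp_appLE_of_eq ((𝔜.restrictOpen h𝔜.1 V).ι n) ((𝔜.lvU h𝔜.1 (n + 1) V).ι) _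
          (Scheme.Hom.resLE_comp_ι _ _) _ ⊤ ⊤ (le_preimage_ι _) le_top _).symm) (c (n + 1))
  obtain ⟨a, ha⟩ := Levels.exists_of_compatible c hcompat
  exact ⟨a, fun n => by rw [ha]; exact hc n⟩

theorem proj_zero_eq_zero {g : A} (hg : g ∈ J) {a : Levels.A 𝔜 h𝔜.1 V}
    (ha : ∀ n, (𝔜.lvU h𝔜.1 n V).ι.appLE (𝔜.lvU h𝔜.1 n V) ⊤ (le_preimage_ι _) (Levels.proj 𝔜 h𝔜.1 n V a) =
      GrLevel.res (qV h𝔜 V e n) ⊤ g) : Levels.proj 𝔜 h𝔜.1 0 V a = 0 := by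
  refine (appLE_ι_bijective (𝔜.lvU h𝔜.1 0 V) (le_preimage_ι _)).1 ((ha 0).trans ?_)
  rw [map_zero, ← GrLevel.appLE_res ((e.hom : FSch.Hom _ _).app 0) (FSch.spfToSpec A J 0) (qV h𝔜 V e 0) rfl ⊤ ⊤
    le_top g]
  exact (congrArg _ (res_specQuot_eq_zero hg)).trans (map_zero _)

/-- The scalars agree on the preimage. -/
theorem res_eq (g : A) {a : Levels.A 𝔜 h𝔜.1 V}
    (ha : ∀ n, (𝔜.lvU h𝔜.1 n V).ι.appLE (𝔜.lvU h𝔜.1 n V) ⊤ (le_preimage_ι _) (Levels.proj 𝔜 h𝔜.1 n V a) =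
      GrLevel.res (qV h𝔜 V e n) ⊤ g) (n : ℕ) (W : (𝔛.X 0).Opens) (hW : W ≤ U f V)
    (W' : (𝔛.lvU h𝔛.1 n (U f V) : Scheme.{u}).Opens) (e' : W' ≤ (𝔛.lvU h𝔛.1 n (U f V)).ι ⁻¹ᵁ 𝔛.lvU h𝔛.1 n W) :
    (𝔛.lvU h𝔛.1 n (U f V)).ι.appLE (𝔛.lvU h𝔛.1 n W) W' e'
        (Levels.proj 𝔛 h𝔛.1 n W (CohPres.resA h𝔛.1 hW (RpushScalar.pb h𝔛.1 h𝔜.1 f V a))) =
      GrLevel.res (ProperML.q (gg h𝔛 h𝔜 f V e) n) W' g := by
  rw [CohPres.proj_resA]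
  have hp : Levels.proj 𝔛 h𝔛.1 n (U f V) (RpushScalar.pb h𝔛.1 h𝔜.1 f V a) =
      ((f : FSch.Hom 𝔛 𝔜).app n).appLE (𝔜.lvU h𝔜.1 n V) _ (PullFSys.lvU_le f h𝔛 h𝔜 n V)
        (Levels.proj 𝔜 h𝔜.1 n V a) :=
    PullFSys.proj_shφ f h𝔛 h𝔜 n V a
  rw [hp, ← GrLevel.appLE_res ((FSch.Hom.restrictOpen f h𝔛.1 h𝔜.1 V : FSch.Hom _ _).app n) (qV h𝔜 V e n)
    (ProperML.q (gg h𝔛 h𝔜 f V e) n) (Category.assoc _ _ _).symm ⊤ W' le_top g, ← ha n]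
  let r := Levels.proj 𝔜 h𝔜.1 n V a
  have e₁ : W' ≤ ((𝔛.lvU h𝔛.1 n (U f V)).ι ≫ (f : FSch.Hom 𝔛 𝔜).app n) ⁻¹ᵁ 𝔜.lvU h𝔜.1 n V :=
    e'.trans (Scheme.Hom.preimage_mono _ ((CohPres.lvU_mono h𝔛.1 n hW).trans (PullFSys.lvU_le f h𝔛 h𝔜 n V)))
  have h1 : ((f : FSch.Hom 𝔛 𝔜).app n).appLE _ _ (PullFSys.lvU_le f h𝔛 h𝔜 n V) ≫
      (𝔛.X n).presheaf.map (homOfLE (CohPres.lvU_mono h𝔛.1 n hW)).op ≫
      (𝔛.lvU h𝔛.1 n (U f V)).ι.appLE (𝔛.lvU h𝔛.1 n W) W' e' =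
      ((𝔛.lvU h𝔛.1 n (U f V)).ι ≫ (f : FSch.Hom 𝔛 𝔜).app n).appLE (𝔜.lvU h𝔜.1 n V) W' e₁ := by
    rw [← Category.assoc, Scheme.Hom.appLE_map]
    exact FSch.appLE_comp_appLE_of_eq _ _ _ rfl _ _ _ _ _ _
  have h2 : (𝔜.lvU h𝔜.1 n V).ι.appLE (𝔜.lvU h𝔜.1 n V) ⊤ (le_preimage_ι _) ≫
      ((FSch.Hom.restrictOpen f h𝔛.1 h𝔜.1 V : FSch.Hom _ _).app n).appLE ⊤ W' le_top =
      ((𝔛.lvU h𝔛.1 n (U f V)).ι ≫ (f : FSch.Hom 𝔛 𝔜).app n).appLE (𝔜.lvU h𝔜.1 n V) W' e₁ :=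
    FSch.appLE_comp_appLE_of_eq _ _ _ (Scheme.Hom.resLE_comp_ι _ _) _ _ _ _ _ _
  exact ConcreteCategory.congr_hom (h1.trans h2.symm) r

variable (𝔐 : FSch.ModSys 𝔛)

theorem secRes_smul (n : ℕ) (U' : (𝔛.X 0).Opens) (W : ((RestrictLevels.sys h𝔛 U').X 0).Opens)
    (r : Γ(𝔛.X n, 𝔛.lvU h𝔛.1 n ((RestrictLevels.he h𝔛 U').functor.obj W)))
    (x : lev h𝔛.1 𝔐.F n ((RestrictLevels.he h𝔛 U').functor.obj W)) :
    ∃ e', RestrictLevels.secRes h𝔛 U' 𝔐 n W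
        (r • (show Γ(𝔐.F n, 𝔛.lvU h𝔛.1 n ((RestrictLevels.he h𝔛 U').functor.obj W)) from x) :
          lev h𝔛.1 𝔐.F n _) =
      ((show Γ((RestrictLevels.sys h𝔛 U').X n, (RestrictLevels.sys h𝔛 U').lvU (RestrictLevels.hsys h𝔛 U').1 n W) from
        (𝔛.lvU h𝔛.1 n U').ι.appLE _ ((RestrictLevels.sys h𝔛 U').lvU (RestrictLevels.hsys h𝔛 U').1 n W) e' r) •
        (show Γ((RestrictLevels.mod h𝔛 U' 𝔐).F n, (RestrictLevels.sys h𝔛 U').lvU (RestrictLevels.hsys h𝔛 U').1 n W)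
          from RestrictLevels.secRes h𝔛 U' 𝔐 n W x) :
        lev (RestrictLevels.hsys h𝔛 U').1 (RestrictLevels.mod h𝔛 U' 𝔐).F n W) := by
  let N := (RestrictLevels.mod h𝔛 U' 𝔐).F n
  let j := (𝔛.lvU h𝔛.1 n U').ι
  let i₁ := CohPres.lvU_mono (RestrictLevels.hsys h𝔛 U').1 n (RestrictLevels.preφ_image h𝔛 U' W).ge
  let i₂ := PullFSys.lvU_le (RestrictLevels.incl h𝔛 U') (RestrictLevels.hsys h𝔛 U') h𝔛 n
    ((RestrictLevels.he h𝔛 U').functor.obj W)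
  refine ⟨i₁.trans i₂, ?_⟩
  have hval : ∀ y, RestrictLevels.secRes h𝔛 U' 𝔐 n W y = N.presheaf.map (homOfLE (i₁.trans i₂)).op
      (CohDelta.Units.eta j (𝔐.F n) _ y) := fun y => by
    refine (congrArg (N.presheaf.map _) (PullFSys.ηl_apply _ _ _ _ _ _ _)).trans ?_
    exact CohDelta.Units.map_map _ _ _ _ _
  rw [hval, hval]
  refine (congrArg _ (((Scheme.Modules.pullbackPushforwardAdjunction j).unit.app (𝔐.F n)).app_smul r _)).trans ?_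
  exact Scheme.Modules.map_smul _ _ _ _

end Groth.Agent.H30.BaseScalar
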