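import Groth.Agent.H30.FSch.ProperShift
import Groth.Agent.H78.FSchBridge.Push

/-!
# The base-change map to a completion along a proper morphism (helper30)
-/

set_option autoImplicit false
set_option linter.style.haveILetI false
set_option linter.unusedSectionVars false

noncomputable section

universe u

open CategoryTheory CategoryTheory.Limits AlgebraicGeometry TopologicalSpace Opposite
open Groth.Agent.H30 Groth.Agent.H30.RealLimSec Groth.Agent.Lib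

namespace Groth.Agent.H30.BcMap

variable {X Z : Scheme.{u}} [IsLocallyNoetherian X] [IsLocallyNoetherian Z]
  {𝔛 ℨ : FSch.Sys.{u}} (φ : ℨ ⟶ 𝔛) (h𝔛 : 𝔛.IsLocNoethFormal) (hℨ : ℨ.IsLocNoethFormal)
  (g : Z ⟶ X) (p : ∀ n, 𝔛.X n ⟶ X) (hp : ∀ n, 𝔛.ι n ≫ p (n + 1) = p n)
  (q : ∀ n, ℨ.X n ⟶ Z) (hq : ∀ n, ℨ.ι n ≫ q (n + 1) = q n)
  [∀ k, IsClosedImmersion (p k)] [∀ k, IsClosedImmersion (q k)]
  (hsq : ∀ k, q k ≫ g = (φ : FSch.Hom ℨ 𝔛).app k ≫ p k)
  (G : Z.Modules)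

open H78.FSchBridge.Push (eh π_eh eh_add shφ proj_shφ τ' pre_eq)

set_option quotPrecheck false in
local notation "MM" => (Scheme.Modules.pushforward g).obj G
set_option quotPrecheck false in
local notation "PSX" => ComplSec.pullSys p hp MM
set_option quotPrecheck false in
local notation "PSZ" => ComplSec.pullSys q hq G

/-- The map to the direct image of the completion. -/
abbrev τ₀ : (FSch.toSchemeMor 𝔛 h𝔛.1 p hp).pull.obj MM ⟶
    (FSch.pushF φ hℨ.1 h𝔛.1).obj (FSch.realLim ℨ hℨ.1 (PSZ).F (PSZ).toPush) :=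
  ((FSch.toSchemeMor 𝔛 h𝔛.1 p hp).adj.homEquiv _ _).symm (τ' φ h𝔛 hℨ g p hp q hq hsq G)

theorem homEquiv_τ₀ :
    (FSch.toSchemeMor 𝔛 h𝔛.1 p hp).adj.homEquiv MM
        ((FSch.pushF φ hℨ.1 h𝔛.1).obj (FSch.realLim ℨ hℨ.1 (PSZ).F (PSZ).toPush))
        (τ₀ φ h𝔛 hℨ g p hp q hq hsq G) = τ' φ h𝔛 hℨ g p hp q hq hsq G :=
  Equiv.apply_symm_apply _ _

theorem unit_τ₀ :
    (FSch.toSchemeMor 𝔛 h𝔛.1 p hp).adj.unit.app MM ≫
        (FSch.toSchemeMor 𝔛 h𝔛.1 p hp).push.map (τ₀ φ h𝔛 hℨ g p hp q hq hsq G) =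
      τ' φ h𝔛 hℨ g p hp q hq hsq G :=
  (Adjunction.homEquiv_unit _ _ _ _).symm.trans (homEquiv_τ₀ φ h𝔛 hℨ g p hp q hq hsq G)

variable [IsProper g] (𝓘 : X.IdealSheafData)
  (hIX : ∀ k (U : X.affineOpens), (p k).ker.ideal U = 𝓘.ideal U ^ (k + 1))
  (hIZ : ∀ k (U : Z.affineOpens), (q k).ker.ideal U = (𝓘.comap g).ideal U ^ (k + 1))

set_option maxHeartbeats 1000000 in
include hIX hIZ in
/-- The completion of the direct image maps isomorphically to the direct image of the completion. -/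
theorem isIso_τ₀ (hG : Coh.IsCoh G) : IsIso (τ₀ φ h𝔛 hℨ g p hp q hq hsq G) := by
  classical
  have hM : Coh.IsCoh MM := Cyc.PP.Push.isCoh_push g hG
  haveI := hM.1
  haveI := hG.1
  have hcX := ComplMonoEpi.isCoh_pullSys p hp hM
  haveI := ComplPull.isIso_γ h𝔛 p hp MM hM hcX
  let γi := inv (ComplPull.γ h𝔛 p hp MM)
  let Θ : FSch.realLim 𝔛 h𝔛.1 (PSX).F (PSX).toPush ⟶ (FSch.pushF φ hℨ.1 h𝔛.1).obj (FSch.realLim ℨ hℨ.1 (PSZ).F (PSZ).toPush) :=
    γi ≫ τ₀ φ h𝔛 hℨ g p hp q hq hsq G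
  have hid : ∀ (F : FSch.ModF 𝔛 h𝔛.1) (V : (𝔛.X 0).Opens) (x : sec h𝔛.1 F V),
      CohPres.resF h𝔛.1 F (le_refl V) x = x := fun F V x =>
    (congrArg (fun g => F.val.map g x) (Subsingleton.elim (homOfLE (le_refl V)).op (𝟙 _))).trans
      (congrArg (fun φ => φ.hom x) (F.val.map_id (op V)))
  let eX : ∀ U : X.Opens, Γ(MM, U) → sec h𝔛.1 (FSch.realLim 𝔛 h𝔛.1 (PSX).F (PSX).toPush) (ComplSec.pre p U) :=
    fun U m => ComplPull.ehat h𝔛 p hp MM U m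
  have hπe : ∀ k (U : X.Opens) (m : Γ(MM, U)),
      π h𝔛.1 (PSX).F (PSX).toPush k (ComplSec.pre p U) (eX U m) =
        ComplSec.σ h𝔛.1 p hp MM k U m := fun k U m => ComplPull.π_ehat h𝔛 p hp MM k U m
  have hγΘ : ComplPull.γ h𝔛 p hp MM ≫ Θ = τ₀ φ h𝔛 hℨ g p hp q hq hsq G :=
    IsIso.hom_inv_id_assoc (ComplPull.γ h𝔛 p hp MM) _
  have hΘe : ∀ (U : X.Opens) (m : Γ(MM, U)),
      secMap h𝔛.1 Θ (ComplSec.pre p U) (eX U m) = eh φ hℨ g p q hq hsq G U m := by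
    intro U m
    have h1 : eX U m =
        secMap h𝔛.1 (ComplPull.γ h𝔛 p hp MM) (ComplSec.pre p U) (ComplPull.plF h𝔛 p hp MM le_rfl m) :=
      ((ComplPull.γ_plF h𝔛 p hp MM le_rfl m).trans (hid _ _ _)).symm
    have h2 : ∀ x, secMap h𝔛.1 Θ (ComplSec.pre p U) (secMap h𝔛.1 (ComplPull.γ h𝔛 p hp MM) (ComplSec.pre p U) x) =
        secMap h𝔛.1 (τ₀ φ h𝔛 hℨ g p hp q hq hsq G) (ComplSec.pre p U) x := fun x =>
      congrArg (fun χ => secMap h𝔛.1 χ (ComplSec.pre p U) x) hγΘ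
    rw [h1, h2]
    refine (PresheafOfModules.naturality_apply (τ₀ φ h𝔛 hℨ g p hp q hq hsq G).val (homOfLE (le_refl (ComplSec.pre p U))).op _).trans ?_
    refine Eq.trans (congrArg (CohPres.resF h𝔛.1 ((FSch.pushF φ hℨ.1 h𝔛.1).obj (FSch.realLim ℨ hℨ.1 (PSZ).F (PSZ).toPush)) (le_refl (ComplSec.pre p U))) ?_) (hid _ _ _)
    exact congrArg (fun w => w.val.app (op U) m) (unit_τ₀ φ h𝔛 hℨ g p hp q hq hsq G)
  have hres : ∀ k (U : X.Opens), Function.Bijective (((PSZ).F k).presheaf.map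
      (homOfLE (CohPres.lvU_mono hℨ.1 k (pre_eq φ g p q hsq U).ge)).op) := fun k U =>
    CohSys.restrict_bijective _ _ (CohPres.lvU_mono hℨ.1 k (pre_eq φ g p q hsq U).le)
  have hzero : ∀ k (U : X.Opens) (m : Γ(G, g ⁻¹ᵁ U)),
      π hℨ.1 (PSZ).F (PSZ).toPush k _ (eh φ hℨ g p q hq hsq G U m) = 0 →
        ComplSec.σ hℨ.1 q hq G k (g ⁻¹ᵁ U) m = 0 := by
    intro k U m h
    rw [π_eh] at h
    exact (hres k U).1 (h.trans (map_zero _).symm)
  -- continuity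
  have hcont : ∀ k (U : X.Opens), IsAffineOpen U →
      ∀ x : sec h𝔛.1 (FSch.realLim 𝔛 h𝔛.1 (PSX).F (PSX).toPush) (ComplSec.pre p U),
      π h𝔛.1 (PSX).F (PSX).toPush k (ComplSec.pre p U) x = 0 →
      π hℨ.1 (PSZ).F (PSZ).toPush k _ (secMap h𝔛.1 Θ (ComplSec.pre p U) x) = 0 := by
    intro k U hU x hx
    have hV := ComplSec.isAffineOpen_pre p hU
    have hx' : x ∈ Levels.J (h := h𝔛.1) (ComplSec.pre p U) ^ (k + 1) • (⊤ : Submodule (Levels.A 𝔛 h𝔛.1 (ComplSec.pre p U))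
        (sec h𝔛.1 (FSch.realLim 𝔛 h𝔛.1 (PSX).F (PSX).toPush) (ComplSec.pre p U))) :=
      ((CohSys.main h𝔛 (PSX) hcX hV).2.2 k).2.le (LinearMap.mem_ker.2 hx)
    refine Submodule.smul_induction_on hx' (fun a ha w _ => ?_) fun a b ha hb => ?_
    · have ha' : Levels.proj 𝔛 h𝔛.1 k (ComplSec.pre p U) a = 0 :=
        RingHom.mem_ker.1 (((Levels.adic h𝔛 hV).2.1 k).2.ge ha)
      refine (congrArg (π hℨ.1 _ _ k _) ((secMap h𝔛.1 Θ (ComplSec.pre p U)).map_smul a w)).trans ?_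
      refine ((π hℨ.1 (PSZ).F (PSZ).toPush k _).map_smul
        (shφ φ h𝔛 hℨ (ComplSec.pre p U) a) (secMap h𝔛.1 Θ (ComplSec.pre p U) w)).trans ?_
      rw [lev_smul, proj_shφ, ha', map_zero, zero_smul]
      rfl
    · exact (congrArg _ (map_add _ a b)).trans ((map_add _ _ _).trans (by rw [ha, hb, add_zero]))
  have hbij : ∀ U : X.affineOpens, Function.Bijective (secMap h𝔛.1 Θ (ComplSec.pre p U.1)) := by
    intro U
    obtain ⟨c, hinj, hsurj⟩ := ProperShift.exists_shift g U.2 hℨ q hq 𝓘 hIZ G hG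
    have hσ : ∀ k (m : Γ(G, g ⁻¹ᵁ U.1)), ComplSec.σ hℨ.1 q hq G (k + c) (g ⁻¹ᵁ U.1) m = 0 →
        ComplSec.σ h𝔛.1 p hp MM k U.1 m = 0 := fun k m hm => by
      rw [ComplSec.σ_eq_zero_iff h𝔛.1 p hp MM k U.2, hIX k U]
      exact hinj k m hm
    refine ⟨(injective_iff_map_eq_zero _).2 fun x hx => ?_, fun y => ?_⟩
    · refine RealLimSec.ext_of_π h𝔛.1 _ _ _ _ fun k => ?_
      obtain ⟨m, hm⟩ := ComplSec.σ_surjective h𝔛.1 p hp MM (k + c) U.2
        (π h𝔛.1 (PSX).F (PSX).toPush (k + c) (ComplSec.pre p U.1) x)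
      have hm' : π h𝔛.1 (PSX).F (PSX).toPush (k + c) (ComplSec.pre p U.1) (x - eX U.1 m) = 0 := by
        rw [map_sub, hπe, hm, sub_self]
      have h1 := hcont (k + c) U.1 U.2 _ hm'
      rw [map_sub, hx, hΘe] at h1
      have h2 : π hℨ.1 (PSZ).F (PSZ).toPush (k + c) _ (eh φ hℨ g p q hq hsq G U.1 m) = 0 := by
        have := (map_neg _ _).symm.trans ((congrArg _ (zero_sub _).symm).trans h1)
        exact neg_eq_zero.1 this
      have h4 := hσ k m (hzero (k + c) U.1 m h2)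
      have h6 := ProperShift.π_zero_of_le h𝔛 p hp MM _ (Nat.le_add_right k c) hm'
      rw [map_sub, hπe, h4, sub_zero] at h6
      rw [h6, map_zero]
    · -- approximations on the levels
      let y' := CohPres.resF hℨ.1 (FSch.realLim ℨ hℨ.1 (PSZ).F (PSZ).toPush) (pre_eq φ g p q hsq U.1).le y
      have hy : ∀ (k : ℕ) (m : Γ(G, g ⁻¹ᵁ U.1)),
          ComplSec.σ hℨ.1 q hq G k (g ⁻¹ᵁ U.1) m = π hℨ.1 (PSZ).F (PSZ).toPush k _ y' →
          π hℨ.1 (PSZ).F (PSZ).toPush k _ (eh φ hℨ g p q hq hsq G U.1 m) = π hℨ.1 (PSZ).F (PSZ).toPush k _ y := by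
        intro k m hm
        refine (π_eh φ hℨ g p q hq hsq G k U.1 m).trans ?_
        rw [hm]
        refine (congrArg _ (CohPres.π_res hℨ.1 (PSZ).F (PSZ).toPush k (pre_eq φ g p q hsq U.1).le y)).trans ?_
        refine (CohDelta.Units.map_map _ _ _ (𝟙 _) _).trans ?_
        rw [CategoryTheory.Functor.map_id]
        rfl
      choose m hm using fun k => hsurj (k + c) y'
      have hlow : ∀ k, ComplSec.σ hℨ.1 q hq G k (g ⁻¹ᵁ U.1) (m k) = π hℨ.1 (PSZ).F (PSZ).toPush k _ y' := fun k => by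
        have h0 : π hℨ.1 (PSZ).F (PSZ).toPush (k + c) _ (y' - ComplPull.ehat hℨ q hq G (g ⁻¹ᵁ U.1) (m k)) = 0 := by
          rw [map_sub, ComplPull.π_ehat, hm k, sub_self]
        have h1 := ProperShift.π_zero_of_le hℨ q hq G _ (Nat.le_add_right k c) h0
        rw [map_sub, ComplPull.π_ehat, sub_eq_zero] at h1
        exact h1.symm
      -- the shifted approximations are compatible
      have hx : ∀ k, tr h𝔛.1 (PSX).F (PSX).toPush k (ComplSec.pre p U.1)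
          (ComplSec.σ h𝔛.1 p hp MM (k + 1) U.1 (m (k + 1))) = ComplSec.σ h𝔛.1 p hp MM k U.1 (m k) := fun k => by
        rw [ComplSec.tr_σ h𝔛.1 p hp MM h𝔛, ← sub_eq_zero, ← map_sub]
        refine hσ k (show Γ(G, g ⁻¹ᵁ U.1) from m (k + 1) - m k) ?_
        rw [map_sub, hm k, sub_eq_zero]
        have h0 : π hℨ.1 (PSZ).F (PSZ).toPush (k + 1 + c) _ (y' - ComplPull.ehat hℨ q hq G (g ⁻¹ᵁ U.1) (m (k + 1))) = 0 := by
          rw [map_sub, ComplPull.π_ehat, hm (k + 1), sub_self]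
        have h1 := ProperShift.π_zero_of_le hℨ q hq G _ (show k + c ≤ k + 1 + c by omega) h0
        rw [map_sub, ComplPull.π_ehat, sub_eq_zero] at h1
        exact h1.symm
      obtain ⟨x, hx'⟩ := RealLimSec.exists_of_compatible h𝔛.1 (PSX).F
        (PSX).toPush (V := ComplSec.pre p U.1) (fun k => ComplSec.σ h𝔛.1 p hp MM k U.1 (m k)) hx
      refine ⟨x, RealLimSec.ext_of_π hℨ.1 _ _ _ _ fun k => ?_⟩
      have h1 := hcont k U.1 U.2 (x - eX U.1 (m k)) (by rw [map_sub, hx', hπe, sub_self])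
      rw [map_sub, hΘe] at h1
      exact (sub_eq_zero.1 ((map_sub _ _ _).symm.trans h1)).trans (hy k (m k) (hlow k))
  haveI : IsIso ((SheafOfModules.toSheaf _).map Θ) := by
    refine TopCat.Sheaf.isIso_iff_isIso_basis (ComplSec.isBasis_pre p) fun U => ?_
    exact (ConcreteCategory.isIso_iff_bijective _).2 (hbij U)
  haveI hΘ : IsIso Θ := isIso_of_reflects_iso Θ (SheafOfModules.toSheaf _)
  rw [← hγΘ]
  exact IsIso.comp_isIso' inferInstance hΘ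

omit [IsProper g] in
/-- The base-change map, followed by the comparison with the completion. -/
theorem schBcMap_γ :
    FSch.schBcMap φ hℨ.1 h𝔛.1 g q hq p hp hsq G ≫
      (FSch.pushF φ hℨ.1 h𝔛.1).map (ComplPull.γ hℨ q hq G) = τ₀ φ h𝔛 hℨ g p hp q hq hsq G := by
  apply ((FSch.toSchemeMor 𝔛 h𝔛.1 p hp).adj.homEquiv _ _).injective
  refine Eq.trans (Adjunction.homEquiv_naturality_right _ _ _) (Eq.trans ?_ (homEquiv_τ₀ φ h𝔛 hℨ g p hp q hq hsq G).symm)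
  refine (congrArg (· ≫ _) (ModSite.RMor.bcMap_transpose (FSch.schSharp_sq φ hℨ.1 h𝔛.1 g q hq p hp hsq) G)).trans ?_
  refine SheafOfModules.hom_ext (PresheafOfModules.hom_ext fun U => ?_)
  ext m
  change secMap hℨ.1 (ComplPull.γ hℨ q hq G) _
      (ComplPull.plF hℨ q hq G (pre_eq φ g p q hsq U.unop).ge m) = eh φ hℨ g p q hq hsq G U.unop m
  rw [ComplPull.γ_plF]
  rfl

include hIX hIZ in
/-- The base-change map of a completion along a proper morphism is an isomorphism. -/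
theorem isIso_schBcMap (hG : Coh.IsCoh G) :
    IsIso (FSch.schBcMap φ hℨ.1 h𝔛.1 g q hq p hp hsq G) := by
  haveI := ComplPull.isIso_γ hℨ q hq G hG (ComplMonoEpi.isCoh_pullSys q hq hG)
  have h := schBcMap_γ φ h𝔛 hℨ g p hp q hq hsq G
  haveI : IsIso (FSch.schBcMap φ hℨ.1 h𝔛.1 g q hq p hp hsq G ≫
      (FSch.pushF φ hℨ.1 h𝔛.1).map (ComplPull.γ hℨ q hq G)) :=
    h ▸ isIso_τ₀ φ h𝔛 hℨ g p hp q hq hsq G 𝓘 hIX hIZ hG
  exact IsIso.of_isIso_comp_right _ ((FSch.pushF φ hℨ.1 h𝔛.1).map (ComplPull.γ hℨ q hq G))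

end Groth.Agent.H30.BcMap
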