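import Groth.Agent.H30.FSch.LevelPull

/-!
# Coherent modules on a formal scheme come from coherent systems (helper30)
-/

set_option autoImplicit false
set_option linter.style.haveILetI false

universe u

open CategoryTheory CategoryTheory.Limits AlgebraicGeometry TopologicalSpace Opposite
open Groth.Agent.H30 Groth.Agent.H30.RealLimSec Groth.Agent.H30.LevelPull
open Groth.Agent.Lib

namespace Groth.Agent.H30.CohF

variable {𝔛 : FSch.Sys.{u}} {h : 𝔛.IsFormal} {F : FSch.ModF 𝔛 h}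

section Pres

variable {W : (𝔛.X 0).Opens} {n m : ℕ} {f : Fin n → sec h F W}
  {r : Fin m → Fin n → Levels.A 𝔛 h W}
  (hF : PresSh.IsPres (R := ModSite.ringSh (𝔛.Osh h)) F W f r)

include hF in
/-- Elements of `I_k • F` are locally combinations of the generators with coefficients in `I_k`. -/
theorem exists_mem_ker (k : ℕ) {V : (𝔛.X 0).Opens} (y : sec h F V) (hy : y ∈ IF h k F V) (e : V ≤ W)
    {z : 𝔛.X 0} (hz : z ∈ V) :
    ∃ (V' : (𝔛.X 0).Opens) (hVV : V' ≤ V) (_ : z ∈ V') (b : Fin n → Levels.A 𝔛 h V'),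
      (∀ i, Levels.proj 𝔛 h k V' (b i) = 0) ∧
        CohPres.resF h F hVV y = ∑ i, b i • CohPres.resF h F (hVV.trans e) (f i) := by
  induction hy using Submodule.smul_induction_on' with
  | smul a ha x _ =>
    obtain ⟨V', hVV, hVW, hz', c, hc⟩ := hF.gen V e x z hz
    refine ⟨V', hVV, hz', fun i => CohPres.resA h hVV a * (show Levels.A 𝔛 h V' from c i), fun i => ?_, ?_⟩
    · rw [map_mul, CohPres.proj_resA, RingHom.mem_ker.1 ha, map_zero, zero_mul]
    · rw [CohPres.resF_smul]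
      refine (congrArg (CohPres.resA h hVV a • ·) (show CohPres.resF h F hVV x =
        ∑ i, (show Levels.A 𝔛 h V' from c i) • CohPres.resF h F (hVV.trans e) (f i) from hc)).trans ?_
      simp only [Finset.smul_sum, smul_smul]
  | add y₁ _ y₂ _ h₁ h₂ =>
    obtain ⟨V₁, hV₁, hz₁, b₁, hb₁, e₁⟩ := h₁
    obtain ⟨V₂, hV₂, hz₂, b₂, hb₂, e₂⟩ := h₂
    let V' := V₁ ⊓ V₂
    refine ⟨V', (inf_le_left.trans hV₁ : V' ≤ V), ⟨hz₁, hz₂⟩,
      fun i => CohPres.resA h (inf_le_left : V' ≤ V₁) (b₁ i) +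
        CohPres.resA h (inf_le_right : V' ≤ V₂) (b₂ i), fun i => ?_, ?_⟩
    · rw [map_add, CohPres.proj_resA, CohPres.proj_resA, hb₁, hb₂, map_zero, map_zero, add_zero]
    · have d₁ := congrArg (CohPres.resF h F (inf_le_left : V' ≤ V₁)) e₁
      have d₂ := congrArg (CohPres.resF h F (inf_le_right : V' ≤ V₂)) e₂
      simp only [map_sum, CohPres.resF_smul, resF_resF] at d₁ d₂
      simp only [map_add, add_smul, Finset.sum_add_distrib]
      rw [d₁, d₂]

include hF in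
/-- The inverse image on a level has the induced presentation. -/
theorem isPres_pullk (k : ℕ) :
    PresSh.IsPres (R := (𝔛.X k).ringCatSheaf) (pullk h k F) (𝔛.lvU h k W)
      (fun i => η h k F W (f i)) (fun j i => Levels.proj 𝔛 h k W (r j i)) := by
  have hη : ∀ {V : (𝔛.X 0).Opens} (e : V ≤ W) (a : Fin n → Levels.A 𝔛 h V),
      η h k F V (∑ i, a i • CohPres.resF h F e (f i)) =
        ∑ i, Levels.proj 𝔛 h k V (a i) • (show Γ(pullk h k F, 𝔛.lvU h k V) from
          QCoh.Localizing.res (pullk h k F) (CohPres.lvU_mono h k e) (η h k F W (f i))) := by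
    intro V e a
    rw [map_sum]
    refine Finset.sum_congr rfl fun i _ => (map_smul _ _ _).trans ?_
    exact (lev_smul h _ k V (a i) _).trans (congrArg (_ • ·) (η_res h k F e (f i)))
  refine PresSh.IsPres.of_basis _ (LevelAdj.isBasis_aff h k) (fun j => ?_) ?_ ?_
  · refine Eq.trans ?_ ((congrArg (η h k F W) (hF.rel j)).trans (map_zero _))
    refine Eq.symm ((map_sum (η h k F W) _ _).trans ?_)
    exact Finset.sum_congr rfl fun i _ =>
      (map_smul (η h k F W) (show Levels.A 𝔛 h W from r j i) (f i)).trans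
        (lev_smul h (fun j => pullk h j F) k W (show Levels.A 𝔛 h W from r j i) _)
  · rintro _ ⟨V₀, rfl⟩ hV₀W s z hz
    obtain ⟨V, hV, hzV, hVV₀, m, hm⟩ := exists_unit_eq h k F (c := LevelAdj.aff h k V₀) s hz
    have e : V ≤ W := le_of_lvU_le h k (hVV₀.trans hV₀W)
    obtain ⟨V', hV'V, hV'W, hz', c, hc⟩ := hF.gen V e m (𝔛.gInv h k z) hzV
    refine ⟨𝔛.lvU h k V', (CohPres.lvU_mono h k hV'V).trans hVV₀, hz',
      fun i => Levels.proj 𝔛 h k V' (c i), ?_⟩
    have h1 := congrArg (η h k F V') (show CohPres.resF h F hV'V m =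
        ∑ i, (show Levels.A 𝔛 h V' from c i) • CohPres.resF h F hV'W (f i) from hc)
    rw [η_res, hm, hη] at h1
    refine Eq.trans ?_ h1
    exact (QCoh.Localizing.res_res (M := pullk h k F) hVV₀ (CohPres.lvU_mono h k hV'V) s).symm
  · rintro _ ⟨V₀, rfl⟩ hV₀W c hc z hz
    choose a ha using fun i => OshBasic.OshProj_surjective 𝔛 h k V₀.2 (c i)
    have e₀ : V₀.1 ≤ W := le_of_lvU_le h k hV₀W
    let y : sec h F V₀.1 := ∑ i, a i • CohPres.resF h F e₀ (f i)
    have hy : η h k F V₀.1 y = 0 :=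
      (hη e₀ a).trans ((Finset.sum_congr rfl fun i _ =>
        congrArg (fun q : Γ(𝔛.X k, 𝔛.lvU h k V₀.1) => q • (show Γ(pullk h k F, 𝔛.lvU h k V₀.1) from
          QCoh.Localizing.res (pullk h k F) (CohPres.lvU_mono h k e₀) (η h k F W (f i)))) (ha i)).trans hc)
    obtain ⟨V, hV, hVV₀, hzV, hmem⟩ := exists_mem_of_unit_eq_zero h k F y hy (z := z) hz
    obtain ⟨V', hV'V, hz', b, hb, hbe⟩ :=
      exists_mem_ker hF k _ hmem (hVV₀.trans e₀) (z := 𝔛.gInv h k z) hzV
    let a' : Fin n → Levels.A 𝔛 h V' := fun i => CohPres.resA h (hV'V.trans hVV₀) (a i) - b i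
    have h0 : ∑ i, a' i • CohPres.resF h F ((hV'V.trans hVV₀).trans e₀) (f i) = 0 := by
      rw [resF_resF] at hbe
      simp only [y, map_sum, CohPres.resF_smul, resF_resF] at hbe
      simp only [a', sub_smul, Finset.sum_sub_distrib]
      exact sub_eq_zero.2 hbe
    obtain ⟨V'', hV''V', hV''W, hz'', d, hd⟩ :=
      hF.exact V' ((hV'V.trans hVV₀).trans e₀) a' h0 (𝔛.gInv h k z) hz'
    refine ⟨𝔛.lvU h k V'', CohPres.lvU_mono h k (hV''V'.trans (hV'V.trans hVV₀)), hz'',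
      fun j => Levels.proj 𝔛 h k V'' (d j), fun i => ?_⟩
    have h2 := congrArg (Levels.proj 𝔛 h k V'') (show CohPres.resA h hV''V' (a' i) =
      ∑ j, (show Levels.A 𝔛 h V'' from d j) * CohPres.resA h hV''W (r j i) from hd i)
    simp only [a', map_sub, map_sum, map_mul, CohPres.proj_resA, hb, map_zero, sub_zero,
      QCoh.Localizing.resR_resR] at h2
    rw [show Levels.proj 𝔛 h k V₀.1 (a i) = c i from ha i] at h2
    exact h2

end Pres

section Sys

variable (F)

/-- The transition `F_{k+1} → ι_* F_k`. -/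
noncomputable def trans (k : ℕ) :
    pullk h (k + 1) F ⟶ (Scheme.Modules.pushforward (𝔛.ι k)).obj (pullk h k F) :=
  ((FSch.levelMor 𝔛 h (k + 1)).adj.homEquiv _ _).symm
    ((FSch.levelMor 𝔛 h k).adj.unit.app F ≫ (FSch.pushCompareInv 𝔛 h k).app (pullk h k F))

instance isIso_pushCompareInv (k : ℕ) (N : (𝔛.X k).Modules) :
    IsIso ((FSch.pushCompareInv 𝔛 h k).app N) :=
  ⟨⟨_, FSch.pushCompareInv_pushCompare 𝔛 h k N, FSch.pushCompare_pushCompareInv 𝔛 h k N⟩⟩

/-- The comparison of inverse images. -/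
noncomputable def eHom (k : ℕ) :
    (Scheme.Modules.pullback (𝔛.ι k)).obj (pullk h (k + 1) F) ⟶ pullk h k F :=
  ((Scheme.Modules.pullbackPushforwardAdjunction (𝔛.ι k)).homEquiv _ _).symm (trans F k)

theorem bijective_eHom_comp (k : ℕ) (N : (𝔛.X k).Modules) :
    Function.Bijective (fun ψ : pullk h k F ⟶ N => eHom F k ≫ ψ) := by
  have hfun : (fun ψ : pullk h k F ⟶ N => eHom F k ≫ ψ) =
      ((Scheme.Modules.pullbackPushforwardAdjunction (𝔛.ι k)).homEquiv _ _).symm ∘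
      ((FSch.levelMor 𝔛 h (k + 1)).adj.homEquiv _ _).symm ∘
      (fun α : F ⟶ (FSch.levelMor 𝔛 h k).push.obj N => α ≫ (FSch.pushCompareInv 𝔛 h k).app N) ∘
      ((FSch.levelMor 𝔛 h k).adj.homEquiv F N) := by
    funext ψ
    show eHom F k ≫ ψ = _
    rw [eHom, ← Adjunction.homEquiv_naturality_right_symm]
    refine congrArg _ ?_
    refine (Adjunction.homEquiv_naturality_right_symm (FSch.levelMor 𝔛 h (k + 1)).adj _ _).symm.trans ?_
    refine congrArg _ ?_
    refine Eq.trans ?_ (congrArg (fun z : F ⟶ (FSch.levelMor 𝔛 h k).push.obj N =>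
      z ≫ (FSch.pushCompareInv 𝔛 h k).app N)
      ((FSch.levelMor 𝔛 h k).adj.homEquiv_unit F N ψ)).symm
    refine (Category.assoc _ _ _).trans ?_
    refine Eq.trans ?_ (Category.assoc _ _ _).symm
    exact congrArg (_ ≫ ·) ((FSch.pushCompareInv 𝔛 h k).naturality ψ).symm
  rw [hfun]
  refine (Equiv.bijective _).comp ((Equiv.bijective _).comp (Function.Bijective.comp ?_ (Equiv.bijective _)))
  exact ((Iso.homToEquiv (asIso ((FSch.pushCompareInv 𝔛 h k).app N))) :
    (F ⟶ _) ≃ (F ⟶ _)).bijective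

instance isIso_eHom (k : ℕ) : IsIso (eHom (h := h) F k) := by
  obtain ⟨g, hg⟩ := (bijective_eHom_comp F k _).2 (𝟙 _)
  refine ⟨⟨g, hg, (bijective_eHom_comp F k _).1 ?_⟩⟩
  show _ ≫ g ≫ _ = _ ≫ 𝟙 _
  rw [← Category.assoc, show _ ≫ g = 𝟙 _ from hg, Category.id_comp, Category.comp_id]

/-- The system of inverse images. -/
noncomputable def sys (F : FSch.ModF 𝔛 h) : FSch.ModSys 𝔛 where
  F k := pullk h k F
  e k := asIso (eHom F k)

theorem toPush_sys (k : ℕ) : (sys F).toPush k = trans F k :=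
  Equiv.apply_symm_apply _ _

theorem unit_map (k : ℕ) :
    (FSch.levelMor 𝔛 h (k + 1)).adj.unit.app F ≫
      ((FSch.levelMor 𝔛 h (k + 1)).push.map ((sys F).toPush k) ≫
        (FSch.pushCompare 𝔛 h k).app ((sys F).F k)) =
      (FSch.levelMor 𝔛 h k).adj.unit.app F := by
  rw [toPush_sys]
  refine (Category.assoc _ _ _).symm.trans ?_
  refine (congrArg (· ≫ _) (((FSch.levelMor 𝔛 h (k + 1)).adj.homEquiv_unit F _ _).symm.trans
    (Equiv.apply_symm_apply _ _))).trans ?_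
  refine (Category.assoc _ _ _).trans ?_
  refine (congrArg (_ ≫ ·) (FSch.pushCompareInv_pushCompare 𝔛 h k _)).trans ?_
  exact Category.comp_id _

/-- The cone of units. -/
noncomputable def cone : Cone (FSch.levelSysOf 𝔛 h (sys F).F (sys F).toPush) where
  pt := F
  π := NatTrans.ofOpSequence (fun k => (FSch.levelMor 𝔛 h k).adj.unit.app F) fun k => by
    rw [FSch.levelSysOf_map_succ]
    refine (Category.id_comp _).trans ?_
    exact (unit_map F k).symm

/-- The comparison map `F → lim u_{k*} u_k^* F`. -/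
noncomputable def θ : F ⟶ (sys F).realMod h := limit.lift _ (cone F)

theorem π_θ (k : ℕ) (V : (𝔛.X 0).Opens) (x : sec h F V) :
    π h (sys F).F (sys F).toPush k V (secMap h (θ F) V x) = η h k F V x :=
  congrArg (fun φ => secMap h φ V x) (limit.lift_π (cone F) (op k))

end Sys

section Iso

variable (h𝔛 : 𝔛.IsLocNoethFormal) (F : FSch.ModF 𝔛 h𝔛.1)

theorem exists_pres (hF : FSch.IsCohF 𝔛 h𝔛.1 F) (x : 𝔛.X 0) :
    ∃ (W : (𝔛.X 0).Opens) (n m : ℕ) (f : Fin n → sec h𝔛.1 F W)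
      (r : Fin m → Fin n → Levels.A 𝔛 h𝔛.1 W), x ∈ W ∧
        PresSh.IsPres (R := ModSite.ringSh (𝔛.Osh h𝔛.1)) F W f r :=
  haveI := hF
  PresSh.exists_isPres (M := F) x

theorem isCoh_sys (hF : FSch.IsCohF 𝔛 h𝔛.1 F) : (sys F).IsCoh := by
  intro k
  refine SchPres.isCoh_of_isPres fun z => ?_
  obtain ⟨W, n, m, f, r, hz, hp⟩ := exists_pres h𝔛 F hF (𝔛.gInv h𝔛.1 k z)
  exact ⟨_, n, m, _, _, hz, isPres_pullk hp k⟩

theorem isIso_θ (hF : FSch.IsCohF 𝔛 h𝔛.1 F) : IsIso (θ F) := by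
  have hcoh := isCoh_sys h𝔛 F hF
  let B : Set (𝔛.X 0).Opens := {V | IsAffineOpen V ∧ ∃ (W : (𝔛.X 0).Opens) (n m : ℕ)
    (f : Fin n → sec h𝔛.1 F W) (r : Fin m → Fin n → Levels.A 𝔛 h𝔛.1 W), V ≤ W ∧
      PresSh.IsPres (R := ModSite.ringSh (𝔛.Osh h𝔛.1)) F W f r}
  have hB : Opens.IsBasis (Set.range (Subtype.val : B → (𝔛.X 0).Opens)) := by
    rw [Subtype.range_coe, Opens.isBasis_iff_nbhd]
    intro U x hx
    obtain ⟨W, n, m, f, r, hxW, hp⟩ := exists_pres h𝔛 F hF x
    obtain ⟨V, hV, hxV, hVU⟩ := Opens.isBasis_iff_nbhd.1 (CohPres.isBasis_affine (𝔛.X 0))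
      (show x ∈ U ⊓ W from ⟨hx, hxW⟩)
    exact ⟨V, ⟨hV, W, n, m, f, r, hVU.trans inf_le_right, hp⟩, hxV, hVU.trans inf_le_left⟩
  have key : ∀ V : B, Function.Bijective (secMap h𝔛.1 (θ F) V.1) := by
    rintro ⟨V, hV, W, n, m, f, r, hVW, hp⟩
    have hl : ∀ k, PresSh.IsPres (R := (𝔛.X k).ringCatSheaf) ((sys F).F k) (𝔛.lvU h𝔛.1 k W)
        (CohPres.levGen h𝔛 (sys F) (fun i => secMap h𝔛.1 (θ F) W (f i)) k)
        (CohPres.levRel h𝔛 r k) := by
      intro k
      rw [show CohPres.levGen h𝔛 (sys F) (fun i => secMap h𝔛.1 (θ F) W (f i)) k =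
        fun i => η h𝔛.1 k F W (f i) from funext fun i => π_θ F k W (f i)]
      exact isPres_pullk hp k
    have hres : ∀ {V₁ V₂ : (𝔛.X 0).Opens} (e : V₂ ≤ V₁) (x : sec h𝔛.1 F V₁),
        secMap h𝔛.1 (θ F) V₂ (CohPres.resF h𝔛.1 F e x) =
          CohPres.resF h𝔛.1 _ e (secMap h𝔛.1 (θ F) V₁ x) := fun e x =>
      LevelAdj.secMap_map (θ F) e x
    constructor
    · rw [injective_iff_map_eq_zero]
      intro x hx
      refine TopCat.Presheaf.section_ext
        (F := (SheafOfModules.toSheaf _).obj F) V x 0 fun z hz => ?_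
      obtain ⟨V', hV'V, hV'W, hz', c, hc⟩ := hp.gen V hVW x z hz
      obtain ⟨V₂, hV₂, hzV₂, hV₂V'⟩ :=
        Opens.isBasis_iff_nbhd.1 (CohPres.isBasis_affine (𝔛.X 0)) hz'
      have hc' : CohPres.resF h𝔛.1 F (hV₂V'.trans hV'V) x = ∑ i,
          CohPres.resA h𝔛.1 hV₂V' (show Levels.A 𝔛 h𝔛.1 V' from c i) •
            CohPres.resF h𝔛.1 F (hV₂V'.trans hV'W) (f i) := by
        have := congrArg (CohPres.resF h𝔛.1 F hV₂V') (show CohPres.resF h𝔛.1 F hV'V x =
          ∑ i, (show Levels.A 𝔛 h𝔛.1 V' from c i) • CohPres.resF h𝔛.1 F hV'W (f i) from hc)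
        simp only [map_sum, CohPres.resF_smul, resF_resF] at this
        exact this
      have h0 := congrArg (secMap h𝔛.1 (θ F) V₂) hc'
      rw [hres, hx, map_zero, map_sum] at h0
      simp only [map_smul, hres] at h0
      obtain ⟨d, hd⟩ := CohPres.exact_of_le h𝔛 (sys F) hcoh hl hV₂ (hV₂V'.trans hV'W) _ h0.symm
      have h1 : CohPres.resF h𝔛.1 F (hV₂V'.trans hV'V) x = 0 := by
        rw [hc']
        simp only [hd, Finset.sum_smul]
        rw [Finset.sum_comm]
        refine Finset.sum_eq_zero fun j _ => ?_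
        simp only [mul_smul, ← Finset.smul_sum, ← CohPres.resF_smul, ← map_sum,
          show ∑ i, r j i • f i = 0 from hp.rel j, map_zero, smul_zero]
      refine Eq.trans ?_ (map_zero _).symm
      refine (TopCat.Presheaf.germ_res_apply ((SheafOfModules.toSheaf _).obj F).obj
        (homOfLE (hV₂V'.trans hV'V)) z hzV₂ x).symm.trans ?_
      exact (congrArg _ h1).trans (map_zero _)
    · intro y
      obtain ⟨a, rfl⟩ := CohPres.gen_of_le h𝔛 (sys F) hcoh hl hV hVW y
      refine ⟨∑ i, a i • CohPres.resF h𝔛.1 F hVW (f i), ?_⟩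
      rw [map_sum]
      exact Finset.sum_congr rfl fun i _ => (map_smul _ _ _).trans (congrArg (_ • ·) (hres hVW (f i)))
  haveI : IsIso ((SheafOfModules.toSheaf _).map (θ F)) := by
    refine TopCat.Sheaf.isIso_iff_isIso_basis hB fun V => ?_
    exact (ConcreteCategory.isIso_iff_bijective _).2 (key V)
  exact isIso_of_reflects_iso (θ F) (SheafOfModules.toSheaf _)

end Iso

end Groth.Agent.H30.CohF
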