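import Groth.Agent.H30.FSch.CohCons

/-!
# Small perturbations of monomorphisms and epimorphisms (helper30)
-/

set_option autoImplicit false
set_option linter.style.haveILetI false

universe u

open CategoryTheory CategoryTheory.Limits AlgebraicGeometry TopologicalSpace Opposite
open Groth.Agent.H30 Groth.Agent.H30.RealLimSec
open Groth.Agent.Lib

namespace Groth.Agent.H30.CohPerturb

variable {𝔛 : FSch.Sys.{u}} (h𝔛 : 𝔛.IsLocNoethFormal) {F G : FSch.ModF 𝔛 h𝔛.1}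

theorem secMap_add (φ ψ : F ⟶ G) (V : (𝔛.X 0).Opens) (x : sec h𝔛.1 F V) :
    secMap h𝔛.1 (φ + ψ) V x = secMap h𝔛.1 φ V x + secMap h𝔛.1 ψ V x := rfl

theorem range_le (hG : FSch.IsCohF 𝔛 h𝔛.1 G) (ψ : F ⟶ G) (n : ℕ)
    (hψ : ψ ≫ (FSch.levelMor 𝔛 h𝔛.1 n).adj.unit.app G = 0) {V : (𝔛.X 0).Opens}
    (hV : IsAffineOpen V) :
    LinearMap.range (secMap h𝔛.1 ψ V) ≤
      Levels.J (h := h𝔛.1) V ^ (n + 1) • (⊤ : Submodule _ (sec h𝔛.1 G V)) := by
  rintro _ ⟨x, rfl⟩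
  refine (CohExact.η_spec h𝔛 hG hV n).2.le (LinearMap.mem_ker.2 ?_)
  exact congrArg (fun φ => secMap h𝔛.1 φ V x) hψ

theorem injective_add (hF : FSch.IsCohF 𝔛 h𝔛.1 F) (hG : FSch.IsCohF 𝔛 h𝔛.1 G) (θ ψ : F ⟶ G)
    {W : (𝔛.X 0).Opens} (hW : IsAffineOpen W) (s n : ℕ)
    (hs : ∀ t ≥ s, Levels.J (h := h𝔛.1) W ^ t • ⊤ ⊓ LinearMap.range (secMap h𝔛.1 θ W) =
      Levels.J (h := h𝔛.1) W ^ (t - s) •
        (Levels.J (h := h𝔛.1) W ^ s • ⊤ ⊓ LinearMap.range (secMap h𝔛.1 θ W)))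
    (hsn : s ≤ n) (hψ : ψ ≫ (FSch.levelMor 𝔛 h𝔛.1 n).adj.unit.app G = 0)
    (hθ : Function.Injective (secMap h𝔛.1 θ W)) :
    Function.Injective (secMap h𝔛.1 (θ + ψ) W) := by
  haveI := CohExact.finite_sec h𝔛 hF hW
  haveI := (Levels.adic h𝔛 hW).1
  haveI := Levels.isNoetherianRing_A h𝔛 hW
  haveI : IsHausdorff (Levels.J (h := h𝔛.1) W) (sec h𝔛.1 F W) :=
    IsHausdorff.of_le_jacobson _ _ (IsAdicComplete.le_jacobson_bot _)
  rw [injective_iff_map_eq_zero]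
  intro x hx
  refine IsHausdorff.haus ‹IsHausdorff _ (sec h𝔛.1 F W)› x fun t => SModEq.zero.2 ?_
  induction t with
  | zero => simp
  | succ t ih =>
    have h1 : secMap h𝔛.1 ψ W x ∈
        Levels.J (h := h𝔛.1) W ^ (t + (n + 1)) • (⊤ : Submodule (Levels.A 𝔛 h𝔛.1 W) (sec h𝔛.1 G W)) := by
      have h2 := Submodule.mem_map_of_mem (f := secMap h𝔛.1 ψ W) ih
      rw [Submodule.map_smul'', Submodule.map_top] at h2
      rw [pow_add, mul_smul]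
      exact Submodule.smul_mono le_rfl (range_le h𝔛 hG ψ n hψ hW) h2
    have h3 : secMap h𝔛.1 θ W x ∈ Levels.J (h := h𝔛.1) W ^ (t + (n + 1)) • ⊤ ⊓
        LinearMap.range (secMap h𝔛.1 θ W) := by
      refine ⟨?_, ⟨x, rfl⟩⟩
      have : secMap h𝔛.1 θ W x = -secMap h𝔛.1 ψ W x := by
        rw [secMap_add h𝔛 θ ψ] at hx
        exact eq_neg_of_add_eq_zero_left hx
      rw [this]
      exact Submodule.neg_mem _ h1
    rw [hs _ (by omega)] at h3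
    have h4 : secMap h𝔛.1 θ W x ∈ (Levels.J (h := h𝔛.1) W ^ (t + 1) •
        (⊤ : Submodule _ (sec h𝔛.1 F W))).map (secMap h𝔛.1 θ W) := by
      rw [Submodule.map_smul'', Submodule.map_top]
      exact Submodule.smul_mono (Ideal.pow_le_pow_right (by omega)) inf_le_right h3
    obtain ⟨y, hy, he⟩ := h4
    exact hθ he ▸ hy

theorem main [CompactSpace (𝔛.X 0)] (hF : FSch.IsCohF 𝔛 h𝔛.1 F) (hG : FSch.IsCohF 𝔛 h𝔛.1 G)
    (θ : F ⟶ G) :
    ∃ n : ℕ, ∀ ψ : F ⟶ G, ψ ≫ (FSch.levelMor 𝔛 h𝔛.1 n).adj.unit.app G = 0 →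
      (Mono θ → Mono (θ + ψ)) ∧ (Epi θ → Epi (θ + ψ)) := by
  classical
  choose W hW hxW using fun x : 𝔛.X 0 => CohCons.exists_affine (𝔛 := 𝔛) x
  obtain ⟨T, hT⟩ := isCompact_univ.elim_finite_subcover (fun x => (W x : Set (𝔛.X 0)))
    (fun x => (W x).2) fun x _ => Set.mem_iUnion.2 ⟨x, hxW x⟩
  have hex : ∀ x, ∃ s : ℕ, ∀ t ≥ s, Levels.J (h := h𝔛.1) (W x) ^ t • ⊤ ⊓
      LinearMap.range (secMap h𝔛.1 θ (W x)) = Levels.J (h := h𝔛.1) (W x) ^ (t - s) •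
        (Levels.J (h := h𝔛.1) (W x) ^ s • ⊤ ⊓ LinearMap.range (secMap h𝔛.1 θ (W x))) := by
    intro x
    haveI := CohExact.finite_sec h𝔛 hG (hW x)
    haveI := Levels.isNoetherianRing_A h𝔛 (hW x)
    exact Ideal.exists_pow_inf_eq_pow_smul _ _
  choose s hs using hex
  refine ⟨∑ x ∈ T, s x, fun ψ hψ => ⟨fun hm => ?_, fun he => ?_⟩⟩
  · refine CohCons.mono_of_injective _ fun V => ?_
    rw [injective_iff_map_eq_zero]
    intro y hy
    refine TopCat.Presheaf.section_ext (F := (SheafOfModules.toSheaf _).obj F) V.1 y 0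
      fun z hz => ?_
    obtain ⟨x, hxT, hzx⟩ := Set.mem_iUnion₂.1 (hT (Set.mem_univ z))
    have hinj := injective_add h𝔛 hF hG θ ψ (hW x) (s x) _ (hs x)
      (Finset.single_le_sum (fun j _ => Nat.zero_le _) hxT) hψ (CohCons.secMap_injective θ (W x))
    obtain ⟨V', hV', hzV', hV'le⟩ := Opens.isBasis_iff_nbhd.1 (CohPres.isBasis_affine (𝔛.X 0))
      (show z ∈ V.1 ⊓ W x from ⟨hz, hzx⟩)
    have e₁ : V' ≤ V.1 := hV'le.trans inf_le_left
    have h0 : secMap h𝔛.1 (θ + ψ) V' (CohPres.resF h𝔛.1 F e₁ y) = 0 := by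
      refine (LevelAdj.secMap_map (θ + ψ) e₁ y).trans ?_
      rw [hy]
      exact map_zero _
    obtain ⟨a, ha⟩ := CohCons.ker_gens h𝔛 hF hG (θ + ψ) (hW x) (Fin.elim0 : Fin 0 → _)
      (fun w hw => ⟨Fin.elim0, by
        rw [Finset.univ_eq_empty, Finset.sum_empty]
        exact hinj (hw.trans (map_zero _).symm)⟩) hV' (hV'le.trans inf_le_right) _ h0
    rw [Finset.univ_eq_empty, Finset.sum_empty] at ha
    refine (TopCat.Presheaf.germ_res_apply ((SheafOfModules.toSheaf _).obj F).obj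
        (homOfLE e₁) z hzV' y).symm.trans ?_
    exact (congrArg _ ha).trans ((map_zero _).trans (map_zero _).symm)
  · haveI := (FSch.levelMor 𝔛 h𝔛.1 0).adj.leftAdjoint_preservesColimits
    haveI : Epi ((FSch.levelMor 𝔛 h𝔛.1 0).pull.map θ) := inferInstance
    refine CohCons.epi_of_surjective _ fun V => CohCons.surjective_of_mod h𝔛 hG _ V.2 fun y => ?_
    obtain ⟨x, rfl⟩ := CohCons.surjective_of_epi_pull h𝔛 hF hG θ V.2 y
    refine ⟨x, ?_⟩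
    rw [secMap_add h𝔛 θ ψ, map_add]
    refine add_eq_left.2 (LinearMap.mem_ker.1 ((CohExact.η_spec h𝔛 hG V.2 0).2.ge ?_))
    exact Submodule.smul_mono (Ideal.pow_le_pow_right (by omega)) le_rfl
      (range_le h𝔛 hG ψ _ hψ V.2 ⟨x, rfl⟩)

end Groth.Agent.H30.CohPerturb
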