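import Groth.Agent.H30.FSch.CohRed
import Groth.Agent.H30.FSch.SchPres

/-!
# Presentations of the module of a coherent system (helper30)
-/

set_option autoImplicit false
set_option linter.style.haveILetI false

universe u

open CategoryTheory CategoryTheory.Limits AlgebraicGeometry TopologicalSpace Opposite
open Groth.Agent.H30 Groth.Agent.H30.RealLimSec
open Groth.Agent.Lib

namespace Groth.Agent.H30.CohPres

variable {𝔛 : FSch.Sys.{u}} (h : 𝔛.IsFormal)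

/-- Restriction of functions on `𝔛`. -/
noncomputable def resA {W V : (𝔛.X 0).Opens} (e : V ≤ W) :
    Levels.A 𝔛 h W →+* Levels.A 𝔛 h V :=
  ((𝔛.Osh h).obj.map (homOfLE e).op).hom

/-- The levels of opens are monotone. -/
theorem lvU_mono (k : ℕ) {W V : (𝔛.X 0).Opens} (e : V ≤ W) : 𝔛.lvU h k V ≤ 𝔛.lvU h k W :=
  fun _ hz => e hz

theorem proj_resA (k : ℕ) {W V : (𝔛.X 0).Opens} (e : V ≤ W) (a : Levels.A 𝔛 h W) :
    Levels.proj 𝔛 h k V (resA h e a) =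
      QCoh.Localizing.resR (lvU_mono h k e) (Levels.proj 𝔛 h k W a) :=
  ConcreteCategory.congr_hom ((𝔛.OshProj h k).hom.naturality (homOfLE e).op) a

/-- Restriction of sections. -/
noncomputable def resF (F : FSch.ModF 𝔛 h) {W V : (𝔛.X 0).Opens} (e : V ≤ W) :
    sec h F W →+ sec h F V :=
  (F.val.map (homOfLE e).op).hom.toAddMonoidHom

theorem resF_smul (F : FSch.ModF 𝔛 h) {W V : (𝔛.X 0).Opens} (e : V ≤ W) (a : Levels.A 𝔛 h W)
    (x : sec h F W) : resF h F e (a • x) = resA h e a • resF h F e x :=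
  F.val.map_smul (homOfLE e).op a x

variable (G : ∀ k, (𝔛.X k).Modules)
  (t : ∀ k, G (k + 1) ⟶ (Scheme.Modules.pushforward (𝔛.ι k)).obj (G k))

theorem π_res (k : ℕ) {W V : (𝔛.X 0).Opens} (e : V ≤ W) (x : sec h (FSch.realLim 𝔛 h G t) W) :
    π h G t k V (resF h _ e x) = QCoh.Localizing.res (G k) (lvU_mono h k e) (π h G t k W x) :=
  LevelAdj.secMap_map (FSch.realProj 𝔛 h G t k) e x

theorem π_sum (k : ℕ) {V : (𝔛.X 0).Opens} {n : ℕ} (a : Fin n → Levels.A 𝔛 h V)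
    (x : Fin n → sec h (FSch.realLim 𝔛 h G t) V) :
    π h G t k V (∑ i, a i • x i) = ∑ i, Levels.proj 𝔛 h k V (a i) •
      (show Γ(G k, 𝔛.lvU h k V) from π h G t k V (x i)) := by
  rw [map_sum]
  exact Finset.sum_congr rfl fun i _ => map_smul _ _ _

section Coh

variable {h}
variable (h𝔛 : 𝔛.IsLocNoethFormal) (𝔐 : FSch.ModSys 𝔛) (h𝔐 : 𝔐.IsCoh)
variable {W : (𝔛.X 0).Opens} {n m : ℕ} (f : Fin n → sec h𝔛.1 (𝔐.realMod h𝔛.1) W)
  (r : Fin m → Fin n → Levels.A 𝔛 h𝔛.1 W)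

/-- A presentation of the sections over `W`. -/
structure Gens : Prop where
  gen : ∀ x, ∃ a : Fin n → Levels.A 𝔛 h𝔛.1 W, x = ∑ i, a i • f i
  rel : ∀ j, ∑ i, r j i • f i = 0
  ex : ∀ a : Fin n → Levels.A 𝔛 h𝔛.1 W, ∑ i, a i • f i = 0 →
    ∃ d : Fin m → Levels.A 𝔛 h𝔛.1 W, ∀ i, a i = ∑ j, d j * r j i

/-- The generators at level `k`. -/
noncomputable def levGen (k : ℕ) (i : Fin n) : Γ(𝔐.F k, 𝔛.lvU h𝔛.1 k W) :=
  π h𝔛.1 𝔐.F 𝔐.toPush k W (f i)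

/-- The relations at level `k`. -/
noncomputable def levRel (k : ℕ) (j : Fin m) (i : Fin n) : Γ(𝔛.X k, 𝔛.lvU h𝔛.1 k W) :=
  Levels.proj 𝔛 h𝔛.1 k W (r j i)

variable {f r}

include h𝔐 in
theorem isPres_lev (hW : IsAffineOpen W) (hg : Gens h𝔛 𝔐 f r) (k : ℕ) :
    PresSh.IsPres (R := (𝔛.X k).ringCatSheaf) (𝔐.F k) (𝔛.lvU h𝔛.1 k W) (levGen h𝔛 𝔐 f k)
      (levRel h𝔛 r k) := by
  haveI : (𝔐.F k).IsQuasicoherent := (h𝔐 k).1
  obtain ⟨hA, hB⟩ := ((CohSys.main h𝔛 𝔐 h𝔐 hW).2.2 k)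
  obtain ⟨hp, hpk⟩ := (Levels.adic h𝔛 hW).2.1 k
  refine SchPres.isPres_of_affine (𝔐.F k) (OshBasic.isAffineOpen_lvU 𝔛 h𝔛.1 k hW) _ _
    (fun s => ?_) (fun j => ?_) fun c hc => ?_
  · obtain ⟨x, rfl⟩ := hA s
    obtain ⟨a, rfl⟩ := hg.gen x
    exact ⟨fun i => Levels.proj 𝔛 h𝔛.1 k W (a i), π_sum h𝔛.1 𝔐.F 𝔐.toPush k a f⟩
  · exact (π_sum h𝔛.1 𝔐.F 𝔐.toPush k (r j) f).symm.trans
      ((congrArg (π h𝔛.1 𝔐.F 𝔐.toPush k W) (hg.rel j)).trans (map_zero _))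
  · choose a ha using fun i => hp (c i)
    let y : sec h𝔛.1 (𝔐.realMod h𝔛.1) W := ∑ i, a i • f i
    have h0' : π h𝔛.1 𝔐.F 𝔐.toPush k W y = 0 := by
      refine (π_sum h𝔛.1 𝔐.F 𝔐.toPush k a f).trans ?_
      exact (Finset.sum_congr rfl fun i _ => congrArg
        (· • (show Γ(𝔐.F k, 𝔛.lvU h𝔛.1 k W) from levGen h𝔛 𝔐 f k i)) (ha i)).trans hc
    have h0 : y ∈ Levels.J (h := h𝔛.1) W ^ (k + 1) •
        (⊤ : Submodule (Levels.A 𝔛 h𝔛.1 W) (sec h𝔛.1 (𝔐.realMod h𝔛.1) W)) := hB.le (LinearMap.mem_ker.2 h0')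
    have key : ∀ y ∈ Levels.J (h := h𝔛.1) W ^ (k + 1) •
        (⊤ : Submodule (Levels.A 𝔛 h𝔛.1 W) (sec h𝔛.1 (𝔐.realMod h𝔛.1) W)),
        ∃ b : Fin n → Levels.A 𝔛 h𝔛.1 W,
          (∀ i, b i ∈ Levels.J (h := h𝔛.1) W ^ (k + 1)) ∧ y = ∑ i, b i • f i := by
      intro y hy
      induction hy using Submodule.smul_induction_on' with
      | smul s hs z _ =>
        obtain ⟨b, rfl⟩ := hg.gen z
        exact ⟨fun i => s * b i, fun i => Ideal.mul_mem_right _ _ hs,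
          by simp only [Finset.smul_sum, smul_smul]⟩
      | add y₁ _ y₂ _ h₁ h₂ =>
        obtain ⟨b₁, hb₁, rfl⟩ := h₁
        obtain ⟨b₂, hb₂, rfl⟩ := h₂
        exact ⟨b₁ + b₂, fun i => add_mem (hb₁ i) (hb₂ i),
          by simp only [Pi.add_apply, add_smul, Finset.sum_add_distrib]⟩
    obtain ⟨b, hb, hbe⟩ := key _ h0
    obtain ⟨d, hd⟩ := hg.ex (fun i => a i - b i) (by
      simp only [sub_smul, Finset.sum_sub_distrib]
      exact sub_eq_zero.2 hbe)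
    refine ⟨fun j => Levels.proj 𝔛 h𝔛.1 k W (d j), fun i => ?_⟩
    have h2 : Levels.proj 𝔛 h𝔛.1 k W (b i) = 0 := by
      have := hb i
      rw [← hpk] at this
      exact RingHom.mem_ker.1 this
    have h1 := congrArg (Levels.proj 𝔛 h𝔛.1 k W) (hd i)
    simp only [map_sub, map_sum, map_mul, h2, sub_zero] at h1
    exact (ha i).symm.trans h1

include h𝔐 in
theorem isCoh_F (k : ℕ) : (𝔐.F k).IsQuasicoherent := (h𝔐 k).1

section Affine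

variable (hl : ∀ k, PresSh.IsPres (R := (𝔛.X k).ringCatSheaf) (𝔐.F k) (𝔛.lvU h𝔛.1 k W)
    (levGen h𝔛 𝔐 f k) (levRel h𝔛 r k)) {V : (𝔛.X 0).Opens} (hV : IsAffineOpen V)
  (e : V ≤ W)

include h𝔐 hl hV in
/-- Generation over smaller affine opens. -/
theorem gen_of_le (x : sec h𝔛.1 (𝔐.realMod h𝔛.1) V) :
    ∃ a : Fin n → Levels.A 𝔛 h𝔛.1 V, x = ∑ i, a i • resF h𝔛.1 _ e (f i) := by
  haveI := (Levels.adic h𝔛 hV).1
  haveI : (𝔐.F 0).IsQuasicoherent := (h𝔐 0).1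
  haveI := Adic.Complete.isPrecomplete_pi (I := Levels.J (h := h𝔛.1) V) (Fin n)
  let φ : (Fin n → Levels.A 𝔛 h𝔛.1 V) →ₗ[Levels.A 𝔛 h𝔛.1 V] sec h𝔛.1 (𝔐.realMod h𝔛.1) V :=
    Fintype.linearCombination _ fun i => resF h𝔛.1 _ e (f i)
  have hφ : ∀ a, φ a = ∑ i, a i • resF h𝔛.1 _ e (f i) := fun a => Fintype.linearCombination_apply _ _ a
  have h0 : Function.Surjective (π h𝔛.1 𝔐.F 𝔐.toPush 0 V ∘ₗ φ) := by
    intro s
    obtain ⟨c, hc⟩ := SchPres.gen_of_isPres (hl 0)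
      (OshBasic.isAffineOpen_lvU 𝔛 h𝔛.1 0 hV) (lvU_mono h𝔛.1 0 e) s
    choose a ha using fun i => ((Levels.adic h𝔛 hV).2.1 0).1 (c i)
    refine ⟨a, ?_⟩
    refine ((congrArg (π h𝔛.1 𝔐.F 𝔐.toPush 0 V) (hφ a)) : _ = _).trans ?_
    refine (π_sum h𝔛.1 𝔐.F 𝔐.toPush 0 a _).trans (Eq.trans ?_ hc.symm)
    exact Finset.sum_congr rfl fun i _ => congrArg₂ (· • ·) (ha i) (π_res h𝔛.1 𝔐.F 𝔐.toPush 0 e (f i))
  obtain ⟨c₀, hc₀⟩ := h0 (π h𝔛.1 𝔐.F 𝔐.toPush 0 V x)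
  obtain ⟨c, hc, -⟩ := Adic.Limit.exists_preimage (CohSys.isSys h𝔛 𝔐 h𝔐 hV) h0 0 x c₀ (by
    rw [LinearMap.mem_ker, map_sub, sub_eq_zero]
    exact hc₀.symm)
  exact ⟨c, hc.symm.trans (hφ c)⟩

include h𝔐 hl hV in
/-- Relations over smaller affine opens. -/
theorem exact_of_le (a : Fin n → Levels.A 𝔛 h𝔛.1 V)
    (ha : ∑ i, a i • resF h𝔛.1 _ e (f i) = 0) :
    ∃ d : Fin m → Levels.A 𝔛 h𝔛.1 V, ∀ i, a i = ∑ j, d j * resA h𝔛.1 e (r j i) := by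
  haveI := (Levels.adic h𝔛 hV).1
  haveI := Levels.isNoetherianRing_A h𝔛 hV
  let S : Submodule (Levels.A 𝔛 h𝔛.1 V) (Fin n → Levels.A 𝔛 h𝔛.1 V) :=
    LinearMap.range (Fintype.linearCombination _ fun j i => resA h𝔛.1 e (r j i))
  haveI : IsHausdorff (Levels.J (h := h𝔛.1) V) ((Fin n → Levels.A 𝔛 h𝔛.1 V) ⧸ S) :=
    IsHausdorff.of_le_jacobson _ _ (IsAdicComplete.le_jacobson_bot _)
  have hS : S.mkQ a = 0 := by
    refine IsHausdorff.haus ‹_› _ fun k => ?_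
    obtain ⟨hp, hpk⟩ := (Levels.adic h𝔛 hV).2.1 k
    obtain ⟨d', hd'⟩ := SchPres.exact_of_isPres (hl k)
      (OshBasic.isAffineOpen_lvU 𝔛 h𝔛.1 k hV) (lvU_mono h𝔛.1 k e)
      (fun i => Levels.proj 𝔛 h𝔛.1 k V (a i)) (by
        refine Eq.trans ?_ ((π_sum h𝔛.1 𝔐.F 𝔐.toPush k a _).symm.trans
          ((congrArg (π h𝔛.1 𝔐.F 𝔐.toPush k V) ha).trans (map_zero _)))
        exact Finset.sum_congr rfl fun i _ => congrArg (_ • ·) (π_res h𝔛.1 𝔐.F 𝔐.toPush k e (f i)).symm)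
    choose d hd using fun j => hp (d' j)
    have hmem : ∀ i, a i - ∑ j, d j * resA h𝔛.1 e (r j i) ∈ Levels.J (h := h𝔛.1) V ^ k := by
      intro i
      refine Ideal.pow_le_pow_right (Nat.le_succ k) (hpk.le ?_)
      rw [RingHom.mem_ker, map_sub, sub_eq_zero]
      refine (hd' i).trans ?_
      rw [map_sum]
      refine Finset.sum_congr rfl fun j _ => ?_
      rw [map_mul, hd, proj_resA]
      rfl
    have h1 := Submodule.mem_map_of_mem (f := S.mkQ)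
      (Adic.Complete.mem_smul_top_pi (x := a - Fintype.linearCombination _
        (fun j i => resA h𝔛.1 e (r j i)) d) fun i => by
          simpa [Fintype.linearCombination_apply] using hmem i)
    rw [Submodule.map_smul''] at h1
    have h2 := Submodule.smul_mono le_rfl le_top h1
    rw [map_sub] at h2
    have h3 : S.mkQ (Fintype.linearCombination _ (fun j i => resA h𝔛.1 e (r j i)) d) = 0 :=
      (Submodule.Quotient.mk_eq_zero S).2 ⟨d, rfl⟩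
    rw [h3, sub_zero] at h2
    exact SModEq.zero.2 h2
  obtain ⟨d, hd⟩ := (Submodule.Quotient.mk_eq_zero S).1 hS
  exact ⟨d, fun i => by rw [← hd]; simp [Fintype.linearCombination_apply]⟩

end Affine

include h𝔐 in
/-- Generators with relations exist on affine opens. -/
theorem exists_gens (hW : IsAffineOpen W) :
    ∃ (n m : ℕ) (f : Fin n → sec h𝔛.1 (𝔐.realMod h𝔛.1) W)
      (r : Fin m → Fin n → Levels.A 𝔛 h𝔛.1 W), Gens h𝔛 𝔐 f r := by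
  haveI := (CohSys.main h𝔛 𝔐 h𝔐 hW).1
  haveI := Levels.isNoetherianRing_A h𝔛 hW
  obtain ⟨n, φ, hφ⟩ := Module.Finite.exists_fin' (Levels.A 𝔛 h𝔛.1 W) (sec h𝔛.1 (𝔐.realMod h𝔛.1) W)
  obtain ⟨m, r, hr⟩ := Submodule.fg_iff_exists_fin_generating_family.1
    (IsNoetherian.noetherian (LinearMap.ker φ))
  let f : Fin n → sec h𝔛.1 (𝔐.realMod h𝔛.1) W := fun i => φ (Pi.single i 1)
  have hf : ∀ a, φ a = ∑ i, a i • f i := fun a => by
    conv_lhs => rw [pi_eq_sum_univ' a]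
    simp only [map_sum, map_smul, f]
  refine ⟨n, m, f, r, ⟨fun x => ?_, fun j => ?_, fun a ha => ?_⟩⟩
  · obtain ⟨a, rfl⟩ := hφ x
    exact ⟨a, hf a⟩
  · rw [← hf, ← LinearMap.mem_ker, ← hr]
    exact Submodule.subset_span ⟨j, rfl⟩
  · rw [← hf, ← LinearMap.mem_ker, ← hr, Submodule.mem_span_range_iff_exists_fun] at ha
    obtain ⟨d, hd⟩ := ha
    exact ⟨d, fun i => by rw [← hd]; simp⟩

theorem isBasis_affine (X : Scheme.{u}) : Opens.IsBasis (X.affineOpens : Set X.Opens) :=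
  X.isBasis_affineOpens

include h𝔐 in
/-- The presentation of the module of a coherent system on an affine open. -/
theorem isPres (hW : IsAffineOpen W) (hg : Gens h𝔛 𝔐 f r) :
    PresSh.IsPres (R := ModSite.ringSh (𝔛.Osh h𝔛.1)) (𝔐.realMod h𝔛.1) W f r := by
  refine PresSh.IsPres.of_basis _ (isBasis_affine (𝔛.X 0)) hg.rel
    (fun V hV hVW s z hz => ?_) fun V hV hVW c hc z hz => ?_
  · obtain ⟨a, ha⟩ := gen_of_le h𝔛 𝔐 h𝔐 (isPres_lev h𝔛 𝔐 h𝔐 hW hg) hV hVW s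
    refine ⟨V, le_rfl, hz, a, ?_⟩
    refine Eq.trans ?_ ha
    exact (congrArg (fun g => (𝔐.realMod h𝔛.1).val.map g s)
      (Subsingleton.elim (homOfLE (le_refl V)).op (𝟙 _))).trans
      (congrArg (fun φ => φ.hom s) ((𝔐.realMod h𝔛.1).val.map_id (op V)))
  · obtain ⟨d, hd⟩ := exact_of_le h𝔛 𝔐 h𝔐 (isPres_lev h𝔛 𝔐 h𝔐 hW hg) hV hVW c hc
    refine ⟨V, le_rfl, hz, d, fun i => ?_⟩
    refine Eq.trans ?_ (hd i)
    exact (congrArg (fun g => (ModSite.ringSh (𝔛.Osh h𝔛.1)).obj.map g (c i))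
      (Subsingleton.elim (homOfLE (le_refl V)).op (𝟙 _))).trans
      (ConcreteCategory.congr_hom (CategoryTheory.Functor.map_id _ _) _)

include h𝔐 in
theorem isCohF : FSch.IsCohF 𝔛 h𝔛.1 (𝔐.realMod h𝔛.1) := by
  refine PresSh.isFinitePresentation_of_isPres fun x => ?_
  obtain ⟨W, hxW, hW, -⟩ := (Opens.isBasis_iff_nbhd.1 (isBasis_affine (𝔛.X 0))
    (U := (⊤ : (𝔛.X 0).Opens)) (x := x) trivial).imp fun W hW => (⟨hW.2.1, hW.1, hW.2.2⟩ :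
      x ∈ W ∧ IsAffineOpen W ∧ W ≤ ⊤)
  obtain ⟨n, m, f, r, hg⟩ := exists_gens h𝔛 𝔐 h𝔐 hW
  exact ⟨W, n, m, f, r, hxW, isPres h𝔛 𝔐 h𝔐 hW hg⟩

end Coh

end Groth.Agent.H30.CohPres
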