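import Groth.Agent.H30.ModThick
import Groth.Agent.Lib.PushClosed.Torsion
import Groth.Agent.Lib.CohBasics.Affine
import Groth.Agent.Lib.QCoh.Closure
import Groth.Agent.Lib.QCoh.Pushforward

/-!
# Sections of the unit of a closed immersion on affine opens (helper30)
-/

set_option autoImplicit false
set_option linter.style.haveILetI false

universe u

open CategoryTheory Limits AlgebraicGeometry Opposite TopologicalSpace
open Groth.Agent.Lib Groth.Agent.Lib.Modules Groth.Agent.Lib.Modules.StalkModule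
open Groth.Agent.Lib.DerivedOX Groth.Agent.Lib.DerivedOX.PullbackStalk
open scoped TensorProduct

namespace Groth.Agent.H30.UnitKernel

variable {Z X : Scheme.{u}} (i : Z ⟶ X) [IsClosedImmersion i]

set_option quotPrecheck false in
local notation "η" => Adjunction.unit (Scheme.Modules.pullbackPushforwardAdjunction i)

/-- The kernel of the stalk map consists of fractions of elements of the ideal. -/
theorem exists_smul_eq_of_stalkMap (U : X.affineOpens) (z : Z) (hx : i.base z ∈ U.1)
    (c : X.presheaf.stalk (i.base z)) (hc : (i.stalkMap z).hom c = 0) :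
    ∃ (a : Γ(X, U.1)) (v : X.presheaf.stalk (i.base z)), IsUnit v ∧ a ∈ i.ker.ideal U ∧
      v * c = X.presheaf.germ U.1 (i.base z) hx a := by
  letI := TopCat.Presheaf.algebra_section_stalk X.presheaf ⟨i.base z, hx⟩
  haveI := U.2.isLocalization_stalk ⟨i.base z, hx⟩
  obtain ⟨⟨r, m⟩, hm⟩ := IsLocalization.surj (U.2.primeIdealOf ⟨i.base z, hx⟩).asIdeal.primeCompl c
  have hu : IsUnit (X.presheaf.germ U.1 (i.base z) hx m.1) :=
    IsLocalization.map_units (X.presheaf.stalk (i.base z)) m
  have hx' : z ∈ i ⁻¹ᵁ U.1 := hx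
  have hc' : c * X.presheaf.germ U.1 (i.base z) hx m.1 = X.presheaf.germ U.1 (i.base z) hx r := hm
  have hr : Z.presheaf.germ (i ⁻¹ᵁ U.1) z hx' (i.app U.1 r) = 0 := by
    rw [← Scheme.Hom.germ_stalkMap_apply i U.1 z hx r, ← hc']
    exact (map_mul _ _ _).trans (by rw [hc, zero_mul])
  have hA : IsAffineOpen (i ⁻¹ᵁ U.1) := U.2.preimage i
  letI := TopCat.Presheaf.algebra_section_stalk Z.presheaf ⟨z, hx'⟩
  haveI := hA.isLocalization_stalk ⟨z, hx'⟩
  obtain ⟨⟨g', hg'⟩, hg0⟩ := (IsLocalization.map_eq_zero_iff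
    (hA.primeIdealOf ⟨z, hx'⟩).asIdeal.primeCompl (Z.presheaf.stalk z) (i.app U.1 r)).1 hr
  obtain ⟨g, rfl⟩ := Scheme.Hom.app_surjective i U.1 U.2 g'
  have hgu' : IsUnit (Z.presheaf.germ (i ⁻¹ᵁ U.1) z hx' (i.app U.1 g)) :=
    IsLocalization.map_units (Z.presheaf.stalk z) (⟨_, hg'⟩ : (hA.primeIdealOf ⟨z, hx'⟩).asIdeal.primeCompl)
  have hgu : IsUnit (X.presheaf.germ U.1 (i.base z) hx g) := by
    rw [← Scheme.Hom.germ_stalkMap_apply i U.1 z hx g] at hgu'
    exact (isUnit_map_iff (i.stalkMap z).hom _).1 hgu'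
  refine ⟨g * r, _, hgu.mul hu, ?_, ?_⟩
  · rw [Scheme.Hom.ker_apply, RingHom.mem_ker, map_mul]
    exact hg0
  · rw [map_mul, mul_assoc, mul_comm _ c, hc']

variable (M : X.Modules) [M.IsQuasicoherent]

/-- The kernel of `Γ(V, M) → Γ(V, i_* i^* M)` is `I • Γ(V, M)`. -/
theorem unit_app_eq_zero_iff {V : X.Opens} (hV : IsAffineOpen V) (s : Γ(M, V)) :
    ((η).app M).app V s = 0 ↔ s ∈ i.ker.ideal ⟨V, hV⟩ • (⊤ : Submodule Γ(X, V) Γ(M, V)) := by
  constructor
  · intro hs
    set P := i.ker.ideal ⟨V, hV⟩ • (⊤ : Submodule Γ(X, V) Γ(M, V))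
    refine CohBasics.Affine.mem_of_germ_mem hV P s fun x hx => ?_
    set S := Submodule.span (X.presheaf.stalk x) (M.presheaf.germ V x hx '' (P : Set Γ(M, V)))
    by_cases hxZ : x ∈ Set.range i
    · obtain ⟨z, rfl⟩ := hxZ
      have h0 : stalkMapₗ ((η).app M) (i.base z) (M.presheaf.germ V _ hx s) = 0 := by
        refine (stalkMapₗ_germ ((η).app M) hx s).trans ?_
        rw [hs]
        exact map_zero _
      letI : Algebra (X.presheaf.stalk (i.base z)) (Z.presheaf.stalk z) := (i.stalkMap z).hom.toAlgebra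
      have h1 : (1 : Z.presheaf.stalk z) ⊗ₜ[X.presheaf.stalk (i.base z)]
          (M.presheaf.germ V _ hx s) = 0 := by
        haveI := isIso_comparison i z
        refine (ConcreteCategory.bijective_of_isIso ((comparison i z).app M)).1 ?_
        refine (comparison_one_tmul i z M _).trans ?_
        rw [h0, map_zero]
        exact (map_zero ((comparison i z).app M).hom).symm
      refine Submodule.smul_induction_on
        (ModThick.mem_ker_smul_top_of_one_tmul (i.stalkMap_surjective z) _ h1)
        (fun c hc b _ => ?_) fun a b ha hb => S.add_mem ha hb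
      obtain ⟨a, v, hv, ha, hva⟩ := exists_smul_eq_of_stalkMap i ⟨V, hV⟩ z hx c hc
      obtain ⟨f, t, hf, e⟩ := StalkLoc.Basic.exists_smul_eq_germ (M := M) hV hx b
      refine (Submodule.smul_mem_iff_of_isUnit S (hv.mul ((X.mem_basicOpen f _ hx).mp hf))).mp ?_
      rw [show (v * X.presheaf.germ V (i.base z) hx f) • c • b =
        (v * c) • (X.presheaf.germ V (i.base z) hx f • b) by simp only [smul_smul]; congr 1; ring]
      rw [hva, e, ← StalkModule.germ_smul]
      exact Submodule.subset_span ⟨_, Submodule.smul_mem_smul ha Submodule.mem_top, rfl⟩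
    · have hns : x ∉ i.ker.support := by
        rw [← SetLike.mem_coe, Scheme.Hom.support_ker, i.isClosedEmbedding.isClosed_range.closure_eq]
        exact hxZ
      rw [Scheme.IdealSheafData.mem_support_iff_of_mem (U := ⟨V, hV⟩) hx, Scheme.mem_zeroLocus_iff] at hns
      push Not at hns
      obtain ⟨r, hr, hrx⟩ := hns
      refine (Submodule.smul_mem_iff_of_isUnit S ((X.mem_basicOpen r _ hx).mp hrx)).mp ?_
      rw [← StalkModule.germ_smul]
      exact Submodule.subset_span ⟨_, Submodule.smul_mem_smul hr Submodule.mem_top, rfl⟩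
  · intro hs
    refine Submodule.smul_induction_on hs (fun r hr t _ => ?_) fun a b ha hb => by
      rw [map_add, ha, hb, add_zero]
    rw [Scheme.Modules.Hom.app_smul]
    change (i.app V).hom r • (show Γ((Scheme.Modules.pullback i).obj M, i ⁻¹ᵁ V) from
      ((η).app M).app V t) = 0
    rw [Scheme.Hom.ker_apply, RingHom.mem_ker] at hr
    rw [hr, zero_smul]

/-- The unit is surjective on affine opens. -/
theorem unit_app_surjective {V : X.Opens} (hV : IsAffineOpen V) :
    Function.Surjective (((η).app M).app V) := by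
  haveI := PushClosed.Unit.epi_unit i M
  haveI := QCoh.Pullback.isQCoh_pullback i M
  haveI := QCoh.Pushforward.isQCoh_pushforward (f := i) (M := (Scheme.Modules.pullback i).obj M)
  haveI : ((Scheme.Modules.pullback i ⋙ Scheme.Modules.pushforward i).obj M).IsQuasicoherent :=
    inferInstanceAs ((Scheme.Modules.pushforward i).obj ((Scheme.Modules.pullback i).obj M)).IsQuasicoherent
  haveI : ((𝟭 X.Modules).obj M).IsQuasicoherent := ‹M.IsQuasicoherent›
  exact QCoh.Closure.sections_surjective_of_epi _ hV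

end Groth.Agent.H30.UnitKernel
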