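import Groth.Agent.H30.FSch.RealLimSec
import Groth.Agent.H30.FSch.UnitKernel
import Groth.Agent.Lib.Adic.Limit

/-!
# Sections of the module of a coherent system over affine opens (helper30)
-/

set_option autoImplicit false
set_option linter.style.haveILetI false

universe u

open CategoryTheory CategoryTheory.Limits AlgebraicGeometry TopologicalSpace Opposite
open Groth.Agent.H30 Groth.Agent.H30.RealLimSec

namespace Groth.Agent.H30.CohSys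

/-- Comparison of ideals along a surjection. -/
theorem mem_map_smul_top_iff {A B : Type u} [CommRing A] [CommRing B] (f : A →+* B)
    (hf : Function.Surjective f) {M : Type u} [AddCommGroup M] [Module B M] [Module A M]
    (hsmul : ∀ (a : A) (m : M), a • m = f a • m) (I : Ideal A) (x : M) :
    x ∈ I.map f • (⊤ : Submodule B M) ↔ x ∈ I • (⊤ : Submodule A M) := by
  constructor
  · intro hx
    refine Submodule.smul_induction_on hx (fun b hb m _ => ?_) fun a b ha hb => add_mem ha hb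
    obtain ⟨a, ha, rfl⟩ := (Ideal.mem_map_iff_of_surjective f hf).1 hb
    rw [← hsmul]
    exact Submodule.smul_mem_smul ha trivial
  · intro hx
    refine Submodule.smul_induction_on hx (fun a ha m _ => ?_) fun a b ha hb => add_mem ha hb
    rw [hsmul]
    exact Submodule.smul_mem_smul (Ideal.mem_map_of_mem f ha) trivial

variable {𝔛 : FSch.Sys.{u}} (h𝔛 : 𝔛.IsLocNoethFormal) (𝔐 : FSch.ModSys 𝔛) (h𝔐 : 𝔐.IsCoh)
  {V : (𝔛.X 0).Opens} (hV : IsAffineOpen V)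

include hV in
theorem map_proj_J (n : ℕ) :
    (Levels.J (h := h𝔛.1) V).map (Levels.proj 𝔛 h𝔛.1 n V).hom =
      RingHom.ker (Levels.toZero 𝔛 h𝔛.1 n V).hom := by
  rw [show Levels.J (h := h𝔛.1) V = (RingHom.ker (Levels.toZero 𝔛 h𝔛.1 n V).hom).comap
    (Levels.proj 𝔛 h𝔛.1 n V).hom by
      rw [RingHom.comap_ker, ← CommRingCat.hom_comp, Levels.proj_toZero],
    Ideal.map_comap_of_surjective _ ((Levels.adic h𝔛 hV).2.1 n).1]

theorem restrict_bijective {X : Scheme.{u}} (M : X.Modules) {U U' : X.Opens} (e : U ≤ U')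
    (e' : U' ≤ U) : Function.Bijective (M.presheaf.map (homOfLE e).op) := by
  obtain rfl := le_antisymm e e'
  rw [show (homOfLE e).op = 𝟙 (op U) from Subsingleton.elim _ _, CategoryTheory.Functor.map_id]
  exact Function.bijective_id

theorem tr_eq (n : ℕ) (x : lev h𝔛.1 𝔐.F (n + 1) V) :
    tr h𝔛.1 𝔐.F 𝔐.toPush n V x = (𝔐.F n).presheaf.map (homOfLE (𝔛.lvU_le h𝔛.1 n V)).op
      ((𝔐.e n).hom.app ((𝔛.ι n) ⁻¹ᵁ 𝔛.lvU h𝔛.1 (n + 1) V)
        (((Scheme.Modules.pullbackPushforwardAdjunction (𝔛.ι n)).unit.app (𝔐.F (n + 1))).app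
          (𝔛.lvU h𝔛.1 (n + 1) V) x)) := by
  rw [tr_apply, FSch.ModSys.toPush, Adjunction.homEquiv_unit]
  rfl

include h𝔐 hV in
/-- The transition maps are surjective with kernels the powers of `J`. -/
theorem tr_spec (n : ℕ) :
    Function.Surjective (tr h𝔛.1 𝔐.F 𝔐.toPush n V) ∧
      LinearMap.ker (tr h𝔛.1 𝔐.F 𝔐.toPush n V) =
        Levels.J (h := h𝔛.1) V ^ (n + 1) • (⊤ : Submodule _ (lev h𝔛.1 𝔐.F (n + 1) V)) := by
  haveI := (h𝔛.1 n).1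
  haveI : (𝔐.F (n + 1)).IsQuasicoherent := (h𝔐 (n + 1)).1
  have hU := OshBasic.isAffineOpen_lvU 𝔛 h𝔛.1 (n + 1) hV
  have hres := restrict_bijective (𝔐.F n) (𝔛.lvU_le h𝔛.1 n V) (𝔛.lvU_succ h𝔛.1 n V).le
  have he : Function.Bijective ((𝔐.e n).hom.app ((𝔛.ι n) ⁻¹ᵁ 𝔛.lvU h𝔛.1 (n + 1) V)) :=
    ConcreteCategory.bijective_of_isIso _
  constructor
  · intro y
    obtain ⟨z, hz⟩ := hres.2 y
    obtain ⟨w, hw⟩ := he.2 z
    obtain ⟨x, hx⟩ := UnitKernel.unit_app_surjective (𝔛.ι n) (𝔐.F (n + 1)) hU w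
    exact ⟨x, (tr_eq h𝔛 𝔐 n x).trans (by rw [hx, hw, hz])⟩
  · ext x
    have hJ : (Levels.J (h := h𝔛.1) V ^ (n + 1)).map (Levels.proj 𝔛 h𝔛.1 (n + 1) V).hom =
        (𝔛.ι n).ker.ideal ⟨_, hU⟩ := by
      rw [Ideal.map_pow, map_proj_J h𝔛 hV, ← Levels.ker_trans h𝔛.2.1 n hV, Levels.ker_trans']
      exact ((𝔛.ι n).ker_apply ⟨_, hU⟩).symm
    rw [LinearMap.mem_ker, tr_eq h𝔛 𝔐 n x, ← mem_map_smul_top_iff _ ((Levels.adic h𝔛 hV).2.1 (n + 1)).1
      (lev_smul h𝔛.1 𝔐.F (n + 1) V), hJ,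
      ← UnitKernel.unit_app_eq_zero_iff (𝔛.ι n) (𝔐.F (n + 1)) hU x]
    constructor
    · intro hx
      refine he.1 ((hres.1 ?_).trans (map_zero _).symm)
      exact hx.trans (map_zero _).symm
    · intro hx
      rw [hx]
      exact (congrArg _ (map_zero _)).trans (map_zero _)

include h𝔐 hV in
/-- Sections over an affine open form a system. -/
theorem isSys : Groth.Agent.Lib.Adic.Limit.IsSys (Levels.J (h := h𝔛.1) V)
    (fun n => tr h𝔛.1 𝔐.F 𝔐.toPush n V) (fun n => π h𝔛.1 𝔐.F 𝔐.toPush n V) where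
  hf n := (tr_spec h𝔛 𝔐 h𝔐 hV n).1
  hker n := (tr_spec h𝔛 𝔐 h𝔐 hV n).2
  hπ n := tr_π h𝔛.1 𝔐.F 𝔐.toPush n V
  hinj x hx := ext_of_π h𝔛.1 𝔐.F 𝔐.toPush x 0 fun k => by rw [hx k, map_zero]
  hlift y hy := exists_of_compatible h𝔛.1 𝔐.F 𝔐.toPush y hy

include h𝔐 hV in
theorem finite_lev (n : ℕ) : Module.Finite (Levels.A 𝔛 h𝔛.1 V) (lev h𝔛.1 𝔐.F n V) := by
  haveI : (𝔐.F n).IsQuasicoherent := (h𝔐 n).1
  haveI : SheafOfModules.IsFiniteType (R := (𝔛.X n).ringCatSheaf) (𝔐.F n) := (h𝔐 n).2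
  have h1 := Groth.Agent.Lib.CohBasics.Affine.finite_sections (M := 𝔐.F n)
    (OshBasic.isAffineOpen_lvU 𝔛 h𝔛.1 n hV)
  obtain ⟨s, hs⟩ := h1.1
  refine ⟨⟨s, eq_top_iff.2 fun x ht => ?_⟩⟩
  clear ht
  have hx : x ∈ Submodule.span Γ(𝔛.X n, 𝔛.lvU h𝔛.1 n V) (s : Set Γ(𝔐.F n, 𝔛.lvU h𝔛.1 n V)) :=
    hs ▸ trivial
  induction hx using Submodule.span_induction with
  | mem x hx => exact Submodule.subset_span hx
  | zero => exact zero_mem _
  | add a b _ _ ha hb => exact add_mem ha hb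
  | smul b m _ hm =>
    obtain ⟨a, rfl⟩ := ((Levels.adic h𝔛 hV).2.1 n).1 b
    rw [← lev_smul h𝔛.1 𝔐.F n V a m]
    exact Submodule.smul_mem _ a hm

include h𝔐 hV in
/-- The main fact: finiteness, completeness, and the projections. -/
theorem main :
    Module.Finite (Levels.A 𝔛 h𝔛.1 V) (sec h𝔛.1 (𝔐.realMod h𝔛.1) V) ∧
      IsAdicComplete (Levels.J (h := h𝔛.1) V) (sec h𝔛.1 (𝔐.realMod h𝔛.1) V) ∧
      ∀ n, Function.Surjective (π h𝔛.1 𝔐.F 𝔐.toPush n V) ∧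
        LinearMap.ker (π h𝔛.1 𝔐.F 𝔐.toPush n V) =
          Levels.J (h := h𝔛.1) V ^ (n + 1) •
            (⊤ : Submodule _ (sec h𝔛.1 (𝔐.realMod h𝔛.1) V)) :=
  haveI := (Levels.adic h𝔛 hV).1
  Groth.Agent.Lib.Adic.Limit.of_complete_base (isSys h𝔛 𝔐 h𝔐 hV) (finite_lev h𝔛 𝔐 h𝔐 hV 0)

end Groth.Agent.H30.CohSys
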