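import Groth.Agent.H30.FSch.ComplHom
import Groth.Agent.Lib.Modules.Support

/-!
# Kernels, images and cokernels of maps of completions (helper30)
-/

set_option autoImplicit false
set_option linter.style.haveILetI false

universe u

open CategoryTheory CategoryTheory.Limits AlgebraicGeometry TopologicalSpace Opposite
open Groth.Agent.H30 Groth.Agent.H30.RealLimSec
open Groth.Agent.Lib
open Groth.Agent.H78.Formal.Sections (sIdeal)

namespace Groth.Agent.H30.ComplAlg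

section Basic

variable {X : Scheme.{u}} {𝔛 : FSch.Sys.{u}} (h𝔛 : 𝔛.IsLocNoethFormal)
  (p : ∀ n, 𝔛.X n ⟶ X) (hp : ∀ n, 𝔛.ι n ≫ p (n + 1) = p n)

theorem cmpMap_comp {F G H : X.Modules} (a : F ⟶ G) (b : G ⟶ H) :
    ComplExact.cmpMap h𝔛 p hp (a ≫ b) = ComplExact.cmpMap h𝔛 p hp a ≫ ComplExact.cmpMap h𝔛 p hp b := by
  refine SheafOfModules.hom_ext (PresheafOfModules.hom_ext fun V => ModuleCat.hom_ext (LinearMap.ext fun x => ?_))
  obtain ⟨V⟩ := V
  refine RealLimSec.ext_of_π h𝔛.1 _ _ _ _ fun k => ?_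
  refine (ComplSec.π_map h𝔛.1 p hp (a ≫ b) k V x).trans ?_
  refine Eq.trans ?_ (((ComplSec.π_map h𝔛.1 p hp b k V
    (secMap h𝔛.1 (ComplExact.cmpMap h𝔛 p hp a) V x)).trans
    (congrArg _ (ComplSec.π_map h𝔛.1 p hp a k V x))).symm)
  exact ConcreteCategory.congr_hom
    (congrArg (fun χ => χ.app (𝔛.lvU h𝔛.1 k V)) ((Scheme.Modules.pullback (p k)).map_comp a b)) _

end Basic

section Main

variable {A : Type u} [CommRing A] {X : Scheme.{u}} [X.Over (Spec (CommRingCat.of A))]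
  [IsLocallyNoetherian X] {𝔛 : FSch.Sys.{u}} (h𝔛 : 𝔛.IsLocNoethFormal)
  (p : ∀ n, 𝔛.X n ⟶ X) (hp : ∀ n, 𝔛.ι n ≫ p (n + 1) = p n) [∀ k, IsClosedImmersion (p k)]
  (hker : ∀ k (U : X.affineOpens), (p k).ker.ideal U = (p 0).ker.ideal U ^ (k + 1))
  (J : Ideal A) (hI : ∀ k (U : X.affineOpens), (p k).ker.ideal U = sIdeal J U.1 ^ (k + 1))
  [IsNoetherianRing A] [IsAdicComplete J A]
  [LocallyOfFiniteType (X ↘ Spec (CommRingCat.of A))] [QuasiCompact (X ↘ Spec (CommRingCat.of A))]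

/-- `𝔉` is algebraizable. -/
def IsAlg (f : X ⟶ Spec (CommRingCat.of A)) (𝔉 : FSch.ModF 𝔛 h𝔛.1) : Prop :=
  ∃ G : X.Modules, Coh.IsCoh G ∧
    ClSub.IsProperOver f (CohB1.support G) ∧
      Nonempty (𝔉 ≅ ComplExact.cmp h𝔛 p hp G)

include hker hI in
theorem isAlg_kernel_image_cokernel {𝔉 𝔊 : FSch.ModF 𝔛 h𝔛.1} (h1 : IsAlg h𝔛 p hp (X ↘ Spec (CommRingCat.of A)) 𝔉)
    (h2 : IsAlg h𝔛 p hp (X ↘ Spec (CommRingCat.of A)) 𝔊) (u : 𝔉 ⟶ 𝔊) :
    IsAlg h𝔛 p hp (X ↘ Spec (CommRingCat.of A)) (kernel u) ∧ IsAlg h𝔛 p hp (X ↘ Spec (CommRingCat.of A)) (Abelian.image u) ∧ IsAlg h𝔛 p hp (X ↘ Spec (CommRingCat.of A)) (cokernel u) := by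
  obtain ⟨F, hF, hFs, ⟨eF⟩⟩ := h1
  obtain ⟨G, hG, hGs, ⟨eG⟩⟩ := h2
  haveI : SheafOfModules.IsFiniteType (R := X.ringCatSheaf) G := hG.2
  haveI : SheafOfModules.IsFiniteType (R := X.ringCatSheaf) F := hF.2
  obtain ⟨φ, hφ⟩ := ComplHom.exists_cmpMap_eq h𝔛 p hp J hI (eF.inv ≫ u ≫ eG.hom) hF hG
    (ZarCoh.ProperOver.isProperOver_of_subset _ hGs
      ((Modules.Support.isClosed_support F).inter (Modules.Support.isClosed_support G))
      Set.inter_subset_right)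
  have hu : u = eF.hom ≫ ComplExact.cmpMap h𝔛 p hp φ ≫ eG.inv := by simp [hφ]
  let K := kernel φ
  let I' := Abelian.image φ
  let C := cokernel φ
  have hK : Coh.IsCoh K := CohBasics.Closure.isCoh_kernel φ hF hG.1
  have hI' : Coh.IsCoh I' := CohBasics.Closure.isCoh_image φ hF.1 hG
  have hC : Coh.IsCoh C := CohBasics.Closure.isCoh_cokernel φ hF.1 hG
  haveI : SheafOfModules.IsFiniteType (R := X.ringCatSheaf) K := hK.2
  haveI : SheafOfModules.IsFiniteType (R := X.ringCatSheaf) I' := hI'.2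
  haveI : SheafOfModules.IsFiniteType (R := X.ringCatSheaf) C := hC.2
  -- the two short exact sequences
  let e := Abelian.factorThruImage φ
  have heι : e ≫ Abelian.image.ι φ = φ := Abelian.image.fac φ
  have hS1 : (ShortComplex.mk (kernel.ι φ) e (by
      rw [← cancel_mono (Abelian.image.ι φ), Category.assoc, heι, kernel.condition, zero_comp])).ShortExact := by
    refine ShortComplex.ShortExact.mk' (ShortComplex.exact_of_f_is_kernel _ ?_) inferInstance inferInstance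
    refine KernelFork.IsLimit.ofι' _ _ fun k hk => ?_
    refine ⟨kernel.lift φ k ?_, kernel.lift_ι _ _ _⟩
    rw [← heι, ← Category.assoc, hk, zero_comp]
  have hS2 : (ShortComplex.mk (Abelian.image.ι φ) (cokernel.π φ) (kernel.condition _)).ShortExact :=
    ShortComplex.ShortExact.mk' (ShortComplex.exact_of_f_is_kernel _ (kernelIsKernel _))
      inferInstance inferInstance
  have hc := @ComplMonoEpi.isCoh_pullSys X _ 𝔛 p hp
  have hC1 := ComplExact.shortExact h𝔛 p hp hker _ hS1 hK hF hI' (hc hK) (hc hF) (hc hI')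
  have hC2 := ComplExact.shortExact h𝔛 p hp hker _ hS2 hI' hG hC (hc hI') (hc hG) (hc hC)
  haveI := hC1.mono_f
  haveI := hC1.epi_g
  haveI := hC2.mono_f
  haveI := hC2.epi_g
  haveI : Epi (ComplExact.cmpMap h𝔛 p hp e) := hC1.epi_g
  haveI : Mono (ComplExact.cmpMap h𝔛 p hp (Abelian.image.ι φ)) := hC2.mono_f
  have hcomp : ComplExact.cmpMap h𝔛 p hp φ =
      ComplExact.cmpMap h𝔛 p hp e ≫ ComplExact.cmpMap h𝔛 p hp (Abelian.image.ι φ) := by
    rw [← cmpMap_comp, heι]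
  have hu' : u = (eF.hom ≫ ComplExact.cmpMap h𝔛 p hp e) ≫
      (ComplExact.cmpMap h𝔛 p hp (Abelian.image.ι φ) ≫ eG.inv) := by
    rw [hu, hcomp]
    simp only [Category.assoc]
  have hsub : ∀ (H : X.Modules), CohB1.support H ⊆ CohB1.support F ∨ CohB1.support H ⊆ CohB1.support G →
      IsClosed (CohB1.support H) →
      ClSub.IsProperOver (X ↘ Spec (CommRingCat.of A)) (CohB1.support H) := fun H h hc => by
    rcases h with h | h
    · exact ZarCoh.ProperOver.isProperOver_of_subset _ hFs hc h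
    · exact ZarCoh.ProperOver.isProperOver_of_subset _ hGs hc h
  refine ⟨⟨K, hK, hsub K (.inl (Modules.Support.support_subset_of_mono (kernel.ι φ)))
      (Modules.Support.isClosed_support K), ⟨?_⟩⟩,
    ⟨I', hI', hsub I' (.inr (Modules.Support.support_subset_of_mono (Abelian.image.ι φ)))
      (Modules.Support.isClosed_support I'), ⟨?_⟩⟩,
    ⟨C, hC, hsub C (.inr (Modules.Support.support_subset_of_epi (cokernel.π φ)))
      (Modules.Support.isClosed_support C), ⟨?_⟩⟩⟩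
  · refine kernel.mapIso u (ComplExact.cmpMap h𝔛 p hp φ) eF eG (by rw [hu]; simp) ≪≫ ?_
    refine kernelIsoOfEq hcomp ≪≫ kernelCompMono _ _ ≪≫ ?_
    exact (kernelIsKernel _).conePointUniqueUpToIso hC1.fIsKernel
  · haveI : StrongEpi (eF.hom ≫ ComplExact.cmpMap h𝔛 p hp e) := strongEpi_of_epi _
    exact Abelian.imageIsoImage u ≪≫
      (image.isoStrongEpiMono (eF.hom ≫ ComplExact.cmpMap h𝔛 p hp e)
        (ComplExact.cmpMap h𝔛 p hp (Abelian.image.ι φ) ≫ eG.inv) hu'.symm).symm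
  · refine cokernel.mapIso u (ComplExact.cmpMap h𝔛 p hp φ) eF eG (by rw [hu]; simp) ≪≫ ?_
    refine cokernelIsoOfEq hcomp ≪≫ cokernelEpiComp _ _ ≪≫ ?_
    exact (cokernelIsCokernel _).coconePointUniqueUpToIso hC2.gIsCokernel

end Main

section Transport

variable {A : Type u} [CommRing A] {X : Scheme.{u}} [X.Over (Spec (CommRingCat.of A))]
  {𝔛 : FSch.Sys.{u}} (h𝔛 : 𝔛.IsLocNoethFormal)
  (p : ∀ n, 𝔛.X n ⟶ X) (hp : ∀ n, 𝔛.ι n ≫ p (n + 1) = p n)

theorem isAlg_iff (M : X.Modules → FSch.ModSys 𝔛) (hM : ∀ G, M G = ComplSec.pullSys p hp G)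
    (𝔉 : FSch.ModF 𝔛 h𝔛.1) :
    (∃ G : X.Modules, Coh.IsCoh G ∧
      ClSub.IsProperOver (X ↘ Spec (CommRingCat.of A)) (CohB1.support G) ∧
        Nonempty (𝔉 ≅ (M G).realMod h𝔛.1)) ↔ IsAlg h𝔛 p hp (X ↘ Spec (CommRingCat.of A)) 𝔉 := by
  obtain rfl : M = fun G => ComplSec.pullSys p hp G := funext hM
  exact Iff.rfl

end Transport

end Groth.Agent.H30.ComplAlg
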