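import Groth.Agent.H30.FSch.ComplSec
import Groth.Agent.H30.FSch.CohCons
import Groth.Agent.Lib.CohBasics.Affine
import Groth.Agent.Lib.QCoh.Closure
import Mathlib.RingTheory.Filtration

/-!
# Exactness of completion on coherent modules (helper30)
-/

set_option autoImplicit false
set_option linter.style.haveILetI false

universe u

open CategoryTheory CategoryTheory.Limits AlgebraicGeometry TopologicalSpace Opposite
open Groth.Agent.H30 Groth.Agent.H30.RealLimSec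
open Groth.Agent.Lib

namespace Groth.Agent.H30.ComplExact

/-- Artin–Rees: preimages of deep elements under an injection are deep. -/
theorem exists_shift {R : Type u} [CommRing R] [IsNoetherianRing R] (I : Ideal R) {M N : Type u}
    [AddCommGroup M] [Module R M] [AddCommGroup N] [Module R N] [Module.Finite R N] (f : M →ₗ[R] N)
    (hf : Function.Injective f) :
    ∃ s, ∀ k, s ≤ k → ∀ a, f a ∈ I ^ k • (⊤ : Submodule R N) →
      a ∈ I ^ (k - s) • (⊤ : Submodule R M) := by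
  obtain ⟨s, hs⟩ := Ideal.exists_pow_inf_eq_pow_smul I (LinearMap.range f)
  refine ⟨s, fun k hk a ha => ?_⟩
  have h1 : f a ∈ I ^ k • ⊤ ⊓ LinearMap.range f := ⟨ha, a, rfl⟩
  rw [hs k hk] at h1
  have h2 : f a ∈ (I ^ (k - s) • (⊤ : Submodule R M)).map f := by
    rw [Submodule.map_smul'', Submodule.map_top]
    exact Submodule.smul_mono le_rfl inf_le_right h1
  obtain ⟨b, hb, he⟩ := h2
  exact hf he ▸ hb

/-- Monomorphisms are checked on a basis. -/
theorem mono_of_injective_basis {𝔛 : FSch.Sys.{u}} {h : 𝔛.IsFormal} {F G : FSch.ModF 𝔛 h} (φ : F ⟶ G)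
    {ι : Type u} (B : ι → (𝔛.X 0).Opens) (hB : Opens.IsBasis (Set.range B))
    (hφ : ∀ i, Function.Injective (secMap h φ (B i))) : Mono φ := by
  refine ⟨fun {Z} a b hab => ?_⟩
  apply (SheafOfModules.toSheaf _).map_injective
  refine Sheaf.hom_ext (TopCat.Sheaf.hom_ext
    (F := ((SheafOfModules.toSheaf _).obj Z).obj) (F' := ((SheafOfModules.toSheaf _).obj F))
    hB fun i => ?_)
  exact ConcreteCategory.hom_ext _ _ fun x => hφ i (congrArg (fun ψ : Z ⟶ G => secMap h ψ (B i) x) hab)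

/-- Epimorphisms are checked on a basis. -/
theorem epi_of_surjective_basis {𝔛 : FSch.Sys.{u}} {h : 𝔛.IsFormal} {F G : FSch.ModF 𝔛 h} (φ : F ⟶ G)
    {ι : Type u} (B : ι → (𝔛.X 0).Opens) (hB : Opens.IsBasis (Set.range B))
    (hφ : ∀ i, Function.Surjective (secMap h φ (B i))) : Epi φ := by
  haveI : Sheaf.IsLocallySurjective ((SheafOfModules.toSheaf _).map φ) := by
    refine ⟨fun {U} s z hz => ?_⟩
    obtain ⟨_, ⟨i, rfl⟩, hzV, hVU⟩ := Opens.isBasis_iff_nbhd.1 hB hz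
    obtain ⟨a, ha⟩ := hφ i (CohPres.resF h G hVU s)
    exact ⟨B i, homOfLE hVU, ⟨a, ha⟩, hzV⟩
  exact (SheafOfModules.toSheaf _).epi_of_epi_map inferInstance

variable {X : Scheme.{u}} [IsLocallyNoetherian X] {𝔛 : FSch.Sys.{u}} (h𝔛 : 𝔛.IsLocNoethFormal)
  (p : ∀ n, 𝔛.X n ⟶ X) (hp : ∀ n, 𝔛.ι n ≫ p (n + 1) = p n) [∀ k, IsClosedImmersion (p k)]
  (hker : ∀ k (U : X.affineOpens), (p k).ker.ideal U = (p 0).ker.ideal U ^ (k + 1))

/-- The functor on a module. -/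
noncomputable abbrev cmp (F : X.Modules) : FSch.ModF 𝔛 h𝔛.1 :=
  (ComplSec.pullSys p hp F).realMod h𝔛.1

/-- The functor on a morphism. -/
noncomputable abbrev cmpMap {F G : X.Modules} (φ : F ⟶ G) : cmp h𝔛 p hp F ⟶ cmp h𝔛 p hp G :=
  FSch.ModSys.realModMap h𝔛.1 (ComplSec.pullSysMap p hp φ)

theorem σ_map' {F G : X.Modules} (φ : F ⟶ G) (k : ℕ) (U : X.Opens) (m : Γ(F, U))
    (x : sec h𝔛.1 (cmp h𝔛 p hp F) (ComplSec.pre p U))
    (hx : π h𝔛.1 (ComplSec.pullSys p hp F).F (ComplSec.pullSys p hp F).toPush k (ComplSec.pre p U) x =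
      ComplSec.σ h𝔛.1 p hp F k U m) :
    π h𝔛.1 (ComplSec.pullSys p hp G).F (ComplSec.pullSys p hp G).toPush k (ComplSec.pre p U)
        (secMap h𝔛.1 (cmpMap h𝔛 p hp φ) (ComplSec.pre p U) x) =
      ComplSec.σ h𝔛.1 p hp G k U (φ.app U m) := by
  refine (ComplSec.π_map h𝔛.1 p hp φ k _ x).trans ?_
  refine Eq.trans ?_ (ComplSec.σ_map h𝔛.1 p hp F φ k U m).symm
  exact congrArg _ hx

variable (S : ShortComplex X.Modules) (hS : S.ShortExact) (h1 : Coh.IsCoh S.X₁) (h2 : Coh.IsCoh S.X₂)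
  (h3 : Coh.IsCoh S.X₃)

theorem comp_eq_zero : cmpMap h𝔛 p hp S.f ≫ cmpMap h𝔛 p hp S.g = 0 := by
  refine limit.hom_ext fun k => ?_
  refine (Category.assoc _ _ _).trans ?_
  have hg : cmpMap h𝔛 p hp S.g ≫
      limit.π (FSch.levelSysOf 𝔛 h𝔛.1 (ComplSec.pullSys p hp S.X₃).F (ComplSec.pullSys p hp S.X₃).toPush) k = _ :=
    FSch.realLimMap_realProj 𝔛 h𝔛.1 (ComplSec.pullSysMap p hp S.g).app
      (FSch.ModSys.Hom.toPush_comm (ComplSec.pullSysMap p hp S.g)) k.unop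
  refine (congrArg (cmpMap h𝔛 p hp S.f ≫ ·) hg).trans ?_
  have hf := FSch.realLimMap_realProj 𝔛 h𝔛.1 (ComplSec.pullSysMap p hp S.f).app
      (FSch.ModSys.Hom.toPush_comm (ComplSec.pullSysMap p hp S.f)) k.unop
  refine (Category.assoc _ _ _).symm.trans ?_
  refine (congrArg (· ≫ _) hf).trans ?_
  refine (Category.assoc _ _ _).trans ?_
  refine (congrArg (_ ≫ ·) (((FSch.levelMor 𝔛 h𝔛.1 k.unop).push.map_comp _ _).symm.trans
    ((congrArg (FSch.levelMor 𝔛 h𝔛.1 k.unop).push.map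
      (?_ : (ComplSec.pullSysMap p hp S.f).app k.unop ≫ (ComplSec.pullSysMap p hp S.g).app k.unop = 0)).trans
      ((FSch.levelMor 𝔛 h𝔛.1 k.unop).push.map_zero _ _)))).trans ?_
  · exact ((Scheme.Modules.pullback (p k.unop)).map_comp _ _).symm.trans
      ((congrArg _ S.zero).trans (Functor.map_zero _ _ _))
  · rw [comp_zero]
    exact zero_comp.symm

section Affine

variable {U : X.Opens} (hU : IsAffineOpen U)

include hS h1 h2 hker hU in
theorem injective (hc1 : (ComplSec.pullSys p hp S.X₁).IsCoh) :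
    Function.Injective (secMap h𝔛.1 (cmpMap h𝔛 p hp S.f) (ComplSec.pre p U)) := by
  haveI := h1.1
  haveI := h2.1
  haveI : IsNoetherianRing Γ(X, U) := IsLocallyNoetherian.component_noetherian ⟨U, hU⟩
  haveI : SheafOfModules.IsFiniteType (R := X.ringCatSheaf) S.X₂ := h2.2
  haveI := CohBasics.Affine.finite_sections (M := S.X₂) hU
  haveI := hS.mono_f
  obtain ⟨s, hs⟩ := exists_shift ((p 0).ker.ideal ⟨U, hU⟩) (CohBasics.Affine.secₗ S.f U)
    (QCoh.Closure.sections_injective_of_mono S.f U)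
  rw [injective_iff_map_eq_zero]
  intro x hx
  refine RealLimSec.ext_of_π h𝔛.1 _ _ x 0 fun j => ?_
  rw [map_zero]
  obtain ⟨a, ha⟩ := ComplSec.σ_surjective h𝔛.1 p hp S.X₁ (j + s) hU
    (π h𝔛.1 (ComplSec.pullSys p hp S.X₁).F (ComplSec.pullSys p hp S.X₁).toPush (j + s) _ x)
  have hfa : ComplSec.σ h𝔛.1 p hp S.X₂ (j + s) U (S.f.app U a) = 0 := by
    exact ((σ_map' h𝔛 p hp S.f (j + s) U a x ha.symm).symm.trans (congrArg _ hx)).trans (map_zero _)
  rw [ComplSec.σ_eq_zero_iff h𝔛.1 p hp S.X₂ (j + s) hU, hker] at hfa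
  have ha' := hs _ (by omega) a hfa
  rw [show j + s + 1 - s = j + 1 by omega, ← hker] at ha'
  have hzero := (ComplSec.σ_eq_zero_iff h𝔛.1 p hp S.X₁ j hU a).2 ha'
  -- descend from level `j + s` to level `j`
  have hdesc : ∀ t, π h𝔛.1 (ComplSec.pullSys p hp S.X₁).F (ComplSec.pullSys p hp S.X₁).toPush (j + t) _ x =
      ComplSec.σ h𝔛.1 p hp S.X₁ (j + t) U a →
      π h𝔛.1 (ComplSec.pullSys p hp S.X₁).F (ComplSec.pullSys p hp S.X₁).toPush j _ x =
        ComplSec.σ h𝔛.1 p hp S.X₁ j U a := by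
    intro t
    induction t with
    | zero => exact fun h => h
    | succ t ih =>
      intro h
      refine ih ?_
      rw [← RealLimSec.tr_π h𝔛.1 _ _ (j + t), LinearMap.comp_apply]
      exact (congrArg _ h).trans (ComplSec.tr_σ h𝔛.1 p hp S.X₁ h𝔛 (j + t) U a)
  rw [hdesc s ha.symm, hzero]

include hS h1 h2 h3 hker hU in
theorem exact (y : sec h𝔛.1 (cmp h𝔛 p hp S.X₂) (ComplSec.pre p U))
    (hy : secMap h𝔛.1 (cmpMap h𝔛 p hp S.g) (ComplSec.pre p U) y = 0) :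
    ∃ x, secMap h𝔛.1 (cmpMap h𝔛 p hp S.f) (ComplSec.pre p U) x = y := by
  haveI := h1.1
  haveI := h2.1
  haveI := h3.1
  haveI : IsNoetherianRing Γ(X, U) := IsLocallyNoetherian.component_noetherian ⟨U, hU⟩
  haveI : SheafOfModules.IsFiniteType (R := X.ringCatSheaf) S.X₂ := h2.2
  haveI := CohBasics.Affine.finite_sections (M := S.X₂) hU
  haveI := hS.mono_f
  haveI := hS.epi_g
  obtain ⟨s, hs⟩ := exists_shift ((p 0).ker.ideal ⟨U, hU⟩) (CohBasics.Affine.secₗ S.f U)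
    (QCoh.Closure.sections_injective_of_mono S.f U)
  let f := CohBasics.Affine.secₗ S.f U
  let g := CohBasics.Affine.secₗ S.g U
  have hg : Function.Surjective g := QCoh.Closure.sections_surjective_of_epi S.g hU
  -- approximate preimages
  have hA : ∀ k, ∃ a : Γ(S.X₁, U), ComplSec.σ h𝔛.1 p hp S.X₂ k U (S.f.app U a) =
      π h𝔛.1 (ComplSec.pullSys p hp S.X₂).F (ComplSec.pullSys p hp S.X₂).toPush k _ y := by
    intro k
    obtain ⟨m, hm⟩ := ComplSec.σ_surjective h𝔛.1 p hp S.X₂ k hU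
      (π h𝔛.1 (ComplSec.pullSys p hp S.X₂).F (ComplSec.pullSys p hp S.X₂).toPush k _ y)
    have hgm : ComplSec.σ h𝔛.1 p hp S.X₃ k U (S.g.app U m) = 0 := by
      exact ((σ_map' h𝔛 p hp S.g k U m y hm.symm).symm.trans (congrArg _ hy)).trans (map_zero _)
    rw [ComplSec.σ_eq_zero_iff h𝔛.1 p hp S.X₃ k hU] at hgm
    have h2' : g m ∈ ((p k).ker.ideal ⟨U, hU⟩ • (⊤ : Submodule Γ(X, U) Γ(S.X₂, U))).map g := by
      rw [Submodule.map_smul'', Submodule.map_top, LinearMap.range_eq_top.2 hg]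
      exact hgm
    obtain ⟨m', hm', hmm⟩ := h2'
    obtain ⟨a, ha⟩ := QCoh.Closure.sections_exact hS.exact U (m - m') (by
      rw [map_sub]
      exact sub_eq_zero.2 hmm.symm)
    refine ⟨a, ?_⟩
    rw [ha, map_sub, (ComplSec.σ_eq_zero_iff h𝔛.1 p hp S.X₂ k hU m').2 hm', sub_zero, hm]
  choose a ha using hA
  have desc1 : ∀ n m, ComplSec.σ h𝔛.1 p hp S.X₂ (n + 1) U m =
          π h𝔛.1 (ComplSec.pullSys p hp S.X₂).F (ComplSec.pullSys p hp S.X₂).toPush (n + 1) _ y →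
        ComplSec.σ h𝔛.1 p hp S.X₂ n U m =
          π h𝔛.1 (ComplSec.pullSys p hp S.X₂).F (ComplSec.pullSys p hp S.X₂).toPush n _ y := by
    intro n m h
    rw [← ComplSec.tr_σ h𝔛.1 p hp S.X₂ h𝔛 n, ← RealLimSec.tr_π h𝔛.1 _ _ n, LinearMap.comp_apply]
    exact congrArg _ h
  have cast_idx : ∀ {n n' : ℕ}, n = n' → ∀ m, ComplSec.σ h𝔛.1 p hp S.X₂ n U m =
          π h𝔛.1 (ComplSec.pullSys p hp S.X₂).F (ComplSec.pullSys p hp S.X₂).toPush n _ y →
        ComplSec.σ h𝔛.1 p hp S.X₂ n' U m =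
          π h𝔛.1 (ComplSec.pullSys p hp S.X₂).F (ComplSec.pullSys p hp S.X₂).toPush n' _ y := by
    rintro n n' rfl m h
    exact h
  have hcomp : ∀ j, tr h𝔛.1 (ComplSec.pullSys p hp S.X₁).F (ComplSec.pullSys p hp S.X₁).toPush j _
      (ComplSec.σ h𝔛.1 p hp S.X₁ (j + 1) U (a (j + 1 + s))) =
      ComplSec.σ h𝔛.1 p hp S.X₁ j U (a (j + s)) := by
    intro j
    rw [ComplSec.tr_σ h𝔛.1 p hp S.X₁ h𝔛, ← sub_eq_zero, ← map_sub,
      ComplSec.σ_eq_zero_iff h𝔛.1 p hp S.X₁ j hU, hker]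
    have h0 : ComplSec.σ h𝔛.1 p hp S.X₂ (j + s) U (S.f.app U (a (j + 1 + s) - a (j + s))) = 0 := by
      rw [map_sub, map_sub, ha, sub_eq_zero]
      exact desc1 _ _ (cast_idx (by omega) _ (ha (j + 1 + s)))
    rw [ComplSec.σ_eq_zero_iff h𝔛.1 p hp S.X₂ (j + s) hU, hker] at h0
    have := hs _ (by omega) _ h0
    rwa [show j + s + 1 - s = j + 1 by omega] at this
  obtain ⟨x, hx⟩ := RealLimSec.exists_of_compatible h𝔛.1 (ComplSec.pullSys p hp S.X₁).F
    (ComplSec.pullSys p hp S.X₁).toPush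
    (fun j => ComplSec.σ h𝔛.1 p hp S.X₁ j U (a (j + s))) hcomp
  refine ⟨x, RealLimSec.ext_of_π h𝔛.1 _ _ _ _ fun j => ?_⟩
  rw [σ_map' h𝔛 p hp S.f j U _ x (hx j)]
  have hdesc : ∀ t m, ComplSec.σ h𝔛.1 p hp S.X₂ (j + t) U m =
          π h𝔛.1 (ComplSec.pullSys p hp S.X₂).F (ComplSec.pullSys p hp S.X₂).toPush (j + t) _ y →
        ComplSec.σ h𝔛.1 p hp S.X₂ j U m =
          π h𝔛.1 (ComplSec.pullSys p hp S.X₂).F (ComplSec.pullSys p hp S.X₂).toPush j _ y := by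
    intro t
    induction t with
    | zero => exact fun m h => h
    | succ t ih =>
      intro m h
      exact ih m (desc1 _ m h)
  exact hdesc s _ (ha (j + s))

include hS h2 h3 hU in
theorem surjective (hc2 : (ComplSec.pullSys p hp S.X₂).IsCoh)
    (hc3 : (ComplSec.pullSys p hp S.X₃).IsCoh) :
    Function.Surjective (secMap h𝔛.1 (cmpMap h𝔛 p hp S.g) (ComplSec.pre p U)) := by
  haveI := h2.1
  haveI := h3.1
  haveI := hS.epi_g
  have hV := ComplSec.isAffineOpen_pre p hU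
  haveI := (CohSys.main h𝔛 _ hc2 hV).2.1
  have h0 : Function.Surjective
      (π h𝔛.1 (ComplSec.pullSys p hp S.X₃).F (ComplSec.pullSys p hp S.X₃).toPush 0 (ComplSec.pre p U) ∘ₗ
        secMap h𝔛.1 (cmpMap h𝔛 p hp S.g) (ComplSec.pre p U)) := by
    intro z
    obtain ⟨w, hw⟩ := ComplSec.σ_surjective h𝔛.1 p hp S.X₃ 0 hU z
    obtain ⟨m, hm⟩ := QCoh.Closure.sections_surjective_of_epi S.g hU w
    obtain ⟨x, hx⟩ := ((CohSys.main h𝔛 _ hc2 hV).2.2 0).1 (ComplSec.σ h𝔛.1 p hp S.X₂ 0 U m)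
    exact ⟨x, (σ_map' h𝔛 p hp S.g 0 U m x hx).trans (by rw [hm, hw])⟩
  intro z
  obtain ⟨c₀, hc₀⟩ := h0 (π h𝔛.1 _ _ 0 _ z)
  obtain ⟨c, hc, -⟩ := Adic.Limit.exists_preimage (CohSys.isSys h𝔛 _ hc3 hV) h0 0 z c₀ (by
    rw [LinearMap.mem_ker, map_sub, sub_eq_zero]
    exact hc₀.symm)
  exact ⟨c, hc⟩

end Affine

include hker hS h1 h2 h3 in
/-- Completion is exact on coherent modules. -/
theorem shortExact (hc1 : (ComplSec.pullSys p hp S.X₁).IsCoh)
    (hc2 : (ComplSec.pullSys p hp S.X₂).IsCoh) (hc3 : (ComplSec.pullSys p hp S.X₃).IsCoh) :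
    (ShortComplex.mk _ _ (comp_eq_zero h𝔛 p hp S)).ShortExact := by
  haveI : IsClosedImmersion (p 0) := inferInstance
  have hB := ComplSec.isBasis_pre p
  haveI hm : Mono (cmpMap h𝔛 p hp S.f) :=
    mono_of_injective_basis _ _ hB fun U => injective h𝔛 p hp hker S hS h1 h2 U.2 hc1
  haveI he : Epi (cmpMap h𝔛 p hp S.g) :=
    epi_of_surjective_basis _ _ hB fun U => surjective h𝔛 p hp S hS h2 h3 U.2 hc2 hc3
  refine ShortComplex.ShortExact.mk' ?_ hm he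
  rw [ShortComplex.exact_iff_epi_kernel_lift]
  refine epi_of_surjective_basis _ _ hB fun U t => ?_
  have hy : secMap h𝔛.1 (cmpMap h𝔛 p hp S.g) _ (secMap h𝔛.1 (kernel.ι (cmpMap h𝔛 p hp S.g)) _ t) = 0 :=
    congrArg (fun ψ => secMap h𝔛.1 ψ _ t) (kernel.condition (cmpMap h𝔛 p hp S.g))
  obtain ⟨x, hx⟩ := exact h𝔛 p hp hker S hS h1 h2 h3 U.2 _ hy
  refine ⟨x, CohCons.secMap_injective (kernel.ι (cmpMap h𝔛 p hp S.g)) _ ?_⟩
  refine Eq.trans ?_ hx
  exact congrArg (fun ψ => secMap h𝔛.1 ψ (ComplSec.pre p U.1) x)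
    (kernel.lift_ι (cmpMap h𝔛 p hp S.g) (cmpMap h𝔛 p hp S.f) (comp_eq_zero h𝔛 p hp S))

omit [IsLocallyNoetherian X] [∀ k, IsClosedImmersion (p k)] in
/-- Maps of systems agree when they agree on every level. -/
theorem hom_heq {A B A' B' : FSch.ModSys 𝔛} (hA : A = A') (hB : B = B') (f : A ⟶ B) (g : A' ⟶ B')
    (h : ∀ n, HEq (f.app n) (g.app n)) : HEq f g := by
  subst hA hB
  exact heq_of_eq (FSch.ModSys.Hom.ext (funext fun n => eq_of_heq (h n)))

include hker hS h1 h2 h3 in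
/-- Exactness, for systems equal to the systems of inverse images (avoids unfolding `realMod`). -/
theorem shortExact_of_eq {A B C : FSch.ModSys 𝔛} (hA : A = ComplSec.pullSys p hp S.X₁)
    (hB : B = ComplSec.pullSys p hp S.X₂) (hC : C = ComplSec.pullSys p hp S.X₃)
    (f : A ⟶ B) (g : B ⟶ C) (hf : HEq f (ComplSec.pullSysMap p hp S.f))
    (hg : HEq g (ComplSec.pullSysMap p hp S.g))
    (hc1 : (ComplSec.pullSys p hp S.X₁).IsCoh) (hc2 : (ComplSec.pullSys p hp S.X₂).IsCoh)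
    (hc3 : (ComplSec.pullSys p hp S.X₃).IsCoh) :
    FSch.ModSys.realModMap h𝔛.1 f ≫ FSch.ModSys.realModMap h𝔛.1 g = 0 ∧
      ∀ w : FSch.ModSys.realModMap h𝔛.1 f ≫ FSch.ModSys.realModMap h𝔛.1 g = 0,
        (ShortComplex.mk _ _ w).ShortExact := by
  subst hA hB hC
  cases eq_of_heq hf
  cases eq_of_heq hg
  exact ⟨comp_eq_zero h𝔛 p hp S, fun _ => shortExact h𝔛 p hp hker S hS h1 h2 h3 hc1 hc2 hc3⟩

end Groth.Agent.H30.ComplExact
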