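import Groth.Agent.H30.FSch.ComplExact
import Groth.Agent.H30.FSch.ComplPull
import Groth.Agent.Lib.CohBasics.Closure
import Groth.Agent.Lib.ZarCoh.AnnIdeal
import Mathlib.RingTheory.Nakayama
import Groth.Agent.Lib.Cyc.FP.Stalk

/-!
# Completion detects monomorphisms and epimorphisms (helper30)
-/

set_option autoImplicit false
set_option linter.style.haveILetI false

universe u

open CategoryTheory CategoryTheory.Limits AlgebraicGeometry TopologicalSpace Opposite
open Groth.Agent.H30 Groth.Agent.H30.RealLimSec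
open Groth.Agent.Lib

namespace Groth.Agent.H30.ComplMonoEpi

variable {X : Scheme.{u}} [IsLocallyNoetherian X] {𝔛 : FSch.Sys.{u}} (h𝔛 : 𝔛.IsLocNoethFormal)
  (p : ∀ n, 𝔛.X n ⟶ X) (hp : ∀ n, 𝔛.ι n ≫ p (n + 1) = p n) [∀ k, IsClosedImmersion (p k)]

omit [∀ k, IsClosedImmersion (p k)] in
theorem isCoh_pullSys {F : X.Modules} (hF : Coh.IsCoh F) : (ComplSec.pullSys p hp F).IsCoh :=
  fun n => Cyc.FP.Stalk.isCoh_pullback (p n) hF

/-- A coherent module with vanishing completion is killed on every point of the closed subscheme. -/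
theorem not_mem_support (K : X.Modules) (hK : Coh.IsCoh K)
    (h0 : IsZero (ComplExact.cmp h𝔛 p hp K)) {U : X.Opens} (hU : IsAffineOpen U) {x : X} (hx : x ∈ U)
    (hxI : x ∈ (p 0).ker.support) : x ∉ CohB1.support K := by
  haveI := hK.1
  haveI : SheafOfModules.IsFiniteType (R := X.ringCatSheaf) K := hK.2
  haveI := CohBasics.Closure.finite_sections hK hU
  have hsmul : (⊤ : Submodule Γ(X, U) Γ(K, U)) ≤ (p 0).ker.ideal ⟨U, hU⟩ • ⊤ := by
    intro m _
    refine (ComplSec.σ_eq_zero_iff h𝔛.1 p hp K 0 hU m).1 ?_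
    rw [← ComplPull.π_ehat h𝔛 p hp K 0 U m]
    have : ComplPull.ehat h𝔛 p hp K U m = 0 :=
      congrArg (fun ψ => secMap h𝔛.1 ψ (ComplSec.pre p U) (ComplPull.ehat h𝔛 p hp K U m))
        (h0.eq_of_src (𝟙 (ComplExact.cmp h𝔛 p hp K)) 0)
    exact (congrArg _ this).trans (map_zero _)
  obtain ⟨r, hr, hrM⟩ := Submodule.exists_sub_one_mem_and_smul_eq_zero_of_fg_of_le_smul _ _
    (Module.finite_def.1 inferInstance) hsmul
  refine ZarCoh.AnnIdeal.subsingleton_stalk_of_mem_annihilator K hU hx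
    (Module.mem_annihilator.2 fun m => hrM m trivial) ?_
  by_contra hrx
  have h1 := (Scheme.IdealSheafData.mem_support_iff_of_mem (U := ⟨U, hU⟩) hx).1 hxI
  rw [Scheme.mem_zeroLocus_iff] at h1
  refine h1 _ hr ?_
  rw [X.mem_basicOpen _ x hx, map_sub, map_one]
  have hn : ¬ IsUnit (X.presheaf.germ U x hx r) := fun h => hrx ((X.mem_basicOpen _ x hx).2 h)
  have := IsLocalRing.isUnit_one_sub_self_of_mem_nonunits _ hn
  simpa using this.neg

variable (hker : ∀ k (U : X.affineOpens), (p k).ker.ideal U = (p 0).ker.ideal U ^ (k + 1))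

include hker in
theorem mono_cmpMap {F G : X.Modules} (hF : Coh.IsCoh F) (hG : Coh.IsCoh G) (u : F ⟶ G) [Mono u] :
    Mono (ComplExact.cmpMap h𝔛 p hp u) := by
  have hC : Coh.IsCoh (cokernel u) := CohBasics.Closure.isCoh_cokernel u hF.1 hG
  let S := ShortComplex.mk u (cokernel.π u) (cokernel.condition u)
  have hS : S.ShortExact :=
    ShortComplex.ShortExact.mk' (ShortComplex.exact_of_g_is_cokernel _ (cokernelIsCokernel u))
      ‹Mono u› inferInstance
  exact (ComplExact.shortExact h𝔛 p hp hker S hS hF hG hC (isCoh_pullSys p hp hF)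
    (isCoh_pullSys p hp hG) (isCoh_pullSys p hp hC)).mono_f

include hker in
theorem epi_cmpMap {F G : X.Modules} (hF : Coh.IsCoh F) (hG : Coh.IsCoh G) (u : F ⟶ G) [Epi u] :
    Epi (ComplExact.cmpMap h𝔛 p hp u) := by
  have hK : Coh.IsCoh (kernel u) := CohBasics.Closure.isCoh_kernel u hF hG.1
  let S := ShortComplex.mk (kernel.ι u) u (kernel.condition u)
  have hS : S.ShortExact :=
    ShortComplex.ShortExact.mk' (ShortComplex.exact_of_f_is_kernel _ (kernelIsKernel u))
      inferInstance ‹Epi u›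
  exact (ComplExact.shortExact h𝔛 p hp hker S hS hK hF hG (isCoh_pullSys p hp hK)
    (isCoh_pullSys p hp hF) (isCoh_pullSys p hp hG)).epi_g

variable (hsupp : ∀ K : X.Modules, Coh.IsCoh K → ∀ x ∈ CohB1.support K,
    ∃ y ∈ CohB1.support K, y ∈ (p 0).ker.support)

include hsupp in
theorem isZero_of_cmp (K : X.Modules) (hK : Coh.IsCoh K)
    (h0 : IsZero (ComplExact.cmp h𝔛 p hp K)) : IsZero K := by
  refine Modules.Stalk.isZero_iff_stalk.2 fun x => ?_
  have hx : x ∉ CohB1.support K := fun hx => by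
    obtain ⟨y, hy, hyI⟩ := hsupp K hK x hx
    obtain ⟨U, hU, hyU, -⟩ :=
      exists_isAffineOpen_mem_and_subset (show y ∈ (⊤ : X.Opens) from trivial)
    exact not_mem_support h𝔛 p hp K hK h0 hU hyU hyI hy
  haveI := Modules.Support.not_mem_support_iff.1 hx
  exact AddCommGrpCat.isZero_of_subsingleton _

include hker hsupp in
theorem mono_iff {F G : X.Modules} (hF : Coh.IsCoh F) (hG : Coh.IsCoh G) (u : F ⟶ G) :
    Mono (ComplExact.cmpMap h𝔛 p hp u) ↔ Mono u := by
  refine ⟨fun hm => ?_, fun hm => mono_cmpMap h𝔛 p hp hker hF hG u⟩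
  haveI := hm
  have hK : Coh.IsCoh (kernel u) := CohBasics.Closure.isCoh_kernel u hF hG.1
  haveI := mono_cmpMap h𝔛 p hp hker hK hF (kernel.ι u)
  have h1 : ComplExact.cmpMap h𝔛 p hp (kernel.ι u) = 0 :=
    (cancel_mono (ComplExact.cmpMap h𝔛 p hp u)).1
      ((ComplExact.comp_eq_zero h𝔛 p hp (ShortComplex.mk _ _ (kernel.condition u))).trans zero_comp.symm)
  have hz : IsZero (ComplExact.cmp h𝔛 p hp (kernel u)) := by
    rw [IsZero.iff_id_eq_zero, ← cancel_mono (ComplExact.cmpMap h𝔛 p hp (kernel.ι u))]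
    rw [Category.id_comp, zero_comp, h1]
  exact Preadditive.mono_of_isZero_kernel u (isZero_of_cmp h𝔛 p hp hsupp _ hK hz)

include hker hsupp in
theorem epi_iff {F G : X.Modules} (hF : Coh.IsCoh F) (hG : Coh.IsCoh G) (u : F ⟶ G) :
    Epi (ComplExact.cmpMap h𝔛 p hp u) ↔ Epi u := by
  refine ⟨fun he => ?_, fun he => epi_cmpMap h𝔛 p hp hker hF hG u⟩
  haveI := he
  have hC : Coh.IsCoh (cokernel u) := CohBasics.Closure.isCoh_cokernel u hF.1 hG
  haveI := epi_cmpMap h𝔛 p hp hker hG hC (cokernel.π u)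
  have h1 : ComplExact.cmpMap h𝔛 p hp (cokernel.π u) = 0 :=
    (cancel_epi (ComplExact.cmpMap h𝔛 p hp u)).1
      ((ComplExact.comp_eq_zero h𝔛 p hp (ShortComplex.mk _ _ (cokernel.condition u))).trans comp_zero.symm)
  have hz : IsZero (ComplExact.cmp h𝔛 p hp (cokernel u)) := by
    rw [IsZero.iff_id_eq_zero, ← cancel_epi (ComplExact.cmpMap h𝔛 p hp (cokernel.π u))]
    rw [Category.comp_id, comp_zero, h1]
  exact Preadditive.epi_of_isZero_cokernel u (isZero_of_cmp h𝔛 p hp hsupp _ hC hz)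

include hker hsupp in
/-- Both, for systems equal to the inverse images. -/
theorem iff_of_eq {F G : X.Modules} (hF : Coh.IsCoh F) (hG : Coh.IsCoh G) (u : F ⟶ G)
    {A B : FSch.ModSys 𝔛} (hA : A = ComplSec.pullSys p hp F) (hB : B = ComplSec.pullSys p hp G)
    (f : A ⟶ B) (hf : HEq f (ComplSec.pullSysMap p hp u)) :
    (Mono (FSch.ModSys.realModMap h𝔛.1 f) ↔ Mono u) ∧
      (Epi (FSch.ModSys.realModMap h𝔛.1 f) ↔ Epi u) := by
  subst hA hB
  cases eq_of_heq hf
  exact ⟨mono_iff h𝔛 p hp hker hsupp hF hG u, epi_iff h𝔛 p hp hker hsupp hF hG u⟩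

end Groth.Agent.H30.ComplMonoEpi

namespace Groth.Agent.H30.ComplMonoEpi

/-- On the points where an adically complete base sees the support. -/
theorem exists_mem_support (A : Type u) [CommRing A] (J : Ideal A) [IsAdicComplete J A]
    {X : Scheme.{u}} (f : X ⟶ Spec (CommRingCat.of A)) (hf : IsClosedMap f.base)
    (K : X.Modules) (hK : Coh.IsCoh K) (x : X) (hx : x ∈ CohB1.support K) :
    ∃ y ∈ CohB1.support K, y ∈ ((FSch.idealSpec A J).comap f).support := by
  haveI := hK.1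
  haveI : SheafOfModules.IsFiniteType (R := X.ringCatSheaf) K := hK.2
  have hS : IsClosed (CohB1.support K) := by
    rw [← ZarCoh.AnnIdeal.support_annIdeal K]
    exact (ZarCoh.AnnIdeal.annIdeal K).support.isClosed
  obtain ⟨m, hm, hle⟩ := Ideal.exists_le_maximal (f.base x).asIdeal (f.base x).2.ne_top
  have hspec : f.base x ⤳ (⟨m, hm.isPrime⟩ : PrimeSpectrum A) :=
    (PrimeSpectrum.le_iff_specializes _ _).1 hle
  obtain ⟨y, hy, hye⟩ := (hf _ hS).stableUnderSpecialization hspec ⟨x, hx, rfl⟩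
  refine ⟨y, hy, ?_⟩
  rw [Scheme.IdealSheafData.support_comap]
  show f.base y ∈ (FSch.idealSpec A J).support
  rw [hye, FSch.idealSpec]
  have hJ : J ≤ m :=
    ((IsAdicComplete.le_jacobson_bot J).trans (sInf_le ⟨bot_le, hm⟩))
  rw [← SetLike.mem_coe, Scheme.Hom.support_ker]
  refine subset_closure ?_
  change (⟨m, hm.isPrime⟩ : PrimeSpectrum A) ∈ Set.range (PrimeSpectrum.comap (Ideal.Quotient.mk J))
  rw [range_comap_of_surjective _ _ Ideal.Quotient.mk_surjective, Ideal.mk_ker]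
  exact hJ

end Groth.Agent.H30.ComplMonoEpi
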