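import Groth.Agent.H30.FSch.ComplExact
import Groth.Agent.H30.FSch.ComplPull
import Groth.Agent.H30.FSch.ComplMonoEpi
import Groth.Agent.H78.Formal.Sys
import Groth.Agent.S4473
import Groth.Agent.Lib.Ideal.Comap
import Groth.Agent.Lib.QCoh.Pushforward

/-!
# Maps of completions come from maps of coherent modules (helper30)
-/

set_option autoImplicit false
set_option linter.style.haveILetI false

universe u

open CategoryTheory CategoryTheory.Limits AlgebraicGeometry TopologicalSpace Opposite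
open Groth.Agent.H30 Groth.Agent.H30.RealLimSec
open Groth.Agent.Lib
open Groth.Agent.H78.Formal.Sections (sMap sIdeal)

namespace Groth.Agent.H30.ComplHom

/-- The ideal of the preimage of a closed subscheme of an affine scheme. -/
theorem ideal_idealSpec_comap {A : Type u} [CommRing A] (J : Ideal A) {X : Scheme.{u}}
    [X.Over (Spec (CommRingCat.of A))] (U : X.affineOpens) :
    ((FSch.idealSpec A J).comap (X ↘ Spec (CommRingCat.of A))).ideal U = sIdeal J U.1 := by
  have htop : (FSch.idealSpec A J).ideal ⟨⊤, isAffineOpen_top _⟩ =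
      J.map (Scheme.ΓSpecIso (CommRingCat.of A)).inv.hom := by
    rw [FSch.idealSpec, Scheme.Hom.ker_apply]
    change RingHom.ker ((Spec.map (CommRingCat.ofHom (Ideal.Quotient.mk J))).appTop).hom = _
    have hn := Scheme.ΓSpecIso_naturality (CommRingCat.ofHom (Ideal.Quotient.mk J))
    ext x
    rw [RingHom.mem_ker]
    constructor
    · intro hx
      have h2 : (Ideal.Quotient.mk J) ((Scheme.ΓSpecIso (CommRingCat.of A)).hom x) = 0 :=
        (ConcreteCategory.congr_hom hn x).symm.trans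
          ((congrArg (fun z => (Scheme.ΓSpecIso (CommRingCat.of (A ⧸ J))).hom.hom z) hx).trans
            (map_zero (Scheme.ΓSpecIso (CommRingCat.of (A ⧸ J))).hom.hom))
      rw [Ideal.Quotient.eq_zero_iff_mem] at h2
      have := Ideal.mem_map_of_mem (Scheme.ΓSpecIso (CommRingCat.of A)).inv.hom h2
      rwa [show (Scheme.ΓSpecIso (CommRingCat.of A)).inv.hom ((Scheme.ΓSpecIso (CommRingCat.of A)).hom x) = x
        from ConcreteCategory.congr_hom (Scheme.ΓSpecIso (CommRingCat.of A)).hom_inv_id x] at this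
    · intro hx
      have h2 : J.map (Scheme.ΓSpecIso (CommRingCat.of A)).inv.hom ≤
          RingHom.ker ((Spec.map (CommRingCat.ofHom (Ideal.Quotient.mk J))).appTop).hom := by
        refine Ideal.map_le_iff_le_comap.2 fun a ha => ?_
        rw [Ideal.mem_comap, RingHom.mem_ker]
        refine (ConcreteCategory.bijective_of_isIso
          (Scheme.ΓSpecIso (CommRingCat.of (A ⧸ J))).hom).1 ?_
        rw [map_zero]
        refine (ConcreteCategory.congr_hom hn _).trans ?_
        refine (congrArg (Ideal.Quotient.mk J)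
          (ConcreteCategory.congr_hom (Scheme.ΓSpecIso (CommRingCat.of A)).inv_hom_id a)).trans ?_
        exact Ideal.Quotient.eq_zero_iff_mem.2 ha
      exact h2 hx
  rw [Ideal.Comap.ideal_comap _ _ ⟨⊤, isAffineOpen_top _⟩ U le_top, htop, Ideal.map_map, sIdeal]
  rfl

variable {A : Type u} [CommRing A] {X : Scheme.{u}} [X.Over (Spec (CommRingCat.of A))]
  [IsLocallyNoetherian X] {𝔛 : FSch.Sys.{u}} (h𝔛 : 𝔛.IsLocNoethFormal)
  (p : ∀ n, 𝔛.X n ⟶ X) (hp : ∀ n, 𝔛.ι n ≫ p (n + 1) = p n) [∀ k, IsClosedImmersion (p k)]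
  (J : Ideal A) (hI : ∀ k (U : X.affineOpens), (p k).ker.ideal U = sIdeal J U.1 ^ (k + 1))
  {F G : X.Modules} (Ψ : ComplExact.cmp h𝔛 p hp F ⟶ ComplExact.cmp h𝔛 p hp G)

/-- The image in level `k` of a section. -/
noncomputable def val (k : ℕ) (U : X.Opens) (m : Γ(F, U)) :
    lev h𝔛.1 (ComplSec.pullSys p hp G).F k (ComplSec.pre p U) :=
  π h𝔛.1 (ComplSec.pullSys p hp G).F (ComplSec.pullSys p hp G).toPush k (ComplSec.pre p U)
    (secMap h𝔛.1 Ψ (ComplSec.pre p U) (ComplPull.ehat h𝔛 p hp F U m))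

theorem val_add (k : ℕ) (U : X.Opens) (m m' : Γ(F, U)) :
    val h𝔛 p hp Ψ k U (m + m') = val h𝔛 p hp Ψ k U m + val h𝔛 p hp Ψ k U m' :=
  (congrArg (fun v => π h𝔛.1 _ _ k _ (secMap h𝔛.1 Ψ _ v)) (ComplPull.ehat_add h𝔛 p hp F U m m')).trans
    ((congrArg _ (map_add _ _ _)).trans (map_add _ _ _))

theorem val_smul (k : ℕ) (U : X.Opens) (r : Γ(X, U)) (m : Γ(F, U)) :
    val h𝔛 p hp Ψ k U (r • m) = (p k).appLE U _ (ComplSec.lvU_pre h𝔛.1 p hp k U).le r •
      (show Γ((ComplSec.pullSys p hp G).F k, 𝔛.lvU h𝔛.1 k (ComplSec.pre p U)) from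
        val h𝔛 p hp Ψ k U m) := by
  refine ((congrArg (fun v => π h𝔛.1 _ _ k _ (secMap h𝔛.1 Ψ _ v))
    (ComplPull.ehat_smul h𝔛 p hp F U r m)).trans
    ((congrArg _ (map_smul _ _ _)).trans (map_smul _ _ _))).trans ?_
  rw [lev_smul, ComplPull.proj_shA]
  rfl

theorem val_res (k : ℕ) {U U' : X.Opens} (e : U' ≤ U) (m : Γ(F, U)) :
    ((ComplSec.pullSys p hp G).F k).presheaf.map
        (homOfLE (CohPres.lvU_mono h𝔛.1 k ((p 0).preimage_mono e))).op (val h𝔛 p hp Ψ k U m) =
      val h𝔛 p hp Ψ k U' (F.presheaf.map (homOfLE e).op m) := by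
  refine (CohPres.π_res h𝔛.1 _ _ k ((p 0).preimage_mono e) _).symm.trans ?_
  refine congrArg (π h𝔛.1 _ _ k _) ?_
  refine (LevelAdj.secMap_map Ψ ((p 0).preimage_mono e) _).symm.trans ?_
  exact congrArg (secMap h𝔛.1 Ψ _) (ComplPull.ehat_res h𝔛 p hp F e m)

/-- The transpose to level `k`. -/
noncomputable def fm (k : ℕ) :
    F ⟶ (Scheme.Modules.pushforward (p k)).obj ((Scheme.Modules.pullback (p k)).obj G) :=
  ⟨PresheafOfModules.homMk
    { app := fun U => AddCommGrpCat.ofHom
        (AddMonoidHom.mk' (fun m => ((ComplSec.pullSys p hp G).F k).presheaf.map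
            (homOfLE (ComplSec.lvU_pre h𝔛.1 p hp k U.unop).ge).op (val h𝔛 p hp Ψ k U.unop m))
          fun m m' => (congrArg _ (val_add h𝔛 p hp Ψ k U.unop m m')).trans (map_add _ _ _))
      naturality := fun U U' i => by
        refine ConcreteCategory.hom_ext _ _ fun m => ?_
        show ((ComplSec.pullSys p hp G).F k).presheaf.map
            (homOfLE (ComplSec.lvU_pre h𝔛.1 p hp k U'.unop).ge).op
            (val h𝔛 p hp Ψ k U'.unop (F.presheaf.map (homOfLE (leOfHom i.unop)).op m)) =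
          ((ComplSec.pullSys p hp G).F k).presheaf.map
            (homOfLE ((p k).preimage_mono (leOfHom i.unop))).op
            (((ComplSec.pullSys p hp G).F k).presheaf.map
              (homOfLE (ComplSec.lvU_pre h𝔛.1 p hp k U.unop).ge).op (val h𝔛 p hp Ψ k U.unop m))
        rw [← val_res h𝔛 p hp Ψ k (leOfHom i.unop) m]
        refine (CohDelta.Units.map_map _ _ _
          (homOfLE (((p k).preimage_mono (leOfHom i.unop)).trans
            (ComplSec.lvU_pre h𝔛.1 p hp k U.unop).ge)).op _).trans ?_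
        exact (CohDelta.Units.map_map _ _ _ _ _).symm }
    fun U r m => by
      show ((ComplSec.pullSys p hp G).F k).presheaf.map
            (homOfLE (ComplSec.lvU_pre h𝔛.1 p hp k U.unop).ge).op (val h𝔛 p hp Ψ k U.unop (r • m)) =
          (p k).app U.unop r • ((ComplSec.pullSys p hp G).F k).presheaf.map
            (homOfLE (ComplSec.lvU_pre h𝔛.1 p hp k U.unop).ge).op (val h𝔛 p hp Ψ k U.unop m)
      refine (congrArg _ (val_smul h𝔛 p hp Ψ k U.unop r m)).trans ((Scheme.Modules.map_smul _ _ _ _).trans ?_)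
      congr 1
      rw [Scheme.Hom.app_eq_appLE]
      exact ConcreteCategory.congr_hom ((p k).appLE_map _ _) r⟩

theorem fm_app_eq_iff (k : ℕ) {U : X.Opens} (m : Γ(F, U)) (w : Γ(G, U)) :
    (fm h𝔛 p hp Ψ k).app U m =
        ((Scheme.Modules.pullbackPushforwardAdjunction (p k)).unit.app G).app U w ↔
      val h𝔛 p hp Ψ k U m = ComplSec.σ h𝔛.1 p hp G k U w := by
  refine Iff.trans ?_ (CohSys.restrict_bijective ((ComplSec.pullSys p hp G).F k)
    (ComplSec.lvU_pre h𝔛.1 p hp k U).ge (ComplSec.lvU_pre h𝔛.1 p hp k U).le).1.eq_iff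
  rw [ComplSec.σ_apply]
  have e : ((ComplSec.pullSys p hp G).F k).presheaf.map (homOfLE (ComplSec.lvU_pre h𝔛.1 p hp k U).ge).op
      (((ComplSec.pullSys p hp G).F k).presheaf.map (homOfLE (ComplSec.lvU_pre h𝔛.1 p hp k U).le).op
        (CohDelta.Units.eta (p k) G U w)) = CohDelta.Units.eta (p k) G U w :=
    (CohDelta.Units.map_map _ _ _ (𝟙 _) _).trans
      (ConcreteCategory.congr_hom (((ComplSec.pullSys p hp G).F k).presheaf.map_id _) _)
  rw [e]
  exact Iff.rfl

variable (hF : Coh.IsCoh F) (hG : Coh.IsCoh G)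

include hI hF hG in
/-- The induced map modulo `J^(k+1)`. -/
theorem exists_mod (k : ℕ) :
    ∃ ψ : Formal.modPow J (k + 1) F ⟶ Formal.modPow J (k + 1) G,
      ∀ U : X.Opens, IsAffineOpen U → ∀ (m : Γ(F, U)) (w : Γ(G, U)),
        val h𝔛 p hp Ψ k U m = ComplSec.σ h𝔛.1 p hp G k U w →
          ψ.app U ((Formal.modPowπ J (k + 1) F).app U m) = (Formal.modPowπ J (k + 1) G).app U w := by
  haveI := hF.1
  haveI := hG.1
  haveI : (Formal.modPow J (k + 1) F).IsQuasicoherent := H78.Formal.Sections.isQCoh_modPow J (k + 1)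
  haveI : (Formal.modPow J (k + 1) G).IsQuasicoherent := H78.Formal.Sections.isQCoh_modPow J (k + 1)
  haveI : Epi (Formal.modPowπ J (k + 1) F) := inferInstanceAs (Epi (cokernel.π _))
  haveI : Epi (Formal.modPowπ J (k + 1) G) := inferInstanceAs (Epi (cokernel.π _))
  haveI : ((Scheme.Modules.pullback (p k)).obj G).IsQuasicoherent := QCoh.Pullback.isQCoh_pullback (p k) G
  haveI : ((Scheme.Modules.pushforward (p k)).obj ((Scheme.Modules.pullback (p k)).obj G)).IsQuasicoherent :=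
    QCoh.Pushforward.isQCoh_pushforward _
  have hη : ∀ U : X.Opens, ∀ hU : IsAffineOpen U, ∀ s : Γ(G, U),
      ((Scheme.Modules.pullbackPushforwardAdjunction (p k)).unit.app G).app U s = 0 ↔
        (Formal.modPowπ J (k + 1) G).app U s = 0 := fun U hU s => by
    rw [UnitKernel.unit_app_eq_zero_iff (p k) G hU s, H78.Formal.Sections.modPowπ_eq_zero_iff J (k + 1) hU s,
      hI k ⟨U, hU⟩]
  obtain ⟨d, hd⟩ := H78.Formal.Sys.exists_desc (Formal.modPowπ J (k + 1) G)
    ((Scheme.Modules.pullbackPushforwardAdjunction (p k)).unit.app G) fun U hU s hs => (hη U hU s).2 hs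
  have hd' : ∀ U (s : Γ(G, U)), d.app U ((Formal.modPowπ J (k + 1) G).app U s) =
      ((Scheme.Modules.pullbackPushforwardAdjunction (p k)).unit.app G).app U s := fun U s =>
    ConcreteCategory.congr_hom (congrArg (fun χ => χ.app U) hd) s
  haveI : ((Scheme.Modules.pullback (p k) ⋙ Scheme.Modules.pushforward (p k)).obj G).IsQuasicoherent :=
    QCoh.Pushforward.isQCoh_pushforward _
  haveI : IsIso d := by
    refine H78.Formal.Sections.isIso_of_cover d fun x => ?_
    obtain ⟨U, hU, hx⟩ := H78.Formal.Sections.exists_affine x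
    refine ⟨U, hU, hx, ?_, fun y => ?_⟩
    · rw [injective_iff_map_eq_zero]
      intro y hy
      obtain ⟨s, rfl⟩ := H78.Formal.Sections.modPowπ_surjective J (k + 1) hU y
      exact (hη U hU s).1 ((hd' U s).symm.trans hy)
    · obtain ⟨s, hs⟩ := UnitKernel.unit_app_surjective (p k) G hU y
      exact ⟨_, (hd' U s).trans hs⟩
  obtain ⟨f, hf⟩ := H78.Formal.Sys.exists_desc (Formal.modPowπ J (k + 1) F) (fm h𝔛 p hp Ψ k)
    fun U hU s hs => by
      have hs' := (H78.Formal.Sections.modPowπ_eq_zero_iff J (k + 1) hU s).1 hs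
      rw [← hI k ⟨U, hU⟩] at hs'
      refine Submodule.smul_induction_on hs' (fun r hr b _ => ?_) fun a b ha hb => by
        rw [map_add, ha, hb, add_zero]
      rw [Scheme.Hom.ker_apply, RingHom.mem_ker] at hr
      rw [Scheme.Modules.Hom.app_smul]
      change (p k).app U r • (show Γ((Scheme.Modules.pullback (p k)).obj G, (p k) ⁻¹ᵁ U) from
        (fm h𝔛 p hp Ψ k).app U b) = (0 : Γ((Scheme.Modules.pullback (p k)).obj G, (p k) ⁻¹ᵁ U))
      rw [hr, zero_smul]
  refine ⟨f ≫ inv d, fun U hU m w hw => ?_⟩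
  have h1 : f.app U ((Formal.modPowπ J (k + 1) F).app U m) = d.app U ((Formal.modPowπ J (k + 1) G).app U w) :=
    (ConcreteCategory.congr_hom (congrArg (fun χ => χ.app U) hf) m).trans
      (((fm_app_eq_iff h𝔛 p hp Ψ k m w).2 hw).trans (hd' U w).symm)
  refine (congrArg (fun v => (inv d).app U v) h1).trans ?_
  exact ConcreteCategory.congr_hom (congrArg (fun χ => χ.app U) (IsIso.hom_inv_id d)) _

theorem σ_surjective' (k : ℕ) [G.IsQuasicoherent] {U : X.Opens} (hU : IsAffineOpen U) (m : Γ(F, U)) :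
    ∃ w, val h𝔛 p hp Ψ k U m = ComplSec.σ h𝔛.1 p hp G k U w := by
  obtain ⟨w, hw⟩ := ComplSec.σ_surjective h𝔛.1 p hp G k hU (val h𝔛 p hp Ψ k U m)
  exact ⟨w, hw.symm⟩

include hI hF hG in
/-- A map of completions is the completion of a map of modules. -/
theorem exists_cmpMap_eq [IsNoetherianRing A] [IsAdicComplete J A]
    [LocallyOfFiniteType (X ↘ Spec (CommRingCat.of A))] [QuasiCompact (X ↘ Spec (CommRingCat.of A))]
    (hs : ClSub.IsProperOver (X ↘ Spec (CommRingCat.of A)) (CohB1.support F ∩ CohB1.support G)) :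
    ∃ φ : F ⟶ G, ComplExact.cmpMap h𝔛 p hp φ = Ψ := by
  haveI := hF.1
  haveI := hG.1
  choose ψ hψ using exists_mod h𝔛 p hp J hI Ψ hF hG
  haveI : ∀ k, (Formal.modPow J k F).IsQuasicoherent := fun k => H78.Formal.Sections.isQCoh_modPow J k
  have hnat : ∀ k, (Formal.completion J F).map (homOfLE (Nat.le_succ k)).op ≫ ψ k =
      ψ (k + 1) ≫ (Formal.completion J G).map (homOfLE (Nat.le_succ k)).op := by
    intro k
    have eF : (Formal.completion J F).map (homOfLE (Nat.le_succ k)).op = Formal.modPowTrans J (k + 1) F :=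
      Functor.ofOpSequence_map_homOfLE_succ _ k
    have eG : (Formal.completion J G).map (homOfLE (Nat.le_succ k)).op = Formal.modPowTrans J (k + 1) G :=
      Functor.ofOpSequence_map_homOfLE_succ _ k
    rw [eF, eG]
    refine H78.Formal.Sections.hom_ext_affine (M := Formal.modPow J (k + 1 + 1) F) fun U hU y => ?_
    obtain ⟨m, rfl⟩ := H78.Formal.Sections.modPowπ_surjective J (k + 1 + 1) hU y
    obtain ⟨w, hw⟩ := σ_surjective' h𝔛 p hp Ψ (k + 1) hU m
    have hw' : val h𝔛 p hp Ψ k U m = ComplSec.σ h𝔛.1 p hp G k U w := by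
      rw [← ComplSec.tr_σ h𝔛.1 p hp G h𝔛 k U w, ← hw]
      exact (LinearMap.congr_fun (RealLimSec.tr_π h𝔛.1 (ComplSec.pullSys p hp G).F
        (ComplSec.pullSys p hp G).toPush k (ComplSec.pre p U)) _).symm
    show (ψ k).app U ((Formal.modPowTrans J (k + 1) F).app U ((Formal.modPowπ J (k + 1 + 1) F).app U m)) =
      (Formal.modPowTrans J (k + 1) G).app U ((ψ (k + 1)).app U ((Formal.modPowπ J (k + 1 + 1) F).app U m))
    rw [hψ (k + 1) U hU m w hw]
    refine Eq.trans ?_ (ConcreteCategory.congr_hom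
      (congrArg (fun χ => χ.app U) (Formal.modPowπ_trans J (k + 1) G)) w).symm
    refine (congrArg (fun v => (ψ k).app U v) (ConcreteCategory.congr_hom
      (congrArg (fun χ => χ.app U) (Formal.modPowπ_trans J (k + 1) F)) m)).trans ?_
    exact hψ k U hU m w hw'
  let N : Formal.completion J F ⟶ Formal.completion J G := NatTrans.ofOpSequence ψ hnat
  obtain ⟨φ, hφ, -⟩ := Groth.Agent.S4473.result A J X F G hF hG hs N
  refine ⟨φ, ?_⟩
  have key : ∀ U : X.Opens, IsAffineOpen U → ∀ m : Γ(F, U),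
      secMap h𝔛.1 (ComplExact.cmpMap h𝔛 p hp φ) (ComplSec.pre p U) (ComplPull.ehat h𝔛 p hp F U m) =
        secMap h𝔛.1 Ψ (ComplSec.pre p U) (ComplPull.ehat h𝔛 p hp F U m) := by
    intro U hU m
    refine RealLimSec.ext_of_π h𝔛.1 _ _ _ _ fun k => ?_
    refine (ComplExact.σ_map' h𝔛 p hp φ k U m _ (ComplPull.π_ehat h𝔛 p hp F k U m)).trans ?_
    obtain ⟨w, hw⟩ := σ_surjective' h𝔛 p hp Ψ k hU m
    refine Eq.trans ?_ hw.symm
    have h1 : (Formal.modPowπ J (k + 1) G).app U (φ.app U m) = (Formal.modPowπ J (k + 1) G).app U w := by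
      refine (ConcreteCategory.congr_hom (congrArg (fun χ => χ.app U) (hφ k)) m).symm.trans ?_
      exact hψ k U hU m w hw
    rw [← sub_eq_zero, ← map_sub, H78.Formal.Sections.modPowπ_eq_zero_iff J (k + 1) hU, ← hI k ⟨U, hU⟩,
      ← ComplSec.σ_eq_zero_iff h𝔛.1 p hp G k hU, map_sub, sub_eq_zero] at h1
    exact h1
  apply (SheafOfModules.toSheaf _).map_injective
  refine Sheaf.hom_ext (TopCat.Sheaf.hom_ext
    (F := ((SheafOfModules.toSheaf _).obj (ComplExact.cmp h𝔛 p hp F)).obj)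
    (F' := ((SheafOfModules.toSheaf _).obj (ComplExact.cmp h𝔛 p hp G)))
    (ComplSec.isBasis_pre p) fun U => ?_)
  refine ConcreteCategory.hom_ext _ _ fun x => ?_
  haveI := CohBasics.Closure.finite_sections hF U.2
  obtain ⟨n, f, hf⟩ := Module.Finite.exists_fin (R := Γ(X, U.1)) (M := Γ(F, U.1))
  obtain ⟨a, rfl⟩ := ComplPull.span_ehat h𝔛 p hp F U.2 f hf (ComplMonoEpi.isCoh_pullSys p hp hF) x
  show secMap h𝔛.1 (ComplExact.cmpMap h𝔛 p hp φ) (ComplSec.pre p U.1) _ = secMap h𝔛.1 Ψ (ComplSec.pre p U.1) _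
  refine (map_sum (secMap h𝔛.1 (ComplExact.cmpMap h𝔛 p hp φ) (ComplSec.pre p U.1)) _ _).trans
    (Eq.trans ?_ (map_sum (secMap h𝔛.1 Ψ (ComplSec.pre p U.1)) _ _).symm)
  exact Finset.sum_congr rfl fun i _ => (map_smul _ _ _).trans
    ((congrArg (a i • ·) (key U.1 U.2 (f i))).trans (map_smul _ _ _).symm)

end Groth.Agent.H30.ComplHom
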