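import Groth.Agent.H30.FSch.CohSys
import Groth.Agent.S3854
import Groth.Agent.Lib.CohDelta.Units

/-!
# Sections of the completion of a module on the preimage of an affine open (helper30)
-/

set_option autoImplicit false
set_option linter.style.haveILetI false

universe u

open CategoryTheory CategoryTheory.Limits AlgebraicGeometry TopologicalSpace Opposite
open Groth.Agent.H30 Groth.Agent.H30.RealLimSec
open Groth.Agent.Lib Groth.Agent.Lib.CohDelta.Units

namespace Groth.Agent.H30.ComplSec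

variable {X : Scheme.{u}} {𝔛 : FSch.Sys.{u}} (h : 𝔛.IsFormal) (p : ∀ n, 𝔛.X n ⟶ X)
  (hp : ∀ n, 𝔛.ι n ≫ p (n + 1) = p n)

/-- The inverse images of a module on the levels, as a system. -/
noncomputable def pullSys (F : X.Modules) : FSch.ModSys 𝔛 where
  F n := (Scheme.Modules.pullback (p n)).obj F
  e n := (Scheme.Modules.pullbackComp (𝔛.ι n) (p (n + 1)) ≪≫
    Scheme.Modules.pullbackCongr (hp n)).app F

theorem pullSys_map_comm {F G : X.Modules} (φ : F ⟶ G) (n : ℕ) :
    (Scheme.Modules.pullback (𝔛.ι n)).map ((Scheme.Modules.pullback (p (n + 1))).map φ) ≫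
        ((pullSys p hp G).e n).hom =
      ((pullSys p hp F).e n).hom ≫ (Scheme.Modules.pullback (p n)).map φ :=
  (Scheme.Modules.pullbackComp (𝔛.ι n) (p (n + 1)) ≪≫
    Scheme.Modules.pullbackCongr (hp n)).hom.naturality φ

/-- The map of systems of inverse images. -/
noncomputable def pullSysMap {F G : X.Modules} (φ : F ⟶ G) : pullSys p hp F ⟶ pullSys p hp G :=
  ⟨fun n => (Scheme.Modules.pullback (p n)).map φ, fun n => pullSys_map_comm p hp φ n⟩

/-- The trace of an open of `X` on the common space. -/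
noncomputable abbrev pre (U : X.Opens) : (𝔛.X 0).Opens := p 0 ⁻¹ᵁ U

include hp in
theorem lvU_pre (k : ℕ) (U : X.Opens) : 𝔛.lvU h k (pre p U) = p k ⁻¹ᵁ U :=
  (FSch.lvU_p 𝔛 h p hp k U).symm

theorem isAffineOpen_pre [IsAffineHom (p 0)] {U : X.Opens} (hU : IsAffineOpen U) :
    IsAffineOpen (pre p U) :=
  hU.preimage _

theorem isBasis_pre [IsClosedImmersion (p 0)] :
    Opens.IsBasis (Set.range fun U : X.affineOpens => pre p U.1) := by
  rw [Opens.isBasis_iff_nbhd]
  intro O x hx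
  obtain ⟨O', hO', e⟩ := (p 0).isClosedEmbedding.isEmbedding.isInducing.isOpen_iff.1 O.2
  have hxO : (p 0).base x ∈ O' := by
    have : x ∈ (p 0).base ⁻¹' O' := e.symm ▸ hx
    exact this
  obtain ⟨U, hU, hxU, hUO⟩ := Opens.isBasis_iff_nbhd.1 X.isBasis_affineOpens
    (show (p 0).base x ∈ (⟨O', hO'⟩ : X.Opens) from hxO)
  refine ⟨_, ⟨⟨U, hU⟩, rfl⟩, hxU, fun y hy => ?_⟩
  have : y ∈ (p 0).base ⁻¹' O' := hUO hy
  show y ∈ O.carrier
  rw [← e]
  exact this

/-- Units along a factorisation, after restriction. -/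
theorem res_trans_eta {Z₀ Z₁ X : Scheme.{u}} (ι : Z₀ ⟶ Z₁) (p₁ : Z₁ ⟶ X) (p₀ : Z₀ ⟶ X)
    (hp : ι ≫ p₁ = p₀) (F : X.Modules) (U : X.Opens) (m : Γ(F, U)) (V₁ : Z₁.Opens) (V₀ : Z₀.Opens)
    (h₁ : V₁ ≤ p₁ ⁻¹ᵁ U) (h₀ : V₀ ≤ ι ⁻¹ᵁ V₁) (h₀' : V₀ ≤ p₀ ⁻¹ᵁ U) :
    ((Scheme.Modules.pullback p₀).obj F).presheaf.map (homOfLE h₀).op
      (((Scheme.Modules.pullbackComp ι p₁ ≪≫ Scheme.Modules.pullbackCongr hp).app F).hom.app (ι ⁻¹ᵁ V₁)
        (((Scheme.Modules.pullbackPushforwardAdjunction ι).unit.app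
          ((Scheme.Modules.pullback p₁).obj F)).app V₁
          (((Scheme.Modules.pullback p₁).obj F).presheaf.map (homOfLE h₁).op (eta p₁ F U m)))) =
      ((Scheme.Modules.pullback p₀).obj F).presheaf.map (homOfLE h₀').op (eta p₀ F U m) := by
  subst hp
  have h1 : ((Scheme.Modules.pullbackPushforwardAdjunction ι).unit.app
      ((Scheme.Modules.pullback p₁).obj F)).app V₁
      (((Scheme.Modules.pullback p₁).obj F).presheaf.map (homOfLE h₁).op (eta p₁ F U m)) =
      ((Scheme.Modules.pullback ι).obj ((Scheme.Modules.pullback p₁).obj F)).presheaf.map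
        (homOfLE (ι.preimage_mono h₁)).op
        (eta ι ((Scheme.Modules.pullback p₁).obj F) (p₁ ⁻¹ᵁ U) (eta p₁ F U m)) :=
    ((Scheme.Modules.pullbackPushforwardAdjunction ι).unit.app
      ((Scheme.Modules.pullback p₁).obj F)).mapPresheaf.naturality_apply
      (homOfLE h₁).op (eta p₁ F U m)
  have h2 : ((Scheme.Modules.pullbackComp ι p₁ ≪≫ Scheme.Modules.pullbackCongr
      (rfl : ι ≫ p₁ = ι ≫ p₁)).app F).hom = (Scheme.Modules.pullbackComp ι p₁).hom.app F := by
    simp [Scheme.Modules.pullbackCongr]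
  rw [h2, h1]
  refine (congrArg _ (((Scheme.Modules.pullbackComp ι p₁).hom.app F).mapPresheaf.naturality_apply
    (homOfLE (ι.preimage_mono h₁)).op _)).trans ?_
  refine (CohDelta.Units.map_map _ _ _ (homOfLE h₀').op _).trans ?_
  exact congrArg _ (comp_eta ι p₁ F U m)

section Sigma

variable (F : X.Modules)

/-- The image in level `k` of a section of `F`. -/
noncomputable def σ (k : ℕ) (U : X.Opens) :
    Γ(F, U) →+ lev h (pullSys p hp F).F k (pre p U) :=
  (((pullSys p hp F).F k).presheaf.map (homOfLE (lvU_pre h p hp k U).le).op).hom.comp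
    (((Scheme.Modules.pullbackPushforwardAdjunction (p k)).unit.app F).app U).hom

theorem σ_apply (k : ℕ) (U : X.Opens) (m : Γ(F, U)) :
    σ h p hp F k U m = ((pullSys p hp F).F k).presheaf.map (homOfLE (lvU_pre h p hp k U).le).op
      (eta (p k) F U m) := rfl

theorem σ_map {G : X.Modules} (φ : F ⟶ G) (k : ℕ) (U : X.Opens) (m : Γ(F, U)) :
    σ h p hp G k U (φ.app U m) =
      ((pullSysMap p hp φ).app k).app (𝔛.lvU h k (pre p U)) (σ h p hp F k U m) := by
  rw [σ_apply, σ_apply, ← eta_map]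
  exact (((pullSysMap p hp φ).app k).mapPresheaf.naturality_apply
    (homOfLE (lvU_pre h p hp k U).le).op (eta (p k) F U m)).symm

theorem tr_σ (h𝔛 : 𝔛.IsLocNoethFormal) (k : ℕ) (U : X.Opens) (m : Γ(F, U)) :
    tr h (pullSys p hp F).F (pullSys p hp F).toPush k (pre p U) (σ h p hp F (k + 1) U m) =
      σ h p hp F k U m :=
  (CohSys.tr_eq h𝔛 (pullSys p hp F) k (σ h p hp F (k + 1) U m)).trans
    (res_trans_eta (𝔛.ι k) (p (k + 1)) (p k) (hp k) F U m _ _ (lvU_pre h p hp (k + 1) U).le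
      (𝔛.lvU_le h k (pre p U)) (lvU_pre h p hp k U).le)

variable [∀ k, IsClosedImmersion (p k)] [F.IsQuasicoherent]

theorem σ_surjective (k : ℕ) {U : X.Opens} (hU : IsAffineOpen U) :
    Function.Surjective (σ h p hp F k U) :=
  (CohSys.restrict_bijective _ (lvU_pre h p hp k U).le (lvU_pre h p hp k U).ge).2.comp
    (UnitKernel.unit_app_surjective (p k) F hU)

theorem σ_eq_zero_iff (k : ℕ) {U : X.Opens} (hU : IsAffineOpen U) (m : Γ(F, U)) :
    σ h p hp F k U m = 0 ↔
      m ∈ (p k).ker.ideal ⟨U, hU⟩ • (⊤ : Submodule Γ(X, U) Γ(F, U)) := by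
  rw [← UnitKernel.unit_app_eq_zero_iff (p k) F hU m]
  constructor
  · intro hm
    exact (CohSys.restrict_bijective _ (lvU_pre h p hp k U).le (lvU_pre h p hp k U).ge).1
      (hm.trans (map_zero _).symm)
  · intro hm
    rw [σ_apply]
    exact (congrArg _ hm).trans (map_zero _)

end Sigma

/-- The map on sections is computed levelwise. -/
theorem π_map {F G : X.Modules} (φ : F ⟶ G) (k : ℕ) (V : (𝔛.X 0).Opens)
    (x : sec h ((pullSys p hp F).realMod h) V) :
    π h (pullSys p hp G).F (pullSys p hp G).toPush k V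
        (secMap h (FSch.ModSys.realModMap h (pullSysMap p hp φ)) V x) =
      ((pullSysMap p hp φ).app k).app (𝔛.lvU h k V)
        (π h (pullSys p hp F).F (pullSys p hp F).toPush k V x) :=
  congrArg (fun ψ => secMap h ψ V x) (FSch.realLimMap_realProj 𝔛 h
    (pullSysMap p hp φ).app (FSch.ModSys.Hom.toPush_comm (pullSysMap p hp φ)) k)

theorem ker_completionToX (X : Scheme.{u}) (𝓘 : X.IdealSheafData) (k : ℕ) (U : X.affineOpens) :
    (FSch.completionToX X 𝓘 k).ker.ideal U = 𝓘.ideal U ^ (k + 1) := by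
  rw [show (FSch.completionToX X 𝓘 k).ker = 𝓘 ^ (k + 1) from
    Scheme.IdealSheafData.ker_subschemeι (𝓘 ^ (k + 1)), Scheme.IdealSheafData.ideal_pow,
    Pi.pow_apply]

theorem complMod_eq (X : Scheme.{u}) (𝓘 : X.IdealSheafData) (F : X.Modules) :
    FSch.complMod 𝓘 F = pullSys (FSch.completionToX X 𝓘) (FSch.completionToX_comm X 𝓘) F := rfl

end Groth.Agent.H30.ComplSec
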