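import Groth.Agent.Lib.CohDelta.QCohR

/-!
# Locally bijective comparisons out of qcqs cohomology over affine opens of the base (helper30)
-/

set_option autoImplicit false
set_option linter.style.haveILetI false
set_option maxHeartbeats 1000000

universe u

open CategoryTheory CategoryTheory.Limits AlgebraicGeometry TopologicalSpace Opposite
open CategoryTheory.Abelian
open Groth.Agent.Lib Groth.Agent.Lib.ZarCoh.Basic Groth.Agent.Lib.ZarCoh.Compare
open Groth.Agent.Lib.CohDelta Groth.Agent.Lib.CohDelta.QCohR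

namespace Groth.Agent.H30.GlueAff

section Alg

variable {A A' B B' C C' : Type u} [AddCommGroup A] [AddCommGroup A'] [AddCommGroup B] [AddCommGroup B']
  [AddCommGroup C] [AddCommGroup C'] (a : A ≃+ B) (a' : A' ≃+ B') (e : B →+ C) (e' : B' →+ C')

/-- A homomorphism after an isomorphism. -/
def compE : A →+ C := e.comp a.toAddMonoidHom

theorem natG (r : A → A') (r' : B → B') (res : C → C') (h1 : ∀ x, a' (r x) = r' (a x))
    (h2 : ∀ y, e' (r' y) = res (e y)) (x : A) :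
    compE a' e' (r x) = res (compE a e x) :=
  (congrArg e' (h1 x)).trans (h2 (a x))

theorem surjG (z : B') (c : C') (h : e' z = c) : ∃ x, compE a' e' x = c :=
  ⟨a'.symm z, (congrArg e' (a'.apply_symm_apply z)).trans h⟩

theorem injG (r : A → A') (r' : B → B') (h1 : ∀ x, a' (r x) = r' (a x)) (x : A) (h : r' (a x) = 0) : r x = 0 :=
  a'.injective ((h1 x).trans (h.trans (map_zero a').symm))

theorem compG (x : A) (h : compE a e x = 0) : e (a x) = 0 := h

end Alg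

variable {X S : Scheme.{u}} {f : X ⟶ S} {M : X.Modules} {p : ℕ}
  {G : CohTop.Ab S.toPresheafedSpace.carrier} (E : Glue.Cmp f M p G) (V : S.Opens)

theorem toAb_restrict (V : S.Opens) :
    (rV X (f ⁻¹ᵁ V)).obj (Coh.toAb M) = Coh.toAb (M.restrict (f ⁻¹ᵁ V).ι) := rfl

/-- Comparison data from those on an equal sheaf. -/
noncomputable def cmpOf {X' S' : Scheme.{u}} {f' : X' ⟶ S'} {M' : X'.Modules}
    {G' : CohTop.Ab S'.toPresheafedSpace.carrier} {F : CohTop.Ab X'.toPresheafedSpace.carrier}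
    (h : F = Coh.toAb M') (e : ∀ W : S'.Opens, Ext.{u} (Zs.obj (f' ⁻¹ᵁ W)) F p →+ G'.obj.obj (op W))
    (nat : ∀ {V W : S'.Opens} (h : W ≤ V) (x : Ext.{u} (Zs.obj (f' ⁻¹ᵁ V)) F p),
      e W (rs F p (f'.preimage_mono h) x) = G'.obj.map (homOfLE h).op (e V x))
    (surj : ∀ (V : S'.Opens) (t : G'.obj.obj (op V)) (y : S'), y ∈ V →
      ∃ (W : S'.Opens) (h : W ≤ V), y ∈ W ∧ ∃ x, e W x = G'.obj.map (homOfLE h).op t)
    (inj : ∀ (V : S'.Opens) (x : Ext.{u} (Zs.obj (f' ⁻¹ᵁ V)) F p), e V x = 0 → ∀ y : S', y ∈ V →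
      ∃ (W : S'.Opens) (h : W ≤ V), y ∈ W ∧ rs F p (f'.preimage_mono h) x = 0) :
    Glue.Cmp f' M' p G' := by
  subst h
  exact ⟨e, @nat, surj, inj⟩

/-- The comparison over an open. -/
noncomputable def restr : Glue.Cmp (f ∣_ V) (M.restrict (f ⁻¹ᵁ V).ι) p ((rV S V).obj G) :=
  cmpOf (F := (rV X (f ⁻¹ᵁ V)).obj (Coh.toAb M)) (toAb_restrict V) (fun W => compE (al f V (Coh.toAb M) p W) (E.e (V.ι ''ᵁ W)))
  (fun {W W'} h x =>
    natG (al f V (Coh.toAb M) p W) (al f V (Coh.toAb M) p W') (E.e (V.ι ''ᵁ W)) (E.e (V.ι ''ᵁ W')) _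
      (rs (Coh.toAb M) p (f.preimage_mono (V.ι.image_mono h))) _
      (fun z => Bridge.alpha_rs (T := TT f V) (emb f V) (Coh.toAb M) p ((f ∣_ V).preimage_mono h)
        (image_morphismRestrict_preimage f V W) (image_morphismRestrict_preimage f V W')
        (f.preimage_mono (V.ι.image_mono h)) z)
      (fun z => E.nat (V.ι.image_mono h) z) x)
  (fun W t y hy => by
    obtain ⟨W₁, h₁, hy₁, z, hz⟩ := E.surj (V.ι ''ᵁ W) t (V.ι y) ⟨y, hy, rfl⟩
    have h₂ : V.ι ⁻¹ᵁ W₁ ≤ W :=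
      (V.ι.preimage_mono h₁).trans (le_of_eq (V.ι.preimage_image_eq W))
    have h₃ : V.ι ''ᵁ (V.ι ⁻¹ᵁ W₁) ≤ W₁ := V.ι.image_preimage_le W₁
    refine ⟨V.ι ⁻¹ᵁ W₁, h₂, hy₁, surjG (al f V (Coh.toAb M) p (V.ι ⁻¹ᵁ W₁)) (E.e (V.ι ''ᵁ (V.ι ⁻¹ᵁ W₁)))
      (rs (Coh.toAb M) p (f.preimage_mono h₃) z) _ ?_⟩
    refine (E.nat h₃ z).trans ((congrArg _ hz).trans ?_)
    exact Groth.Agent.Lib.CohDelta.Units.map_map G.obj (homOfLE h₁).op (homOfLE h₃).op
      (V.ι.opensFunctor.map (homOfLE h₂)).op t)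
  (fun W x hx y hy => by
    obtain ⟨W₁, h₁, hy₁, hz⟩ := E.inj (V.ι ''ᵁ W) (al f V (Coh.toAb M) p W x)
      (compG (al f V (Coh.toAb M) p W) (E.e (V.ι ''ᵁ W)) x hx) (V.ι y) ⟨y, hy, rfl⟩
    have h₂ : V.ι ⁻¹ᵁ W₁ ≤ W :=
      (V.ι.preimage_mono h₁).trans (le_of_eq (V.ι.preimage_image_eq W))
    have h₃ : V.ι ''ᵁ (V.ι ⁻¹ᵁ W₁) ≤ W₁ := V.ι.image_preimage_le W₁
    refine ⟨V.ι ⁻¹ᵁ W₁, h₂, hy₁, injG (al f V (Coh.toAb M) p W) (al f V (Coh.toAb M) p (V.ι ⁻¹ᵁ W₁)) _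
      (rs (Coh.toAb M) p (f.preimage_mono (V.ι.image_mono h₂)))
      (fun z => Bridge.alpha_rs (T := TT f V) (emb f V) (Coh.toAb M) p ((f ∣_ V).preimage_mono h₂)
        (image_morphismRestrict_preimage f V W) (image_morphismRestrict_preimage f V _)
        (f.preimage_mono (V.ι.image_mono h₂)) z) x ?_⟩
    refine Eq.trans ?_ ((congrArg (rs _ p (f.preimage_mono h₃)) hz).trans (map_zero _))
    exact (Loc.rs_rs M (f.preimage_mono h₁) (f.preimage_mono h₃) _).symm)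

variable {V}

include E in
/-- Over an affine open the comparison is bijective. -/
theorem bijective [QuasiCompact f] [QuasiSeparated f] [M.IsQuasicoherent] (hV : IsAffineOpen V) :
    Function.Bijective (E.e V) := by
  haveI : IsAffine (V : Scheme.{u}) := hV
  have h := Glue.bijective_top (f ∣_ V) (M.restrict (f ⁻¹ᵁ V).ι) (restr E V)
  have h2 : Function.Bijective (E.e (V.ι ''ᵁ ⊤)) :=
    (Function.Bijective.of_comp_iff _ (al f V (Coh.toAb M) p ⊤).bijective).1 h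
  rwa [V.ι_image_top] at h2

end Groth.Agent.H30.GlueAff
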