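import Groth.Agent.H78.Rees.Graded
import Groth.Agent.Lib.MLSeq.Basic
import Mathlib.Algebra.Homology.DerivedCategory.Ext.ExactSequences
import Mathlib.CategoryTheory.Abelian.Refinements

/-!
# Mittag-Leffler from stability of the graded pieces (helper30)
-/

set_option autoImplicit false
set_option linter.unusedSectionVars false

universe v u

open CategoryTheory CategoryTheory.Limits CategoryTheory.Abelian Opposite
open Groth.Agent.Lib

namespace Groth.Agent.H30.MLGr

variable {C : Type v} [Category.{u} C] [Abelian C] [HasExt.{u} C] (G : ℕᵒᵖ ⥤ C)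

/-- Transition maps. -/
noncomputable abbrev t {j l : ℕ} (h : j ≤ l) : G.obj (op l) ⟶ G.obj (op j) := G.map (homOfLE h).op

theorem t_t {i j l : ℕ} (h : i ≤ j) (h' : j ≤ l) : t G h' ≫ t G h = t G (h.trans h') :=
  (G.map_comp _ _).symm

/-- The kernel of a transition map. -/
noncomputable abbrev K {j l : ℕ} (h : j ≤ l) : C := kernel (t G h)

/-- Inclusion of kernels. -/
noncomputable def incl {i j l : ℕ} (h : i ≤ j) (h' : j ≤ l) : K G h' ⟶ K G (h.trans h') :=
  kernel.lift _ (kernel.ι _) (by rw [← t_t G h h', kernel.condition_assoc, zero_comp])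

@[reassoc (attr := simp)]
theorem incl_ι {i j l : ℕ} (h : i ≤ j) (h' : j ≤ l) :
    incl G h h' ≫ kernel.ι (t G (h.trans h')) = kernel.ι (t G h') :=
  kernel.lift_ι _ _ _

/-- Projection of kernels. -/
noncomputable def proj {i j l : ℕ} (h : i ≤ j) (h' : j ≤ l) : K G (h.trans h') ⟶ K G h :=
  kernel.lift _ (kernel.ι _ ≫ t G h') (by rw [Category.assoc, t_t, kernel.condition])

@[reassoc (attr := simp)]
theorem proj_ι {i j l : ℕ} (h : i ≤ j) (h' : j ≤ l) :
    proj G h h' ≫ kernel.ι (t G h) = kernel.ι (t G (h.trans h')) ≫ t G h' :=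
  kernel.lift_ι _ _ _

variable (hepi : ∀ l : ℕ, Epi (t G (Nat.le_succ l)))

/-- The sequence of a step. -/
noncomputable def seq (l : ℕ) : ShortComplex C :=
  ShortComplex.mk (kernel.ι (t G (Nat.le_succ l))) (t G (Nat.le_succ l)) (kernel.condition _)

include hepi in
theorem seq_shortExact (l : ℕ) : (seq G l).ShortExact :=
  { exact := ShortComplex.exact_of_f_is_kernel _ (kernelIsKernel _)
    mono_f := inferInstanceAs (Mono (kernel.ι _))
    epi_g := hepi l }

/-- The sequence of kernels of a step. -/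
noncomputable def seqK {j l : ℕ} (h : j ≤ l) : ShortComplex C :=
  ShortComplex.mk (incl G h (Nat.le_succ l)) (proj G h (Nat.le_succ l)) (by
    rw [← cancel_mono (kernel.ι (t G h)), Category.assoc, proj_ι, incl_ι_assoc, kernel.condition, zero_comp])

include hepi in
theorem seqK_shortExact {j l : ℕ} (h : j ≤ l) : (seqK G h).ShortExact := by
  haveI := hepi l
  haveI : Mono (seqK G h).f := by
    show Mono (incl G h (Nat.le_succ l))
    haveI : Mono (incl G h (Nat.le_succ l) ≫ kernel.ι (t G (h.trans (Nat.le_succ l)))) := by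
      rw [incl_ι]
      infer_instance
    exact mono_of_mono _ (kernel.ι (t G (h.trans (Nat.le_succ l))))
  haveI : Epi (seqK G h).g := by
    rw [epi_iff_surjective_up_to_refinements]
    intro A (x : A ⟶ K G h)
    obtain ⟨A', π, hπ, y, hy⟩ :=
      surjective_up_to_refinements_of_epi (t G (Nat.le_succ l)) (x ≫ kernel.ι (t G h))
    refine ⟨A', π, hπ, kernel.lift _ y ?_, ?_⟩
    · rw [← t_t G h (Nat.le_succ l), ← Category.assoc, ← hy, Category.assoc, Category.assoc, kernel.condition,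
        comp_zero, comp_zero]
    · show π ≫ x = kernel.lift _ y _ ≫ proj G h (Nat.le_succ l)
      rw [← cancel_mono (kernel.ι (t G h)), Category.assoc, Category.assoc, proj_ι, kernel.lift_ι_assoc]
      exact hy
  refine { exact := ShortComplex.exact_of_f_is_kernel _ ?_ }
  refine KernelFork.IsLimit.ofι' _ _ fun {W} (k : W ⟶ K G (h.trans (Nat.le_succ l))) hk => ?_
  have hk' : (k ≫ kernel.ι (t G (h.trans (Nat.le_succ l)))) ≫ t G (Nat.le_succ l) = 0 := by
    rw [Category.assoc, ← proj_ι G h (Nat.le_succ l), ← Category.assoc,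
      show k ≫ proj G h (Nat.le_succ l) = 0 from hk, zero_comp]
  refine ⟨kernel.lift _ _ hk', ?_⟩
  show _ ≫ incl G h (Nat.le_succ l) = _
  rw [← cancel_mono (kernel.ι (t G (h.trans (Nat.le_succ l)))), Category.assoc, incl_ι, kernel.lift_ι]

/-- The map from the sequence of kernels. -/
noncomputable def seqMap {j l : ℕ} (h : j ≤ l) : seqK G h ⟶ seq G l where
  τ₁ := 𝟙 _
  τ₂ := kernel.ι _
  τ₃ := kernel.ι _
  comm₁₂ := (Category.id_comp _).trans (incl_ι G h (Nat.le_succ l)).symm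
  comm₂₃ := (proj_ι G h (Nat.le_succ l)).symm

variable (P : C) (q c : ℕ)

include hepi in
/-- A class at a late level lifts, after a modification invisible at earlier levels. -/
theorem exists_lift
    (hc : ∀ (l : ℕ), c < l → ∀ (w : Ext P (K G (Nat.le_succ l)) (q + 1)),
      w.comp (Ext.mk₀ (kernel.ι (t G (Nat.le_succ l)))) (add_zero _) = 0 →
        w.comp (Ext.mk₀ (incl G (Nat.sub_le l c) (Nat.le_succ l))) (add_zero _) = 0)
    {j l : ℕ} (hjl : j + c < l) (x : Ext P (G.obj (op l)) q) :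
    ∃ z : Ext P (G.obj (op (l + 1))) q,
      z.comp (Ext.mk₀ (t G (show j ≤ l + 1 by omega))) (add_zero q) =
        x.comp (Ext.mk₀ (t G (show j ≤ l by omega))) (add_zero q) := by
  let j' := l - c
  have hS := seq_shortExact G hepi l
  have hT := seqK_shortExact G hepi (Nat.sub_le l c)
  let δ : Ext (G.obj (op l)) (K G (Nat.le_succ l)) 1 := hS.extClass
  let δ' : Ext (K G (Nat.sub_le l c)) (K G (Nat.le_succ l)) 1 := hT.extClass
  have hδ : δ.comp (Ext.mk₀ (kernel.ι (t G (Nat.le_succ l)))) (add_zero 1) = 0 := hS.extClass_comp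
  have hw : (x.comp δ (rfl : q + 1 = q + 1)).comp (Ext.mk₀ (kernel.ι (t G (Nat.le_succ l)))) (add_zero (q + 1)) = 0 := by
    rw [Ext.comp_assoc_of_third_deg_zero, hδ, Ext.comp_zero]
  obtain ⟨v, hv⟩ : ∃ v : Ext P (K G (Nat.sub_le l c)) q, v.comp δ' (rfl : q + 1 = q + 1) = x.comp δ rfl :=
    Ext.covariant_sequence_exact₁ P hT (x.comp δ rfl) (hc l (by omega) (x.comp δ rfl) hw) rfl
  have hnat : (Ext.mk₀ (kernel.ι (t G (Nat.sub_le l c)))).comp δ (zero_add 1) = δ' :=
    (ShortComplex.ShortExact.extClass_naturality hT hS (seqMap G (Nat.sub_le l c))).symm.trans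
      (Ext.comp_mk₀_id _)
  have hx : (x - v.comp (Ext.mk₀ (kernel.ι (t G (Nat.sub_le l c)))) (add_zero q)).comp δ
      (rfl : q + 1 = q + 1) = 0 := by
    rw [sub_eq_add_neg, Ext.add_comp, Ext.neg_comp, Ext.comp_assoc_of_second_deg_zero, hnat, hv, add_neg_cancel]
  obtain ⟨z, hz⟩ : ∃ z : Ext P (G.obj (op (l + 1))) q, z.comp (Ext.mk₀ (t G (Nat.le_succ l))) (add_zero q) =
      x - v.comp (Ext.mk₀ (kernel.ι (t G (Nat.sub_le l c)))) (add_zero q) :=
    Ext.covariant_sequence_exact₃ P hS _ rfl hx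
  refine ⟨z, ?_⟩
  rw [← t_t G (show j ≤ l by omega) (Nat.le_succ l), ← Ext.mk₀_comp_mk₀,
    ← Ext.comp_assoc_of_second_deg_zero, hz, sub_eq_add_neg, Ext.add_comp, Ext.neg_comp,
    Ext.comp_assoc_of_second_deg_zero, Ext.mk₀_comp_mk₀,
    ← t_t G (show j ≤ l - c by omega) (Nat.sub_le l c), kernel.condition_assoc, zero_comp, Ext.mk₀_zero,
    Ext.comp_zero, neg_zero, add_zero]

include hepi in
/-- The Mittag-Leffler condition. -/
theorem ml_of_stab
    (hc : ∀ (l : ℕ), c < l → ∀ (w : Ext P (K G (Nat.le_succ l)) (q + 1)),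
      w.comp (Ext.mk₀ (kernel.ι (t G (Nat.le_succ l)))) (add_zero _) = 0 →
        w.comp (Ext.mk₀ (incl G (Nat.sub_le l c) (Nat.le_succ l))) (add_zero _) = 0) :
    MLSeq.Basic.ML (G ⋙ extFunctorObj.{u} P q) := by
  have key : ∀ (j : ℕ) (d : ℕ) (x : Ext P (G.obj (op (j + (c + 1)))) q),
      ∃ z : Ext P (G.obj (op (j + (c + 1) + d))) q,
        z.comp (Ext.mk₀ (t G (show j ≤ j + (c + 1) + d by omega))) (add_zero q) =
          x.comp (Ext.mk₀ (t G (Nat.le_add_right j (c + 1)))) (add_zero q) := by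
    intro j d
    induction d with
    | zero => exact fun x => ⟨x, rfl⟩
    | succ d ih =>
      intro x
      obtain ⟨z, hz⟩ := ih x
      obtain ⟨z', hz'⟩ := exists_lift G hepi P q c hc (show j + c < j + (c + 1) + d by omega) z
      exact ⟨z', hz'.trans hz⟩
  intro j
  refine ⟨j + (c + 1), Nat.le_add_right j (c + 1), fun k hjk x => ?_⟩
  rcases Nat.le_total k (j + (c + 1)) with h | h
  · refine AddMonoidHom.mem_range.2 ⟨Ext.comp x (Ext.mk₀ (t G h)) (add_zero q), ?_⟩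
    show Ext.comp (Ext.comp x (Ext.mk₀ (t G h)) (add_zero q)) (Ext.mk₀ (t G hjk)) (add_zero q) =
      Ext.comp x (Ext.mk₀ (t G (Nat.le_add_right j (c + 1)))) (add_zero q)
    rw [Ext.comp_assoc_of_second_deg_zero, Ext.mk₀_comp_mk₀, t_t]
  · obtain ⟨d, rfl⟩ := Nat.exists_eq_add_of_le h
    obtain ⟨z, hz⟩ := key j d x
    exact AddMonoidHom.mem_range.2 ⟨z, hz⟩

end Groth.Agent.H30.MLGr

namespace Groth.Agent.H30.ChainStab

open Groth.Agent.H78.Rees

variable {R : Type v} [CommRing R] [IsNoetherianRing R] {r : ℕ} {M : ℕ → Type u} [∀ n, AddCommGroup (M n)]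
  [∀ n, Module R (M n)] [∀ n, Module.Finite R (M n)]

/-- An increasing chain of stable sequences of submodules becomes constant. -/
theorem chain_stab (x : Fin r → ∀ n, M n →ₗ[R] M (n + 1))
    (hcomm : ∀ i j n (m : M n), x i (n + 1) (x j n m) = x j (n + 1) (x i n m)) {N : ℕ}
    (hgen : ∀ n, N ≤ n → (⊤ : Submodule R (M (n + 1))) ≤ ⨆ i, LinearMap.range (x i n))
    (D : ℕ → ∀ n, Submodule R (M n)) (hmono : ∀ n, Monotone fun m => D m n)
    (hD : ∀ m i n, (D m n).map (x i n) ≤ D m (n + 1)) :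
    ∃ c, ∀ n m, D m n ≤ D c n := by
  obtain ⟨N', hN'⟩ := Graded.sub_generated x hcomm hgen (fun n => ⨆ m, D m n) fun i n a ha => by
    refine (show (⨆ m, D m n).map (x i n) ≤ ⨆ m, D m (n + 1) from ?_) (Submodule.mem_map_of_mem ha)
    rw [Submodule.map_iSup]
    exact iSup_mono fun m => hD m i n
  choose c₀ hc₀ using fun n =>
    (monotone_stabilizes_iff_noetherian (R := R) (M := M n)).2
      (isNoetherian_of_isNoetherianRing_of_finite R (M n)) ⟨fun m => D m n, hmono n⟩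
  let c := (Finset.range (N' + 1)).sup c₀
  refine ⟨c, fun n => ?_⟩
  have key : ⨆ m, D m n ≤ D c n := by
    induction n with
    | zero =>
      refine iSup_le fun m => ?_
      have h0 : c₀ 0 ≤ c := Finset.le_sup (f := c₀) (Finset.mem_range.2 (by omega))
      refine (hmono 0 (le_max_left m (c₀ 0))).trans ?_
      show D (max m (c₀ 0)) 0 ≤ D c 0
      exact ((hc₀ 0 _ (le_max_right m (c₀ 0))).symm.trans (hc₀ 0 c h0)).le
    | succ n ih =>
      by_cases hn : N' ≤ n
      · refine (hN' n hn).trans (iSup_le fun i => ?_)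
        exact (Submodule.map_mono ih).trans (hD c i n)
      · refine iSup_le fun m => ?_
        have h0 : c₀ (n + 1) ≤ c := Finset.le_sup (f := c₀) (Finset.mem_range.2 (by omega))
        refine (hmono (n + 1) (le_max_left m (c₀ (n + 1)))).trans ?_
        show D (max m (c₀ (n + 1))) (n + 1) ≤ D c (n + 1)
        exact ((hc₀ (n + 1) _ (le_max_right m (c₀ (n + 1)))).symm.trans (hc₀ (n + 1) c h0)).le
  exact fun m => (le_iSup (fun m => D m n) m).trans key

end Groth.Agent.H30.ChainStab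

namespace Groth.Agent.H30.MLGr

variable {C : Type v} [Category.{u} C] [Abelian C] [HasExt.{u} C] (G : ℕᵒᵖ ⥤ C)
  (hepi : ∀ l : ℕ, Epi (t G (Nat.le_succ l)))

section Mult

variable (σ : G ⟶ G) (hσ : ∀ l : ℕ, kernel.ι (t G (Nat.le_succ l)) ≫ σ.app (op (l + 1)) = 0)

theorem t_app {j l : ℕ} (h : j ≤ l) : t G h ≫ σ.app (op j) = σ.app (op l) ≫ t G h :=
  σ.naturality _

/-- Division of an endomorphism by the transition map. -/
noncomputable def μ (l : ℕ) : G.obj (op l) ⟶ G.obj (op (l + 1)) :=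
  (seq_shortExact G hepi l).gIsCokernel.desc (CokernelCofork.ofπ (σ.app (op (l + 1))) (hσ l))

theorem t_μ (l : ℕ) : t G (Nat.le_succ l) ≫ μ G hepi σ hσ l = σ.app (op (l + 1)) :=
  (seq_shortExact G hepi l).gIsCokernel.fac _ WalkingParallelPair.one

theorem μ_t_one (l : ℕ) : μ G hepi σ hσ l ≫ t G (Nat.le_succ l) = σ.app (op l) := by
  haveI := hepi l
  rw [← cancel_epi (t G (Nat.le_succ l)), ← Category.assoc, t_μ, t_app]

theorem μ_natural {j l : ℕ} (h : j ≤ l) :
    μ G hepi σ hσ l ≫ t G (Nat.succ_le_succ h) = t G h ≫ μ G hepi σ hσ j := by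
  haveI := hepi l
  rw [← cancel_epi (t G (Nat.le_succ l)), ← Category.assoc, t_μ, ← Category.assoc, t_t,
    ← t_t G (Nat.le_succ j) (Nat.succ_le_succ h), Category.assoc, t_μ, t_app]

variable (hσ0 : σ.app (op 0) = 0)

include hσ0 in
theorem μ_t_zero (l : ℕ) : μ G hepi σ hσ l ≫ t G (Nat.zero_le (l + 1)) = 0 := by
  rw [← t_t G (Nat.zero_le 1) (Nat.succ_le_succ (Nat.zero_le l)), ← Category.assoc,
    μ_natural G hepi σ hσ (Nat.zero_le l),
    Category.assoc, show t G (Nat.zero_le 1) = t G (Nat.le_succ 0) from rfl, μ_t_one, hσ0, comp_zero]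

include hσ0 in
theorem μ_t_of_eq_zero (l : ℕ) {j : ℕ} (hj : j = 0) (h : j ≤ l + 1) :
    μ G hepi σ hσ l ≫ t G h = 0 := by
  subst hj
  exact μ_t_zero G hepi σ hσ hσ0 l

/-- On kernels. -/
noncomputable def μK {j l : ℕ} (h : j ≤ l) : K G h ⟶ K G (Nat.succ_le_succ h) :=
  kernel.lift _ (kernel.ι _ ≫ μ G hepi σ hσ l) (by
    rw [Category.assoc, μ_natural G hepi σ hσ h, kernel.condition_assoc, zero_comp])

@[reassoc (attr := simp)]
theorem μK_ι {j l : ℕ} (h : j ≤ l) :
    μK G hepi σ hσ h ≫ kernel.ι (t G (Nat.succ_le_succ h)) = kernel.ι (t G h) ≫ μ G hepi σ hσ l :=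
  kernel.lift_ι _ _ _

/-- An endomorphism on kernels. -/
noncomputable def σK {j l : ℕ} (h : j ≤ l) : K G h ⟶ K G h :=
  kernel.lift _ (kernel.ι _ ≫ σ.app (op l)) (by
    rw [Category.assoc, ← t_app, kernel.condition_assoc, zero_comp])

@[reassoc (attr := simp)]
theorem σK_ι {j l : ℕ} (h : j ≤ l) :
    σK G σ h ≫ kernel.ι (t G h) = kernel.ι (t G h) ≫ σ.app (op l) :=
  kernel.lift_ι _ _ _

end Mult

variable (P : C) (q : ℕ)

/-- The target defining the `m`-th step of the filtration. -/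
noncomputable def inD (l m : ℕ) (w : Ext P (K G (Nat.le_succ l)) (q + 1)) : Prop :=
  (m ≤ l → w.comp (Ext.mk₀ (incl G (Nat.sub_le l m) (Nat.le_succ l))) (add_zero _) = 0) ∧
    (l < m → w.comp (Ext.mk₀ (kernel.ι (t G (Nat.le_succ l)))) (add_zero _) = 0)

theorem inD_iff_le {l m : ℕ} (h : m ≤ l) (w : Ext P (K G (Nat.le_succ l)) (q + 1)) :
    inD G P q l m w ↔ w.comp (Ext.mk₀ (incl G (Nat.sub_le l m) (Nat.le_succ l))) (add_zero _) = 0 :=
  ⟨fun h' => h'.1 h, fun h' => ⟨fun _ => h', fun h'' => absurd h'' (by omega)⟩⟩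

theorem inD_iff_lt {l m : ℕ} (h : l < m) (w : Ext P (K G (Nat.le_succ l)) (q + 1)) :
    inD G P q l m w ↔ w.comp (Ext.mk₀ (kernel.ι (t G (Nat.le_succ l)))) (add_zero _) = 0 :=
  ⟨fun h' => h'.2 h, fun h' => ⟨fun h'' => absurd h'' (by omega), fun _ => h'⟩⟩

theorem incl_incl {i j k l : ℕ} (h : i ≤ j) (h' : j ≤ k) (h'' : k ≤ l) :
    incl G h' h'' ≫ incl G h (h'.trans h'') = incl G (h.trans h') h'' := by
  rw [← cancel_mono (kernel.ι _), Category.assoc, incl_ι, incl_ι, incl_ι]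

theorem inD_mono (l : ℕ) {m m' : ℕ} (h : m ≤ m') (w : Ext P (K G (Nat.le_succ l)) (q + 1))
    (hw : inD G P q l m w) : inD G P q l m' w := by
  refine ⟨fun h' => ?_, fun h' => ?_⟩
  · rw [← incl_incl G (show l - m' ≤ l - m by omega) (Nat.sub_le l m) (Nat.le_succ l), ← Ext.mk₀_comp_mk₀,
      ← Ext.comp_assoc_of_second_deg_zero, hw.1 (by omega), Ext.zero_comp]
  · by_cases h0 : m ≤ l
    · rw [← incl_ι G (Nat.sub_le l m) (Nat.le_succ l), ← Ext.mk₀_comp_mk₀,
        ← Ext.comp_assoc_of_second_deg_zero, hw.1 h0, Ext.zero_comp]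
    · exact hw.2 (by omega)

theorem inD_σ (σ : G ⟶ G) (l m : ℕ) (w : Ext P (K G (Nat.le_succ l)) (q + 1)) (hw : inD G P q l m w) :
    inD G P q l m (w.comp (Ext.mk₀ (σK G σ (Nat.le_succ l))) (add_zero _)) := by
  refine ⟨fun h => ?_, fun h => ?_⟩
  · have e : σK G σ (Nat.le_succ l) ≫ incl G (Nat.sub_le l m) (Nat.le_succ l) =
        incl G (Nat.sub_le l m) (Nat.le_succ l) ≫ σK G σ _ := by
      rw [← cancel_mono (kernel.ι _), Category.assoc, incl_ι, σK_ι, Category.assoc, σK_ι, incl_ι_assoc]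
    rw [Ext.comp_assoc_of_second_deg_zero, Ext.mk₀_comp_mk₀, e, ← Ext.mk₀_comp_mk₀,
      ← Ext.comp_assoc_of_second_deg_zero, hw.1 h, Ext.zero_comp]
  · rw [Ext.comp_assoc_of_second_deg_zero, Ext.mk₀_comp_mk₀, σK_ι, ← Ext.mk₀_comp_mk₀,
      ← Ext.comp_assoc_of_second_deg_zero, hw.2 h, Ext.zero_comp]

theorem μK_incl (σ : G ⟶ G) (hσ : ∀ l : ℕ, kernel.ι (t G (Nat.le_succ l)) ≫ σ.app (op (l + 1)) = 0)
    {j j' l : ℕ} (h : j ≤ l) (h' : j' ≤ j + 1) :
    μK G hepi σ hσ (Nat.le_succ l) ≫ incl G (h'.trans (Nat.succ_le_succ h)) (Nat.le_succ (l + 1)) =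
      incl G h (Nat.le_succ l) ≫ μK G hepi σ hσ (h.trans (Nat.le_succ l)) ≫
        incl G h' (Nat.succ_le_succ (h.trans (Nat.le_succ l))) := by
  rw [← cancel_mono (kernel.ι _)]
  simp only [Category.assoc, incl_ι, μK_ι, incl_ι_assoc]

theorem inD_μ (σ : G ⟶ G) (hσ : ∀ l : ℕ, kernel.ι (t G (Nat.le_succ l)) ≫ σ.app (op (l + 1)) = 0)
    (hσ0 : σ.app (op 0) = 0) (l m : ℕ) (w : Ext P (K G (Nat.le_succ l)) (q + 1)) (hw : inD G P q l m w) :
    inD G P q (l + 1) m (w.comp (Ext.mk₀ (μK G hepi σ hσ (Nat.le_succ l))) (add_zero _)) := by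
  refine ⟨fun h => ?_, fun h => ?_⟩
  · by_cases h0 : m ≤ l
    · rw [Ext.comp_assoc_of_second_deg_zero, Ext.mk₀_comp_mk₀,
        μK_incl G hepi σ hσ (Nat.sub_le l m) (show l + 1 - m ≤ l - m + 1 by omega), ← Ext.mk₀_comp_mk₀,
        ← Ext.comp_assoc_of_second_deg_zero, hw.1 h0, Ext.zero_comp]
    · have e : μK G hepi σ hσ (Nat.le_succ l) ≫ incl G (Nat.sub_le (l + 1) m) (Nat.le_succ (l + 1)) =
          kernel.ι (t G (Nat.le_succ l)) ≫ kernel.lift _ (μ G hepi σ hσ (l + 1)) (by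
            exact μ_t_of_eq_zero G hepi σ hσ hσ0 (l + 1) (show l + 1 - m = 0 by omega) _) := by
        rw [← cancel_mono (kernel.ι _), Category.assoc, incl_ι, μK_ι, Category.assoc, kernel.lift_ι]
      rw [Ext.comp_assoc_of_second_deg_zero, Ext.mk₀_comp_mk₀, e, ← Ext.mk₀_comp_mk₀,
        ← Ext.comp_assoc_of_second_deg_zero, hw.2 (by omega), Ext.zero_comp]
  · rw [Ext.comp_assoc_of_second_deg_zero, Ext.mk₀_comp_mk₀, μK_ι, ← Ext.mk₀_comp_mk₀,
      ← Ext.comp_assoc_of_second_deg_zero, hw.2 (by omega), Ext.zero_comp]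

include hepi in
/-- The Mittag-Leffler condition from graded pieces whose cohomology is finitely generated. -/
theorem ml_of_graded {A : Type u} [CommRing A] [IsNoetherianRing A] (σ : A → (G ⟶ G)) {r : ℕ} (a : Fin r → A)
    (hσ : ∀ (i : Fin r) (l : ℕ), kernel.ι (t G (Nat.le_succ l)) ≫ (σ (a i)).app (op (l + 1)) = 0)
    (hσ0 : ∀ i, (σ (a i)).app (op 0) = 0)
    (M : ℕ → Type u) [∀ l, AddCommGroup (M l)] [∀ l, Module A (M l)] [∀ l, Module.Finite A (M l)]
    (e : ∀ l, M l ≃+ Ext P (K G (Nat.le_succ l)) (q + 1))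
    (he : ∀ (b : A) l (m : M l), e l (b • m) = (e l m).comp (Ext.mk₀ (σK G (σ b) (Nat.le_succ l))) (add_zero _))
    (x : Fin r → ∀ l, M l →ₗ[A] M (l + 1))
    (hx : ∀ i l (m : M l), e (l + 1) (x i l m) =
      (e l m).comp (Ext.mk₀ (μK G hepi (σ (a i)) (hσ i) (Nat.le_succ l))) (add_zero _))
    (hcomm : ∀ i j n (m : M n), x i (n + 1) (x j n m) = x j (n + 1) (x i n m)) {N : ℕ}
    (hgen : ∀ n, N ≤ n → (⊤ : Submodule A (M (n + 1))) ≤ ⨆ i, LinearMap.range (x i n)) :
    MLSeq.Basic.ML (G ⋙ extFunctorObj.{u} P q) := by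
  let D : ℕ → ∀ l, Submodule A (M l) := fun m l =>
    { carrier := {z | inD G P q l m (e l z)}
      zero_mem' := ⟨fun _ => by rw [map_zero, Ext.zero_comp], fun _ => by rw [map_zero, Ext.zero_comp]⟩
      add_mem' := fun {z z'} hz hz' =>
        ⟨fun h => by rw [map_add, Ext.add_comp, hz.1 h, hz'.1 h, add_zero],
          fun h => by rw [map_add, Ext.add_comp, hz.2 h, hz'.2 h, add_zero]⟩
      smul_mem' := fun b z hz => by
        show inD G P q l m (e l (b • z))
        rw [he]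
        exact inD_σ G P q (σ b) l m _ hz }
  obtain ⟨c, hc⟩ := ChainStab.chain_stab x hcomm hgen D (fun l m m' h z hz => inD_mono G P q l h _ hz)
    fun m i l => Submodule.map_le_iff_le_comap.2 fun z hz => by
      show inD G P q (l + 1) m (e (l + 1) (x i l z))
      rw [hx]
      exact inD_μ G hepi P q (σ (a i)) (hσ i) (hσ0 i) l m _ hz
  refine ml_of_stab G hepi P q c fun l hl w hw => ?_
  have h2 := hc l (l + 1) (show (e l).symm w ∈ D (l + 1) l from by
    show inD G P q l (l + 1) (e l ((e l).symm w))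
    rw [AddEquiv.apply_symm_apply]
    exact (inD_iff_lt G P q (Nat.lt_succ_self l) w).2 hw)
  have h3 : inD G P q l c (e l ((e l).symm w)) := h2
  rw [AddEquiv.apply_symm_apply] at h3
  exact h3.1 hl.le

end Groth.Agent.H30.MLGr
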