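import Groth.Agent.H30.FSch.AbBasis
import Groth.Agent.H30.FSch.CohSys
import Groth.Agent.H30.FSch.ComplHom
import Groth.Agent.H30.FSch.MLGr
import Groth.Agent.H30.SysLemmas
import Groth.Agent.H78.Rees.System
import Groth.Agent.Lib.CohDelta.Units
import Groth.Agent.Lib.Cyc.FP.Stalk

/-!
# The graded pieces of a coherent system over an adic base (helper30)
-/

set_option autoImplicit false
set_option linter.style.haveILetI false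
set_option linter.unusedSectionVars false

universe u

open CategoryTheory CategoryTheory.Limits AlgebraicGeometry TopologicalSpace Opposite
open Groth.Agent.H30 Groth.Agent.H30.RealLimSec
open Groth.Agent.Lib

namespace Groth.Agent.H30.GrLevel

/-- The scalar of `a` on an open. -/
noncomputable def res {A : Type u} [CommRing A] {Y : Scheme.{u}} (g : Y ⟶ Spec (CommRingCat.of A))
    (U : Y.Opens) : A →+* Γ(Y, U) :=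
  (Coh.resTop Y (op U)).comp (Coh.toGlobal g)

theorem appLE_res {A : Type u} [CommRing A] {X Y : Scheme.{u}} (i : X ⟶ Y) (g : Y ⟶ Spec (CommRingCat.of A))
    (g' : X ⟶ Spec (CommRingCat.of A)) (w : i ≫ g = g') (U : Y.Opens) (W : X.Opens) (e : W ≤ i ⁻¹ᵁ U)
    (a : A) : i.appLE U W e (res g U a) = res g' W a := by
  subst w
  show (((Scheme.ΓSpecIso (CommRingCat.of A)).inv ≫ g.appTop ≫ Y.presheaf.map (homOfLE le_top).op) ≫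
      i.appLE U W e) a =
    ((Scheme.ΓSpecIso (CommRingCat.of A)).inv ≫ (i ≫ g).appTop ≫ X.presheaf.map (homOfLE le_top).op) a
  refine congrArg (fun φ : CommRingCat.of A ⟶ Γ(X, W) => φ.hom a) (?_ :
    ((Scheme.ΓSpecIso (CommRingCat.of A)).inv ≫ g.appTop ≫ Y.presheaf.map (homOfLE le_top).op) ≫
      i.appLE U W e =
    (Scheme.ΓSpecIso (CommRingCat.of A)).inv ≫ (i ≫ g).appTop ≫ X.presheaf.map (homOfLE le_top).op)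
  rw [Category.assoc, Category.assoc, Scheme.Hom.map_appLE, Scheme.Hom.comp_appTop, Category.assoc,
    show i.appTop = i.app ⊤ from rfl, Scheme.Hom.app_eq_appLE]
  congr 2
  exact (Scheme.Hom.appLE_map _ _ _).symm

theorem exists_kernel_iso {C D : Type*} [Category C] [Category D] [Abelian C] [Abelian D] (F : C ⥤ D)
    [F.PreservesZeroMorphisms] {M N : C} (f : M ⟶ N) [PreservesLimit (parallelPair f 0) F] {R : D}
    (m : F.obj N ⟶ R) [Mono m] (t : F.obj M ⟶ R) (e : t = F.map f ≫ m) :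
    ∃ e' : F.obj (kernel f) ≅ kernel t, e'.hom ≫ kernel.ι t = F.map (kernel.ι f) := by
  subst e
  refine ⟨PreservesKernel.iso F f ≪≫ (kernelCompMono (F.map f) m).symm, ?_⟩
  rw [Iso.trans_hom, Category.assoc, Iso.symm_hom, kernelCompMono_inv, kernel.lift_ι,
    PreservesKernel.iso_hom, kernelComparison_comp_ι]

variable {A : Type u} [CommRing A] (J : Ideal A) {𝔛 : FSch.Sys.{u}} (h𝔛 : 𝔛.IsLocNoethFormal)
  (q : ∀ n, 𝔛.X n ⟶ Spec (CommRingCat.of A)) (hq : ∀ n, 𝔛.ι n ≫ q (n + 1) = q n)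
  (hJ : ∀ n, (𝔛.toX n).ker = (FSch.idealSpec A J).comap (q n))
  (𝔐 : FSch.ModSys 𝔛) (h𝔐 : 𝔐.IsCoh)

include hJ in
theorem ker_toZero (n : ℕ) {V : (𝔛.X 0).Opens} (hV : IsAffineOpen V) :
    RingHom.ker (Levels.toZero 𝔛 h𝔛.1 n V).hom = J.map (res (q n) (𝔛.lvU h𝔛.1 n V)) := by
  haveI := FSch.Sys.toX_isClosedImmersion 𝔛 h𝔛.1 n
  letI : (𝔛.X n).Over (Spec (CommRingCat.of A)) := ⟨q n⟩
  rw [Levels.ker_toZero, ← (𝔛.toX n).ker_apply ⟨_, OshBasic.isAffineOpen_lvU 𝔛 h𝔛.1 n hV⟩, hJ n]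
  exact ComplHom.ideal_idealSpec_comap J ⟨_, OshBasic.isAffineOpen_lvU 𝔛 h𝔛.1 n hV⟩

include hq in
theorem trans_res (n : ℕ) (V : (𝔛.X 0).Opens) (a : A) :
    Levels.trans 𝔛 h𝔛.1 n V (res (q (n + 1)) (𝔛.lvU h𝔛.1 (n + 1) V) a) = res (q n) (𝔛.lvU h𝔛.1 n V) a :=
  appLE_res _ _ _ (hq n) _ _ _ a

theorem res_map (n : ℕ) {U U' : (𝔛.X n).Opens} (e : U' ≤ U) (a : A) :
    (𝔛.X n).presheaf.map (homOfLE e).op (res (q n) U a) = res (q n) U' a :=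
 by
  show ((𝔛.X n).presheaf.map _ ≫ (𝔛.X n).presheaf.map (homOfLE e).op) _ = (𝔛.X n).presheaf.map _ _
  rw [← Functor.map_comp]
  rfl

/-! ### The tower and the scalars -/

/-- The tower of levels as abelian sheaves. -/
noncomputable abbrev G : ℕᵒᵖ ⥤ CohTop.Ab (𝔛.X 0).carrier :=
  FSch.levelSysOf 𝔛 h𝔛.1 𝔐.F 𝔐.toPush ⋙ SheafOfModules.toSheaf _

theorem t_apply (l : ℕ) (V : (𝔛.X 0).Opens) (x : lev h𝔛.1 𝔐.F (l + 1) V) :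
    ((MLGr.t (G h𝔛 𝔐) (Nat.le_succ l)).hom.app (op V)).hom x = tr h𝔛.1 𝔐.F 𝔐.toPush l V x := by
  show secMap h𝔛.1 ((FSch.levelSysOf 𝔛 h𝔛.1 𝔐.F 𝔐.toPush).map (homOfLE (Nat.le_succ l)).op) V x = _
  rw [show homOfLE (Nat.le_succ l) = homOfLE (Nat.le_add_right l 1) from rfl, FSch.levelSysOf_map_succ]
  rfl

include h𝔐 in
theorem hepi (l : ℕ) : Epi (MLGr.t (G h𝔛 𝔐) (Nat.le_succ l)) :=
  AbBasis.epi_of _ {V | IsAffineOpen (V : (𝔛.X 0).Opens)} (Scheme.isBasis_affineOpens _) fun V hV y => by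
    obtain ⟨x, hx⟩ := (CohSys.tr_spec h𝔛 𝔐 h𝔐 hV l).1 y
    exact ⟨x, (t_apply h𝔛 𝔐 l V x).trans hx⟩

/-- The scalar of `a` at level `n`. -/
noncomputable def smulLev (n : ℕ) (a : A) : (G h𝔛 𝔐).obj (op n) ⟶ (G h𝔛 𝔐).obj (op n) :=
  ⟨{ app := fun U => AddCommGrpCat.ofHom
      (AddMonoidHom.mk' (fun x : lev h𝔛.1 𝔐.F n U.unop => (res (q n) (𝔛.lvU h𝔛.1 n U.unop) a •
          (show Γ(𝔐.F n, 𝔛.lvU h𝔛.1 n U.unop) from x) : lev h𝔛.1 𝔐.F n U.unop))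
        fun x y => smul_add (res (q n) (𝔛.lvU h𝔛.1 n U.unop) a)
          (show Γ(𝔐.F n, 𝔛.lvU h𝔛.1 n U.unop) from x) (show Γ(𝔐.F n, 𝔛.lvU h𝔛.1 n U.unop) from y))
     naturality := fun U U' i => by
      refine ConcreteCategory.hom_ext _ _ fun (x : lev h𝔛.1 𝔐.F n U.unop) => ?_
      show res (q n) (𝔛.lvU h𝔛.1 n U'.unop) a • (𝔐.F n).presheaf.map
          (homOfLE (CohPres.lvU_mono h𝔛.1 n (leOfHom i.unop))).op x =
        (𝔐.F n).presheaf.map (homOfLE (CohPres.lvU_mono h𝔛.1 n (leOfHom i.unop))).op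
          (res (q n) (𝔛.lvU h𝔛.1 n U.unop) a • (show Γ(𝔐.F n, 𝔛.lvU h𝔛.1 n U.unop) from x))
      rw [Scheme.Modules.map_smul, res_map] }⟩

include hq in
theorem tr_smul (n : ℕ) (V : (𝔛.X 0).Opens) (a : A) (x : lev h𝔛.1 𝔐.F (n + 1) V) :
    tr h𝔛.1 𝔐.F 𝔐.toPush n V (res (q (n + 1)) (𝔛.lvU h𝔛.1 (n + 1) V) a •
        (show Γ(𝔐.F (n + 1), 𝔛.lvU h𝔛.1 (n + 1) V) from x)) =
      res (q n) (𝔛.lvU h𝔛.1 n V) a • (show Γ(𝔐.F n, 𝔛.lvU h𝔛.1 n V) from tr h𝔛.1 𝔐.F 𝔐.toPush n V x) := by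
  rw [tr_apply, tr_apply]
  refine (congrArg _ ((𝔐.toPush n).app_smul _ _)).trans ((Scheme.Modules.map_smul _ _ _ _).trans ?_)
  congr 1
  refine Eq.trans ?_ (trans_res h𝔛 q hq n V a)
  show _ = (𝔛.ι n).appLE _ _ (𝔛.lvU_le h𝔛.1 n V) _
  rw [Scheme.Hom.appLE]
  rfl

/-- The scalar as an endomorphism of the tower. -/
noncomputable def σ (a : A) : G h𝔛 𝔐 ⟶ G h𝔛 𝔐 :=
  NatTrans.ofOpSequence (fun n => smulLev h𝔛 q 𝔐 n a) fun n => by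
    refine Sheaf.hom_ext (NatTrans.ext (funext fun U => ConcreteCategory.hom_ext _ _
      fun (x : lev h𝔛.1 𝔐.F (n + 1) U.unop) => ?_))
    show (res (q n) (𝔛.lvU h𝔛.1 n U.unop) a • (show Γ(𝔐.F n, 𝔛.lvU h𝔛.1 n U.unop) from
        ((MLGr.t (G h𝔛 𝔐) (Nat.le_succ n)).hom.app U).hom x) : lev h𝔛.1 𝔐.F n U.unop) =
      ((MLGr.t (G h𝔛 𝔐) (Nat.le_succ n)).hom.app U).hom
        (res (q (n + 1)) (𝔛.lvU h𝔛.1 (n + 1) U.unop) a •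
          (show Γ(𝔐.F (n + 1), 𝔛.lvU h𝔛.1 (n + 1) U.unop) from x) : lev h𝔛.1 𝔐.F (n + 1) U.unop)
    refine (congrArg _ (t_apply h𝔛 𝔐 n U.unop x)).trans ?_
    exact (tr_smul h𝔛 q hq 𝔐 n U.unop a x).symm.trans (t_apply h𝔛 𝔐 n U.unop _).symm

theorem σ_apply (a : A) (n : ℕ) (V : (𝔛.X 0).Opens) (x : lev h𝔛.1 𝔐.F n V) :
    (((σ h𝔛 q hq 𝔐 a).app (op n)).hom.app (op V)).hom x =
      (res (q n) (𝔛.lvU h𝔛.1 n V) a • (show Γ(𝔐.F n, 𝔛.lvU h𝔛.1 n V) from x) : lev h𝔛.1 𝔐.F n V) := rfl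

theorem kill {n : ℕ} {V : (𝔛.X 0).Opens} (hV : IsAffineOpen V) {x : lev h𝔛.1 𝔐.F n V}
    (hx : x ∈ Levels.J (h := h𝔛.1) V ^ (n + 1) • (⊤ : Submodule (Levels.A 𝔛 h𝔛.1 V) (lev h𝔛.1 𝔐.F n V))) : x = 0 := by
  refine Submodule.smul_induction_on hx (fun r hr m _ => ?_) fun a b ha hb => by rw [ha, hb, add_zero]
  rw [← ((Levels.adic h𝔛 hV).2.1 n).2, RingHom.mem_ker] at hr
  rw [lev_smul, hr, zero_smul]

include hJ in
theorem exists_J_res {n : ℕ} {V : (𝔛.X 0).Opens} (hV : IsAffineOpen V) {a : A} (ha : a ∈ J) :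
    ∃ α ∈ Levels.J (h := h𝔛.1) V,
      Levels.proj 𝔛 h𝔛.1 n V α = res (q n) (𝔛.lvU h𝔛.1 n V) a := by
  obtain ⟨α, hα⟩ := ((Levels.adic h𝔛 hV).2.1 n).1 (res (q n) (𝔛.lvU h𝔛.1 n V) a)
  refine ⟨α, ?_, hα⟩
  rw [RingHom.mem_ker, ← Levels.proj_toZero 𝔛 h𝔛.1 n V]
  show Levels.toZero 𝔛 h𝔛.1 n V (Levels.proj 𝔛 h𝔛.1 n V α) = 0
  rw [hα, ← RingHom.mem_ker, ker_toZero J h𝔛 q hJ n hV]
  exact Ideal.mem_map_of_mem _ ha

include hJ h𝔐 in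
theorem hσ {a : A} (ha : a ∈ J) (l : ℕ) :
    kernel.ι (MLGr.t (G h𝔛 𝔐) (Nat.le_succ l)) ≫ (σ h𝔛 q hq 𝔐 a).app (op (l + 1)) = 0 := by
  refine AbBasis.hom_ext {V | IsAffineOpen (V : (𝔛.X 0).Opens)} (Scheme.isBasis_affineOpens _) fun V hV z => ?_
  let y : lev h𝔛.1 𝔐.F (l + 1) V := ((kernel.ι (MLGr.t (G h𝔛 𝔐) (Nat.le_succ l))).hom.app (op V)).hom z
  have hy : tr h𝔛.1 𝔐.F 𝔐.toPush l V y = 0 :=
    (t_apply h𝔛 𝔐 l V y).symm.trans (ConcreteCategory.congr_hom (congrArg (fun φ => φ.hom.app (op V))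
      (kernel.condition (MLGr.t (G h𝔛 𝔐) (Nat.le_succ l)))) z)
  show ((res (q (l + 1)) (𝔛.lvU h𝔛.1 (l + 1) V) a •
    (show Γ(𝔐.F (l + 1), 𝔛.lvU h𝔛.1 (l + 1) V) from y) : lev h𝔛.1 𝔐.F (l + 1) V)) = 0
  obtain ⟨α, hα, hα'⟩ := exists_J_res J h𝔛 q hJ (n := l + 1) hV ha
  rw [← hα']
  refine kill h𝔛 𝔐 hV (x := α • y) ?_
  rw [pow_succ', Submodule.mul_smul]
  refine Submodule.smul_mem_smul hα ?_
  rw [← (CohSys.tr_spec h𝔛 𝔐 h𝔐 hV l).2]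
  exact LinearMap.mem_ker.2 hy

include hJ in
theorem hσ0 {a : A} (ha : a ∈ J) : (σ h𝔛 q hq 𝔐 a).app (op 0) = 0 := by
  refine AbBasis.hom_ext {V | IsAffineOpen (V : (𝔛.X 0).Opens)} (Scheme.isBasis_affineOpens _)
    fun V hV (y : lev h𝔛.1 𝔐.F 0 V) => ?_
  show ((res (q 0) (𝔛.lvU h𝔛.1 0 V) a •
    (show Γ(𝔐.F 0, 𝔛.lvU h𝔛.1 0 V) from y) : lev h𝔛.1 𝔐.F 0 V)) = 0
  obtain ⟨α, hα, hα'⟩ := exists_J_res J h𝔛 q hJ (n := 0) hV ha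
  rw [← hα', show Levels.proj 𝔛 h𝔛.1 0 V α = 0 from hα]
  exact zero_smul _ _

/-! ### The graded pieces -/

/-- The kernel of a transition, on its level. -/
noncomputable abbrev Kk (l : ℕ) : (𝔛.X (l + 1)).Modules := kernel (𝔐.toPush l)

/-- The graded piece, on the smallest level. -/
noncomputable abbrev gr (l : ℕ) : (𝔛.X 0).Modules :=
  (Scheme.Modules.pullback (𝔛.toX (l + 1))).obj (Kk 𝔐 l)

include h𝔛 h𝔐 in
theorem isCoh_Kk (l : ℕ) : Coh.IsCoh (Kk 𝔐 l) := by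
  haveI := h𝔛.2.2 (l + 1)
  haveI := (h𝔛.1 l).1
  haveI : (𝔐.F l).IsQuasicoherent := (h𝔐 l).1
  exact CohBasics.Closure.isCoh_kernel _ (h𝔐 (l + 1)) (QCoh.Pushforward.isQCoh_pushforward _)

include h𝔛 h𝔐 in
theorem isCoh_gr (l : ℕ) : Coh.IsCoh (gr 𝔐 l) :=
  Cyc.FP.Stalk.isCoh_pullback (𝔛.toX (l + 1)) (isCoh_Kk h𝔛 𝔐 h𝔐 l)

theorem toX_lvU (n : ℕ) (U : (𝔛.X 0).Opens) : U ≤ 𝔛.toX n ⁻¹ᵁ 𝔛.lvU h𝔛.1 n U := fun z hz => by
  show 𝔛.gInv h𝔛.1 n ((𝔛.toX n).base z) ∈ U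
  rwa [show 𝔛.gInv h𝔛.1 n ((𝔛.toX n).base z) = z from ConcreteCategory.congr_hom (𝔛.toX_base_gInv h𝔛.1 n) z]

theorem toX_lvU' (n : ℕ) (U : (𝔛.X 0).Opens) : 𝔛.toX n ⁻¹ᵁ 𝔛.lvU h𝔛.1 n U ≤ U := fun z hz => by
  have hz' : 𝔛.gInv h𝔛.1 n ((𝔛.toX n).base z) ∈ U := hz
  rwa [show 𝔛.gInv h𝔛.1 n ((𝔛.toX n).base z) = z from
    ConcreteCategory.congr_hom (𝔛.toX_base_gInv h𝔛.1 n) z] at hz'

/-- Direct image of a level. -/
noncomputable abbrev Φ (n : ℕ) : (𝔛.X n).Modules ⥤ CohTop.Ab (𝔛.X 0).carrier :=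
  (FSch.levelMor 𝔛 h𝔛.1 n).push ⋙ SheafOfModules.toSheaf _

/-- Comparison of the kernel with the graded piece. -/
noncomputable def β (l : ℕ) : (Φ h𝔛 (l + 1)).obj (Kk 𝔐 l) ⟶ Coh.toAb (gr 𝔐 l) :=
  ⟨{ app := fun U => AddCommGrpCat.ofHom
      (AddMonoidHom.mk' (fun z : Γ(Kk 𝔐 l, 𝔛.lvU h𝔛.1 (l + 1) U.unop) => (gr 𝔐 l).presheaf.map
          (homOfLE (toX_lvU h𝔛 (l + 1) U.unop)).op
          (CohDelta.Units.eta (𝔛.toX (l + 1)) (Kk 𝔐 l) (𝔛.lvU h𝔛.1 (l + 1) U.unop) z))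
        fun z z' => (congrArg _ (map_add _ _ _)).trans (map_add _ _ _))
     naturality := fun U U' i => by
      refine ConcreteCategory.hom_ext _ _ fun (z : Γ(Kk 𝔐 l, 𝔛.lvU h𝔛.1 (l + 1) U.unop)) => ?_
      show (gr 𝔐 l).presheaf.map (homOfLE (toX_lvU h𝔛 (l + 1) U'.unop)).op
          (CohDelta.Units.eta (𝔛.toX (l + 1)) (Kk 𝔐 l) (𝔛.lvU h𝔛.1 (l + 1) U'.unop)
            ((Kk 𝔐 l).presheaf.map (homOfLE (CohPres.lvU_mono h𝔛.1 (l + 1) (leOfHom i.unop))).op z)) =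
        (gr 𝔐 l).presheaf.map (homOfLE (leOfHom i.unop)).op
          ((gr 𝔐 l).presheaf.map (homOfLE (toX_lvU h𝔛 (l + 1) U.unop)).op
            (CohDelta.Units.eta (𝔛.toX (l + 1)) (Kk 𝔐 l) (𝔛.lvU h𝔛.1 (l + 1) U.unop) z))
      refine (congrArg _ (((Scheme.Modules.pullbackPushforwardAdjunction (𝔛.toX (l + 1))).unit.app
        (Kk 𝔐 l)).mapPresheaf.naturality_apply _ z)).trans ?_
      refine (CohDelta.Units.map_map _ _ _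
        (homOfLE ((toX_lvU h𝔛 (l + 1) U'.unop).trans
          ((𝔛.toX (l + 1)).preimage_mono (CohPres.lvU_mono h𝔛.1 (l + 1) (leOfHom i.unop))))).op _).trans ?_
      exact (CohDelta.Units.map_map _ _ _ _ _).symm }⟩

theorem β_apply (l : ℕ) (U : (𝔛.X 0).Opens) (z : Γ(Kk 𝔐 l, 𝔛.lvU h𝔛.1 (l + 1) U)) :
    ((β h𝔛 𝔐 l).hom.app (op U)).hom z = (gr 𝔐 l).presheaf.map (homOfLE (toX_lvU h𝔛 (l + 1) U)).op
      (CohDelta.Units.eta (𝔛.toX (l + 1)) (Kk 𝔐 l) (𝔛.lvU h𝔛.1 (l + 1) U) z) := rfl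

/-- A section of the kernel, as a section of the level. -/
noncomputable abbrev inc (l : ℕ) (U : (𝔛.X 0).Opens) (z : Γ(Kk 𝔐 l, 𝔛.lvU h𝔛.1 (l + 1) U)) :
    lev h𝔛.1 𝔐.F (l + 1) U :=
  (kernel.ι (𝔐.toPush l)).app (𝔛.lvU h𝔛.1 (l + 1) U) z

theorem tr_inc (l : ℕ) (U : (𝔛.X 0).Opens) (z : Γ(Kk 𝔐 l, 𝔛.lvU h𝔛.1 (l + 1) U)) :
    tr h𝔛.1 𝔐.F 𝔐.toPush l U (inc h𝔛 𝔐 l U z) = 0 := by
  rw [tr_apply]
  refine (congrArg _ (ConcreteCategory.congr_hom (congrArg (fun φ => φ.app (𝔛.lvU h𝔛.1 (l + 1) U))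
    (kernel.condition (𝔐.toPush l))) z)).trans ?_
  exact map_zero _

include h𝔐 in
theorem isIso_β (l : ℕ) : IsIso (β h𝔛 𝔐 l) := by
  refine AbBasis.isIso_of _ {V | IsAffineOpen (V : (𝔛.X 0).Opens)} (Scheme.isBasis_affineOpens _)
    fun V hV => ?_
  haveI := (isCoh_Kk h𝔛 𝔐 h𝔐 l).1
  haveI := FSch.Sys.toX_isClosedImmersion 𝔛 h𝔛.1 (l + 1)
  have hU := OshBasic.isAffineOpen_lvU 𝔛 h𝔛.1 (l + 1) hV
  refine (CohSys.restrict_bijective _ (toX_lvU h𝔛 (l + 1) V) (toX_lvU' h𝔛 (l + 1) V)).comp ⟨?_, ?_⟩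
  · show Function.Injective ((((Scheme.Modules.pullbackPushforwardAdjunction (𝔛.toX (l + 1))).unit.app
      (Kk 𝔐 l)).app (𝔛.lvU h𝔛.1 (l + 1) V)).hom)
    refine (injective_iff_map_eq_zero _).2 fun z hz => ?_
    have h1 := (UnitKernel.unit_app_eq_zero_iff (𝔛.toX (l + 1)) (Kk 𝔐 l) hU z).1 hz
    refine QCoh.Closure.sections_injective_of_mono (kernel.ι (𝔐.toPush l)) _ ?_
    rw [map_zero]
    refine Submodule.smul_induction_on h1 (fun b hb m _ => ?_) fun a c ha hc => by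
      rw [map_add, ha, hc, add_zero]
    obtain ⟨α, hα⟩ := ((Levels.adic h𝔛 hV).2.1 (l + 1)).1 b
    have hαJ : α ∈ Levels.J (h := h𝔛.1) V := by
      rw [RingHom.mem_ker, ← Levels.proj_toZero 𝔛 h𝔛.1 (l + 1) V]
      show Levels.toZero 𝔛 h𝔛.1 (l + 1) V (Levels.proj 𝔛 h𝔛.1 (l + 1) V α) = 0
      rw [hα, ← RingHom.mem_ker, Levels.ker_toZero,
        ← (𝔛.toX (l + 1)).ker_apply ⟨_, OshBasic.isAffineOpen_lvU 𝔛 h𝔛.1 (l + 1) hV⟩]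
      exact hb
    refine ((kernel.ι (𝔐.toPush l)).app_smul b m).trans ?_
    rw [← hα]
    refine kill h𝔛 𝔐 hV (x := α • inc h𝔛 𝔐 l V m) ?_
    rw [pow_succ', Submodule.mul_smul]
    refine Submodule.smul_mem_smul hαJ ?_
    rw [← (CohSys.tr_spec h𝔛 𝔐 h𝔐 hV l).2]
    exact LinearMap.mem_ker.2 (tr_inc h𝔛 𝔐 l V m)
  · exact UnitKernel.unit_app_surjective (𝔛.toX (l + 1)) (Kk 𝔐 l) hU

instance preservesKernel (n : ℕ) {M N : (𝔛.X n).Modules} (f : M ⟶ N) :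
    PreservesLimit (parallelPair f 0) (Φ h𝔛 n) := by
  haveI h0 : PreservesLimitsOfSize.{0, 0} (FSch.levelMor 𝔛 h𝔛.1 n).push :=
    (FSch.levelMor 𝔛 h𝔛.1 n).adj.rightAdjoint_preservesLimits
  haveI h1 : PreservesLimit (parallelPair f 0) (FSch.levelMor 𝔛 h𝔛.1 n).push :=
    @PreservesLimitsOfShape.preservesLimit _ _ _ _ _ _ _
      (@PreservesLimitsOfSize.preservesLimitsOfShape _ _ _ _ _ h0 WalkingParallelPair _) (parallelPair f 0)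
  haveI h3 : PreservesLimit (parallelPair f 0 ⋙ (FSch.levelMor 𝔛 h𝔛.1 n).push)
      (SheafOfModules.toSheaf.{u} (ModSite.ringSh (𝔛.Osh h𝔛.1))) :=
    haveI := (preservesSmallestLimits_of_preservesLimits
      (SheafOfModules.toSheaf.{u} (ModSite.ringSh (𝔛.Osh h𝔛.1)))).preservesLimitsOfShape (J := WalkingParallelPair)
    inferInstance
  exact @comp_preservesLimit _ _ _ _ _ _ _ _ _ _ _ h1 h3

instance preservesZero (n : ℕ) : (Φ h𝔛 n).PreservesZeroMorphisms := by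
  haveI : (FSch.levelMor 𝔛 h𝔛.1 n).push.IsRightAdjoint := (FSch.levelMor 𝔛 h𝔛.1 n).adj.isRightAdjoint
  haveI : (FSch.levelMor 𝔛 h𝔛.1 n).push.PreservesZeroMorphisms := Functor.preservesZeroMorphisms_of_isRightAdjoint _
  exact ⟨fun M N => (congrArg (SheafOfModules.toSheaf _).map ((FSch.levelMor 𝔛 h𝔛.1 n).push.map_zero M N)).trans
    (Functor.map_zero _ _ _)⟩

theorem t_eq (l : ℕ) : MLGr.t (G h𝔛 𝔐) (Nat.le_succ l) =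
    (Φ h𝔛 (l + 1)).map (𝔐.toPush l) ≫
      (SheafOfModules.toSheaf _).map ((FSch.pushCompare 𝔛 h𝔛.1 l).app (𝔐.F l)) := by
  show (SheafOfModules.toSheaf _).map _ = _
  rw [show homOfLE (Nat.le_succ l) = homOfLE (Nat.le_add_right l 1) from rfl, FSch.levelSysOf_map_succ]
  exact Functor.map_comp _ _ _

/-- The kernel in abelian sheaves is the graded piece. -/
theorem exists_iso (l : ℕ) : ∃ e : (Φ h𝔛 (l + 1)).obj (Kk 𝔐 l) ≅ MLGr.K (G h𝔛 𝔐) (Nat.le_succ l),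
    e.hom ≫ kernel.ι _ = (Φ h𝔛 (l + 1)).map (kernel.ι (𝔐.toPush l)) := by
  haveI : IsIso ((FSch.pushCompare 𝔛 h𝔛.1 l).app (𝔐.F l)) :=
    ⟨⟨_, FSch.pushCompare_pushCompareInv 𝔛 h𝔛.1 l _, FSch.pushCompareInv_pushCompare 𝔛 h𝔛.1 l _⟩⟩
  exact exists_kernel_iso (Φ h𝔛 (l + 1)) (𝔐.toPush l)
    ((SheafOfModules.toSheaf _).map ((FSch.pushCompare 𝔛 h𝔛.1 l).app (𝔐.F l))) _ (t_eq h𝔛 𝔐 l)

/-- The graded piece inside the tower. -/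
noncomputable def eIso (l : ℕ) : Coh.toAb (gr 𝔐 l) ≅ MLGr.K (G h𝔛 𝔐) (Nat.le_succ l) :=
  haveI := isIso_β h𝔛 𝔐 h𝔐 l
  (asIso (β h𝔛 𝔐 l)).symm ≪≫ (exists_iso h𝔛 𝔐 l).choose

/-- The class in the level of a section of the graded piece. -/
noncomputable abbrev val (l : ℕ) (U : (𝔛.X 0).Opens) (z : Γ(gr 𝔐 l, U)) : lev h𝔛.1 𝔐.F (l + 1) U :=
  ((kernel.ι (MLGr.t (G h𝔛 𝔐) (Nat.le_succ l))).hom.app (op U)).hom
    (((eIso h𝔛 𝔐 h𝔐 l).hom.hom.app (op U)).hom z)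

theorem val_β (l : ℕ) (U : (𝔛.X 0).Opens) (z : Γ(Kk 𝔐 l, 𝔛.lvU h𝔛.1 (l + 1) U)) :
    val h𝔛 𝔐 h𝔐 l U (((β h𝔛 𝔐 l).hom.app (op U)).hom z) = inc h𝔛 𝔐 l U z := by
  haveI := isIso_β h𝔛 𝔐 h𝔐 l
  have e : β h𝔛 𝔐 l ≫ (eIso h𝔛 𝔐 h𝔐 l).hom ≫ kernel.ι _ = (Φ h𝔛 (l + 1)).map (kernel.ι (𝔐.toPush l)) := by
    rw [eIso, Iso.trans_hom, Category.assoc, (exists_iso h𝔛 𝔐 l).choose_spec, Iso.symm_hom, asIso_inv,
      IsIso.hom_inv_id_assoc]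
  exact ConcreteCategory.congr_hom (congrArg (fun φ => φ.hom.app (op U)) e) z

end Groth.Agent.H30.GrLevel
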