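import Groth.Agent.H30.FSch.GrLevel
import Groth.Agent.H30.FSch.HTower
import Groth.Agent.S0002

/-!
# Mittag-Leffler for the cohomology of the levels of a coherent system (helper30)
-/

set_option autoImplicit false
set_option linter.style.haveILetI false
set_option linter.unusedSectionVars false

universe u

open CategoryTheory CategoryTheory.Limits AlgebraicGeometry TopologicalSpace Opposite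
open Groth.Agent.H30 Groth.Agent.H30.RealLimSec Groth.Agent.H30.GrLevel
open Groth.Agent.Lib

namespace Groth.Agent.H30.GrML

variable {A : Type u} [CommRing A] {J : Ideal A} {𝔛 : FSch.Sys.{u}} (h𝔛 : 𝔛.IsLocNoethFormal)
  (q : ∀ n, 𝔛.X n ⟶ Spec (CommRingCat.of A)) (hq : ∀ n, 𝔛.ι n ≫ q (n + 1) = q n)
  (hJ : ∀ n, (𝔛.toX n).ker = (FSch.idealSpec A J).comap (q n))
  (𝔐 : FSch.ModSys 𝔛) (h𝔐 : 𝔐.IsCoh)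

/-- From the sections of a level to the sections of the smallest level. -/
noncomputable abbrev toZ (n : ℕ) (V : (𝔛.X 0).Opens) :
    Γ(𝔛.X n, 𝔛.lvU h𝔛.1 n V) ⟶ Γ(𝔛.X 0, V) :=
  (𝔛.toX n).appLE _ _ (toX_lvU h𝔛 n V)

theorem toZ_surjective (n : ℕ) {V : (𝔛.X 0).Opens} (hV : IsAffineOpen V) :
    Function.Surjective (toZ h𝔛 n V) := by
  haveI := FSch.Sys.toX_isClosedImmersion 𝔛 h𝔛.1 n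
  intro r
  obtain ⟨r₁, rfl⟩ := (show Function.Surjective ((𝔛.X 0).presheaf.map (homOfLE (toX_lvU h𝔛 n V)).op) from fun r =>
    ⟨(𝔛.X 0).presheaf.map (homOfLE (toX_lvU' h𝔛 n V)).op r, by
      show ((𝔛.X 0).presheaf.map (homOfLE (toX_lvU' h𝔛 n V)).op ≫
        (𝔛.X 0).presheaf.map (homOfLE (toX_lvU h𝔛 n V)).op) r = r
      rw [← Functor.map_comp, Subsingleton.elim (_ ≫ _) (𝟙 (op V)), CategoryTheory.Functor.map_id]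
      rfl⟩) r
  obtain ⟨r₂, rfl⟩ := Scheme.Hom.app_surjective (𝔛.toX n) _ (OshBasic.isAffineOpen_lvU 𝔛 h𝔛.1 n hV) r₁
  exact ⟨r₂, rfl⟩

theorem trans_toZ (n : ℕ) (V : (𝔛.X 0).Opens) :
    Levels.trans 𝔛 h𝔛.1 n V ≫ toZ h𝔛 n V = toZ h𝔛 (n + 1) V :=
  FSch.appLE_comp_appLE_of_eq _ _ _ rfl _ _ _ _ _ _

theorem val_injective (l : ℕ) (V : (𝔛.X 0).Opens) : Function.Injective (val h𝔛 𝔐 h𝔐 l V) := by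
  have h1 : Mono (((eIso h𝔛 𝔐 h𝔐 l).hom ≫ kernel.ι (MLGr.t (G h𝔛 𝔐) (Nat.le_succ l))).hom.app (op V)) := by
    haveI : Mono ((sheafToPresheaf _ _).map
        ((eIso h𝔛 𝔐 h𝔐 l).hom ≫ kernel.ι (MLGr.t (G h𝔛 𝔐) (Nat.le_succ l)))) := inferInstance
    exact (NatTrans.mono_iff_mono_app _).1 this (op V)
  exact (AddCommGrpCat.mono_iff_injective _).1 h1

theorem val_add (l : ℕ) (V : (𝔛.X 0).Opens) (z z' : Γ(gr 𝔐 l, V)) :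
    val h𝔛 𝔐 h𝔐 l V (z + z') = val h𝔛 𝔐 h𝔐 l V z + val h𝔛 𝔐 h𝔐 l V z' :=
  (congrArg _ (map_add _ _ _)).trans (map_add _ _ _)

theorem β_smul (l : ℕ) (V : (𝔛.X 0).Opens) (r : Γ(𝔛.X (l + 1), 𝔛.lvU h𝔛.1 (l + 1) V))
    (k : Γ(Kk 𝔐 l, 𝔛.lvU h𝔛.1 (l + 1) V)) :
    ((β h𝔛 𝔐 l).hom.app (op V)).hom (r • k : Γ(Kk 𝔐 l, 𝔛.lvU h𝔛.1 (l + 1) V)) =
      (toZ h𝔛 (l + 1) V r • (show Γ(gr 𝔐 l, V) from ((β h𝔛 𝔐 l).hom.app (op V)).hom k) : Γ(gr 𝔐 l, V)) := by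
  rw [β_apply, β_apply]
  refine (congrArg _ (((Scheme.Modules.pullbackPushforwardAdjunction (𝔛.toX (l + 1))).unit.app
    (Kk 𝔐 l)).app_smul r k)).trans ((Scheme.Modules.map_smul _ _ _ _).trans ?_)
  rfl

include h𝔐 in
theorem β_surjective (l : ℕ) (V : (𝔛.X 0).Opens) :
    Function.Surjective ((β h𝔛 𝔐 l).hom.app (op V)).hom := by
  haveI := isIso_β h𝔛 𝔐 h𝔐 l
  haveI : IsIso ((β h𝔛 𝔐 l).hom.app (op V)) :=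
    inferInstanceAs (IsIso (((sheafToPresheaf _ _).map (β h𝔛 𝔐 l)).app (op V)))
  exact (ConcreteCategory.bijective_of_isIso ((β h𝔛 𝔐 l).hom.app (op V))).2

theorem val_smul (l : ℕ) (V : (𝔛.X 0).Opens) (r : Γ(𝔛.X (l + 1), 𝔛.lvU h𝔛.1 (l + 1) V)) (z : Γ(gr 𝔐 l, V)) :
    val h𝔛 𝔐 h𝔐 l V (toZ h𝔛 (l + 1) V r • z) =
      (r • (show Γ(𝔐.F (l + 1), 𝔛.lvU h𝔛.1 (l + 1) V) from val h𝔛 𝔐 h𝔐 l V z) : lev h𝔛.1 𝔐.F (l + 1) V) := by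
  obtain ⟨k, rfl⟩ := β_surjective h𝔛 𝔐 h𝔐 l V z
  refine (congrArg (val h𝔛 𝔐 h𝔐 l V) (β_smul h𝔛 𝔐 l V r k).symm).trans ?_
  rw [val_β, val_β]
  exact (kernel.ι (𝔐.toPush l)).app_smul r k

theorem tr_val (l : ℕ) (V : (𝔛.X 0).Opens) (z : Γ(gr 𝔐 l, V)) :
    tr h𝔛.1 𝔐.F 𝔐.toPush l V (val h𝔛 𝔐 h𝔐 l V z) = 0 := by
  obtain ⟨k, rfl⟩ := β_surjective h𝔛 𝔐 h𝔐 l V z
  rw [val_β]
  exact tr_inc h𝔛 𝔐 l V k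

theorem exists_val_eq (l : ℕ) (V : (𝔛.X 0).Opens) (y : lev h𝔛.1 𝔐.F (l + 1) V)
    (hy : tr h𝔛.1 𝔐.F 𝔐.toPush l V y = 0) : ∃ z, val h𝔛 𝔐 h𝔐 l V z = y := by
  let S := ShortComplex.mk (kernel.ι (𝔐.toPush l)) (𝔐.toPush l) (kernel.condition _)
  haveI : Mono S.f := inferInstanceAs (Mono (kernel.ι (𝔐.toPush l)))
  have hy' : (𝔐.toPush l).app (𝔛.lvU h𝔛.1 (l + 1) V) y = 0 := by
    rw [tr_apply] at hy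
    exact (CohSys.restrict_bijective _ (𝔛.lvU_le h𝔛.1 l V) (𝔛.lvU_succ h𝔛.1 l V).le).1
      (hy.trans (map_zero _).symm)
  obtain ⟨k, hk⟩ := QCoh.Closure.sections_exact (S := S)
    (S.exact_of_f_is_kernel (kernelIsKernel (𝔐.toPush l))) _ y hy'
  exact ⟨((β h𝔛 𝔐 l).hom.app (op V)).hom k, (val_β h𝔛 𝔐 h𝔐 l V k).trans hk⟩

/-! ### The multiplication maps -/

variable {a : A} (ha : a ∈ J)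

/-- Multiplication by `a` on the tower. -/
noncomputable abbrev mu (l : ℕ) : (G h𝔛 𝔐).obj (op l) ⟶ (G h𝔛 𝔐).obj (op (l + 1)) :=
  MLGr.μ (G h𝔛 𝔐) (hepi h𝔛 𝔐 h𝔐) (σ h𝔛 q hq 𝔐 a) (GrLevel.hσ J h𝔛 q hq hJ 𝔐 h𝔐 ha) l

theorem mu_tr (l : ℕ) (V : (𝔛.X 0).Opens) (x : lev h𝔛.1 𝔐.F (l + 1) V) :
    ((mu h𝔛 q hq hJ 𝔐 h𝔐 ha l).hom.app (op V)).hom (tr h𝔛.1 𝔐.F 𝔐.toPush l V x) =
      (res (q (l + 1)) (𝔛.lvU h𝔛.1 (l + 1) V) a •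
        (show Γ(𝔐.F (l + 1), 𝔛.lvU h𝔛.1 (l + 1) V) from x) : lev h𝔛.1 𝔐.F (l + 1) V) := by
  refine (congrArg _ (t_apply h𝔛 𝔐 l V x).symm).trans ?_
  exact ConcreteCategory.congr_hom (congrArg (fun φ => φ.hom.app (op V))
    (MLGr.t_μ (G h𝔛 𝔐) (hepi h𝔛 𝔐 h𝔐) (σ h𝔛 q hq 𝔐 a) (GrLevel.hσ J h𝔛 q hq hJ 𝔐 h𝔐 ha) l)) x

theorem mu_smul (l : ℕ) {V : (𝔛.X 0).Opens} (hV : IsAffineOpen V)
    (r : Γ(𝔛.X (l + 1), 𝔛.lvU h𝔛.1 (l + 1) V)) (y : lev h𝔛.1 𝔐.F l V) :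
    ((mu h𝔛 q hq hJ 𝔐 h𝔐 ha l).hom.app (op V)).hom
        (Levels.trans 𝔛 h𝔛.1 l V r • (show Γ(𝔐.F l, 𝔛.lvU h𝔛.1 l V) from y) : lev h𝔛.1 𝔐.F l V) =
      (r • (show Γ(𝔐.F (l + 1), 𝔛.lvU h𝔛.1 (l + 1) V) from
        ((mu h𝔛 q hq hJ 𝔐 h𝔐 ha l).hom.app (op V)).hom y) : lev h𝔛.1 𝔐.F (l + 1) V) := by
  obtain ⟨x, rfl⟩ := (CohSys.tr_spec h𝔛 𝔐 h𝔐 hV l).1 y
  obtain ⟨α, rfl⟩ := ((Levels.adic h𝔛 hV).2.1 (l + 1)).1 r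
  have e : Levels.trans 𝔛 h𝔛.1 l V (Levels.proj 𝔛 h𝔛.1 (l + 1) V α) = Levels.proj 𝔛 h𝔛.1 l V α :=
    ConcreteCategory.congr_hom (Levels.proj_trans 𝔛 h𝔛.1 l V) α
  rw [e]
  refine (congrArg _ ((tr h𝔛.1 𝔐.F 𝔐.toPush l V).map_smul α x).symm).trans ?_
  rw [mu_tr, mu_tr, lev_smul]
  exact smul_comm (res (q (l + 1)) (𝔛.lvU h𝔛.1 (l + 1) V) a) (Levels.proj 𝔛 h𝔛.1 (l + 1) V α)
    (show Γ(𝔐.F (l + 1), 𝔛.lvU h𝔛.1 (l + 1) V) from x)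

/-- Multiplication by `a` on graded pieces, as sheaves. -/
noncomputable def ψ (l : ℕ) : Coh.toAb (gr 𝔐 l) ⟶ Coh.toAb (gr 𝔐 (l + 1)) :=
  (eIso h𝔛 𝔐 h𝔐 l).hom ≫ MLGr.μK (G h𝔛 𝔐) (hepi h𝔛 𝔐 h𝔐) (σ h𝔛 q hq 𝔐 a)
    (GrLevel.hσ J h𝔛 q hq hJ 𝔐 h𝔐 ha) (Nat.le_succ l) ≫ (eIso h𝔛 𝔐 h𝔐 (l + 1)).inv

theorem ψ_e (l : ℕ) : ψ h𝔛 q hq hJ 𝔐 h𝔐 ha l ≫ (eIso h𝔛 𝔐 h𝔐 (l + 1)).hom =
    (eIso h𝔛 𝔐 h𝔐 l).hom ≫ MLGr.μK (G h𝔛 𝔐) (hepi h𝔛 𝔐 h𝔐) (σ h𝔛 q hq 𝔐 a)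
      (GrLevel.hσ J h𝔛 q hq hJ 𝔐 h𝔐 ha) (Nat.le_succ l) := by
  rw [ψ, Category.assoc, Category.assoc, Iso.inv_hom_id, Category.comp_id]

theorem val_ψ (l : ℕ) (V : (𝔛.X 0).Opens) (z : Γ(gr 𝔐 l, V)) :
    val h𝔛 𝔐 h𝔐 (l + 1) V (((ψ h𝔛 q hq hJ 𝔐 h𝔐 ha l).hom.app (op V)).hom z) =
      ((mu h𝔛 q hq hJ 𝔐 h𝔐 ha (l + 1)).hom.app (op V)).hom (val h𝔛 𝔐 h𝔐 l V z) := by
  have e : ψ h𝔛 q hq hJ 𝔐 h𝔐 ha l ≫ (eIso h𝔛 𝔐 h𝔐 (l + 1)).hom ≫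
      kernel.ι (MLGr.t (G h𝔛 𝔐) (Nat.le_succ (l + 1))) =
      (eIso h𝔛 𝔐 h𝔐 l).hom ≫ kernel.ι (MLGr.t (G h𝔛 𝔐) (Nat.le_succ l)) ≫ mu h𝔛 q hq hJ 𝔐 h𝔐 ha (l + 1) := by
    rw [← Category.assoc, ψ_e, Category.assoc, MLGr.μK_ι]
  exact ConcreteCategory.congr_hom (congrArg (fun φ => φ.hom.app (op V)) e) z

theorem ψ_smul_affine (l : ℕ) {V : (𝔛.X 0).Opens} (hV : IsAffineOpen V) (r : Γ(𝔛.X 0, V))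
    (z : Γ(gr 𝔐 l, V)) :
    ((ψ h𝔛 q hq hJ 𝔐 h𝔐 ha l).hom.app (op V)).hom (r • z : Γ(gr 𝔐 l, V)) =
      (r • (show Γ(gr 𝔐 (l + 1), V) from ((ψ h𝔛 q hq hJ 𝔐 h𝔐 ha l).hom.app (op V)).hom z) :
        Γ(gr 𝔐 (l + 1), V)) := by
  obtain ⟨r', rfl⟩ := toZ_surjective h𝔛 (l + 1 + 1) hV r
  refine val_injective h𝔛 𝔐 h𝔐 (l + 1) V ?_
  rw [val_ψ, val_smul, val_ψ]
  rw [← trans_toZ h𝔛 (l + 1) V]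
  refine (congrArg _ (val_smul h𝔛 𝔐 h𝔐 l V _ z)).trans ?_
  exact mu_smul h𝔛 q hq hJ 𝔐 h𝔐 ha (l + 1) hV r' _

theorem ψ_smul (l : ℕ) (U : (𝔛.X 0).Opens) (r : Γ(𝔛.X 0, U)) (z : Γ(gr 𝔐 l, U)) :
    ((ψ h𝔛 q hq hJ 𝔐 h𝔐 ha l).hom.app (op U)).hom (r • z : Γ(gr 𝔐 l, U)) =
      (r • (show Γ(gr 𝔐 (l + 1), U) from ((ψ h𝔛 q hq hJ 𝔐 h𝔐 ha l).hom.app (op U)).hom z) :
        Γ(gr 𝔐 (l + 1), U)) := by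
  refine TopCat.Sheaf.eq_of_locally_eq' (⟨(gr 𝔐 (l + 1)).presheaf, (gr 𝔐 (l + 1)).isSheaf⟩)
    (fun V : {V : (𝔛.X 0).affineOpens // V.1 ≤ U} => V.1.1) U (fun V => homOfLE V.2) ?_ _ _ fun V => ?_
  · intro x hx
    obtain ⟨_, ⟨W, hW, rfl⟩, hxW, hWU⟩ := (Scheme.isBasis_affineOpens (𝔛.X 0)).exists_subset_of_mem_open hx U.2
    exact Opens.mem_iSup.2 ⟨⟨⟨W, hW⟩, hWU⟩, hxW⟩
  · have nat : ∀ w : Γ(gr 𝔐 l, U), (gr 𝔐 (l + 1)).presheaf.map (homOfLE V.2).op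
        (((ψ h𝔛 q hq hJ 𝔐 h𝔐 ha l).hom.app (op U)).hom w) =
        ((ψ h𝔛 q hq hJ 𝔐 h𝔐 ha l).hom.app (op V.1.1)).hom ((gr 𝔐 l).presheaf.map (homOfLE V.2).op w) :=
      fun w => (NatTrans.naturality_apply (ψ h𝔛 q hq hJ 𝔐 h𝔐 ha l).hom (homOfLE V.2).op w).symm
    refine (nat _).trans ?_
    rw [Scheme.Modules.map_smul]
    refine (ψ_smul_affine h𝔛 q hq hJ 𝔐 h𝔐 ha l V.1.2 _ _).trans ?_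
    rw [← nat z]
    exact (Scheme.Modules.map_smul _ _ _ _).symm

/-- Multiplication by `a` on graded pieces. -/
noncomputable def xm (l : ℕ) : gr 𝔐 l ⟶ gr 𝔐 (l + 1) :=
  ⟨PresheafOfModules.homMk (ψ h𝔛 q hq hJ 𝔐 h𝔐 ha l).hom
    fun U r z => ψ_smul h𝔛 q hq hJ 𝔐 h𝔐 ha l U.unop r z⟩

theorem toAbMap_xm (l : ℕ) :
    Curves.LES.toAbMap (xm h𝔛 q hq hJ 𝔐 h𝔐 ha l) = ψ h𝔛 q hq hJ 𝔐 h𝔐 ha l := rfl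

theorem xm_apply (l : ℕ) (V : (𝔛.X 0).Opens) (z : Γ(gr 𝔐 l, V)) :
    (xm h𝔛 q hq hJ 𝔐 h𝔐 ha l).app V z = ((ψ h𝔛 q hq hJ 𝔐 h𝔐 ha l).hom.app (op V)).hom z := rfl

theorem xm_comm {b : A} (hb : b ∈ J) (l : ℕ) :
    xm h𝔛 q hq hJ 𝔐 h𝔐 ha l ≫ xm h𝔛 q hq hJ 𝔐 h𝔐 hb (l + 1) =
      xm h𝔛 q hq hJ 𝔐 h𝔐 hb l ≫ xm h𝔛 q hq hJ 𝔐 h𝔐 ha (l + 1) := by
  apply (SheafOfModules.toSheaf _).map_injective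
  refine AbBasis.hom_ext {V | IsAffineOpen (V : (𝔛.X 0).Opens)} (Scheme.isBasis_affineOpens _)
    fun V hV z => val_injective h𝔛 𝔐 h𝔐 (l + 1 + 1) V ?_
  show val h𝔛 𝔐 h𝔐 (l + 1 + 1) V (((ψ h𝔛 q hq hJ 𝔐 h𝔐 hb (l + 1)).hom.app (op V)).hom
      (((ψ h𝔛 q hq hJ 𝔐 h𝔐 ha l).hom.app (op V)).hom z)) =
    val h𝔛 𝔐 h𝔐 (l + 1 + 1) V (((ψ h𝔛 q hq hJ 𝔐 h𝔐 ha (l + 1)).hom.app (op V)).hom
      (((ψ h𝔛 q hq hJ 𝔐 h𝔐 hb l).hom.app (op V)).hom z))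
  rw [val_ψ, val_ψ, val_ψ, val_ψ]
  obtain ⟨y, hy⟩ := (CohSys.tr_spec h𝔛 𝔐 h𝔐 hV (l + 1)).1 (val h𝔛 𝔐 h𝔐 l V z)
  rw [← hy, mu_tr, mu_tr]
  obtain ⟨x, rfl⟩ := (CohSys.tr_spec h𝔛 𝔐 h𝔐 hV (l + 1 + 1)).1 y
  rw [← tr_smul h𝔛 q hq 𝔐 (l + 1 + 1) V a x, ← tr_smul h𝔛 q hq 𝔐 (l + 1 + 1) V b x, mu_tr, mu_tr]
  exact smul_comm _ _ _

theorem val_iff (l : ℕ) (V : (𝔛.X 0).Opens) (y : lev h𝔛.1 𝔐.F (l + 1) V) :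
    (∃ z, val h𝔛 𝔐 h𝔐 l V z = y) ↔ tr h𝔛.1 𝔐.F 𝔐.toPush l V y = 0 :=
  ⟨fun ⟨z, hz⟩ => hz ▸ tr_val h𝔛 𝔐 h𝔐 l V z, exists_val_eq h𝔛 𝔐 h𝔐 l V y⟩

section Final

variable {r : ℕ} (g : Fin r → A) (hg : ∀ i, g i ∈ J) (hspan : Ideal.span (Set.range g) = J)

/-- The graded system. -/
noncomputable def grSys : H78.Rees.System.Sys (𝔛.X 0) r where
  G l := gr 𝔐 l
  coh := isCoh_gr h𝔛 𝔐 h𝔐
  x i l := xm h𝔛 q hq hJ 𝔐 h𝔐 (hg i) l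
  comm i j l := xm_comm h𝔛 q hq hJ 𝔐 h𝔐 (hg i) (hg j) l

include hspan in
theorem gen_grSys : H78.Rees.System.Gen (grSys h𝔛 q hq hJ 𝔐 h𝔐 g hg) := by
  intro V hV
  refine ⟨0, fun n _ w _ => ?_⟩
  let T : Submodule Γ(𝔛.X 0, V) Γ(gr 𝔐 (n + 1), V) := ⨆ i, LinearMap.range
    (CohBasics.Affine.secₗ ((grSys h𝔛 q hq hJ 𝔐 h𝔐 g hg).x i n) V)
  change w ∈ T
  suffices key : ∀ y ∈ Levels.J (h := h𝔛.1) V ^ (n + 1 + 1) • (⊤ : Submodule (Levels.A 𝔛 h𝔛.1 V)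
      (lev h𝔛.1 𝔐.F (n + 1 + 1) V)), ∃ z ∈ T, val h𝔛 𝔐 h𝔐 (n + 1) V z = y by
    obtain ⟨z, hz, he⟩ := key (val h𝔛 𝔐 h𝔐 (n + 1) V w) (by
      rw [← (CohSys.tr_spec h𝔛 𝔐 h𝔐 hV (n + 1)).2]
      exact LinearMap.mem_ker.2 (tr_val h𝔛 𝔐 h𝔐 (n + 1) V w))
    rwa [← val_injective h𝔛 𝔐 h𝔐 (n + 1) V he]
  intro y hy
  rw [pow_succ', Submodule.mul_smul] at hy
  refine Submodule.smul_induction_on hy (fun α hα m hm => ?_) ?_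
  · have hc : Levels.proj 𝔛 h𝔛.1 (n + 1 + 1) V α ∈
        Ideal.span (Set.range fun i => res (q (n + 1 + 1)) (𝔛.lvU h𝔛.1 (n + 1 + 1) V) (g i)) := by
      have h1 : Levels.proj 𝔛 h𝔛.1 (n + 1 + 1) V α ∈
          RingHom.ker (Levels.toZero 𝔛 h𝔛.1 (n + 1 + 1) V).hom := by
        rw [RingHom.mem_ker]
        exact (ConcreteCategory.congr_hom (Levels.proj_toZero 𝔛 h𝔛.1 (n + 1 + 1) V) α).trans hα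
      rw [ker_toZero J h𝔛 q hJ (n + 1 + 1) hV, ← hspan, Ideal.map_span, ← Set.range_comp] at h1
      exact h1
    obtain ⟨c, hc'⟩ := (Ideal.mem_span_range_iff_exists_fun).1 hc
    obtain ⟨zm, hzm⟩ := exists_val_eq h𝔛 𝔐 h𝔐 n V (tr h𝔛.1 𝔐.F 𝔐.toPush (n + 1) V m) (by
      rw [← LinearMap.mem_ker, (CohSys.tr_spec h𝔛 𝔐 h𝔐 hV n).2]
      have h2 := Submodule.mem_map_of_mem (f := tr h𝔛.1 𝔐.F 𝔐.toPush (n + 1) V) hm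
      rw [Submodule.map_smul''] at h2
      exact Submodule.smul_mono le_rfl le_top h2)
    refine ⟨∑ i, toZ h𝔛 (n + 1 + 1) V (c i) •
      (show Γ(gr 𝔐 (n + 1), V) from ((ψ h𝔛 q hq hJ 𝔐 h𝔐 (hg i) n).hom.app (op V)).hom zm),
      Submodule.sum_mem _ fun i _ => Submodule.smul_mem _ _
        (Submodule.mem_iSup_of_mem i ⟨zm, rfl⟩), ?_⟩
    let vHom : Γ(gr 𝔐 (n + 1), V) →+ lev h𝔛.1 𝔐.F (n + 1 + 1) V :=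
      AddMonoidHom.mk' (val h𝔛 𝔐 h𝔐 (n + 1) V) (val_add h𝔛 𝔐 h𝔐 (n + 1) V)
    refine (map_sum vHom _ _).trans ?_
    rw [lev_smul, ← hc', Finset.sum_smul]
    refine Finset.sum_congr rfl fun i _ => ?_
    refine (val_smul h𝔛 𝔐 h𝔐 (n + 1) V (c i) _).trans ?_
    rw [val_ψ, hzm, mu_tr, smul_smul]
  · rintro y y' ⟨z, hz, rfl⟩ ⟨z', hz', rfl⟩
    exact ⟨z + z', add_mem hz hz', val_add h𝔛 𝔐 h𝔐 (n + 1) V z z'⟩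

include hq in
/-- Scalars are compatible with the identification of graded pieces. -/
theorem smulAb_e (b : A) (l : ℕ) :
    Coh.smulAb (gr 𝔐 l) (Coh.toGlobal (q 0) b) ≫ (eIso h𝔛 𝔐 h𝔐 l).hom =
      (eIso h𝔛 𝔐 h𝔐 l).hom ≫ MLGr.σK (G h𝔛 𝔐) (σ h𝔛 q hq 𝔐 b) (Nat.le_succ l) := by
  rw [← cancel_mono (kernel.ι (MLGr.t (G h𝔛 𝔐) (Nat.le_succ l))), Category.assoc, Category.assoc,
    MLGr.σK_ι]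
  refine AbBasis.hom_ext {V | IsAffineOpen (V : (𝔛.X 0).Opens)} (Scheme.isBasis_affineOpens _)
    fun V hV z => ?_
  show val h𝔛 𝔐 h𝔐 l V (res (q 0) V b • (show Γ(gr 𝔐 l, V) from z)) =
    (res (q (l + 1)) (𝔛.lvU h𝔛.1 (l + 1) V) b • (show Γ(𝔐.F (l + 1), 𝔛.lvU h𝔛.1 (l + 1) V) from
      val h𝔛 𝔐 h𝔐 l V z) : lev h𝔛.1 𝔐.F (l + 1) V)
  rw [← appLE_res (𝔛.toX (l + 1)) (q (l + 1)) (q 0) (IdealLemmas.toX_comp 𝔛 q hq (l + 1))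
    (𝔛.lvU h𝔛.1 (l + 1) V) V (toX_lvU h𝔛 (l + 1) V) b]
  exact val_smul h𝔛 𝔐 h𝔐 l V _ z

theorem hIso_smul [(𝔛.X 0).Over (Spec (CommRingCat.of A))] (hO : (𝔛.X 0) ↘ Spec (CommRingCat.of A) = q 0)
    (b : A) (l k : ℕ) (m : Coh.HH (𝔛.X 0) (gr 𝔐 l) k) :
    HTower.hIso (eIso h𝔛 𝔐 h𝔐 l) k (b • m) =
      Sheaf.H.map (MLGr.σK (G h𝔛 𝔐) (σ h𝔛 q hq 𝔐 b) (Nat.le_succ l)) k
        (HTower.hIso (eIso h𝔛 𝔐 h𝔐 l) k m) := by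
  show Sheaf.H.map (eIso h𝔛 𝔐 h𝔐 l).hom k
      (Sheaf.H.map (Coh.smulAb _ (Coh.toGlobal ((𝔛.X 0) ↘ Spec (CommRingCat.of A)) b)) k m) = _
  rw [hO]
  refine (HTower.map_comp _ _ _ _).trans (Eq.trans ?_ (HTower.map_comp _ _ _ _).symm)
  exact congrArg (fun φ => Sheaf.H.map φ k m) (smulAb_e h𝔛 q hq 𝔐 h𝔐 b l)

theorem hIso_xm [(𝔛.X 0).Over (Spec (CommRingCat.of A))] {a : A} (ha : a ∈ J)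
    (l k : ℕ) (m : Coh.HH (𝔛.X 0) (gr 𝔐 l) k) :
    HTower.hIso (eIso h𝔛 𝔐 h𝔐 (l + 1)) k
        (H78.FormalFun.Basic.H (A := A) k (xm h𝔛 q hq hJ 𝔐 h𝔐 ha l) m) =
      Sheaf.H.map (MLGr.μK (G h𝔛 𝔐) (hepi h𝔛 𝔐 h𝔐) (σ h𝔛 q hq 𝔐 a)
        (GrLevel.hσ J h𝔛 q hq hJ 𝔐 h𝔐 ha) (Nat.le_succ l)) k (HTower.hIso (eIso h𝔛 𝔐 h𝔐 l) k m) := by
  show Sheaf.H.map (eIso h𝔛 𝔐 h𝔐 (l + 1)).hom k (Sheaf.H.map (ψ h𝔛 q hq hJ 𝔐 h𝔐 ha l) k m) = _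
  refine (HTower.map_comp _ _ _ _).trans (Eq.trans ?_ (HTower.map_comp _ _ _ _).symm)
  exact congrArg (fun φ => Sheaf.H.map φ k m) (ψ_e h𝔛 q hq hJ 𝔐 h𝔐 ha l)

set_option maxHeartbeats 2000000 in
include h𝔐 hJ hq in
/-- The Mittag-Leffler condition for the cohomology of the levels. -/
theorem ml [IsNoetherianRing A] [IsProper (q 0)] (i : ℕ) :
    MLSeq.Basic.ML (HTower.sys (G h𝔛 𝔐) i) := by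
  letI : (𝔛.X 0).Over (Spec (CommRingCat.of A)) := ⟨q 0⟩
  haveI hp : IsProper ((𝔛.X 0) ↘ Spec (CommRingCat.of A)) := ‹IsProper (q 0)›
  haveI := h𝔛.2.2 0
  haveI : CompactSpace (𝔛.X 0) := QuasiCompact.compactSpace_of_compactSpace (q 0)
  haveI : IsNoetherian (𝔛.X 0) := ⟨⟩
  have hfin : ∀ N : (𝔛.X 0).Modules, Coh.IsCoh N → ∀ k, Module.Finite A (Coh.HH (𝔛.X 0) N k) :=
    fun N hN k => Groth.Agent.S0002.result A (𝔛.X 0) N hN k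
  obtain ⟨r, g, hspan⟩ := Submodule.fg_iff_exists_fin_generating_family.1 (IsNoetherian.noetherian J)
  have hg : ∀ i, g i ∈ J := fun i => hspan ▸ Submodule.subset_span ⟨i, rfl⟩
  let S := grSys h𝔛 q hq hJ 𝔐 h𝔐 g hg
  obtain ⟨N, hN⟩ := H78.Rees.System.hgen hfin S (gen_grSys h𝔛 q hq hJ 𝔐 h𝔐 g hg hspan) (i + 1)
  haveI : ∀ l, Module.Finite A (Coh.HH (𝔛.X 0) (gr 𝔐 l) (i + 1)) := fun l => hfin _ (isCoh_gr h𝔛 𝔐 h𝔐 l) _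
  refine MLGr.ml_of_graded (A := A) (G h𝔛 𝔐) (hepi h𝔛 𝔐 h𝔐) (HTower.cst _) i (fun a => σ h𝔛 q hq 𝔐 a) g
    (fun j l => GrLevel.hσ J h𝔛 q hq hJ 𝔐 h𝔐 (hg j) l) (fun j => GrLevel.hσ0 J h𝔛 q hq hJ 𝔐 (hg j))
    (fun l => Coh.HH (𝔛.X 0) (gr 𝔐 l) (i + 1)) (fun l => HTower.hIso (eIso h𝔛 𝔐 h𝔐 l) (i + 1))
    (fun b l m => hIso_smul h𝔛 q hq 𝔐 h𝔐 rfl b l (i + 1) m)
    (fun j l => H78.FormalFun.Basic.H (A := A) (i + 1) (xm h𝔛 q hq hJ 𝔐 h𝔐 (hg j) l))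
    (fun j l m => hIso_xm h𝔛 q hq hJ 𝔐 h𝔐 (hg j) l (i + 1) m)
    (fun j k n m => by
      rw [← H78.FormalFun.Basic.H_comp, ← H78.FormalFun.Basic.H_comp,
        xm_comm h𝔛 q hq hJ 𝔐 h𝔐 (hg k) (hg j)]) (N := N) hN

end Final

end Groth.Agent.H30.GrML
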