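import Groth.Agent.H30.FSch.ComplHom
import Groth.Agent.H30.FSch.HTower
import Groth.Agent.H30.TopCoh
import Groth.Agent.Lib.ZarCoh.Affine

/-!
# Cohomology of completions of coherent modules (helper30)
-/

set_option autoImplicit false
set_option linter.style.haveILetI false
set_option linter.unusedSectionVars false

universe u

open CategoryTheory CategoryTheory.Limits AlgebraicGeometry TopologicalSpace Opposite
open Groth.Agent.H30 Groth.Agent.H30.RealLimSec
open Groth.Agent.Lib
open Groth.Agent.H78.Formal.Sections (sMap sIdeal)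

namespace Groth.Agent.H30.HLim

variable {A : Type u} [CommRing A] {X : Scheme.{u}} [X.Over (Spec (CommRingCat.of A))]
  [IsLocallyNoetherian X] {𝔛 : FSch.Sys.{u}} (h𝔛 : 𝔛.IsLocNoethFormal)
  (p : ∀ n, 𝔛.X n ⟶ X) (hp : ∀ n, 𝔛.ι n ≫ p (n + 1) = p n) [∀ k, IsClosedImmersion (p k)]
  (J : Ideal A) (hI : ∀ k (U : X.affineOpens), (p k).ker.ideal U = sIdeal J U.1 ^ (k + 1))
  (F : X.Modules) (hF : F.IsQuasicoherent)

include hI hF in
/-- `F/J^(k+1)F` is the direct image of the level. -/
theorem exists_iso_modPow (k : ℕ) :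
    ∃ d : Formal.modPow J (k + 1) F ⟶ (Scheme.Modules.pushforward (p k)).obj ((Scheme.Modules.pullback (p k)).obj F),
      IsIso d ∧ Formal.modPowπ J (k + 1) F ≫ d =
        (Scheme.Modules.pullbackPushforwardAdjunction (p k)).unit.app F := by
  haveI := hF
  haveI : (Formal.modPow J (k + 1) F).IsQuasicoherent := H78.Formal.Sections.isQCoh_modPow J (k + 1)
  haveI : Epi (Formal.modPowπ J (k + 1) F) := inferInstanceAs (Epi (cokernel.π _))
  haveI : ((Scheme.Modules.pullback (p k)).obj F).IsQuasicoherent := QCoh.Pullback.isQCoh_pullback (p k) F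
  haveI : ((Scheme.Modules.pushforward (p k)).obj ((Scheme.Modules.pullback (p k)).obj F)).IsQuasicoherent :=
    QCoh.Pushforward.isQCoh_pushforward _
  haveI : ((Scheme.Modules.pullback (p k) ⋙ Scheme.Modules.pushforward (p k)).obj F).IsQuasicoherent :=
    QCoh.Pushforward.isQCoh_pushforward _
  have hη : ∀ U : X.Opens, ∀ hU : IsAffineOpen U, ∀ s : Γ(F, U),
      ((Scheme.Modules.pullbackPushforwardAdjunction (p k)).unit.app F).app U s = 0 ↔
        (Formal.modPowπ J (k + 1) F).app U s = 0 := fun U hU s => by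
    rw [UnitKernel.unit_app_eq_zero_iff (p k) F hU s, H78.Formal.Sections.modPowπ_eq_zero_iff J (k + 1) hU s,
      hI k ⟨U, hU⟩]
  obtain ⟨d, hd⟩ := H78.Formal.Sys.exists_desc (Formal.modPowπ J (k + 1) F)
    ((Scheme.Modules.pullbackPushforwardAdjunction (p k)).unit.app F) fun U hU s hs => (hη U hU s).2 hs
  have hd' : ∀ U (s : Γ(F, U)), d.app U ((Formal.modPowπ J (k + 1) F).app U s) =
      ((Scheme.Modules.pullbackPushforwardAdjunction (p k)).unit.app F).app U s := fun U s =>
    ConcreteCategory.congr_hom (congrArg (fun χ => χ.app U) hd) s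
  refine ⟨d, H78.Formal.Sections.isIso_of_cover d fun x => ?_, hd⟩
  obtain ⟨U, hU, hx⟩ := H78.Formal.Sections.exists_affine x
  refine ⟨U, hU, hx, ?_, fun y => ?_⟩
  · rw [injective_iff_map_eq_zero]
    intro y hy
    obtain ⟨s, rfl⟩ := H78.Formal.Sections.modPowπ_surjective J (k + 1) hU y
    exact (hη U hU s).1 ((hd' U s).symm.trans hy)
  · obtain ⟨s, hs⟩ := UnitKernel.unit_app_surjective (p k) F hU y
    exact ⟨_, (hd' U s).trans hs⟩

/-- The comparison of `F/J^(k+1)F` with the level. -/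
noncomputable def dd (k : ℕ) :
    Formal.modPow J (k + 1) F ⟶ (Scheme.Modules.pushforward (p k)).obj ((Scheme.Modules.pullback (p k)).obj F) :=
  (exists_iso_modPow p J hI F hF k).choose

theorem isIso_dd (k : ℕ) : IsIso (dd p J hI F hF k) := (exists_iso_modPow p J hI F hF k).choose_spec.1

theorem dd_π (k : ℕ) (U : X.Opens) (s : Γ(F, U)) :
    (dd p J hI F hF k).app U ((Formal.modPowπ J (k + 1) F).app U s) = CohDelta.Units.eta (p k) F U s :=
  ConcreteCategory.congr_hom (congrArg (fun χ => χ.app U) (exists_iso_modPow p J hI F hF k).choose_spec.2) s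

/-- The common space inside `X`. -/
noncomputable abbrev j : (𝔛.X 0).carrier ⟶ X.carrier := (p 0).base

/-- The tower of levels, as abelian sheaves. -/
noncomputable abbrev lvTower : ℕᵒᵖ ⥤ CohTop.Ab (𝔛.X 0).carrier :=
  FSch.levelSysOf 𝔛 h𝔛.1 (ComplSec.pullSys p hp F).F (ComplSec.pullSys p hp F).toPush ⋙
    SheafOfModules.toSheaf _

/-- The tower `F/J^(k+1)F`, as abelian sheaves. -/
noncomputable abbrev modTower : ℕᵒᵖ ⥤ CohTop.Ab X.carrier :=
  Formal.completion J F ⋙ SheafOfModules.toSheaf _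

/-- The comparison at level `k`. -/
noncomputable def ζ (k : ℕ) :
    (modTower J F).obj (op k) ⟶ (lvTower h𝔛 p hp F ⋙ CohTop.push (j p)).obj (op k) :=
  ⟨{ app := fun U => AddCommGrpCat.ofHom
      (AddMonoidHom.mk' (fun y => ((ComplSec.pullSys p hp F).F k).presheaf.map
          (homOfLE (ComplSec.lvU_pre h𝔛.1 p hp k U.unop).le).op ((dd p J hI F hF k).app U.unop y))
        fun y y' => (congrArg _ (map_add _ _ _)).trans (map_add _ _ _))
     naturality := fun U U' i => by
      refine ConcreteCategory.hom_ext _ _ fun y => ?_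
      show ((ComplSec.pullSys p hp F).F k).presheaf.map
          (homOfLE (ComplSec.lvU_pre h𝔛.1 p hp k U'.unop).le).op
          ((dd p J hI F hF k).app U'.unop ((Formal.modPow J (k + 1) F).presheaf.map i y)) =
        ((ComplSec.pullSys p hp F).F k).presheaf.map
          (homOfLE (CohPres.lvU_mono h𝔛.1 k ((p 0).preimage_mono (leOfHom i.unop)))).op
          (((ComplSec.pullSys p hp F).F k).presheaf.map
            (homOfLE (ComplSec.lvU_pre h𝔛.1 p hp k U.unop).le).op ((dd p J hI F hF k).app U.unop y))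
      refine (congrArg _ ((dd p J hI F hF k).mapPresheaf.naturality_apply i y)).trans ?_
      refine (CohDelta.Units.map_map _ _ _
        (homOfLE ((ComplSec.lvU_pre h𝔛.1 p hp k U'.unop).le.trans ((p k).preimage_mono (leOfHom i.unop)))).op _).trans ?_
      exact (CohDelta.Units.map_map _ _ _ _ _).symm }⟩

theorem isIso_ζ (k : ℕ) : IsIso (ζ h𝔛 p hp J hI F hF k) := by
  haveI := isIso_dd p J hI F hF k
  haveI : ∀ U, IsIso ((ζ h𝔛 p hp J hI F hF k).hom.app U) := fun U =>
    (ConcreteCategory.isIso_iff_bijective _).2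
      ((CohSys.restrict_bijective _ (ComplSec.lvU_pre h𝔛.1 p hp k U.unop).le
        (ComplSec.lvU_pre h𝔛.1 p hp k U.unop).ge).comp
        (H78.Formal.Sections.app_bijective (dd p J hI F hF k) U.unop))
  haveI : IsIso ((sheafToPresheaf _ _).map (ζ h𝔛 p hp J hI F hF k)) :=
    NatIso.isIso_of_isIso_app (ζ h𝔛 p hp J hI F hF k).hom
  exact isIso_of_fully_faithful (sheafToPresheaf _ _) _

theorem ζ_natural (k : ℕ) :
    (modTower J F).map (homOfLE (Nat.le_succ k)).op ≫ ζ h𝔛 p hp J hI F hF k =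
      ζ h𝔛 p hp J hI F hF (k + 1) ≫
        (lvTower h𝔛 p hp F ⋙ CohTop.push (j p)).map (homOfLE (Nat.le_succ k)).op := by
  haveI := hF
  refine Sheaf.hom_ext (TopCat.Sheaf.hom_ext
    (F := ((modTower J F).obj (op (k + 1))).obj)
    (F' := (lvTower h𝔛 p hp F ⋙ CohTop.push (j p)).obj (op k))
    (B := fun U : X.affineOpens => U.1) ?_ fun U => ConcreteCategory.hom_ext _ _ fun y => ?_)
  · have := X.isBasis_affineOpens
    simpa [Scheme.affineOpens, Subtype.range_coe_subtype] using this
  obtain ⟨m, rfl⟩ := H78.Formal.Sections.modPowπ_surjective J (k + 1 + 1) U.2 y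
  have e1 : (Formal.completion J F).map (homOfLE (Nat.le_succ k)).op = Formal.modPowTrans J (k + 1) F :=
    Functor.ofOpSequence_map_homOfLE_succ _ k
  show ((ComplSec.pullSys p hp F).F k).presheaf.map (homOfLE (ComplSec.lvU_pre h𝔛.1 p hp k U.1).le).op
      ((dd p J hI F hF k).app U.1 (((Formal.completion J F).map (homOfLE (Nat.le_succ k)).op).app U.1
        ((Formal.modPowπ J (k + 1 + 1) F).app U.1 m))) =
    secMap h𝔛.1 ((FSch.levelSysOf 𝔛 h𝔛.1 (ComplSec.pullSys p hp F).F (ComplSec.pullSys p hp F).toPush).map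
      (homOfLE (Nat.le_succ k)).op) (ComplSec.pre p U.1)
      (((ComplSec.pullSys p hp F).F (k + 1)).presheaf.map
        (homOfLE (ComplSec.lvU_pre h𝔛.1 p hp (k + 1) U.1).le).op
        ((dd p J hI F hF (k + 1)).app U.1 ((Formal.modPowπ J (k + 1 + 1) F).app U.1 m)))
  rw [e1, dd_π, show homOfLE (Nat.le_succ k) = homOfLE (Nat.le_add_right k 1) from rfl,
    FSch.levelSysOf_map_succ]
  refine (congrArg (fun z => ((ComplSec.pullSys p hp F).F k).presheaf.map _ ((dd p J hI F hF k).app U.1 z))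
    (ConcreteCategory.congr_hom (congrArg (fun χ => χ.app U.1) (Formal.modPowπ_trans J (k + 1) F)) m)).trans ?_
  refine (congrArg _ (dd_π p J hI F hF k U.1 m)).trans ?_
  exact (ComplSec.tr_σ h𝔛.1 p hp F h𝔛 k U.1 m).symm

/-- The towers agree. -/
noncomputable def towerIso : modTower J F ≅ lvTower h𝔛 p hp F ⋙ CohTop.push (j p) :=
  haveI : ∀ n : ℕᵒᵖ, IsIso ((NatTrans.ofOpSequence (F := modTower J F)
      (G := lvTower h𝔛 p hp F ⋙ CohTop.push (j p)) (ζ h𝔛 p hp J hI F hF)
      (ζ_natural h𝔛 p hp J hI F hF)).app n) := fun n => isIso_ζ h𝔛 p hp J hI F hF n.unop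
  haveI := NatIso.isIso_of_isIso_app (NatTrans.ofOpSequence (F := modTower J F)
      (G := lvTower h𝔛 p hp F ⋙ CohTop.push (j p)) (ζ h𝔛 p hp J hI F hF)
      (ζ_natural h𝔛 p hp J hI F hF))
  asIso (NatTrans.ofOpSequence (F := modTower J F)
    (G := lvTower h𝔛 p hp F ⋙ CohTop.push (j p)) (ζ h𝔛 p hp J hI F hF) (ζ_natural h𝔛 p hp J hI F hF))

/-- The direct image of the completion is the limit of the tower. -/
noncomputable def pushIso :
    (CohTop.push (j p)).obj ((SheafOfModules.toSheaf _).obj ((ComplSec.pullSys p hp F).realMod h𝔛.1)) ≅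
      limit (modTower J F) :=
  haveI hps : PreservesLimitsOfShape ℕᵒᵖ (SheafOfModules.toSheaf.{u} (ModSite.ringSh (𝔛.Osh h𝔛.1))) :=
    (preservesSmallestLimits_of_preservesLimits (SheafOfModules.toSheaf.{u} (ModSite.ringSh (𝔛.Osh h𝔛.1)))).preservesLimitsOfShape
  haveI : PreservesLimit (FSch.levelSysOf 𝔛 h𝔛.1 (ComplSec.pullSys p hp F).F (ComplSec.pullSys p hp F).toPush)
      (SheafOfModules.toSheaf.{u} (ModSite.ringSh (𝔛.Osh h𝔛.1))) :=
    @PreservesLimitsOfShape.preservesLimit _ _ _ _ _ _ _ hps _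
  haveI : PreservesLimitsOfSize.{0, 0} (CohTop.push (j p)) :=
    (ZarCoh.Compare.ppAdj (j p)).rightAdjoint_preservesLimits
  (CohTop.push (j p)).mapIso (preservesLimitIso (SheafOfModules.toSheaf.{u} (ModSite.ringSh (𝔛.Osh h𝔛.1)))
      (FSch.levelSysOf 𝔛 h𝔛.1 (ComplSec.pullSys p hp F).F (ComplSec.pullSys p hp F).toPush)) ≪≫
    preservesLimitIso (CohTop.push (j p)) (lvTower h𝔛 p hp F) ≪≫
    HasLimit.isoOfNatIso (towerIso h𝔛 p hp J hI F hF).symm

include hI hF in
/-- Cohomology of the completion, as a limit. -/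
theorem nonempty_hEquiv (n : ℕ) (hML : ∀ i, i + 1 = n → MLSeq.Basic.ML (HTower.sys (modTower J F) i)) :
    Nonempty (FSch.HF 𝔛 h𝔛.1 ((ComplSec.pullSys p hp F).realMod h𝔛.1) n ≃+
      Formal.HHlim J F n) := by
  haveI := hF
  haveI : ∀ k, (Formal.modPow J k F).IsQuasicoherent := fun k => H78.Formal.Sections.isQCoh_modPow J k
  have hj : Topology.IsClosedEmbedding (j p) := (p 0).isClosedEmbedding
  obtain ⟨e₁⟩ := TopCoh.nonempty_hPushEquiv_top (j p)
    ((SheafOfModules.toSheaf _).obj ((ComplSec.pullSys p hp F).realMod h𝔛.1))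
    (fun q => TopCoh.isZero_rpush_of_isClosedEmbedding hj _ q) n
  have hb := HTower.toLim_bijective (modTower J F) {U | IsAffineOpen (U : X.Opens)} (Scheme.isBasis_affineOpens X)
    (fun U hU k y => by
      obtain ⟨m, rfl⟩ := H78.Formal.Sections.modPowπ_surjective J (k + 1) hU y
      refine ⟨(Formal.modPowπ J (k + 1 + 1) F).app U m, ?_⟩
      have e1 : (Formal.completion J F).map (homOfLE (Nat.le_succ k)).op = Formal.modPowTrans J (k + 1) F :=
        Functor.ofOpSequence_map_homOfLE_succ _ k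
      show ((Formal.completion J F).map (homOfLE (Nat.le_succ k)).op).app U _ = _
      rw [e1]
      exact ConcreteCategory.congr_hom (congrArg (fun χ => χ.app U) (Formal.modPowπ_trans J (k + 1) F)) m)
    (fun U hU k i hi => by
      obtain ⟨q, rfl⟩ : ∃ q, i = q + 1 := ⟨i - 1, by omega⟩
      exact ZarCoh.Affine.HU_subsingleton (Formal.modPow J (k + 1) F) hU q) n hML
  have hlim : HTower.limH (modTower J F) n = Formal.HHlim J F n := by
    refine AddSubgroup.ext fun y => forall_congr' fun k => ?_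
    show (Sheaf.H.map ((SheafOfModules.toSheaf _).map ((Formal.completion J F).map (homOfLE (Nat.le_succ k)).op)) n)
      (y (k + 1)) = y k ↔ _
    rw [show (Formal.completion J F).map (homOfLE (Nat.le_succ k)).op = Formal.modPowTrans J (k + 1) F from
      Functor.ofOpSequence_map_homOfLE_succ _ k]
    exact Iff.rfl
  exact ⟨e₁.trans ((HTower.hIso (pushIso h𝔛 p hp J hI F hF) n).trans
    ((AddEquiv.ofBijective _ hb).trans (AddEquiv.addSubgroupCongr hlim)))⟩

end Groth.Agent.H30.HLim
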