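import Groth.Agent.H30.FSch.PullCoh
import Groth.Agent.H30.FSch.ComplSec
import Groth.Agent.H30.FSch.UnitKernel
import Groth.Agent.H78.Proper.AffineCompl
import Groth.Agent.Lib.DescAlg.PbSec
import Groth.Agent.Lib.AlmostBlowUp.Basic

/-!
# Base change of a proper morphism to the completion of an affine open (helper30)
-/

set_option autoImplicit false
set_option linter.style.haveILetI false
set_option linter.unusedSectionVars false

noncomputable section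

universe u

open CategoryTheory CategoryTheory.Limits AlgebraicGeometry TopologicalSpace Opposite
open Groth.Agent.H30 Groth.Agent.H30.RealLimSec Groth.Agent.Lib

namespace Groth.Agent.H30.KillBase

variable {X Z : Scheme.{u}} (f : Z ⟶ X) {𝔛 ℨ : FSch.Sys.{u}} (φ : ℨ ⟶ 𝔛)
  (h𝔛 : 𝔛.IsLocNoethFormal) (hℨ : ℨ.IsLocNoethFormal)
  (p : ∀ k, 𝔛.X k ⟶ X) (hp : ∀ k, 𝔛.ι k ≫ p (k + 1) = p k)
  (q : ∀ k, ℨ.X k ⟶ Z)
  [∀ k, IsClosedImmersion (p k)]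
  {U : X.Opens} (hU : IsAffineOpen U)

variable (U) in
/-- The completed open. -/
abbrev VV : (𝔛.X 0).Opens := ComplSec.pre p U

include hU in
theorem hVV : IsAffineOpen (VV p U) := ComplSec.isAffineOpen_pre p hU

variable (U) in
/-- The completed ring. -/
abbrev AA : CommRingCat.{u} := Levels.A 𝔛 h𝔛.1 (VV p U)

variable (U) in
/-- The map of rings. -/
abbrev sh : Γ(X, U) ⟶ AA h𝔛 p U := (FSch.schSharp 𝔛 h𝔛.1 p hp).hom.app (op U)

variable (U) in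
/-- The open of a level. -/
abbrev Uk (k : ℕ) : (𝔛.X k).Opens := 𝔛.lvU h𝔛.1 k (VV p U)

theorem sh_proj (k : ℕ) : sh h𝔛 p hp U ≫ Levels.proj 𝔛 h𝔛.1 k (VV p U) =
    (p k).appLE U (Uk h𝔛 p U k) (ComplSec.lvU_pre h𝔛.1 p hp k U).le :=
  congrArg (fun χ => χ.hom.app (op U)) (FSch.schSharp_proj 𝔛 h𝔛.1 p hp k)

/-- The map to the affine open. -/
abbrev aT : Spec (AA h𝔛 p U) ⟶ X := Spec.map (sh h𝔛 p hp U) ≫ hU.fromSpec

include hU in
theorem isAffineOpen_Uk (k : ℕ) : IsAffineOpen (Uk h𝔛 p U k) :=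
  OshBasic.isAffineOpen_lvU 𝔛 h𝔛.1 k (hVV p hU)

/-- A level of the completed open, in the spectrum. -/
abbrev ζ (k : ℕ) : (Uk h𝔛 p U k : Scheme.{u}) ⟶ Spec (AA h𝔛 p U) :=
  (isAffineOpen_Uk h𝔛 p hU k).isoSpec.hom ≫ Spec.map (Levels.proj 𝔛 h𝔛.1 k (VV p U))

theorem ζ_aT (k : ℕ) : ζ h𝔛 p hU k ≫ aT h𝔛 p hp hU = (Uk h𝔛 p U k).ι ≫ p k := by
  rw [Category.assoc, ← Category.assoc (Spec.map _), ← Spec.map_comp, sh_proj,
    IsAffineOpen.SpecMap_appLE_fromSpec (p k) hU (isAffineOpen_Uk h𝔛 p hU k), ← Category.assoc,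
    IsAffineOpen.isoSpec_hom, IsAffineOpen.toSpecΓ_fromSpec]

include h𝔛 in
theorem isClosedImmersion_ζ (k : ℕ) : IsClosedImmersion (ζ h𝔛 p hU k) := by
  haveI : IsClosedImmersion (Spec.map (Levels.proj 𝔛 h𝔛.1 k (VV p U))) :=
    IsClosedImmersion.spec_of_surjective _ ((Levels.adic h𝔛 (hVV p hU)).2.1 k).1
  infer_instance

/-- The global functions of the base at a level. -/
theorem ζ_appTop (k : ℕ) (a : AA h𝔛 p U) :
    (ζ h𝔛 p hU k).appTop ((Scheme.ΓSpecIso (AA h𝔛 p U)).inv a) =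
      (Uk h𝔛 p U k).topIso.inv (Levels.proj 𝔛 h𝔛.1 k (VV p U) a) := by
  rw [← ConcreteCategory.comp_apply, ← ConcreteCategory.comp_apply]
  refine ConcreteCategory.congr_hom ?_ a
  rw [Scheme.Hom.comp_appTop, ← Scheme.ΓSpecIso_inv_naturality_assoc, IsAffineOpen.isoSpec_hom,
    Scheme.Opens.toSpecΓ_appTop, Iso.inv_hom_id_assoc]

theorem ker_ζ_top (k : ℕ) :
    (haveI := isClosedImmersion_ζ h𝔛 p hU k
     (ζ h𝔛 p hU k).ker.ideal ⟨⊤, isAffineOpen_top _⟩) =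
      (Levels.J (h := h𝔛.1) (VV p U) ^ (k + 1)).map (Scheme.ΓSpecIso (AA h𝔛 p U)).inv.hom := by
  haveI := isClosedImmersion_ζ h𝔛 p hU k
  rw [Scheme.Hom.ker_apply, ← ((Levels.adic h𝔛 (hVV p hU)).2.1 k).2]
  apply le_antisymm
  · intro x hx
    have hinj : Function.Injective (Uk h𝔛 p U k).topIso.inv :=
      (ConcreteCategory.bijective_of_isIso (Uk h𝔛 p U k).topIso.inv).1
    have h1 : Levels.proj 𝔛 h𝔛.1 k (VV p U) ((Scheme.ΓSpecIso (AA h𝔛 p U)).hom x) = 0 := by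
      refine hinj (((ζ_appTop h𝔛 p hU k _).symm.trans ?_).trans (map_zero _).symm)
      rw [Iso.hom_inv_id_apply]
      exact hx
    have := Ideal.mem_map_of_mem (Scheme.ΓSpecIso (AA h𝔛 p U)).inv.hom
      (I := RingHom.ker (Levels.proj 𝔛 h𝔛.1 k (VV p U)).hom) h1
    rwa [show (Scheme.ΓSpecIso (AA h𝔛 p U)).inv.hom ((Scheme.ΓSpecIso (AA h𝔛 p U)).hom x) = x from
      Iso.hom_inv_id_apply _ x] at this
  · refine Ideal.map_le_iff_le_comap.2 fun a ha => ?_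
    rw [Ideal.mem_comap, RingHom.mem_ker]
    refine (ζ_appTop h𝔛 p hU k a).trans ?_
    exact (congrArg _ (RingHom.mem_ker.1 ha)).trans (map_zero _)

variable (hsq : ∀ k, q k ≫ f = (φ : FSch.Hom ℨ 𝔛).app k ≫ p k)

/-- The base change to the completed ring. -/
abbrev Zc : Scheme.{u} := pullback f (aT h𝔛 p hp hU)

/-- The projection to the base. -/
abbrev qc : Zc f h𝔛 p hp hU ⟶ Spec (AA h𝔛 p U) := pullback.snd f (aT h𝔛 p hp hU)

variable (U) in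
/-- The open of a level upstairs. -/
abbrev Wk (k : ℕ) : (ℨ.X k).Opens := (φ : FSch.Hom ℨ 𝔛).app k ⁻¹ᵁ Uk h𝔛 p U k

/-- A level upstairs, in the base change. -/
def Jk (k : ℕ) : (Wk φ h𝔛 p U k : Scheme.{u}) ⟶ Zc f h𝔛 p hp hU :=
  pullback.lift ((Wk φ h𝔛 p U k).ι ≫ q k) (((φ : FSch.Hom ℨ 𝔛).app k ∣_ Uk h𝔛 p U k) ≫ ζ h𝔛 p hU k) (by
    rw [Category.assoc, hsq, Category.assoc, ζ_aT, morphismRestrict_ι_assoc])

theorem Jk_qc (k : ℕ) : Jk f φ h𝔛 p hp q hU hsq k ≫ qc f h𝔛 p hp hU =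
    ((φ : FSch.Hom ℨ 𝔛).app k ∣_ Uk h𝔛 p U k) ≫ ζ h𝔛 p hU k := pullback.lift_snd _ _ _

variable (hpb : ∀ k, IsPullback (q k) ((φ : FSch.Hom ℨ 𝔛).app k) f (p k))

include hpb in
theorem isPullback_Jk (k : ℕ) : IsPullback (Jk f φ h𝔛 p hp q hU hsq k)
    ((φ : FSch.Hom ℨ 𝔛).app k ∣_ Uk h𝔛 p U k) (qc f h𝔛 p hp hU) (ζ h𝔛 p hU k) := by
  have h1 := (isPullback_morphismRestrict ((φ : FSch.Hom ℨ 𝔛).app k) (Uk h𝔛 p U k)).flip.paste_horiz (hpb k)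
  refine IsPullback.of_right ?_ (Jk_qc f φ h𝔛 p hp q hU hsq k) (IsPullback.of_hasPullback f (aT h𝔛 p hp hU))
  rw [ζ_aT, Jk, pullback.lift_fst]
  exact h1

include hpb in
theorem isClosedImmersion_Jk (k : ℕ) : IsClosedImmersion (Jk f φ h𝔛 p hp q hU hsq k) :=
  MorphismProperty.of_isPullback (isPullback_Jk f φ h𝔛 p hp q hU hsq hpb k).flip
    (isClosedImmersion_ζ h𝔛 p hU k)

include hpb in
theorem ker_Jk (k : ℕ) :
    (haveI := isClosedImmersion_Jk f φ h𝔛 p hp q hU hsq hpb k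
     (Jk f φ h𝔛 p hp q hU hsq k).ker) =
      (haveI := isClosedImmersion_ζ h𝔛 p hU k
       (ζ h𝔛 p hU k).ker.comap (qc f h𝔛 p hp hU)) := by
  haveI := isClosedImmersion_ζ h𝔛 p hU k
  exact AlmostBlowUp.Basic.ker_of_isPullback (isPullback_Jk f φ h𝔛 p hp q hU hsq hpb k).flip

end Groth.Agent.H30.KillBase
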