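import Groth.Agent.H30.FSch.KillLevel
import Groth.Agent.H78.Proper.PushBound
import Groth.Agent.H78.Formal.Algebraize
import Groth.Agent.H78.Proper.Localised
import Groth.Agent.Lib.Cyc.PP.Push
import Groth.Agent.Lib.ModPair.Basic

/-!
# Formal functions on the base change to a completed affine open (helper30)
-/

set_option autoImplicit false
set_option maxRecDepth 8000
set_option linter.style.haveILetI false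
set_option linter.unusedSectionVars false

noncomputable section

universe u

open CategoryTheory CategoryTheory.Limits AlgebraicGeometry TopologicalSpace Opposite
open Groth.Agent.H30 Groth.Agent.H30.RealLimSec Groth.Agent.Lib Groth.Agent.H30.KillBase
  Groth.Agent.H30.KillMod Groth.Agent.H30.KillLevel
open ZarCoh.FlatBC.PullbackSections (pbRes pbRes_smul bijective_pbTensor pbTensor pbTensor_tmul)
open Groth.Agent.H78.Formal.Sections (sMap sIdeal)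
open Groth.Agent.H78.Formal.Elem (cπ)

namespace Groth.Agent.H30.KillCore

/-- Kernel and image of a transpose on an affine open. -/
theorem gen_spec {B C D : Scheme.{u}} (iW : C ⟶ D) [IsOpenImmersion iW] (M : D.Modules) (j : C ⟶ B)
    [IsClosedImmersion j] (G : B.Modules) [G.IsQuasicoherent]
    (ψ : (Scheme.Modules.pullback j).obj G ⟶ (Scheme.Modules.restrictFunctor iW).obj M) [IsIso ψ]
    {O : B.Opens} (hO : IsAffineOpen O) :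
    (∀ s : Γ(G, O), toR iW M (j ⁻¹ᵁ O) (βgen j G ψ O s) = 0 ↔
      s ∈ j.ker.ideal ⟨O, hO⟩ • (⊤ : Submodule Γ(B, O) Γ(G, O))) ∧
      Function.Surjective fun s : Γ(G, O) => toR iW M (j ⁻¹ᵁ O) (βgen j G ψ O s) := by
  have hb := H78.Formal.Sections.app_bijective ψ (j ⁻¹ᵁ O)
  have hR := toR_bijective iW M (j ⁻¹ᵁ O)
  refine ⟨fun s => ?_, fun y => ?_⟩
  · rw [βgen_eq]
    refine Iff.trans ⟨fun h => hb.1 ((hR.1 (h.trans (map_zero _).symm)).trans (map_zero _).symm),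
      fun h => ?_⟩ (UnitKernel.unit_app_eq_zero_iff j G hO s)
    exact (congrArg _ ((congrArg _ h).trans (map_zero _))).trans (map_zero _)
  · obtain ⟨w, hw⟩ := hR.2 y
    obtain ⟨v, hv⟩ := hb.2 w
    obtain ⟨s, hs⟩ := UnitKernel.unit_app_surjective j G hO v
    refine ⟨s, ?_⟩
    change toR iW M (j ⁻¹ᵁ O) (βgen j G ψ O s) = y
    rw [βgen_eq]
    exact (congrArg _ ((congrArg _ hs).trans hv)).trans hw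

attribute [local irreducible] β Ψ

variable {X Z : Scheme.{u}} (f : Z ⟶ X) [IsProper f] {𝔛 ℨ : FSch.Sys.{u}} (φ : ℨ ⟶ 𝔛)
  (h𝔛 : 𝔛.IsLocNoethFormal) (hℨ : ℨ.IsLocNoethFormal)
  (p : ∀ k, 𝔛.X k ⟶ X) (hp : ∀ k, 𝔛.ι k ≫ p (k + 1) = p k)
  (q : ∀ k, ℨ.X k ⟶ Z) (hq : ∀ k, ℨ.ι k ≫ q (k + 1) = q k)
  [∀ k, IsClosedImmersion (p k)]
  {U : X.Opens} (hU : IsAffineOpen U)
  (hsq : ∀ k, q k ≫ f = (φ : FSch.Hom ℨ 𝔛).app k ≫ p k)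
  (hpb : ∀ k, IsPullback (q k) ((φ : FSch.Hom ℨ 𝔛).app k) f (p k))
  (𝔐 : FSch.ModSys 𝔛) (h𝔐 : 𝔐.IsCoh)

/-- The base change, over the completed ring. -/
abbrev overZ : (Zc f h𝔛 p hp hU).Over (Spec (CommRingCat.of (AA h𝔛 p U))) := ⟨qc f h𝔛 p hp hU⟩

include hU h𝔐 in
theorem isCoh_LL : Coh.IsCoh (LL h𝔛 p U 𝔐) := by
  haveI := Levels.isNoetherianRing_A h𝔛 (hVV p hU)
  haveI : Module.Finite (AA h𝔛 p U) (MM h𝔛 p U 𝔐) := (CohSys.main h𝔛 𝔐 h𝔐 (hVV p hU)).1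
  exact H78.Formal.Algebraize.isCoh_tilde (A := (AA h𝔛 p U)) (MM h𝔛 p U 𝔐)

include h𝔐 in
theorem isCoh_GG : Coh.IsCoh (GG f h𝔛 p hp hU 𝔐) :=
  H78.Formal.Extend.isCoh_pull (qc f h𝔛 p hp hU) (isCoh_LL h𝔛 p hU 𝔐 h𝔐)

/-- The scalars of the completed ring. -/
theorem sMap_qc (O : (Zc f h𝔛 p hp hU).Opens) (a : AA h𝔛 p U) :
    letI := overZ f h𝔛 p hp hU
    sMap (AA h𝔛 p U) O a =
      (qc f h𝔛 p hp hU).appLE ⊤ O le_top ((Scheme.ΓSpecIso (AA h𝔛 p U)).inv a) := rfl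

include hpb in
theorem ideal_Jk (k : ℕ) {O : (Zc f h𝔛 p hp hU).Opens} (hO : IsAffineOpen O) :
    letI := overZ f h𝔛 p hp hU
    (haveI := isClosedImmersion_Jk f φ h𝔛 p hp q hU hsq hpb k
     (Jk f φ h𝔛 p hp q hU hsq k).ker.ideal ⟨O, hO⟩) =
      sIdeal (Levels.J (h := h𝔛.1) (VV p U)) O ^ (k + 1) := by
  letI := overZ f h𝔛 p hp hU
  haveI := isClosedImmersion_Jk f φ h𝔛 p hp q hU hsq hpb k
  haveI := isClosedImmersion_ζ h𝔛 p hU k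
  rw [ker_Jk f φ h𝔛 p hp q hU hsq hpb k,
    Ideal.Comap.ideal_comap (qc f h𝔛 p hp hU) _ ⟨⊤, isAffineOpen_top _⟩ ⟨O, hO⟩ le_top,
    ker_ζ_top h𝔛 p hU k, Ideal.map_map, ← H78.Formal.Sections.sIdeal_pow]
  exact congrArg (fun g : AA h𝔛 p U →+* Γ(Zc f h𝔛 p hp hU, O) =>
    (Levels.J (h := h𝔛.1) (VV p U) ^ (k + 1)).map g) (RingHom.ext fun a => (sMap_qc f h𝔛 p hp hU O a).symm)

include hpb h𝔐 in
theorem β_bij_spec (k : ℕ) {O : (Zc f h𝔛 p hp hU).Opens} (hO : IsAffineOpen O) :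
    (letI := overZ f h𝔛 p hp hU
     ∀ s : Γ(GG f h𝔛 p hp hU 𝔐, O), β f φ h𝔛 p hp q hU hsq 𝔐 k O s = 0 ↔
      (cπ (Levels.J (h := h𝔛.1) (VV p U)) (GG f h𝔛 p hp hU 𝔐) k).app O s = 0) ∧
      Function.Surjective (β f φ h𝔛 p hp q hU hsq 𝔐 k O) := by
  letI := overZ f h𝔛 p hp hU
  haveI := isClosedImmersion_Jk f φ h𝔛 p hp q hU hsq hpb k
  haveI := isIso_Ψ f φ h𝔛 p hp q hU hsq 𝔐 h𝔐 k
  haveI := (isCoh_GG f h𝔛 p hp hU 𝔐 h𝔐).1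
  have h := gen_spec (Wk φ h𝔛 p U k).ι (Rk φ 𝔐 k) (Jk f φ h𝔛 p hp q hU hsq k) (GG f h𝔛 p hp hU 𝔐)
    (Ψ f φ h𝔛 p hp q hU hsq 𝔐 k) hO
  constructor
  · intro s
    rw [β_def]
    refine (h.1 s).trans ?_
    rw [ideal_Jk f φ h𝔛 p hp q hU hsq hpb k hO]
    exact (H78.Formal.Sections.modPowπ_eq_zero_iff _ (k + 1) hO s).symm
  · intro y
    obtain ⟨s, hs⟩ := h.2 y
    exact ⟨s, (β_def f φ h𝔛 p hp q hU hsq 𝔐 k O s).trans hs⟩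

theorem image_trans (k : ℕ) (hq : ∀ k, ℨ.ι k ≫ q (k + 1) = q k) (O : (Zc f h𝔛 p hp hU).Opens) :
    (Wk φ h𝔛 p U k).ι ''ᵁ (Jk f φ h𝔛 p hp q hU hsq k ⁻¹ᵁ O) ≤
      ℨ.ι k ⁻¹ᵁ ((Wk φ h𝔛 p U (k + 1)).ι ''ᵁ (Jk f φ h𝔛 p hp q hU hsq (k + 1) ⁻¹ᵁ O)) := by
  rintro _ ⟨z, hz, rfl⟩
  refine ⟨(ιW φ h𝔛 p k) z, ?_, ?_⟩
  · change (ιW φ h𝔛 p k ≫ Jk f φ h𝔛 p hp q hU hsq (k + 1)) z ∈ O
    rw [ιW_Jk f φ h𝔛 p hp q hq hU hsq k]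
    exact hz
  · exact congrArg (fun g => g z) (Scheme.Hom.resLE_comp_ι (ℨ.ι k) (Wk_le φ h𝔛 p U k))

/-- The transition of sections of the levels. -/
def τ (k : ℕ) (W₁ : (ℨ.X (k + 1)).Opens) (W₀ : (ℨ.X k).Opens) (e : W₀ ≤ ℨ.ι k ⁻¹ᵁ W₁) :
    Γ(Rk φ 𝔐 (k + 1), W₁) →+ Γ(Rk φ 𝔐 k, W₀) :=
  ((Rk φ 𝔐 k).presheaf.map (homOfLE e).op).hom.comp
    ((((FSch.ModSys.pullback φ 𝔐).e k).hom.app (ℨ.ι k ⁻¹ᵁ W₁)).hom.comp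
      (((Scheme.Modules.pullbackPushforwardAdjunction (ℨ.ι k)).unit.app (Rk φ 𝔐 (k + 1))).app W₁).hom)

theorem τ_apply (k : ℕ) (W₁ : (ℨ.X (k + 1)).Opens) (W₀ : (ℨ.X k).Opens) (e : W₀ ≤ ℨ.ι k ⁻¹ᵁ W₁)
    (y : Γ(Rk φ 𝔐 (k + 1), W₁)) :
    τ φ 𝔐 k W₁ W₀ e y =
      ((FSch.ModSys.pullback φ 𝔐).e k).hom.app W₀ (pbRes (ℨ.ι k) (Rk φ 𝔐 (k + 1)) e y) :=
  ((((FSch.ModSys.pullback φ 𝔐).e k).hom).mapPresheaf.naturality_apply (homOfLE e).op _).symm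

theorem τ_smul (k : ℕ) (W₁ : (ℨ.X (k + 1)).Opens) (W₀ : (ℨ.X k).Opens) (e : W₀ ≤ ℨ.ι k ⁻¹ᵁ W₁)
    (a : Γ(ℨ.X (k + 1), W₁)) (y : Γ(Rk φ 𝔐 (k + 1), W₁)) :
    τ φ 𝔐 k W₁ W₀ e (a • y) = (ℨ.ι k).appLE W₁ W₀ e a • τ φ 𝔐 k W₁ W₀ e y := by
  rw [τ_apply, τ_apply, pbRes_smul, Scheme.Modules.Hom.app_smul]

theorem τ_res (k : ℕ) {W₁ W₁' : (ℨ.X (k + 1)).Opens} {W₀ W₀' : (ℨ.X k).Opens} (e : W₀ ≤ ℨ.ι k ⁻¹ᵁ W₁)
    (e' : W₀' ≤ ℨ.ι k ⁻¹ᵁ W₁') (h₁ : W₁' ≤ W₁) (h₀ : W₀' ≤ W₀) (y : Γ(Rk φ 𝔐 (k + 1), W₁)) :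
    τ φ 𝔐 k W₁' W₀' e' ((Rk φ 𝔐 (k + 1)).presheaf.map (homOfLE h₁).op y) =
      (Rk φ 𝔐 k).presheaf.map (homOfLE h₀).op (τ φ 𝔐 k W₁ W₀ e y) := by
  rw [τ_apply, τ_apply, H78.Proper.UnitSections.pbRes_res, ← DescAlg.PbSec.map_pbRes (ℨ.ι k) _ e h₀]
  exact (((FSch.ModSys.pullback φ 𝔐).e k).hom).mapPresheaf.naturality_apply (homOfLE h₀).op _

theorem τ_tr (k : ℕ) (V : (ℨ.X 0).Opens) (y : lev hℨ.1 (FSch.ModSys.pullback φ 𝔐).F (k + 1) V) :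
    τ φ 𝔐 k _ _ (ℨ.lvU_le hℨ.1 k V) y =
      tr hℨ.1 (FSch.ModSys.pullback φ 𝔐).F (FSch.ModSys.pullback φ 𝔐).toPush k V y :=
  (CohSys.tr_eq hℨ (𝔐 := FSch.ModSys.pullback φ 𝔐) (V := V) k y).symm

theorem exists_sum (h𝔐 : 𝔐.IsCoh) {O : (Zc f h𝔛 p hp hU).Opens} (hO : IsAffineOpen O)
    (s : Γ(GG f h𝔛 p hp hU 𝔐, O)) :
    s ∈ Submodule.span Γ(Zc f h𝔛 p hp hU, O) (Set.range (gX f h𝔛 p hp hU 𝔐 O)) := by
  haveI := (isCoh_LL h𝔛 p hU 𝔐 h𝔐).1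
  letI := ((qc f h𝔛 p hp hU).appLE ⊤ O le_top).hom.toAlgebra
  obtain ⟨z, rfl⟩ := (bijective_pbTensor (qc f h𝔛 p hp hU) (LL h𝔛 p U 𝔐) (isAffineOpen_top _) hO le_top).2 s
  induction z using TensorProduct.induction_on with
  | zero => rw [map_zero]; exact zero_mem _
  | tmul a m =>
    rw [pbTensor_tmul]
    obtain ⟨x, rfl⟩ := (tX_bijective h𝔛 p 𝔐).2 m
    exact Submodule.smul_mem _ _ (Submodule.subset_span ⟨x, rfl⟩)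
  | add a b ha hb => rw [map_add]; exact add_mem ha hb

include hℨ hq h𝔐 in
/-- The comparisons commute with the transition maps. -/
theorem β_trans (k : ℕ) {O : (Zc f h𝔛 p hp hU).Opens} (hO : IsAffineOpen O)
    (s : Γ(GG f h𝔛 p hp hU 𝔐, O)) :
    τ φ 𝔐 k _ _ (image_trans f φ h𝔛 p hp q hU hsq k hq O) (β f φ h𝔛 p hp q hU hsq 𝔐 (k + 1) O s) =
      β f φ h𝔛 p hp q hU hsq 𝔐 k O s := by
  induction exists_sum f h𝔛 p hp hU 𝔐 h𝔐 hO s using Submodule.span_induction with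
  | mem s hs =>
    obtain ⟨x, rfl⟩ := hs
    rw [β_gX f φ h𝔛 hℨ p hp q hU hsq 𝔐 (k + 1), β_gX f φ h𝔛 hℨ p hp q hU hsq 𝔐 k,
      τ_res φ 𝔐 k (ℨ.lvU_le hℨ.1 k _) _ _ (image_le_pre φ h𝔛 hℨ p k _), τ_tr φ hℨ 𝔐,
      PullFSys.tr_ηl]
    exact congrArg (fun y => (Rk φ 𝔐 k).presheaf.map _ (PullFSys.ηl φ hℨ h𝔛 𝔐 k (VV p U) y))
      (LinearMap.congr_fun (tr_π h𝔛.1 𝔐.F 𝔐.toPush k (VV p U)) x)
  | zero => simp only [map_zero]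
  | add a b _ _ ha hb => simp only [map_add, ha, hb]
  | smul a s _ hs =>
    rw [β_smul, τ_smul, hs, β_smul]
    refine congrArg (fun r : Γ(ℨ.X k, (Wk φ h𝔛 p U k).ι ''ᵁ (Jk f φ h𝔛 p hp q hU hsq k ⁻¹ᵁ O)) =>
      r • β f φ h𝔛 p hp q hU hsq 𝔐 k O s) ?_
    rw [Scheme.Opens.ι_appIso, Scheme.Opens.ι_appIso, Scheme.Hom.app_eq_appLE, Scheme.Hom.app_eq_appLE,
      ← ConcreteCategory.comp_apply]
    change ((Jk f φ h𝔛 p hp q hU hsq (k + 1)).appLE O _ le_rfl ≫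
      (ℨ.ι k).appLE _ _ (image_trans f φ h𝔛 p hp q hU hsq k hq O)) a = (Jk f φ h𝔛 p hp q hU hsq k).appLE O _ le_rfl a
    refine ConcreteCategory.congr_hom ?_ a
    have e : Jk f φ h𝔛 p hp q hU hsq k ⁻¹ᵁ O ≤
        ιW φ h𝔛 p k ⁻¹ᵁ (Jk f φ h𝔛 p hp q hU hsq (k + 1) ⁻¹ᵁ O) :=
      le_of_eq (congrArg (fun g => g ⁻¹ᵁ O) (ιW_Jk f φ h𝔛 p hp q hq hU hsq k).symm)
    refine Eq.trans (congrArg (_ ≫ ·) (Scheme.Hom.resLE_appLE (ℨ.ι k) (Wk_le φ h𝔛 p U k) _ _ e).symm) ?_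
    refine (Scheme.Hom.appLE_comp_appLE _ _ O _ _ le_rfl e).trans ?_
    simp only [ιW_Jk f φ h𝔛 p hp q hq hU hsq k]

end Groth.Agent.H30.KillCore
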