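import Groth.Agent.Lib.Modules.ToSheaf
import Mathlib.Algebra.Category.ModuleCat.Sheaf.Quasicoherent
import Mathlib.CategoryTheory.Sites.Spaces
import Mathlib.CategoryTheory.Sites.LocallyBijective
import Mathlib.Topology.Category.TopCat.Opens
import Mathlib.Algebra.Category.Grp.FilteredColimits
import Mathlib.CategoryTheory.Sites.LeftExact
import Mathlib.CategoryTheory.Sites.EpiMono
import Mathlib.Algebra.Category.ModuleCat.EpiMono
import Mathlib.Algebra.Category.Grp.Abelian
import Mathlib.Algebra.Category.Grp.EpiMono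
import Mathlib.CategoryTheory.Sites.Abelian
import Mathlib.CategoryTheory.Abelian.Basic

/-!
# Finite presentations of sheaves of modules on a space, elementwise (helper30)
-/

set_option autoImplicit false
set_option linter.style.haveILetI false

universe u

open CategoryTheory CategoryTheory.Limits Opposite TopologicalSpace

namespace Groth.Agent.H30.PresSh

variable {X : TopCat.{u}} {R : Sheaf (Opens.grothendieckTopology X) RingCat.{u}}
  (M : SheafOfModules.{u} R)

/-- Restriction of sections. -/
noncomputable abbrev res {U V : Opens X} (e : V ≤ U) (s : M.val.obj (op U)) : M.val.obj (op V) :=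
  M.val.map (homOfLE e).op s

variable (R) in
/-- Restriction of functions. -/
noncomputable abbrev resR {U V : Opens X} (e : V ≤ U) (a : R.obj.obj (op U)) : R.obj.obj (op V) :=
  R.obj.map (homOfLE e).op a

lemma res_res {U V W : Opens X} (e : V ≤ U) (e' : W ≤ V) (s : M.val.obj (op U)) :
    res M e' (res M e s) = res M (e'.trans e) s :=
  (PresheafOfModules.map_comp_apply M.val (homOfLE e).op (homOfLE e').op s).symm

variable (R) in
lemma resR_resR {U V W : Opens X} (e : V ≤ U) (e' : W ≤ V) (a : R.obj.obj (op U)) :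
    resR R e' (resR R e a) = resR R (e'.trans e) a :=
  (ConcreteCategory.congr_hom (R.obj.map_comp (homOfLE e).op (homOfLE e').op) a).symm

lemma res_sum {ι : Type} (t : Finset ι) {U V : Opens X} (e : V ≤ U) (s : ι → M.val.obj (op U)) :
    res M e (∑ i ∈ t, s i) = ∑ i ∈ t, res M e (s i) :=
  map_sum (M.val.map (homOfLE e).op).hom s t

lemma res_smul {U V : Opens X} (e : V ≤ U) (a : R.obj.obj (op U)) (s : M.val.obj (op U)) :
    res M e (a • s) = resR R e a • res M e s :=
  M.val.map_smul (homOfLE e).op a s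

/-- Sections generating with given relations, locally. -/
structure IsPres (W : Opens X) {n m : ℕ} (f : Fin n → M.val.obj (op W))
    (r : Fin m → Fin n → R.obj.obj (op W)) : Prop where
  rel : ∀ j, ∑ i, r j i • f i = 0
  gen : ∀ (Z : Opens X) (_ : Z ≤ W) (s : M.val.obj (op Z)), ∀ z ∈ Z,
    ∃ (V : Opens X) (hVZ : V ≤ Z) (hVW : V ≤ W) (_ : z ∈ V) (c : Fin n → R.obj.obj (op V)),
      res M hVZ s = ∑ i, c i • res M hVW (f i)
  exact : ∀ (Z : Opens X) (hZ : Z ≤ W) (c : Fin n → R.obj.obj (op Z)),
    ∑ i, c i • res M hZ (f i) = 0 → ∀ z ∈ Z,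
    ∃ (V : Opens X) (hVZ : V ≤ Z) (hVW : V ≤ W) (_ : z ∈ V) (d : Fin m → R.obj.obj (op V)),
      ∀ i, resR R hVZ (c i) = ∑ j, d j * resR R hVW (r j i)

variable {M} in
/-- It suffices to check the conditions on a basis. -/
theorem IsPres.of_basis (B : Set (Opens X)) (hB : Opens.IsBasis B) {W : Opens X} {n m : ℕ}
    {f : Fin n → M.val.obj (op W)} {r : Fin m → Fin n → R.obj.obj (op W)}
    (rel : ∀ j, ∑ i, r j i • f i = 0)
    (gen : ∀ V ∈ B, ∀ (hV : V ≤ W) (s : M.val.obj (op V)), ∀ z ∈ V,
      ∃ (V' : Opens X) (hVV : V' ≤ V) (_ : z ∈ V') (c : Fin n → R.obj.obj (op V')),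
        res M hVV s = ∑ i, c i • res M (hVV.trans hV) (f i))
    (exact : ∀ V ∈ B, ∀ (hV : V ≤ W) (c : Fin n → R.obj.obj (op V)),
      ∑ i, c i • res M hV (f i) = 0 → ∀ z ∈ V,
      ∃ (V' : Opens X) (hVV : V' ≤ V) (_ : z ∈ V') (d : Fin m → R.obj.obj (op V')),
        ∀ i, resR R hVV (c i) = ∑ j, d j * resR R (hVV.trans hV) (r j i)) :
    IsPres M W f r where
  rel := rel
  gen Z hZ s z hz := by
    obtain ⟨V, hVB, hzV, hVZ⟩ := Opens.isBasis_iff_nbhd.1 hB hz
    obtain ⟨V', hVV, hz', c, hc⟩ := gen V hVB (hVZ.trans hZ) (res M hVZ s) z hzV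
    exact ⟨V', hVV.trans hVZ, (hVV.trans hVZ).trans hZ, hz', c, (res_res M hVZ hVV s).symm.trans hc⟩
  exact Z hZ c hc z hz := by
    obtain ⟨V, hVB, hzV, hVZ⟩ := Opens.isBasis_iff_nbhd.1 hB hz
    obtain ⟨V', hVV, hz', d, hd⟩ := exact V hVB (hVZ.trans hZ) (fun i => resR R hVZ (c i)) (by
      have := congrArg (res M hVZ) hc
      simp only [res_sum, res_smul, res_res] at this
      exact this.trans (map_zero _)) z hzV
    exact ⟨V', hVV.trans hVZ, (hVV.trans hVZ).trans hZ, hz', d,
      fun i => (resR_resR R hVZ hVV (c i)).symm.trans (hd i)⟩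

variable {M} in
/-- Presentations restrict. -/
theorem IsPres.restrict {W W' : Opens X} (e : W' ≤ W) {n m : ℕ}
    {f : Fin n → M.val.obj (op W)} {r : Fin m → Fin n → R.obj.obj (op W)} (h : IsPres M W f r) :
    IsPres M W' (fun i => res M e (f i)) (fun j i => resR R e (r j i)) where
  rel j := by
    simp only [← res_smul, ← res_sum, h.rel j]
    exact map_zero _
  gen Z hZ s z hz := by
    obtain ⟨V, hVZ, hVW, hzV, c, hc⟩ := h.gen Z (hZ.trans e) s z hz
    exact ⟨V, hVZ, hVZ.trans hZ, hzV, c, by simp only [res_res]; exact hc⟩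
  exact Z hZ c hc z hz := by
    simp only [res_res] at hc
    obtain ⟨V, hVZ, hVW, hzV, d, hd⟩ := h.exact Z (hZ.trans e) c hc z hz
    exact ⟨V, hVZ, hVZ.trans hZ, hzV, d, fun i => by simp only [resR_resR]; exact hd i⟩

section Over

variable {W : Opens X}

/-- A section over `W` as a section of the restriction to `W`. -/
noncomputable def secOver (t : M.val.obj (op W)) : (M.over W).sections :=
  (M.over W).val.sectionsMk (fun Z => res M (leOfHom Z.unop.hom) t) fun Y Z g =>
    res_res M (leOfHom Y.unop.hom) (leOfHom g.unop.left) t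

lemma secOver_val (t : M.val.obj (op W)) (Z : Over W) :
    (secOver M t).1 (op Z) = res M (leOfHom Z.hom) t := rfl

variable (R) in
/-- The basis of the free module. -/
noncomputable def basis {n : ℕ} (Z : Over W) (i : Fin n) :
    (SheafOfModules.free (R := R.over W) (ULift.{u} (Fin n))).val.obj (op Z) :=
  (SheafOfModules.ιFree (R := R.over W) (ULift.up i)).val.app (op Z)
    (1 : (R.over W).obj.obj (op Z))

lemma map_app_linear {A B : SheafOfModules.{u} (R.over W)} (φ : A ⟶ B) (Z : Over W) {ι : Type}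
    (t : Finset ι) (c : ι → (R.over W).obj.obj (op Z)) (a : ι → A.val.obj (op Z)) :
    φ.val.app (op Z) (∑ i ∈ t, c i • a i) = ∑ i ∈ t, c i • φ.val.app (op Z) (a i) := by
  rw [map_sum]
  exact Finset.sum_congr rfl fun i _ => (φ.val.app (op Z)).hom.map_smul _ _

lemma exists_coeff {n : ℕ} (Z : Over W)
    (x : (SheafOfModules.free (R := R.over W) (ULift.{u} (Fin n))).val.obj (op Z)) :
    ∃ c : Fin n → (R.over W).obj.obj (op Z), x = ∑ i, c i • basis R Z i := by
  classical
  let p : ULift.{u} (Fin n) → (SheafOfModules.free (R := R.over W) (ULift.{u} (Fin n)) ⟶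
      SheafOfModules.unit (R.over W)) := fun i =>
    Cofan.IsColimit.desc (SheafOfModules.isColimitFreeCofan _) fun j => if j = i then 𝟙 _ else 0
  have hp : ∀ i j, SheafOfModules.ιFree (R := R.over W) j ≫ p i =
      if j = i then 𝟙 _ else 0 := fun i j =>
    Cofan.IsColimit.fac (SheafOfModules.isColimitFreeCofan _) _ j
  have hsum : ∑ i, p i ≫ SheafOfModules.ιFree (R := R.over W) i = 𝟙 _ := by
    refine Cofan.IsColimit.hom_ext (SheafOfModules.isColimitFreeCofan _) _ _ fun j => ?_
    refine (Preadditive.comp_sum (f := SheafOfModules.ιFree (R := R.over W) j) ..).trans ?_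
    refine Eq.trans ?_ (Category.comp_id _).symm
    rw [Finset.sum_eq_single j]
    · rw [← Category.assoc, hp, if_pos rfl, Category.id_comp]
      rfl
    · intro b _ hb
      rw [← Category.assoc, hp, if_neg (Ne.symm hb), zero_comp]
    · exact fun h => absurd (Finset.mem_univ j) h
  let Φ : (SheafOfModules.free (R := R.over W) (ULift.{u} (Fin n)) ⟶
      SheafOfModules.free (R := R.over W) (ULift.{u} (Fin n))) →+
      (SheafOfModules.free (R := R.over W) (ULift.{u} (Fin n))).val.obj (op Z) :=
    { toFun := fun φ => φ.val.app (op Z) x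
      map_zero' := rfl
      map_add' := fun _ _ => rfl }
  have h := congrArg Φ hsum
  rw [map_sum] at h
  refine ⟨fun i => (p (ULift.up i)).val.app (op Z) x, ?_⟩
  refine Eq.trans (show x = Φ (𝟙 _) from rfl) (h.symm.trans ?_)
  refine (Equiv.sum_comp Equiv.ulift.{u}.symm
    (fun a => Φ (p a ≫ SheafOfModules.ιFree (R := R.over W) a))).symm.trans ?_
  refine Finset.sum_congr rfl fun i _ => ?_
  have key : ∀ c : (R.over W).obj.obj (op Z),
      (SheafOfModules.ιFree (R := R.over W) (ULift.up i)).val.app (op Z) c = c • basis R Z i :=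
    fun c => (congrArg _ (mul_one c).symm).trans
      (((SheafOfModules.ιFree (R := R.over W) (ULift.up i)).val.app (op Z)).hom.map_smul c _)
  exact key _

lemma coeff_unique {n : ℕ} (Z : Over W) {c c' : Fin n → (R.over W).obj.obj (op Z)}
    (h : ∑ i, c i • basis R Z i = ∑ i, c' i • basis R Z i) (k : Fin n) : c k = c' k := by
  classical
  let p : SheafOfModules.free (R := R.over W) (ULift.{u} (Fin n)) ⟶
      SheafOfModules.unit (R.over W) :=
    Cofan.IsColimit.desc (SheafOfModules.isColimitFreeCofan _)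
      fun j => if j.down = k then 𝟙 _ else 0
  have hp : ∀ i, p.val.app (op Z) (basis R Z i) =
      if i = k then (1 : (R.over W).obj.obj (op Z)) else 0 := by
    intro i
    have := Cofan.IsColimit.fac (SheafOfModules.isColimitFreeCofan (R := R.over W) (ULift.{u} (Fin n)))
      (fun j => if j.down = k then 𝟙 (SheafOfModules.unit (R.over W)) else 0) (ULift.up i)
    refine (congrArg (fun φ : SheafOfModules.unit (R.over W) ⟶ SheafOfModules.unit (R.over W) =>
      φ.val.app (op Z) (1 : (R.over W).obj.obj (op Z))) this).trans ?_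
    dsimp only
    split_ifs with h1
    · rfl
    · rfl
  have key : ∀ c : Fin n → (R.over W).obj.obj (op Z),
      p.val.app (op Z) (∑ i, c i • basis R Z i) = c k := by
    intro c
    refine (map_app_linear p Z Finset.univ c _).trans ?_
    refine (Finset.sum_eq_single k (fun b _ hb => ?_) fun hk => absurd (Finset.mem_univ k) hk).trans ?_
    · rw [hp, if_neg hb]
      exact mul_zero (c b)
    · rw [hp, if_pos rfl]
      exact mul_one (c k)
  rw [← key c, ← key c', h]

variable {M} in
/-- The morphism from a free module given by sections. -/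
noncomputable def fromSec {A : SheafOfModules.{u} (R.over W)} {n : ℕ} (s : Fin n → A.sections) :
    SheafOfModules.free (R := R.over W) (ULift.{u} (Fin n)) ⟶ A :=
  A.freeHomEquiv.symm fun i => s i.down

lemma ιFree_fromSec {A : SheafOfModules.{u} (R.over W)} {n : ℕ} (s : Fin n → A.sections)
    (i : Fin n) :
    SheafOfModules.ιFree (R := R.over W) (ULift.up i) ≫ fromSec s = A.unitHomEquiv.symm (s i) :=
  Cofan.IsColimit.fac (SheafOfModules.isColimitFreeCofan _) _ (ULift.up i)

lemma fromSec_basis {A : SheafOfModules.{u} (R.over W)} {n : ℕ} (s : Fin n → A.sections)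
    (Z : Over W) (i : Fin n) :
    (fromSec s).val.app (op Z) (basis R Z i) = (s i).1 (op Z) := by
  have h1 : A.unitHomEquiv (SheafOfModules.ιFree (R := R.over W) (ULift.up i) ≫ fromSec s) = s i := by
    rw [ιFree_fromSec, Equiv.apply_symm_apply]
  exact (congrArg (fun t : A.sections => t.1 (op Z)) h1)

lemma fromSec_sum {A : SheafOfModules.{u} (R.over W)} {n : ℕ} (s : Fin n → A.sections)
    (Z : Over W) (c : Fin n → (R.over W).obj.obj (op Z)) :
    (fromSec s).val.app (op Z) (∑ i, c i • basis R Z i) =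
      ∑ i, c i • (show A.val.obj (op Z) from (s i).1 (op Z)) :=
  (map_app_linear (fromSec s) Z Finset.univ c _).trans
    (Finset.sum_congr rfl fun i _ => congrArg (c i • ·) (fromSec_basis s Z i))

lemma basis_map {n : ℕ} {Y Z : Over W} (g : Z ⟶ Y) (i : Fin n) :
    (SheafOfModules.free (R := R.over W) (ULift.{u} (Fin n))).val.map g.op (basis R Y i) =
      basis R Z i :=
  (PresheafOfModules.naturality_apply
    (SheafOfModules.ιFree (R := R.over W) (ULift.up i)).val g.op _).symm.trans
    (congrArg _ (map_one ((R.over W).obj.map g.op).hom))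

/-- A morphism is epi if it is locally surjective. -/
theorem epi_of_locally {A B : SheafOfModules.{u} (R.over W)} (φ : A ⟶ B)
    (hφ : ∀ (Z : Over W) (s : B.val.obj (op Z)), ∀ z ∈ Z.left,
      ∃ (Z' : Over W) (g : Z' ⟶ Z), z ∈ Z'.left ∧ ∃ a, φ.val.app (op Z') a = B.val.map g.op s) :
    Epi φ := by
  haveI : Sheaf.IsLocallySurjective ((SheafOfModules.toSheaf (R.over W)).map φ) := by
    refine ⟨fun {Z} s => ?_⟩
    rw [GrothendieckTopology.mem_over_iff]
    intro z hz
    obtain ⟨Z', g, hzZ', a, ha⟩ := hφ Z s z hz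
    refine ⟨Z'.left, g.left, ?_, hzZ'⟩
    rw [Sieve.overEquiv_iff]
    have e : Over.mk (g.left ≫ Z.hom) = Z' := by
      rw [Over.w g]
      rfl
    let i : Over.mk (g.left ≫ Z.hom) ⟶ Z' := eqToHom e
    refine ⟨A.val.map i.op a, ?_⟩
    show φ.val.app _ (A.val.map i.op a) = B.val.map _ s
    rw [PresheafOfModules.naturality_apply, ha, ← PresheafOfModules.map_comp_apply]
    have ej : g.op ≫ i.op = (Over.homMk g.left : Over.mk (g.left ≫ Z.hom) ⟶ Z).op :=
      Quiver.Hom.unop_inj (Over.OverMorphism.ext (Subsingleton.elim _ _))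
    rw [ej]
  exact (SheafOfModules.toSheaf (R.over W)).epi_of_epi_map inferInstance

/-- An epimorphism is locally surjective. -/
theorem locally_of_epi {A B : SheafOfModules.{u} (R.over W)} (φ : A ⟶ B) [Epi φ]
    (Z : Over W) (s : B.val.obj (op Z)) (z : X) (hz : z ∈ Z.left) :
    ∃ (Z' : Over W) (g : Z' ⟶ Z), z ∈ Z'.left ∧ ∃ a, φ.val.app (op Z') a = B.val.map g.op s := by
  have he : Epi ((SheafOfModules.toSheaf (R.over W)).map φ) := inferInstance
  have := (Sheaf.isLocallySurjective_iff_epi' AddCommGrpCat.{u}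
    ((SheafOfModules.toSheaf (R.over W)).map φ)).2 he
  have hs := (GrothendieckTopology.mem_over_iff _ _).1
    (Presheaf.imageSieve_mem ((Opens.grothendieckTopology X).over W)
      ((SheafOfModules.toSheaf (R.over W)).map φ).hom (U := op Z) s)
  obtain ⟨V, g, hg, hzV⟩ := hs z hz
  rw [Sieve.overEquiv_iff] at hg
  obtain ⟨a, ha⟩ := hg
  exact ⟨Over.mk (g ≫ Z.hom), Over.homMk g rfl, hzV, a, by exact ha⟩

theorem app_injective {A B : SheafOfModules.{u} (R.over W)} (φ : A ⟶ B) [Mono φ] (Z : Over W) :
    Function.Injective (φ.val.app (op Z)) :=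
  (ModuleCat.mono_iff_injective _).1
    (inferInstanceAs (Mono ((SheafOfModules.evaluation (R.over W) (op Z)).map φ)))

end Over

variable {M}

section Build

variable {W : Opens X} {n m : ℕ} {f : Fin n → M.val.obj (op W)}
  {r : Fin m → Fin n → R.obj.obj (op W)} (h : IsPres M W f r)

/-- The generators. -/
noncomputable def gensMap (f : Fin n → M.val.obj (op W)) :
    SheafOfModules.free (R := R.over W) (ULift.{u} (Fin n)) ⟶ M.over W :=
  fromSec fun i => secOver M (f i)

lemma gensMap_sum (Z : Over W) (c : Fin n → (R.over W).obj.obj (op Z)) :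
    (gensMap f).val.app (op Z) (∑ i, c i • basis R Z i) =
      ∑ i, (show R.obj.obj (op Z.left) from c i) • res M (leOfHom Z.hom) (f i) :=
  fromSec_sum _ Z c

/-- The relation sections of the free module. -/
noncomputable def relSec (r : Fin m → Fin n → R.obj.obj (op W)) (j : Fin m) :
    (SheafOfModules.free (R := R.over W) (ULift.{u} (Fin n))).sections :=
  (SheafOfModules.free (R := R.over W) (ULift.{u} (Fin n))).val.sectionsMk
    (fun Z => ∑ i, (show (R.over W).obj.obj Z from resR R (leOfHom Z.unop.hom) (r j i)) •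
      basis R Z.unop i)
    fun Y Z g => by
      refine (map_sum ((SheafOfModules.free (R := R.over W) _).val.map g).hom _ _).trans ?_
      refine Finset.sum_congr rfl fun i _ => ?_
      refine ((SheafOfModules.free (R := R.over W) _).val.map_smul g _ _).trans ?_
      exact congrArg₂ (· • ·) (resR_resR R (leOfHom Y.unop.hom) (leOfHom g.unop.left) (r j i))
        (basis_map g.unop i)

/-- The relations. -/
noncomputable def relsMap (r : Fin m → Fin n → R.obj.obj (op W)) :
    SheafOfModules.free (R := R.over W) (ULift.{u} (Fin m)) ⟶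
      SheafOfModules.free (R := R.over W) (ULift.{u} (Fin n)) :=
  fromSec (relSec r)

lemma relsMap_sum (Z : Over W) (d : Fin m → (R.over W).obj.obj (op Z)) :
    (relsMap r).val.app (op Z) (∑ j, d j • basis R Z j) =
      ∑ i, (∑ j, d j * (show (R.over W).obj.obj (op Z) from resR R (leOfHom Z.hom) (r j i))) •
        basis R Z i := by
  refine (fromSec_sum _ Z d).trans ?_
  simp only [Finset.sum_smul, mul_smul]
  rw [Finset.sum_comm]
  refine Finset.sum_congr rfl fun j _ => ?_
  exact (Finset.smul_sum (r := d j)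
    (f := fun i => (show (R.over W).obj.obj (op Z) from resR R (leOfHom Z.hom) (r j i)) • basis R Z i)
    (s := Finset.univ))

include h in
theorem relsMap_gensMap : relsMap r ≫ gensMap f = 0 := by
  apply (M.over W).freeHomEquiv.injective
  funext j
  refine Subtype.ext (funext fun Z => ?_)
  show (gensMap f).val.app Z ((relsMap r).val.app Z (basis R Z.unop j.down)) =
    (0 : SheafOfModules.free (R := R.over W) (ULift.{u} (Fin m)) ⟶ M.over W).val.app Z
      (basis R Z.unop j.down)
  refine (congrArg ((gensMap f).val.app Z) (fromSec_basis (relSec r) Z.unop j.down)).trans ?_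
  refine (gensMap_sum Z.unop _).trans ?_
  refine Eq.trans ?_ ((congrArg (res M (leOfHom Z.unop.hom)) (h.rel j.down)).trans (map_zero _))
  exact ((res_sum M _ (leOfHom Z.unop.hom) _).trans
    (Finset.sum_congr rfl fun i _ => res_smul M _ _ _)).symm

include h in
theorem epi_gensMap : Epi (gensMap f) := by
  refine epi_of_locally _ fun Z s z hz => ?_
  obtain ⟨V, hVZ, hVW, hzV, c, hc⟩ := h.gen Z.left (leOfHom Z.hom) s z hz
  let Z' : Over W := Over.mk (homOfLE hVW)
  exact ⟨Z', Over.homMk (homOfLE hVZ) (Subsingleton.elim _ _), hzV,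
    ∑ i, (show (R.over W).obj.obj (op Z') from c i) • basis R Z' i, (gensMap_sum Z' _).trans hc.symm⟩

include h in
theorem epi_lift_relsMap : Epi (kernel.lift (gensMap f) (relsMap r) (relsMap_gensMap h)) := by
  refine epi_of_locally _ fun Z s z hz => ?_
  obtain ⟨c, hc⟩ := exists_coeff Z ((kernel.ι (gensMap f)).val.app (op Z) s)
  have h0 : (gensMap f).val.app (op Z) ((kernel.ι (gensMap f)).val.app (op Z) s) = 0 :=
    congrArg (fun φ : kernel (gensMap f) ⟶ M.over W => φ.val.app (op Z) s)
      (kernel.condition (gensMap f))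
  rw [hc, gensMap_sum] at h0
  obtain ⟨V, hVZ, hVW, hzV, d, hd⟩ := h.exact Z.left (leOfHom Z.hom) c h0 z hz
  let Z' : Over W := Over.mk (homOfLE hVW)
  let g : Z' ⟶ Z := Over.homMk (homOfLE hVZ) (Subsingleton.elim _ _)
  refine ⟨Z', g, hzV, ∑ j, (show (R.over W).obj.obj (op Z') from d j) • basis R Z' j,
    app_injective (kernel.ι (gensMap f)) Z' ?_⟩
  refine (congrArg (fun φ : _ ⟶ SheafOfModules.free (R := R.over W) (ULift.{u} (Fin n)) =>
    φ.val.app (op Z') (∑ j, (show (R.over W).obj.obj (op Z') from d j) • basis R Z' j))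
    (kernel.lift_ι (gensMap f) (relsMap r) (relsMap_gensMap h))).trans ?_
  refine Eq.trans (relsMap_sum Z' _) ?_
  refine Eq.trans ?_ (PresheafOfModules.naturality_apply (kernel.ι (gensMap f)).val g.op s).symm
  rw [hc]
  refine Eq.trans ?_ (map_sum ((SheafOfModules.free (R := R.over W) _).val.map g.op).hom _ _).symm
  refine Finset.sum_congr rfl fun i _ => ?_
  refine Eq.trans ?_ ((SheafOfModules.free (R := R.over W) _).val.map_smul g.op (c i) _).symm
  exact congrArg₂ (· • ·) (hd i).symm (basis_map g i).symm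

/-- The finite presentation. -/
noncomputable def presentation : (M.over W).Presentation where
  generators :=
    { I := ULift.{u} (Fin n)
      s := fun i => secOver M (f i.down)
      epi := epi_gensMap h }
  relations :=
    { I := ULift.{u} (Fin m)
      s := (kernel (gensMap f)).freeHomEquiv
        (kernel.lift (gensMap f) (relsMap r) (relsMap_gensMap h))
      epi := ((kernel (gensMap f)).freeHomEquiv.symm_apply_apply
        (kernel.lift (gensMap f) (relsMap r) (relsMap_gensMap h))).symm ▸ epi_lift_relsMap h }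

end Build

/-- Locally presented modules are of finite presentation. -/
theorem isFinitePresentation_of_isPres
    (h : ∀ x : X, ∃ (W : Opens X) (n m : ℕ) (f : Fin n → M.val.obj (op W))
      (r : Fin m → Fin n → R.obj.obj (op W)), x ∈ W ∧ IsPres M W f r) :
    M.IsFinitePresentation := by
  choose W n m f r hx hp using h
  let q : SheafOfModules.QuasicoherentData.{u} (C := Opens X) (R := R) M :=
    { I := X
      X := W
      coversTop := (Opens.coversTop_iff _ _).mpr
        (eq_top_iff.mpr fun x _ => Opens.mem_iSup.mpr ⟨x, hx x⟩)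
      presentation := fun x => presentation (hp x) }
  have hq : q.IsFinitePresentation :=
    SheafOfModules.QuasicoherentData.IsFinitePresentation.mk (C := Opens X) (R := R) (q := q)
      fun x => ⟨⟨inferInstanceAs (Finite (ULift.{u} (Fin (n x))))⟩,
        ⟨inferInstanceAs (Finite (ULift.{u} (Fin (m x))))⟩⟩
  exact SheafOfModules.IsFinitePresentation.mk (M := M) (R := R) ⟨q, hq⟩

section Converse

variable {W : Opens X}

lemma hom_ext_free {A : SheafOfModules.{u} (R.over W)} {I : Type u}
    {φ ψ : SheafOfModules.free (R := R.over W) I ⟶ A}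
    (e : ∀ i, SheafOfModules.ιFree (R := R.over W) i ≫ φ =
      SheafOfModules.ιFree (R := R.over W) i ≫ ψ) : φ = ψ :=
  Cofan.IsColimit.hom_ext (SheafOfModules.isColimitFreeCofan I) _ _ e

/-- Reindexing a finite free module. -/
theorem reindex {A : SheafOfModules.{u} (R.over W)} (σ : A.GeneratingSections) {n : ℕ}
    (e : σ.I ≃ Fin n) :
    (SheafOfModules.freeMap (R := R.over W) fun a : σ.I => ULift.up.{u} (e a)) ≫
        fromSec (fun k => σ.s (e.symm k)) = σ.π ∧
      (SheafOfModules.freeMap (R := R.over W) fun a : ULift.{u} (Fin n) => e.symm a.down) ≫ σ.π =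
        fromSec (fun k => σ.s (e.symm k)) ∧
      (SheafOfModules.freeMap (R := R.over W) fun a : ULift.{u} (Fin n) => e.symm a.down) ≫
        (SheafOfModules.freeMap (R := R.over W) fun a : σ.I => ULift.up.{u} (e a)) = 𝟙 _ := by
  have hπ : ∀ a, SheafOfModules.ιFree (R := R.over W) a ≫ σ.π = A.unitHomEquiv.symm (σ.s a) :=
    fun a => Cofan.IsColimit.fac (SheafOfModules.isColimitFreeCofan _) _ a
  refine ⟨hom_ext_free fun a => ?_, hom_ext_free fun a => ?_, hom_ext_free fun a => ?_⟩
  · rw [← Category.assoc, SheafOfModules.ιFree_freeMap, ιFree_fromSec, hπ, Equiv.symm_apply_apply]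
  · obtain ⟨a⟩ := a
    rw [← Category.assoc, SheafOfModules.ιFree_freeMap, ιFree_fromSec, hπ]
  · rw [← Category.assoc, SheafOfModules.ιFree_freeMap, SheafOfModules.ιFree_freeMap,
      Category.comp_id, Equiv.apply_symm_apply]

theorem epi_fromSec {A : SheafOfModules.{u} (R.over W)} (σ : A.GeneratingSections) {n : ℕ}
    (e : σ.I ≃ Fin n) : Epi (fromSec (fun k => σ.s (e.symm k))) := by
  haveI := σ.epi
  exact epi_of_epi_fac (reindex σ e).1

/-- An element killed by a map comes from its kernel. -/
theorem exists_kernel {A B : SheafOfModules.{u} (R.over W)} (φ : A ⟶ B) (Z : Over W)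
    (y : A.val.obj (op Z)) (hy : φ.val.app (op Z) y = 0) :
    ∃ t, (kernel.ι φ).val.app (op Z) t = y := by
  let G := SheafOfModules.evaluation.{u} (R.over W) (op Z)
  let t₀ := (ModuleCat.kernelIsoKer (G.map φ)).inv ⟨y, hy⟩
  refine ⟨(PreservesKernel.iso G φ).inv t₀, ?_⟩
  have h1 : (PreservesKernel.iso G φ).inv ≫ G.map (kernel.ι φ) = kernel.ι (G.map φ) := by
    rw [Iso.inv_comp_eq, PreservesKernel.iso_hom, kernelComparison_comp_ι]
  refine (ConcreteCategory.congr_hom h1 t₀).trans ?_
  exact ConcreteCategory.congr_hom (ModuleCat.kernelIsoKer_inv_kernel_ι (G.map φ)) ⟨y, hy⟩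

lemma sections_eq_secOver (s : (M.over W).sections) :
    secOver M (s.1 (op (Over.mk (𝟙 W)))) = s := by
  refine Subtype.ext (funext fun Z => ?_)
  exact s.2 (Over.homMk Z.unop.hom : Z.unop ⟶ Over.mk (𝟙 W)).op

/-- Presentations from generators of a free kernel. -/
theorem exists_rels {n m : ℕ} (f : Fin n → M.val.obj (op W)) [Epi (gensMap f)]
    (σ : Fin m → (kernel (gensMap f)).sections) [Epi (fromSec σ)] :
    ∃ r : Fin m → Fin n → R.obj.obj (op W), IsPres M W f r := by
  let W₀ : Over W := Over.mk (𝟙 W)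
  choose r hr using fun j : Fin m =>
    exists_coeff W₀ ((kernel.ι (gensMap f)).val.app (op W₀) ((σ j).1 (op W₀)))
  have hkill : ∀ (Z : Over W) (t : (kernel (gensMap f)).val.obj (op Z)),
      (gensMap f).val.app (op Z) ((kernel.ι (gensMap f)).val.app (op Z) t) = 0 := fun Z t =>
    congrArg (fun φ : kernel (gensMap f) ⟶ M.over W => φ.val.app (op Z) t)
      (kernel.condition (gensMap f))
  refine ⟨r, ⟨fun j => ?_, fun Z hZ s z hz => ?_, fun Z hZ c hc z hz => ?_⟩⟩
  · refine Eq.trans ?_ (hkill W₀ ((σ j).1 (op W₀)))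
    rw [hr j]
    refine Eq.trans ?_ (gensMap_sum W₀ (r j)).symm
    refine Finset.sum_congr rfl fun i _ => congrArg (fun z : M.val.obj (op W) => (show R.obj.obj (op W) from r j i) • z) ?_
    exact (congrArg (fun g => M.val.map g (f i)) (Subsingleton.elim (homOfLE _).op (𝟙 _))).trans
      (congrArg (fun φ => φ.hom (f i)) (M.val.map_id (op W))) |>.symm
  · obtain ⟨Z', g, hzZ', a, ha⟩ := locally_of_epi (gensMap f) (Over.mk (homOfLE hZ)) s z hz
    obtain ⟨c, rfl⟩ := exists_coeff Z' a
    rw [gensMap_sum] at ha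
    exact ⟨Z'.left, leOfHom g.left, leOfHom Z'.hom, hzZ', c, ha.symm⟩
  · let ZW : Over W := Over.mk (homOfLE hZ)
    obtain ⟨t, ht⟩ := exists_kernel (gensMap f) ZW
      (∑ i, (show (R.over W).obj.obj (op ZW) from c i) • basis R ZW i) ((gensMap_sum ZW _).trans hc)
    obtain ⟨Z', g, hzZ', a, ha⟩ := locally_of_epi (fromSec σ) ZW t z hz
    obtain ⟨d, rfl⟩ := exists_coeff Z' a
    rw [fromSec_sum] at ha
    refine ⟨Z'.left, leOfHom g.left, leOfHom Z'.hom, hzZ', d, fun i => ?_⟩
    have e1 := congrArg ((kernel.ι (gensMap f)).val.app (op Z')) ha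
    rw [map_app_linear] at e1
    have e2 : (kernel.ι (gensMap f)).val.app (op Z') ((kernel (gensMap f)).val.map g.op t) =
        ∑ i, (show (R.over W).obj.obj (op Z') from resR R (leOfHom g.left) (c i)) • basis R Z' i := by
      refine (PresheafOfModules.naturality_apply (kernel.ι (gensMap f)).val g.op t).trans ?_
      rw [ht]
      refine (map_sum ((SheafOfModules.free (R := R.over W) _).val.map g.op).hom _ _).trans ?_
      refine Finset.sum_congr rfl fun i _ => ?_
      refine ((SheafOfModules.free (R := R.over W) _).val.map_smul g.op _ _).trans ?_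
      exact congrArg₂ (· • ·) rfl (basis_map g i)
    have e3 : ∀ j, (kernel.ι (gensMap f)).val.app (op Z') ((σ j).1 (op Z')) =
        ∑ i, (show (R.over W).obj.obj (op Z') from resR R (leOfHom Z'.hom) (r j i)) • basis R Z' i := by
      intro j
      let g₀ : Z' ⟶ W₀ := Over.homMk Z'.hom
      rw [← (σ j).2 g₀.op]
      refine (PresheafOfModules.naturality_apply (kernel.ι (gensMap f)).val g₀.op _).trans ?_
      rw [hr j]
      refine (map_sum ((SheafOfModules.free (R := R.over W) _).val.map g₀.op).hom _ _).trans ?_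
      refine Finset.sum_congr rfl fun i _ => ?_
      refine ((SheafOfModules.free (R := R.over W) _).val.map_smul g₀.op _ _).trans ?_
      exact congrArg₂ (· • ·) rfl (basis_map g₀ i)
    rw [e2] at e1
    simp only [e3, Finset.smul_sum, ← mul_smul] at e1
    rw [Finset.sum_comm] at e1
    simp only [← Finset.sum_smul] at e1
    exact (coeff_unique Z' e1.symm i)


/-- Reindexing a finite presentation. -/
theorem exists_rels' (σ : (M.over W).GeneratingSections) (τ₀ : (kernel σ.π).GeneratingSections)
    [Finite τ₀.I] {n : ℕ} (e₁ : σ.I ≃ Fin n) (f : Fin n → M.val.obj (op W))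
    (hf : gensMap f = fromSec (fun k => σ.s (e₁.symm k))) :
    ∃ (m : ℕ) (r : Fin m → Fin n → R.obj.obj (op W)), IsPres M W f r := by
  obtain ⟨hρ, hρ', hρρ⟩ := reindex σ e₁
  rw [← hf] at hρ hρ'
  haveI : Epi (gensMap f) := hf ▸ epi_fromSec σ e₁
  -- the relations
  let θ : kernel σ.π ⟶ kernel (gensMap f) :=
    kernel.lift (gensMap f) (kernel.ι _ ≫ SheafOfModules.freeMap (R := R.over W) fun a => ULift.up (e₁ a))
      (by rw [Category.assoc, hρ, kernel.condition])
  let θ' : kernel (gensMap f) ⟶ kernel σ.π :=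
    kernel.lift _ (kernel.ι _ ≫ SheafOfModules.freeMap (R := R.over W)
      fun a : ULift.{u} (Fin n) => e₁.symm a.down)
      (by rw [Category.assoc, hρ', kernel.condition])
  haveI : Epi θ := by
    have : θ' ≫ θ = 𝟙 _ := by
      apply (cancel_mono (kernel.ι (gensMap f))).1
      simp only [θ, θ', Category.assoc, kernel.lift_ι, kernel.lift_ι_assoc, hρρ, Category.comp_id,
        Category.id_comp]
    exact (IsSplitEpi.mk' ⟨θ', this⟩).epi
  let τ := τ₀.ofEpi θ
  obtain ⟨m, ⟨e₂⟩⟩ := Finite.exists_equiv_fin τ₀.I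
  haveI : Epi (fromSec (fun k => τ.s (e₂.symm k))) := epi_fromSec τ e₂
  obtain ⟨r, hr⟩ := exists_rels f (fun k => τ.s (e₂.symm k))
  exact ⟨m, r, hr⟩

end Converse

/-- Modules of finite presentation are locally presented. -/
theorem exists_isPres [h : M.IsFinitePresentation] (x : X) :
    ∃ (W : Opens X) (n m : ℕ) (f : Fin n → M.val.obj (op W))
      (r : Fin m → Fin n → R.obj.obj (op W)), x ∈ W ∧ IsPres M W f r := by
  obtain ⟨q, hq⟩ := h.exists_quasicoherentData
  obtain ⟨i, hi⟩ : ∃ i, x ∈ q.X i := by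
    obtain ⟨V, g, ⟨i, ⟨g'⟩⟩, hV⟩ := q.coversTop ⊤ x trivial
    exact ⟨i, leOfHom g' hV⟩
  obtain ⟨⟨hfin₁⟩, ⟨hfin₂⟩⟩ := hq.isFinite_presentation i
  obtain ⟨n, ⟨e₁⟩⟩ := Finite.exists_equiv_fin (q.presentation i).generators.I
  obtain ⟨m, r, hr⟩ := exists_rels' (q.presentation i).generators (q.presentation i).relations e₁
    (fun k => ((q.presentation i).generators.s (e₁.symm k)).1 (op (Over.mk (𝟙 (q.X i)))))
    (congrArg fromSec (funext fun k => sections_eq_secOver _))
  exact ⟨q.X i, n, m, _, r, hi, hr⟩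

end Groth.Agent.H30.PresSh
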