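import Groth.Agent.H30.FSch.RpushFilt
import Groth.Agent.H30.FSch.AdicPres
import Groth.Agent.H30.FSch.PresSh

/-!
# Higher direct images of coherent modules along proper morphisms are coherent (helper30)
-/

set_option autoImplicit false
set_option linter.style.haveILetI false
set_option linter.unusedSectionVars false

universe u

open CategoryTheory CategoryTheory.Limits AlgebraicGeometry TopologicalSpace Opposite
open Groth.Agent.H30 Groth.Agent.H30.RealLimSec Groth.Agent.H30.RpushFilt Groth.Agent.Lib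

namespace Groth.Agent.H30.RpushCoh

variable {𝔜 : FSch.Sys.{u}} (h𝔜 : 𝔜.IsLocNoethFormal)

theorem mem_lvU_zero {U : (𝔜.X 0).Opens} {z : 𝔜.X 0} : z ∈ 𝔜.lvU h𝔜.1 0 U ↔ z ∈ U :=
  (congrArg (· ∈ U)
    (ConcreteCategory.congr_hom (𝔜.toX_base_gInv h𝔜.1 0) z : (𝔜.gInv h𝔜.1 0) z = z)).to_iff

/-- The levels of a principal open. -/
theorem lvU_basicOpen (k : ℕ) {V D : (𝔜.X 0).Opens} (g : Levels.A 𝔜 h𝔜.1 V)
    (hD : D = (𝔜.X 0).basicOpen (Levels.proj 𝔜 h𝔜.1 0 V g)) :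
    𝔜.lvU h𝔜.1 k D = (𝔜.X k).basicOpen (Levels.proj 𝔜 h𝔜.1 k V g) := by
  have h0 : Levels.proj 𝔜 h𝔜.1 0 V g = Levels.toZero 𝔜 h𝔜.1 k V (Levels.proj 𝔜 h𝔜.1 k V g) :=
    (ConcreteCategory.congr_hom (Levels.proj_toZero 𝔜 h𝔜.1 k V) g).symm
  have hD' : D = 𝔜.lvU h𝔜.1 0 V ⊓ (𝔜.toX k) ⁻¹ᵁ (𝔜.X k).basicOpen (Levels.proj 𝔜 h𝔜.1 k V g) :=
    hD.trans ((congrArg (fun x => (𝔜.X 0).basicOpen x) h0).trans (Scheme.basicOpen_appLE _ _ _ _ _))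
  ext z
  have hz : (𝔜.toX k).base ((𝔜.gInv h𝔜.1 k) z) = z :=
    ConcreteCategory.congr_hom (𝔜.gInv_toX_base h𝔜.1 k) z
  show (𝔜.gInv h𝔜.1 k) z ∈ D ↔ z ∈ (𝔜.X k).basicOpen _
  rw [hD']
  constructor
  · rintro ⟨-, h2⟩
    exact (congrArg (· ∈ (𝔜.X k).basicOpen _) hz).mp h2
  · intro h
    refine ⟨(mem_lvU_zero h𝔜).2 ((𝔜.X k).basicOpen_le _ h), ?_⟩
    exact (congrArg (· ∈ (𝔜.X k).basicOpen _) hz).mpr h

theorem resA_mem_J {V D : (𝔜.X 0).Opens} (hDV : D ≤ V) {a : Levels.A 𝔜 h𝔜.1 V}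
    (ha : a ∈ Levels.J (h := h𝔜.1) V) : CohPres.resA h𝔜.1 hDV a ∈ Levels.J (h := h𝔜.1) D := by
  refine RingHom.mem_ker.2 ?_
  refine (CohPres.proj_resA h𝔜.1 0 hDV a).trans ?_
  exact (congrArg (QCoh.Localizing.resR _) (RingHom.mem_ker.1 ha)).trans (map_zero _)

/-- A function is invertible on its principal open. -/
theorem isUnit_resA {V D : (𝔜.X 0).Opens} (hDV : D ≤ V) (hDa : IsAffineOpen D) (g : Levels.A 𝔜 h𝔜.1 V)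
    (hD : D = (𝔜.X 0).basicOpen (Levels.proj 𝔜 h𝔜.1 0 V g)) : IsUnit (CohPres.resA h𝔜.1 hDV g) := by
  obtain ⟨hc, hs, -⟩ := Levels.adic h𝔜 hDa
  have hl := lvU_basicOpen h𝔜 0 g hD
  have h1 : IsUnit (Levels.proj 𝔜 h𝔜.1 0 D (CohPres.resA h𝔜.1 hDV g)) := by
    rw [CohPres.proj_resA]
    have h2 := (RingedSpace.isUnit_res_basicOpen _ (Levels.proj 𝔜 h𝔜.1 0 V g)).map
      (QCoh.Localizing.resR (X := 𝔜.X 0) hl.le)
    exact (QCoh.Localizing.resR_resR (X := 𝔜.X 0) _ hl.le (Levels.proj 𝔜 h𝔜.1 0 V g)) ▸ h2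
  obtain ⟨v, hv⟩ := (hs 0).1 (↑h1.unit⁻¹)
  refine isUnit_of_mul_isUnit_left (y := v) ?_
  set x := CohPres.resA h𝔜.1 hDV g * v
  have hx : x - 1 ∈ Levels.J (h := h𝔜.1) D := by
    rw [RingHom.mem_ker, map_sub, map_one, map_mul, hv, IsUnit.mul_val_inv, sub_self]
  have h3 := Ideal.mem_jacobson_bot.1 (IsAdicComplete.le_jacobson_bot (Levels.J (h := h𝔜.1) D) hx) 1
  rwa [mul_one, sub_add_cancel] at h3

variable {𝔛 : FSch.Sys.{u}} (h𝔛 : 𝔛.IsLocNoethFormal) (f : 𝔛 ⟶ 𝔜)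
  [HasInjectiveResolutions (FSch.ModF 𝔛 h𝔛.1)] (F : FSch.ModF 𝔛 h𝔛.1) (q : ℕ)
  (hf : FSch.IsProperHom f) (hF : FSch.IsCohF 𝔛 h𝔛.1 F)

/-- The transition maps of sections of the levels. -/
noncomputable abbrev tm {j k : ℕ} (h : k ≤ j) (V : (𝔜.X 0).Opens) :=
  secMap h𝔜.1 ((RpushLimit.T h𝔛 h𝔜 f F q).map (homOfLE h).op) V

theorem tm_pr {j k : ℕ} (h : k ≤ j) (V : (𝔜.X 0).Opens) (x : sec h𝔜.1 (R h𝔛 h𝔜 f F q) V) :
    tm h𝔜 h𝔛 f F q h V (pr h𝔛 h𝔜 f F q j V x) = pr h𝔛 h𝔜 f F q k V x :=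
  congrArg (fun φ => secMap h𝔜.1 φ V x) ((RpushLimit.cone h𝔛 h𝔜 f F q).w (homOfLE h).op)

include hf hF in
/-- Stable sections of the levels lift to sections. -/
theorem exists_lift_pr {V : (𝔜.X 0).Opens} (hV : IsAffineOpen V) (k : ℕ) :
    ∃ (j : ℕ) (hkj : k ≤ j), ∀ t : sec h𝔜.1 (Tk h𝔛 h𝔜 f F q j) V,
      ∃ x, pr h𝔛 h𝔜 f F q k V x = tm h𝔜 h𝔛 f F q hkj V t := by
  have hML := RpushImage.ml_sections h𝔜 h𝔛 f F q hf hF hV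
  obtain ⟨j, hkj, hj⟩ := hML k
  refine ⟨j, hkj, fun t => ?_⟩
  obtain ⟨β, hβ, hβk⟩ := MLSeq.Basic.exists_through (φ := id) monotone_id (fun i => ⟨i, le_rfl⟩) hML k
    (x := MLSeq.Basic.tr (RpushLimit.T h𝔛 h𝔜 f F q ⋙ RpushLimit.secF h𝔜 V) hkj t)
    (MLSeq.Basic.mem_evImage.2 fun l hl => hj l hl t)
  obtain ⟨x, hx, -⟩ := existsUnique_of_compatible h𝔛 h𝔜 f F q hf hF V β fun l => by
    have := hβ (Nat.le_succ l)
    rw [← RpushLimit.T_map_succ]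
    exact this
  exact ⟨x, (hx k).trans hβk⟩

theorem Jpow_le_ker (k : ℕ) {V : (𝔜.X 0).Opens} (hV : IsAffineOpen V)
    (hf : FSch.IsProperHom f) (hF : FSch.IsCohF 𝔛 h𝔛.1 F) :
    Levels.J (h := h𝔜.1) V ^ (k + 1) •
        (⊤ : Submodule (Levels.A 𝔜 h𝔜.1 V) (sec h𝔜.1 (R h𝔛 h𝔜 f F q) V)) ≤
      LinearMap.ker (pr h𝔛 h𝔜 f F q k V) := by
  refine Submodule.smul_le.2 fun a ha x _ => LinearMap.mem_ker.2 ?_
  rw [map_smul]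
  exact smul_level_eq_zero h𝔛 h𝔜 f F q hf hF k V a
    (RingHom.mem_ker.1 (((Levels.adic h𝔜 hV).2.1 k).2.symm ▸ ha)) _

include hf hF in
theorem eq_zero_of_pr {V : (𝔜.X 0).Opens} (x : sec h𝔜.1 (R h𝔛 h𝔜 f F q) V)
    (hx : ∀ k, pr h𝔛 h𝔜 f F q k V x = 0) : x = 0 :=
  ext_of_pr h𝔛 h𝔜 f F q hf hF fun k => (hx k).trans (map_zero _).symm

/-- Presentations of the sections over an affine open, with the filtration comparison. -/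
structure Pres {V : (𝔜.X 0).Opens} {n m : ℕ} (g : Fin n → sec h𝔜.1 (R h𝔛 h𝔜 f F q) V)
    (r : Fin m → Fin n → Levels.A 𝔜 h𝔜.1 V) (N : ℕ) : Prop where
  gen : ∀ x, ∃ a : Fin n → Levels.A 𝔜 h𝔜.1 V, x = ∑ i, a i • g i
  rel : ∀ j, ∑ i, r j i • g i = 0
  ex : ∀ a : Fin n → Levels.A 𝔜 h𝔜.1 V, ∑ i, a i • g i = 0 →
    ∃ d : Fin m → Levels.A 𝔜 h𝔜.1 V, ∀ i, a i = ∑ j, d j * r j i
  filt : ∀ s x, pr h𝔛 h𝔜 f F q (s + N) V x = 0 →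
    ∃ β : Fin n → Levels.A 𝔜 h𝔜.1 V, (∀ i, β i ∈ Levels.J (h := h𝔜.1) V ^ s) ∧ x = ∑ i, β i • g i

include hf hF in
theorem exists_pres {V : (𝔜.X 0).Opens} (hV : IsAffineOpen V) :
    ∃ (n m : ℕ) (g : Fin n → sec h𝔜.1 (R h𝔛 h𝔜 f F q) V) (r : Fin m → Fin n → Levels.A 𝔜 h𝔜.1 V)
      (N : ℕ), Pres h𝔜 h𝔛 f F q g r N := by
  haveI := (Levels.adic h𝔜 hV).1
  haveI := Levels.isNoetherianRing_A h𝔜 hV
  haveI := fun k => isNoetherian_level h𝔛 h𝔜 f F q hf hF k hV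
  obtain ⟨r₀, a, ha, N, hdec⟩ := decomp h𝔛 h𝔜 f F q hf hF hV
  haveI : Module.Finite (Levels.A 𝔜 h𝔜.1 V) (sec h𝔜.1 (R h𝔛 h𝔜 f F q) V) :=
    AdicPres.finite (J := Levels.J (h := h𝔜.1) V) (T := fun k => sec h𝔜.1 (Tk h𝔛 h𝔜 f F q k) V)
    (fun k => pr h𝔛 h𝔜 f F q k V) (eq_zero_of_pr h𝔜 h𝔛 f F q hf hF) (fun k => Jpow_le_ker h𝔜 h𝔛 f F q k hV hf hF) ha hdec
  obtain ⟨n, φ, hφ⟩ := Module.Finite.exists_fin' (Levels.A 𝔜 h𝔜.1 V) (sec h𝔜.1 (R h𝔛 h𝔜 f F q) V)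
  obtain ⟨m, r, hr⟩ := Submodule.fg_iff_exists_fin_generating_family.1
    (IsNoetherian.noetherian (LinearMap.ker φ))
  let g : Fin n → sec h𝔜.1 (R h𝔛 h𝔜 f F q) V := fun i => φ (Pi.single i 1)
  have hg : ∀ a, φ a = ∑ i, a i • g i := fun a => by
    conv_lhs => rw [pi_eq_sum_univ' a]
    simp only [map_sum, map_smul, g]
  refine ⟨n, m, g, r, N, ⟨fun x => ?_, fun j => ?_, fun a ha => ?_, fun s x hx => ?_⟩⟩
  · obtain ⟨a, rfl⟩ := hφ x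
    exact ⟨a, hg a⟩
  · rw [← hg, ← LinearMap.mem_ker, ← hr]
    exact Submodule.subset_span ⟨j, rfl⟩
  · rw [← hg, ← LinearMap.mem_ker, ← hr, Submodule.mem_span_range_iff_exists_fun] at ha
    obtain ⟨d, hd⟩ := ha
    exact ⟨d, fun i => by rw [← hd]; simp⟩
  · rw [add_comm s N] at hx
    have h1 := AdicPres.ker_le (fun k => pr h𝔛 h𝔜 f F q k V) ha hdec s (LinearMap.mem_ker.2 hx)
    have h2 := Submodule.smul_mono le_rfl le_top h1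
    rw [← LinearMap.range_eq_top.2 hφ, ← Submodule.map_top, ← Submodule.map_smul''] at h2
    obtain ⟨β, hβ, rfl⟩ := Submodule.mem_map.1 h2
    exact ⟨β, fun i => Adic.Complete.mem_of_mem_smul_top_pi hβ i, hg β⟩

section Loc

variable {V D : (𝔜.X 0).Opens} (hV : IsAffineOpen V) (hDV : D ≤ V) (hDa : IsAffineOpen D)
  (g₀ : Levels.A 𝔜 h𝔜.1 V) (hD : D = (𝔜.X 0).basicOpen (Levels.proj 𝔜 h𝔜.1 0 V g₀))

include hV hDV hDa hD hf hF in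
/-- Sections of a level over a principal open are fractions. -/
theorem exists_frac (k : ℕ) (x : sec h𝔜.1 (Tk h𝔛 h𝔜 f F q k) D) :
    ∃ (c : Levels.A 𝔜 h𝔜.1 D) (t : sec h𝔜.1 (Tk h𝔛 h𝔜 f F q k) V),
      x = c • CohPres.resF h𝔜.1 (Tk h𝔛 h𝔜 f F q k) hDV t := by
  obtain ⟨N, hN, ⟨i⟩⟩ := exists_level h𝔛 h𝔜 f F q hf hF k
  haveI : N.IsQuasicoherent := hN.1
  have hlDV := CohPres.lvU_mono h𝔜.1 k hDV
  obtain ⟨e, t₀, ht₀⟩ := (QCoh.Localizing.localizes_of_isAffineOpen N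
    (OshBasic.isAffineOpen_lvU 𝔜 h𝔜.1 k hV) (Levels.proj 𝔜 h𝔜.1 k V g₀)).ext'.exists_of_eq
      (lvU_basicOpen h𝔜 k g₀ hD) hlDV (show Γ(N, 𝔜.lvU h𝔜.1 k D) from secMap h𝔜.1 i.hom D x)
  have hu := (isUnit_resA h𝔜 hDV hDa g₀ hD).pow e
  obtain ⟨c, hc⟩ := hu.exists_left_inv
  refine ⟨c, secMap h𝔜.1 i.inv V t₀, ?_⟩
  have h1 : CohPres.resA h𝔜.1 hDV g₀ ^ e • x =
      CohPres.resF h𝔜.1 (Tk h𝔛 h𝔜 f F q k) hDV (secMap h𝔜.1 i.inv V t₀) := by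
    refine secMap_iso_injective h𝔜 i D ?_
    refine ((secMap h𝔜.1 i.hom D).map_smul _ x).trans ?_
    refine (push_smul h𝔜 k N D _ _).trans ?_
    rw [map_pow, CohPres.proj_resA]
    have h3 : secMap h𝔜.1 i.hom D (CohPres.resF h𝔜.1 _ hDV (secMap h𝔜.1 i.inv V t₀)) =
        N.presheaf.map (homOfLE hlDV).op t₀ := by
      refine (LevelAdj.secMap_map i.hom hDV _).trans ?_
      refine congrArg (fun w => N.presheaf.map (homOfLE hlDV).op w) ?_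
      exact congrArg (fun φ => secMap h𝔜.1 φ V t₀) i.inv_hom_id
    exact ht₀.symm.trans h3.symm
  refine Eq.trans ?_ (congrArg (fun w => c • w) h1)
  show x = c • (CohPres.resA h𝔜.1 hDV g₀ ^ e • x)
  rw [smul_smul, hc, one_smul]

include hV hDV hD hf hF in
/-- A section of a level vanishing on a principal open is killed by a power of the function. -/
theorem exists_kill (k : ℕ) (t : sec h𝔜.1 (Tk h𝔛 h𝔜 f F q k) V)
    (ht : CohPres.resF h𝔜.1 (Tk h𝔛 h𝔜 f F q k) hDV t = 0) : ∃ e : ℕ, g₀ ^ e • t = 0 := by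
  obtain ⟨N, hN, ⟨i⟩⟩ := exists_level h𝔛 h𝔜 f F q hf hF k
  haveI : N.IsQuasicoherent := hN.1
  have hlDV := CohPres.lvU_mono h𝔜.1 k hDV
  obtain ⟨e, he⟩ := (QCoh.Localizing.localizes_of_isAffineOpen N
    (OshBasic.isAffineOpen_lvU 𝔜 h𝔜.1 k hV) (Levels.proj 𝔜 h𝔜.1 k V g₀)).sep.exists_of_eq
      (lvU_basicOpen h𝔜 k g₀ hD) hlDV (show Γ(N, 𝔜.lvU h𝔜.1 k V) from secMap h𝔜.1 i.hom V t)
      ((LevelAdj.secMap_map i.hom hDV t).symm.trans ((congrArg _ ht).trans (map_zero _)))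
  refine ⟨e, secMap_iso_injective h𝔜 i V ?_⟩
  refine ((secMap h𝔜.1 i.hom V).map_smul _ t).trans ((push_smul h𝔜 k N V _ _).trans ?_)
  rw [map_pow]
  exact he.trans (map_zero (secMap h𝔜.1 i.hom V)).symm

include hV hDV hDa hD in
/-- Functions on a principal open are, modulo powers of the ideal of definition, fractions. -/
theorem exists_approx (k : ℕ) (c : Levels.A 𝔜 h𝔜.1 D) :
    ∃ (e : ℕ) (b : Levels.A 𝔜 h𝔜.1 V), CohPres.resA h𝔜.1 hDV g₀ ^ e * c - CohPres.resA h𝔜.1 hDV b ∈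
      Levels.J (h := h𝔜.1) D ^ (k + 1) := by
  have hVk := OshBasic.isAffineOpen_lvU 𝔜 h𝔜.1 k hV
  have hlDV := CohPres.lvU_mono h𝔜.1 k hDV
  letI : Algebra Γ(𝔜.X k, 𝔜.lvU h𝔜.1 k V) Γ(𝔜.X k, 𝔜.lvU h𝔜.1 k D) :=
    (QCoh.Localizing.resR hlDV).toAlgebra
  haveI : IsLocalization.Away (Levels.proj 𝔜 h𝔜.1 k V g₀) Γ(𝔜.X k, 𝔜.lvU h𝔜.1 k D) :=
    hVk.isLocalization_of_eq_basicOpen _ (homOfLE hlDV) (lvU_basicOpen h𝔜 k g₀ hD)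
  obtain ⟨e, b₀, hb₀⟩ := IsLocalization.Away.surj (Levels.proj 𝔜 h𝔜.1 k V g₀)
    (show Γ(𝔜.X k, 𝔜.lvU h𝔜.1 k D) from Levels.proj 𝔜 h𝔜.1 k D c)
  obtain ⟨b, hb⟩ := ((Levels.adic h𝔜 hV).2.1 k).1 b₀
  refine ⟨e, b, ((Levels.adic h𝔜 hDa).2.1 k).2 ▸ RingHom.mem_ker.2 ?_⟩
  rw [map_sub, map_mul, map_pow, CohPres.proj_resA, CohPres.proj_resA, hb, sub_eq_zero]
  exact (mul_comm _ _).trans hb₀

include hV hDV hDa hD hf hF in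
/-- Generators and relations pass to principal opens. -/
theorem pres_basicOpen {n m : ℕ} {g : Fin n → sec h𝔜.1 (R h𝔛 h𝔜 f F q) V}
    {r : Fin m → Fin n → Levels.A 𝔜 h𝔜.1 V} {N : ℕ} (hp : Pres h𝔜 h𝔛 f F q g r N) :
    (∀ x, ∃ a : Fin n → Levels.A 𝔜 h𝔜.1 D, x = ∑ i, a i • CohPres.resF h𝔜.1 _ hDV (g i)) ∧
    (∀ a : Fin n → Levels.A 𝔜 h𝔜.1 D, ∑ i, a i • CohPres.resF h𝔜.1 _ hDV (g i) = 0 →
      ∃ d : Fin m → Levels.A 𝔜 h𝔜.1 D, ∀ i, a i = ∑ j, d j * CohPres.resA h𝔜.1 hDV (r j i)) := by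
  haveI := (Levels.adic h𝔜 hDa).1
  haveI := Levels.isNoetherianRing_A h𝔜 hDa
  let φ := Fintype.linearCombination (Levels.A 𝔜 h𝔜.1 D)
    fun i => CohPres.resF h𝔜.1 (R h𝔛 h𝔜 f F q) hDV (g i)
  have hφ : ∀ a, φ a = ∑ i, a i • CohPres.resF h𝔜.1 (R h𝔛 h𝔜 f F q) hDV (g i) := fun a =>
    Fintype.linearCombination_apply _ _ a
  let ρ := Fintype.linearCombination (Levels.A 𝔜 h𝔜.1 D) fun j i => CohPres.resA h𝔜.1 hDV (r j i)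
  have hres : ∀ a : Fin n → Levels.A 𝔜 h𝔜.1 V, φ (fun i => CohPres.resA h𝔜.1 hDV (a i)) =
      CohPres.resF h𝔜.1 (R h𝔛 h𝔜 f F q) hDV (∑ i, a i • g i) := fun a => by
    rw [hφ, map_sum]
    exact Finset.sum_congr rfl fun i _ => (CohPres.resF_smul h𝔜.1 _ hDV (a i) (g i)).symm
  have hρ : ∀ d, φ (ρ d) = 0 := fun d => by
    rw [show ρ d = ∑ j, d j • fun i => CohPres.resA h𝔜.1 hDV (r j i) from
      Fintype.linearCombination_apply _ _ d, map_sum]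
    refine Finset.sum_eq_zero fun j _ => ?_
    rw [map_smul, hres (r j), hp.rel j, map_zero, smul_zero]
  have hker : ∀ k c, pr h𝔛 h𝔜 f F q (k + N) D (φ c) = 0 →
      c ∈ Levels.J (h := h𝔜.1) D ^ k • (⊤ : Submodule (Levels.A 𝔜 h𝔜.1 D) (Fin n → Levels.A 𝔜 h𝔜.1 D)) ⊔
        LinearMap.range ρ := by
    intro k c hc
    choose e b hb using fun i => exists_approx h𝔜 hV hDV hDa g₀ hD (k + N) (c i)
    let E := ∑ i, e i
    let b' : Fin n → Levels.A 𝔜 h𝔜.1 V := fun i => g₀ ^ (E - e i) * b i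
    have hE : ∀ i, CohPres.resA h𝔜.1 hDV g₀ ^ E * c i - CohPres.resA h𝔜.1 hDV (b' i) ∈
        Levels.J (h := h𝔜.1) D ^ (k + N + 1) := fun i => by
      have he : E - e i + e i = E :=
        Nat.sub_add_cancel (Finset.single_le_sum (fun j _ => Nat.zero_le (e j)) (Finset.mem_univ i))
      have hsplit : CohPres.resA h𝔜.1 hDV g₀ ^ E * c i - CohPres.resA h𝔜.1 hDV (b' i) =
          CohPres.resA h𝔜.1 hDV g₀ ^ (E - e i) *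
            (CohPres.resA h𝔜.1 hDV g₀ ^ e i * c i - CohPres.resA h𝔜.1 hDV (b i)) := by
        rw [mul_sub, ← mul_assoc, ← pow_add, he, map_mul, map_pow]
      rw [hsplit]
      exact Ideal.mul_mem_left _ _ (hb i)
    have h0 : CohPres.resF h𝔜.1 (Tk h𝔛 h𝔜 f F q (k + N)) hDV
        (pr h𝔛 h𝔜 f F q (k + N) V (∑ i, b' i • g i)) = 0 := by
      refine (pr_res h𝔛 h𝔜 f F q (k + N) hDV _).symm.trans ?_
      rw [← hres b']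
      let c' : Fin n → Levels.A 𝔜 h𝔜.1 D := fun i =>
        CohPres.resA h𝔜.1 hDV g₀ ^ E * c i - CohPres.resA h𝔜.1 hDV (b' i)
      have h1 : φ c' ∈ LinearMap.ker (pr h𝔛 h𝔜 f F q (k + N) D) := by
        refine Jpow_le_ker h𝔜 h𝔛 f F q (k + N) hDa hf hF ?_
        rw [hφ]
        exact Submodule.sum_mem _ fun i _ => Submodule.smul_mem_smul (hE i) trivial
      have h2 : (fun i => CohPres.resA h𝔜.1 hDV (b' i)) = CohPres.resA h𝔜.1 hDV g₀ ^ E • c - c' := by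
        funext i
        simp only [c', Pi.sub_apply, Pi.smul_apply, smul_eq_mul, sub_sub_cancel]
      rw [h2, map_sub, map_smul, map_sub, map_smul, hc, smul_zero, LinearMap.mem_ker.1 h1, sub_zero]
    obtain ⟨p, hpk⟩ := exists_kill h𝔜 h𝔛 f F q hf hF hV hDV g₀ hD (k + N) _ h0
    rw [← map_smul] at hpk
    obtain ⟨β, hβ, hβe⟩ := hp.filt k _ hpk
    obtain ⟨d, hd⟩ := hp.ex (fun i => g₀ ^ p * b' i - β i) (by
      simp only [sub_smul, mul_smul, Finset.sum_sub_distrib, ← Finset.smul_sum]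
      exact sub_eq_zero.2 hβe)
    refine AdicPres.mem_sup_of_loc (CohPres.resA h𝔜.1 hDV) (J := Levels.J (h := h𝔜.1) V)
      (I := Levels.J (h := h𝔜.1) D)
      (Ideal.map_le_iff_le_comap.2 fun a ha => resA_mem_J h𝔜 hDV ha) r
      ((isUnit_resA h𝔜 hDV hDa g₀ hD).pow E) ((isUnit_resA h𝔜 hDV hDa g₀ hD).pow p) c b'
      (fun i => Ideal.pow_le_pow_right (by omega) (hE i)) β hβ (g₀ ^ p) (map_pow _ _ _) d fun i => ?_
    exact sub_eq_iff_eq_add'.1 (hd i)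
  have hlift : ∀ k x, ∃ c, pr h𝔛 h𝔜 f F q k D x = pr h𝔛 h𝔜 f F q k D (φ c) := by
    intro k x
    obtain ⟨j, hkj, hj⟩ := exists_lift_pr h𝔜 h𝔛 f F q hf hF hV k
    obtain ⟨c, t, hct⟩ := exists_frac h𝔜 h𝔛 f F q hf hF hV hDV hDa g₀ hD j (pr h𝔛 h𝔜 f F q j D x)
    obtain ⟨x', hx'⟩ := hj t
    obtain ⟨a, rfl⟩ := hp.gen x'
    refine ⟨c • fun i => CohPres.resA h𝔜.1 hDV (a i), ?_⟩
    rw [map_smul, map_smul, hres a]
    refine (tm_pr h𝔜 h𝔛 f F q hkj D x).symm.trans ?_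
    refine (congrArg (tm h𝔜 h𝔛 f F q hkj D) hct).trans (((tm h𝔜 h𝔛 f F q hkj D).map_smul c _).trans ?_)
    refine congrArg (fun w => c • w) ?_
    refine (LevelAdj.secMap_map _ hDV t).trans ?_
    exact ((congrArg _ hx'.symm).trans (pr_res h𝔛 h𝔜 f F q k hDV _).symm)
  refine ⟨fun x => ?_, fun a ha => ?_⟩
  · obtain ⟨a, rfl⟩ := AdicPres.surjective (J := Levels.J (h := h𝔜.1) D) (fun k => pr h𝔛 h𝔜 f F q k D)
      (eq_zero_of_pr h𝔜 h𝔛 f F q hf hF) (fun k => Jpow_le_ker h𝔜 h𝔛 f F q k hDa hf hF)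
      (fun j k hjk y hy => pr_zero_of_le h𝔛 h𝔜 f F q hjk D y hy) φ ρ hker hρ hlift x
    exact ⟨a, hφ a⟩
  · obtain ⟨d, hd⟩ := AdicPres.ker_le_range (J := Levels.J (h := h𝔜.1) D) (fun k => pr h𝔛 h𝔜 f F q k D)
      φ ρ hker a ((hφ a).trans ha)
    exact ⟨d, fun i => by rw [← hd]; simp [ρ, Fintype.linearCombination_apply]⟩

end Loc

/-- Principal opens form neighbourhoods. -/
theorem exists_basicOpen {V U : (𝔜.X 0).Opens} (hV : IsAffineOpen V) {z : 𝔜.X 0} (hzU : z ∈ U)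
    (hzV : z ∈ V) : ∃ (g : Levels.A 𝔜 h𝔜.1 V) (D : (𝔜.X 0).Opens),
      D = (𝔜.X 0).basicOpen (Levels.proj 𝔜 h𝔜.1 0 V g) ∧ D ≤ U ∧ D ≤ V ∧ z ∈ D ∧ IsAffineOpen D := by
  have hV0 := OshBasic.isAffineOpen_lvU 𝔜 h𝔜.1 0 hV
  obtain ⟨b, hbU, hzb⟩ := hV0.exists_basicOpen_le (V := U) ⟨z, hzU⟩ ((mem_lvU_zero h𝔜).2 hzV)
  obtain ⟨g, hg⟩ := ((Levels.adic h𝔜 hV).2.1 0).1 b
  exact ⟨g, (𝔜.X 0).basicOpen b, congrArg (fun w => (𝔜.X 0).basicOpen w) hg.symm, hbU,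
    fun w hw => (mem_lvU_zero h𝔜).1 ((𝔜.X 0).basicOpen_le b hw), hzb, hV0.basicOpen b⟩

include hf hF in
theorem isPres {V : (𝔜.X 0).Opens} (hV : IsAffineOpen V) {n m : ℕ}
    {g : Fin n → sec h𝔜.1 (R h𝔛 h𝔜 f F q) V} {r : Fin m → Fin n → Levels.A 𝔜 h𝔜.1 V} {N : ℕ}
    (hp : Pres h𝔜 h𝔛 f F q g r N) :
    PresSh.IsPres (R := ModSite.ringSh (𝔜.Osh h𝔜.1)) (R h𝔛 h𝔜 f F q) V g r := by
  refine PresSh.IsPres.of_basis Set.univ (Opens.isBasis_iff_nbhd.2 fun {U x} hx => ⟨U, trivial, hx, le_rfl⟩) hp.rel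
    (fun W _ hWV s z hz => ?_) fun W _ hWV c hc z hz => ?_
  · obtain ⟨g₀, D, hD, hDW, hDV, hzD, hDa⟩ := exists_basicOpen h𝔜 hV hz (hWV hz)
    exact ⟨D, hDW, hzD, (pres_basicOpen h𝔜 h𝔛 f F q hf hF hV hDV hDa g₀ hD hp).1
      (CohPres.resF h𝔜.1 _ hDW s)⟩
  · obtain ⟨g₀, D, hD, hDW, hDV, hzD, hDa⟩ := exists_basicOpen h𝔜 hV hz (hWV hz)
    refine ⟨D, hDW, hzD, (pres_basicOpen h𝔜 h𝔛 f F q hf hF hV hDV hDa g₀ hD hp).2
      (fun i => CohPres.resA h𝔜.1 hDW (c i)) ?_⟩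
    have h1 := (congrArg (CohPres.resF h𝔜.1 (R h𝔛 h𝔜 f F q) hDW) hc).trans (map_zero _)
    rw [map_sum] at h1
    refine Eq.trans (Finset.sum_congr rfl fun i _ => ?_) h1
    refine Eq.trans ?_ (CohPres.resF_smul h𝔜.1 _ hDW (c i) _).symm
    exact congrArg (_ • ·) (PresSh.res_res (R h𝔛 h𝔜 f F q) hWV hDW (g i)).symm

include hf hF in
theorem isCohF : FSch.IsCohF 𝔜 h𝔜.1 (R h𝔛 h𝔜 f F q) := by
  refine PresSh.isFinitePresentation_of_isPres fun x => ?_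
  obtain ⟨V, hV, hxV, -⟩ := exists_isAffineOpen_mem_and_subset (X := 𝔜.X 0) (x := x) (U := ⊤) trivial
  obtain ⟨n, m, g, r, N, hp⟩ := exists_pres h𝔜 h𝔛 f F q hf hF hV
  exact ⟨V, n, m, g, r, hxV, isPres h𝔜 h𝔛 f F q hf hF hV hp⟩

end Groth.Agent.H30.RpushCoh
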