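import Groth.Agent.H30.FSch.KillPow
import Groth.Agent.H30.FSch.CohSerre
import Groth.Agent.H30.FSch.CohCons
import Groth.Agent.S13637
import Groth.Agent.H30.FSch.TorsCoh
import Groth.Agent.S13335
import Groth.Agent.H30.IdealLemmas
import Groth.Agent.Lib.Ideal.Comap

/-!
# Powers of an ideal killing the kernel and cokernel of the unit on completions (helper30)
-/

set_option autoImplicit false
set_option linter.style.haveILetI false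
set_option linter.unusedSectionVars false

noncomputable section

universe u

open CategoryTheory CategoryTheory.Limits AlgebraicGeometry TopologicalSpace Opposite
open Groth.Agent.H30 Groth.Agent.H30.RealLimSec Groth.Agent.Lib

namespace Groth.Agent.H30.KillGlobal

variable {𝔛 : FSch.Sys.{u}} (h𝔛 : 𝔛.IsLocNoethFormal)

/-- A scalar killing the sections of a coherent module over an affine open kills them on smaller affine opens. -/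
theorem kill_of_le {F : FSch.ModF 𝔛 h𝔛.1} (hF : FSch.IsCohF 𝔛 h𝔛.1 F) {V V' : (𝔛.X 0).Opens}
    (hV : IsAffineOpen V) (hV' : IsAffineOpen V') (e : V' ≤ V) (r : Levels.A 𝔛 h𝔛.1 V)
    (hr : ∀ x : sec h𝔛.1 F V, r • x = 0) (x' : sec h𝔛.1 F V') : CohPres.resA h𝔛.1 e r • x' = 0 := by
  obtain ⟨𝔐, h𝔐, ⟨i⟩⟩ := Groth.Agent.S13335.result 𝔛 h𝔛 F hF
  obtain ⟨n, m, g, rel, hg⟩ := CohPres.exists_gens h𝔛 𝔐 h𝔐 hV
  have hr' : ∀ z : sec h𝔛.1 (𝔐.realMod h𝔛.1) V, r • z = 0 := fun z => by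
    have h1 : secMap h𝔛.1 i.hom V (secMap h𝔛.1 i.inv V z) = z :=
      congrArg (fun ψ => secMap h𝔛.1 ψ V z) i.inv_hom_id
    rw [← h1, ← map_smul, hr, map_zero]
  obtain ⟨a, ha⟩ := CohPres.gen_of_le h𝔛 𝔐 h𝔐 (CohPres.isPres_lev h𝔛 𝔐 h𝔐 hV hg) hV' e
    (secMap h𝔛.1 i.hom V' x')
  have h2 : secMap h𝔛.1 i.inv V' (secMap h𝔛.1 i.hom V' x') = x' :=
    congrArg (fun ψ => secMap h𝔛.1 ψ V' x') i.hom_inv_id
  rw [← h2, ← map_smul, ha, Finset.smul_sum, Finset.sum_eq_zero, map_zero]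
  intro j _
  rw [smul_comm, ← CohPres.resF_smul, hr', map_zero, smul_zero]

variable {X Z : Scheme.{u}} (f : Z ⟶ X) [IsProper f] {ℨ : FSch.Sys.{u}} (φ : ℨ ⟶ 𝔛)
  (hℨ : ℨ.IsLocNoethFormal)
  (p : ∀ k, 𝔛.X k ⟶ X) (hp : ∀ k, 𝔛.ι k ≫ p (k + 1) = p k)
  (q : ∀ k, ℨ.X k ⟶ Z) (hq : ∀ k, ℨ.ι k ≫ q (k + 1) = q k)
  [∀ k, IsClosedImmersion (p k)]
  (hsq : ∀ k, q k ≫ f = (φ : FSch.Hom ℨ 𝔛).app k ≫ p k)
  (hpb : ∀ k, IsPullback (q k) ((φ : FSch.Hom ℨ 𝔛).app k) f (p k))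
  (𝔉 : FSch.ModF 𝔛 h𝔛.1) (h𝔉 : FSch.IsCohF 𝔛 h𝔛.1 𝔉)

/-- The unit. -/
abbrev un : 𝔉 ⟶ (FSch.pushF φ hℨ.1 h𝔛.1).obj ((FSch.pullF φ hℨ.1 h𝔛.1).obj 𝔉) :=
  (FSch.homMor φ hℨ.1 h𝔛.1).adj.unit.app 𝔉

include h𝔉 in
theorem isCohF_target [CompactSpace (𝔛.X 0)] (hφ : FSch.IsProperHom φ) [HasInjectiveResolutions (FSch.ModF ℨ hℨ.1)] :
    FSch.IsCohF 𝔛 h𝔛.1 ((FSch.pushF φ hℨ.1 h𝔛.1).obj ((FSch.pullF φ hℨ.1 h𝔛.1).obj 𝔉)) := by
  haveI : (FSch.pushF φ hℨ.1 h𝔛.1).IsRightAdjoint := (FSch.homMor φ hℨ.1 h𝔛.1).adj.isRightAdjoint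
  haveI : PreservesFiniteLimits (FSch.pushF φ hℨ.1 h𝔛.1) := inferInstance
  exact CohSerre.isCohF_of_iso h𝔛
    ((FSch.pushF φ hℨ.1 h𝔛.1).rightDerivedZeroIsoSelf.app _)
    (Groth.Agent.S13637.result ℨ 𝔛 hℨ h𝔛 φ hφ _ (PullCoh.isCohF_pullF φ hℨ h𝔛 h𝔉) 0)

include hq hsq hpb h𝔉 in
/-- The bound on one affine open. -/
theorem exists_bound_affine [IsLocallyNoetherian X] (𝓜 : X.IdealSheafData)
    (hU : IsIso (f ∣_ 𝓜.support.compl)) (U : X.affineOpens) :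
    ∃ n : ℕ, ∀ s ∈ 𝓜.ideal U ^ n,
      (∀ x : sec h𝔛.1 𝔉 (ComplSec.pre p U.1), secMap h𝔛.1 (un h𝔛 φ hℨ 𝔉) (ComplSec.pre p U.1) x = 0 →
        KillBase.sh h𝔛 p hp U.1 s • x = 0) ∧
      ∀ y : sec h𝔛.1 ((FSch.pushF φ hℨ.1 h𝔛.1).obj ((FSch.pullF φ hℨ.1 h𝔛.1).obj 𝔉)) (ComplSec.pre p U.1),
        ∃ x, secMap h𝔛.1 (un h𝔛 φ hℨ 𝔉) (ComplSec.pre p U.1) x = KillBase.sh h𝔛 p hp U.1 s • y := by
  haveI := hU
  obtain ⟨𝔐, h𝔐, ⟨i⟩⟩ := Groth.Agent.S13335.result 𝔛 h𝔛 𝔉 h𝔉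
  haveI := PullCoh.isIso_e₀ φ hℨ h𝔛 𝔐 h𝔐
  let Θ := (FSch.pushF φ hℨ.1 h𝔛.1).map
    ((FSch.pullF φ hℨ.1 h𝔛.1).map i.hom ≫ PullFSys.e₀ φ hℨ h𝔛 𝔐)
  haveI : IsIso Θ := Functor.map_isIso _ _
  have hΘ : un h𝔛 φ hℨ 𝔉 ≫ Θ = i.hom ≫ PullFSys.φmap φ hℨ h𝔛 𝔐 := by
    rw [← PullFSys.homEquiv_e₀, ← Adjunction.homEquiv_naturality_left, Adjunction.homEquiv_unit]
  let V := ComplSec.pre p U.1
  have hΘx : ∀ x, secMap h𝔛.1 Θ V (secMap h𝔛.1 (un h𝔛 φ hℨ 𝔉) V x) =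
      PullFSys.pb φ hℨ h𝔛 𝔐 V (secMap h𝔛.1 i.hom V x) := fun x =>
    congrArg (fun ψ => secMap h𝔛.1 ψ V x) hΘ
  have hΘi : Function.Injective (secMap h𝔛.1 Θ V) := fun a b h => by
    have e : ∀ z, secMap h𝔛.1 (inv Θ) V (secMap h𝔛.1 Θ V z) = z := fun z =>
      congrArg (fun ψ => secMap h𝔛.1 ψ V z) (IsIso.hom_inv_id Θ)
    rw [← e a, h, e]
  have hi : ∀ z, secMap h𝔛.1 i.hom V (secMap h𝔛.1 i.inv V z) = z := fun z =>
    congrArg (fun ψ => secMap h𝔛.1 ψ V z) i.inv_hom_id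
  have hi' : ∀ z, secMap h𝔛.1 i.inv V (secMap h𝔛.1 i.hom V z) = z := fun z =>
    congrArg (fun ψ => secMap h𝔛.1 ψ V z) i.hom_inv_id
  haveI := IsLocallyNoetherian.component_noetherian (X := X) U
  let 𝔟 : Ideal Γ(X, U.1) :=
    { carrier := {s | (∀ x : sec h𝔛.1 𝔉 V, secMap h𝔛.1 (un h𝔛 φ hℨ 𝔉) V x = 0 →
          KillBase.sh h𝔛 p hp U.1 s • x = 0) ∧
        ∀ y : sec h𝔛.1 ((FSch.pushF φ hℨ.1 h𝔛.1).obj ((FSch.pullF φ hℨ.1 h𝔛.1).obj 𝔉)) V,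
          ∃ x, secMap h𝔛.1 (un h𝔛 φ hℨ 𝔉) V x = KillBase.sh h𝔛 p hp U.1 s • y}
      add_mem' := fun {a b} ha hb => ⟨fun x hx => by rw [map_add, add_smul, ha.1 x hx, hb.1 x hx, add_zero],
        fun y => by
          obtain ⟨x, hx⟩ := ha.2 y
          obtain ⟨x', hx'⟩ := hb.2 y
          exact ⟨x + x', by rw [map_add, map_add, hx, hx', add_smul]⟩⟩
      zero_mem' := ⟨fun x _ => by rw [map_zero, zero_smul], fun y => ⟨0, by rw [map_zero, map_zero, zero_smul]⟩⟩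
      smul_mem' := fun c a ha => ⟨fun x hx => by rw [smul_eq_mul, map_mul, mul_smul, ha.1 x hx, smul_zero],
        fun y => by
          obtain ⟨x, hx⟩ := ha.2 y
          exact ⟨KillBase.sh h𝔛 p hp U.1 c • x, by rw [map_smul, hx, smul_eq_mul, map_mul, mul_smul]⟩⟩ }
  have hrad : 𝓜.ideal U ≤ 𝔟.radical := fun t ht => by
    have hle : X.basicOpen t ≤ 𝓜.support.compl := fun x hx hxs => by
      have h1 : x ∈ ((𝓜.support : Set X) ∩ U.1) := ⟨hxs, X.basicOpen_le t hx⟩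
      rw [𝓜.coe_support_inter U] at h1
      exact (Scheme.mem_zeroLocus_iff _ _ _).1 h1.1 t ht hx
    obtain ⟨N, hker, hcok⟩ := KillCore.exists_pow f φ h𝔛 hℨ p hp q hq U.2 hsq hpb 𝔐 h𝔐
      (O := 𝓜.support.compl) t hle
    refine ⟨N, fun x hx => ?_, fun y => ?_⟩
    · have h1 : PullFSys.pb φ hℨ h𝔛 𝔐 V (secMap h𝔛.1 i.hom V x) = 0 := by
        rw [← hΘx, hx]
        exact map_zero _
      rw [map_pow, ← hi' x, ← map_smul, hker _ h1, map_zero]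
    · obtain ⟨x, hx⟩ := hcok (secMap h𝔛.1 Θ V y)
      refine ⟨secMap h𝔛.1 i.inv V x, hΘi ?_⟩
      have h2 : (KillBase.sh h𝔛 p hp U.1 t) ^ N = KillBase.sh h𝔛 p hp U.1 (t ^ N) := (map_pow _ _ _).symm
      rw [h2] at hx
      rw [hΘx, hi]
      exact hx.trans (map_smul (secMap h𝔛.1 Θ V) (KillBase.sh h𝔛 p hp U.1 (t ^ N)) y).symm
  obtain ⟨N, hN⟩ := Ideal.exists_pow_le_of_le_radical_of_fg hrad (IsNoetherian.noetherian _)
  exact ⟨N, fun s hs => hN hs⟩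

theorem sh_res {U D : X.Opens} (e : D ≤ U) (s : Γ(X, U)) :
    CohPres.resA h𝔛.1 ((p 0).preimage_mono e) (KillBase.sh h𝔛 p hp U s) =
      KillBase.sh h𝔛 p hp D (X.presheaf.map (homOfLE e).op s) :=
  (ConcreteCategory.congr_hom ((FSch.schSharp 𝔛 h𝔛.1 p hp).hom.naturality (homOfLE e).op) s).symm

include hq hsq hpb h𝔉 in
/-- The bound, over the affine opens of a Noetherian base. -/
theorem exists_bound [IsNoetherian X] [CompactSpace (𝔛.X 0)] (hφ : FSch.IsProperHom φ)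
    [HasInjectiveResolutions (FSch.ModF ℨ hℨ.1)] (𝓜 : X.IdealSheafData)
    (hU : IsIso (f ∣_ 𝓜.support.compl)) :
    ∃ n : ℕ, 0 < n ∧ ∀ (U : X.affineOpens) (s : Γ(X, U.1)), s ∈ (𝓜 ^ n).ideal U →
      (∀ x : sec h𝔛.1 (kernel (un h𝔛 φ hℨ 𝔉)) (ComplSec.pre p U.1), KillBase.sh h𝔛 p hp U.1 s • x = 0) ∧
      (∀ x : sec h𝔛.1 (cokernel (un h𝔛 φ hℨ 𝔉)) (ComplSec.pre p U.1), KillBase.sh h𝔛 p hp U.1 s • x = 0) := by
  classical
  let ρ := un h𝔛 φ hℨ 𝔉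
  have hG := isCohF_target h𝔛 φ hℨ 𝔉 h𝔉 hφ
  have hK : FSch.IsCohF 𝔛 h𝔛.1 (kernel ρ) := CohSerre.isCohF_kernel h𝔛 ρ h𝔉 hG
  have hC : FSch.IsCohF 𝔛 h𝔛.1 (cokernel ρ) := CohSerre.isCohF_cokernel h𝔛 ρ h𝔉 hG
  choose N hN using fun U : X.affineOpens =>
    exists_bound_affine h𝔛 f φ hℨ p hp q hq hsq hpb 𝔉 h𝔉 𝓜 hU U
  obtain ⟨I, hI⟩ := (isCompact_univ (X := X)).elim_finite_subcover (fun U : X.affineOpens => (U.1 : Set X))
    (fun U => U.1.isOpen) fun x _ => by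
      obtain ⟨U, hU', hx, -⟩ := exists_isAffineOpen_mem_and_subset (X := X) (x := x) (U := ⊤) trivial
      exact Set.mem_iUnion.2 ⟨⟨U, hU'⟩, hx⟩
  refine ⟨I.sup N + 1, Nat.succ_pos _, fun U s hs => ?_⟩
  haveI : Mono (kernel.ι ρ) := inferInstance
  -- sections over the members of the cover
  have hcov : ∀ U₀ ∈ I, ∀ t ∈ 𝓜.ideal U₀ ^ (I.sup N + 1),
      (∀ x : sec h𝔛.1 (kernel ρ) (ComplSec.pre p U₀.1), KillBase.sh h𝔛 p hp U₀.1 t • x = 0) ∧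
      (∀ x : sec h𝔛.1 (cokernel ρ) (ComplSec.pre p U₀.1), KillBase.sh h𝔛 p hp U₀.1 t • x = 0) := by
    intro U₀ hU₀ t ht
    obtain ⟨hk, hc⟩ := hN U₀ t (Ideal.pow_le_pow_right ((Finset.le_sup hU₀).trans (Nat.le_succ _)) ht)
    refine ⟨fun x => ?_, fun x => ?_⟩
    · have hinj : Function.Injective (secMap h𝔛.1 (kernel.ι ρ) (ComplSec.pre p U₀.1)) :=
        CohCons.secMap_injective (kernel.ι ρ) _
      refine hinj ?_
      rw [map_smul, map_zero]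
      exact hk _ (congrArg (fun ψ => secMap h𝔛.1 ψ (ComplSec.pre p U₀.1) x) (kernel.condition ρ))
    · haveI : Epi ((FSch.levelMor 𝔛 h𝔛.1 0).pull.map (cokernel.π ρ)) := by
        haveI : (FSch.levelMor 𝔛 h𝔛.1 0).pull.IsLeftAdjoint := (FSch.levelMor 𝔛 h𝔛.1 0).adj.isLeftAdjoint
        exact Functor.map_epi _ _
      obtain ⟨y, rfl⟩ := CohCons.surjective_of_epi_pull h𝔛 hG hC (cokernel.π ρ)
        (ComplSec.isAffineOpen_pre p U₀.2) x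
      obtain ⟨z, hz⟩ := hc y
      rw [← map_smul, ← hz]
      exact congrArg (fun ψ => secMap h𝔛.1 ψ (ComplSec.pre p U₀.1) z) (cokernel.condition ρ)
  -- propagation
  have key : ∀ (F : FSch.ModF 𝔛 h𝔛.1), FSch.IsCohF 𝔛 h𝔛.1 F →
      (∀ U₀ ∈ I, ∀ t ∈ 𝓜.ideal U₀ ^ (I.sup N + 1), ∀ x : sec h𝔛.1 F (ComplSec.pre p U₀.1),
        KillBase.sh h𝔛 p hp U₀.1 t • x = 0) →
      ∀ x : sec h𝔛.1 F (ComplSec.pre p U.1), KillBase.sh h𝔛 p hp U.1 s • x = 0 := by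
    intro F hF hFI x
    refine TorsCoh.eq_zero_of_locally F _ fun z hz => ?_
    obtain ⟨U₀, hU₀, hzU₀⟩ : ∃ U₀ ∈ I, p 0 z ∈ U₀.1 := by
      simpa using hI (Set.mem_univ (p 0 z))
    obtain ⟨g, hgU, hzg⟩ := U₀.2.exists_basicOpen_le (V := U.1) ⟨p 0 z, hz⟩ hzU₀
    let D : X.affineOpens := ⟨X.basicOpen g, U₀.2.basicOpen g⟩
    have hDU₀ : D.1 ≤ U₀.1 := X.basicOpen_le g
    refine ⟨ComplSec.pre p D.1, (p 0).preimage_mono hgU, hzg, ?_⟩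
    rw [CohPres.resF_smul, sh_res h𝔛 p hp hgU]
    generalize CohPres.resF h𝔛.1 F ((p 0).preimage_mono hgU) x = x'
    have hsD : X.presheaf.map (homOfLE hgU).op s ∈
        (𝓜.ideal U₀ ^ (I.sup N + 1)).map (X.presheaf.map (homOfLE hDU₀).op).hom := by
      have h1 : X.presheaf.map (homOfLE hgU).op s ∈ (𝓜 ^ (I.sup N + 1)).ideal D := by
        rw [← (𝓜 ^ (I.sup N + 1)).map_ideal (U := D) (V := U) hgU]
        exact Ideal.mem_map_of_mem _ hs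
      rw [← (𝓜 ^ (I.sup N + 1)).map_ideal (U := D) (V := U₀) hDU₀, Scheme.IdealSheafData.ideal_pow,
        Pi.pow_apply] at h1
      exact h1
    generalize X.presheaf.map (homOfLE hgU).op s = w at hsD ⊢
    induction hsD using Submodule.span_induction generalizing x' with
    | mem w hw =>
      obtain ⟨t, ht, rfl⟩ := hw
      rw [show (X.presheaf.map (homOfLE hDU₀).op).hom t = X.presheaf.map (homOfLE hDU₀).op t from rfl,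
        ← sh_res h𝔛 p hp hDU₀]
      exact kill_of_le h𝔛 hF (ComplSec.isAffineOpen_pre p U₀.2) (ComplSec.isAffineOpen_pre p D.2) _ _
        (hFI U₀ hU₀ t ht) x'
    | zero => rw [map_zero, zero_smul]
    | add a b _ _ ha hb => rw [map_add, add_smul, ha, hb, add_zero]
    | smul a b _ hb => rw [smul_eq_mul, map_mul, mul_smul, hb, smul_zero]
  exact ⟨key _ hK fun U₀ h t ht => (hcov U₀ h t ht).1, key _ hC fun U₀ h t ht => (hcov U₀ h t ht).2⟩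

end Groth.Agent.H30.KillGlobal
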