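import Groth.Agent.H30.FSch.KillMod

/-!
# The levels of the base change to a completed affine open (helper30)
-/

set_option autoImplicit false
set_option maxRecDepth 8000
set_option linter.style.haveILetI false
set_option linter.unusedSectionVars false

noncomputable section

universe u

open CategoryTheory CategoryTheory.Limits AlgebraicGeometry TopologicalSpace Opposite
open Groth.Agent.H30 Groth.Agent.H30.RealLimSec Groth.Agent.Lib Groth.Agent.H30.KillBase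
  Groth.Agent.H30.KillMod
open ZarCoh.FlatBC.PullbackSections (pbRes pbRes_smul)

namespace Groth.Agent.H30.KillLevel

variable {X Z : Scheme.{u}} (f : Z ⟶ X) {𝔛 ℨ : FSch.Sys.{u}} (φ : ℨ ⟶ 𝔛)
  (h𝔛 : 𝔛.IsLocNoethFormal) (hℨ : ℨ.IsLocNoethFormal)
  (p : ∀ k, 𝔛.X k ⟶ X) (hp : ∀ k, 𝔛.ι k ≫ p (k + 1) = p k)
  (q : ∀ k, ℨ.X k ⟶ Z) (hq : ∀ k, ℨ.ι k ≫ q (k + 1) = q k)
  [∀ k, IsClosedImmersion (p k)]
  {U : X.Opens} (hU : IsAffineOpen U)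
  (hsq : ∀ k, q k ≫ f = (φ : FSch.Hom ℨ 𝔛).app k ≫ p k) (𝔐 : FSch.ModSys 𝔛)

variable (U) in
theorem Uk_le (k : ℕ) : Uk h𝔛 p U k ≤ 𝔛.ι k ⁻¹ᵁ Uk h𝔛 p U (k + 1) := 𝔛.lvU_le h𝔛.1 k _

variable (U) in
theorem Wk_le (k : ℕ) : Wk φ h𝔛 p U k ≤ ℨ.ι k ⁻¹ᵁ Wk φ h𝔛 p U (k + 1) := by
  rw [← Scheme.Hom.comp_preimage, ← (φ : FSch.Hom ℨ 𝔛).comm k, Scheme.Hom.comp_preimage]
  exact ((φ : FSch.Hom ℨ 𝔛).app k).preimage_mono (Uk_le h𝔛 p U k)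

/-- The transition of the opens of the levels. -/
abbrev ιW (k : ℕ) : (Wk φ h𝔛 p U k : Scheme.{u}) ⟶ Wk φ h𝔛 p U (k + 1) :=
  (ℨ.ι k).resLE _ _ (Wk_le φ h𝔛 p U k)

theorem ζ_trans (k : ℕ) :
    (𝔛.ι k).resLE _ _ (Uk_le h𝔛 p U k) ≫ ζ h𝔛 p hU (k + 1) = ζ h𝔛 p hU k := by
  refine ext_of_isAffine (CommRingCat.hom_ext (RingHom.ext fun b => ?_))
  obtain ⟨a, rfl⟩ := (ConcreteCategory.bijective_of_isIso (Scheme.ΓSpecIso (AA h𝔛 p U)).inv).2 b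
  refine Eq.trans ?_ (ζ_appTop h𝔛 p hU k a).symm
  rw [Scheme.Hom.comp_appTop]
  change ((𝔛.ι k).resLE _ _ (Uk_le h𝔛 p U k)).appTop ((ζ h𝔛 p hU (k + 1)).appTop _) = _
  refine (congrArg (fun z => ((𝔛.ι k).resLE _ _ (Uk_le h𝔛 p U k)).appTop z) (ζ_appTop h𝔛 p hU (k + 1) a)).trans ?_
  refine Eq.trans ?_ (congrArg (Uk h𝔛 p U k).topIso.inv
    (ConcreteCategory.congr_hom (Levels.proj_trans 𝔛 h𝔛.1 k (VV p U)) a))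
  rw [Scheme.Hom.appTop, Scheme.Hom.app_eq_appLE, Scheme.Hom.resLE_appLE, ← ConcreteCategory.comp_apply,
    ← ConcreteCategory.comp_apply, ← ConcreteCategory.comp_apply]
  refine ConcreteCategory.congr_hom ?_ a
  rw [Category.assoc, Scheme.Opens.topIso_inv, Scheme.Opens.topIso_inv]
  erw [Scheme.Hom.map_appLE, Scheme.Hom.appLE_map]
  rfl

theorem ιW_φ (k : ℕ) :
    ιW φ h𝔛 p k ≫ ((φ : FSch.Hom ℨ 𝔛).app (k + 1) ∣_ Uk h𝔛 p U (k + 1)) =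
      ((φ : FSch.Hom ℨ 𝔛).app k ∣_ Uk h𝔛 p U k) ≫ (𝔛.ι k).resLE _ _ (Uk_le h𝔛 p U k) := by
  rw [← cancel_mono (Uk h𝔛 p U (k + 1)).ι, Category.assoc, Category.assoc, morphismRestrict_ι,
    Scheme.Hom.resLE_comp_ι, Scheme.Hom.resLE_comp_ι_assoc, morphismRestrict_ι_assoc]
  exact congrArg (_ ≫ ·) ((φ : FSch.Hom ℨ 𝔛).comm k).symm

include hq in
theorem ιW_Jk (k : ℕ) :
    ιW φ h𝔛 p k ≫ Jk f φ h𝔛 p hp q hU hsq (k + 1) = Jk f φ h𝔛 p hp q hU hsq k := by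
  apply pullback.hom_ext
  · rw [Category.assoc, Jk, Jk, pullback.lift_fst, pullback.lift_fst, Scheme.Hom.resLE_comp_ι_assoc, hq]
  · rw [Category.assoc, Jk, Jk, pullback.lift_snd, pullback.lift_snd, ← ζ_trans h𝔛 p hU k]
    refine (Category.assoc _ _ _).symm.trans ?_
    refine (congrArg (· ≫ ζ h𝔛 p hU (k + 1)) (ιW_φ φ h𝔛 p k)).trans ?_
    exact Category.assoc _ _ _

/-- The algebraization, pulled back. -/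
abbrev GG : (Zc f h𝔛 p hp hU).Modules :=
  (Scheme.Modules.pullback (qc f h𝔛 p hp hU)).obj (LL h𝔛 p U 𝔐)

/-- The inverse image on a level. -/
abbrev Rk (k : ℕ) : (ℨ.X k).Modules := (FSch.ModSys.pullback φ 𝔐).F k

theorem φU (k : ℕ) : ((φ : FSch.Hom ℨ 𝔛).app k ∣_ Uk h𝔛 p U k) ≫ (Uk h𝔛 p U k).ι =
    (Wk φ h𝔛 p U k).ι ≫ (φ : FSch.Hom ℨ 𝔛).app k := morphismRestrict_ι _ _

theorem tr_inv_pbRes {A B C : Scheme.{u}} (g : C ⟶ B) {u : B ⟶ A} {v : C ⟶ A} (h : g ≫ u = v) (M : A.Modules)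
    {U₀ : A.Opens} {W : B.Opens} {W' : C.Opens} (eW : W ≤ u ⁻¹ᵁ U₀) (e' : W' ≤ g ⁻¹ᵁ W)
    (ev : W' ≤ v ⁻¹ᵁ U₀) (m : Γ(M, U₀)) :
    (DescAlg.PbSec.tr g h M).inv.app W' (pbRes v M ev m) = pbRes g _ e' (pbRes u M eW m) := by
  refine (ConcreteCategory.bijective_of_isIso ((DescAlg.PbSec.tr g h M).hom.app W')).1 ?_
  rw [← ConcreteCategory.comp_apply, ← Scheme.Modules.Hom.comp_app, Iso.inv_hom_id]
  refine Eq.trans ?_ (DescAlg.PbSec.R_eq g h M e' (pbRes u M eW m))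
  exact (DescAlg.PbSec.R_pbRes g h M eW e' m).symm

theorem iso_inv_pbRes {B C : Scheme.{u}} (j : C ⟶ B) [IsOpenImmersion j] (M : B.Modules)
    {W : B.Opens} {W' : C.Opens} (e' : W' ≤ j ⁻¹ᵁ W) (m : Γ(M, W)) :
    ((Scheme.Modules.restrictFunctorIsoPullback j).inv.app M).app W' (pbRes j M e' m) =
      M.presheaf.map (homOfLE ((j.image_mono e').trans (j.image_preimage_le W))).op m := by
  have h1 := Adjunction.unit_leftAdjointUniq_hom_app (Scheme.Modules.restrictAdjunction j)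
    (Scheme.Modules.pullbackPushforwardAdjunction j) M
  refine (ConcreteCategory.bijective_of_isIso
    (((Scheme.Modules.restrictFunctorIsoPullback j).hom.app M).app W')).1 ?_
  rw [← ConcreteCategory.comp_apply, ← Scheme.Modules.Hom.comp_app, Iso.inv_hom_id_app]
  have h' : ((Scheme.Modules.pullbackPushforwardAdjunction j).unit.app M).app W m =
      ((Scheme.Modules.restrictFunctorIsoPullback j).hom.app M).app (j ⁻¹ᵁ W)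
        (M.presheaf.map (homOfLE (j.image_preimage_le W)).op m) := by
    rw [← h1]
    rfl
  change ((Scheme.Modules.pullback j).obj M).presheaf.map (homOfLE e').op
    (((Scheme.Modules.pullbackPushforwardAdjunction j).unit.app M).app W m) = _
  refine (congrArg (((Scheme.Modules.pullback j).obj M).presheaf.map (homOfLE e').op) h').trans ?_
  refine (((Scheme.Modules.restrictFunctorIsoPullback j).hom.app M).mapPresheaf.naturality_apply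
    (homOfLE e').op _).symm.trans (congrArg _ ?_)
  exact (ConcreteCategory.congr_hom (M.presheaf.map_comp _ _) m).symm

/-- Sections of a restriction, as sections. -/
def toR {B C : Scheme.{u}} (j : C ⟶ B) [IsOpenImmersion j] (M : B.Modules) (V : C.Opens) :
    Γ((Scheme.Modules.restrictFunctor j).obj M, V) →+ Γ(M, j ''ᵁ V) :=
  AddMonoidHom.id _

theorem toR_bijective {B C : Scheme.{u}} (j : C ⟶ B) [IsOpenImmersion j] (M : B.Modules) (V : C.Opens) :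
    Function.Bijective (toR j M V) := Function.bijective_id

theorem toR_smul {B C : Scheme.{u}} (j : C ⟶ B) [IsOpenImmersion j] (M : B.Modules) (V : C.Opens)
    (r : Γ(C, V)) (x : Γ((Scheme.Modules.restrictFunctor j).obj M, V)) :
    toR j M V (r • x) = (j.appIso V).inv r • toR j M V x := rfl

theorem toR_res {B C : Scheme.{u}} (j : C ⟶ B) [IsOpenImmersion j] (M : B.Modules) {V V' : C.Opens}
    (h : V' ≤ V) (x : Γ((Scheme.Modules.restrictFunctor j).obj M, V)) :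
    toR j M V' (((Scheme.Modules.restrictFunctor j).obj M).presheaf.map (homOfLE h).op x) =
      M.presheaf.map (homOfLE (j.image_mono h)).op (toR j M V x) := rfl

theorem toR_iso_inv_pbRes {B C : Scheme.{u}} (j : C ⟶ B) [IsOpenImmersion j] (M : B.Modules)
    {W : B.Opens} {W' : C.Opens} (e' : W' ≤ j ⁻¹ᵁ W) (m : Γ(M, W)) :
    toR j M W' (((Scheme.Modules.restrictFunctorIsoPullback j).inv.app M).app W' (pbRes j M e' m)) =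
      M.presheaf.map (homOfLE ((j.image_mono e').trans (j.image_preimage_le W))).op m :=
  iso_inv_pbRes j M e' m

section Gen

variable {T Zs Us Ws Xk Zk : Scheme.{u}} (j : Ws ⟶ Zs) (qq : Zs ⟶ T) (φ' : Ws ⟶ Us) (ζ' : Us ⟶ T)
  (iU : Us ⟶ Xk) (iW : Ws ⟶ Zk) [IsOpenImmersion iW] (φk : Zk ⟶ Xk)
  (h1 : j ≫ qq = φ' ≫ ζ') (h2 : φ' ≫ iU = iW ≫ φk) (L : T.Modules) (F : Xk.Modules)
  (e' : (Scheme.Modules.pullback ζ').obj L ⟶ (Scheme.Modules.pullback iU).obj F)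

/-- The identification, in general. -/
def Ψgen : (Scheme.Modules.pullback j).obj ((Scheme.Modules.pullback qq).obj L) ⟶
    (Scheme.Modules.restrictFunctor iW).obj ((Scheme.Modules.pullback φk).obj F) :=
  (DescAlg.PbSec.tr j h1 L).hom ≫ (DescAlg.PbSec.tr φ' (u := ζ') rfl L).inv ≫
    (Scheme.Modules.pullback φ').map e' ≫ (DescAlg.PbSec.tr φ' h2 F).hom ≫
    (DescAlg.PbSec.tr iW (u := φk) rfl F).inv ≫
    ((Scheme.Modules.restrictFunctorIsoPullback iW).inv.app ((Scheme.Modules.pullback φk).obj F))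

theorem isIso_Ψgen [IsIso e'] : IsIso (Ψgen j qq φ' ζ' iU iW φk h1 h2 L F e') := by
  unfold Ψgen
  refine @IsIso.comp_isIso' _ _ _ _ _ _ _ inferInstance ?_
  refine @IsIso.comp_isIso' _ _ _ _ _ _ _ inferInstance ?_
  refine @IsIso.comp_isIso' _ _ _ _ _ _ _ inferInstance ?_
  refine @IsIso.comp_isIso' _ _ _ _ _ _ _ inferInstance ?_
  exact @IsIso.comp_isIso' _ _ _ _ _ _ _ inferInstance (inferInstanceAs (IsIso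
    ((Scheme.Modules.restrictFunctorIsoPullback iW).app ((Scheme.Modules.pullback φk).obj F)).inv))

theorem Ψgen_track {Uo : Xk.Opens} (eU : ⊤ ≤ iU ⁻¹ᵁ Uo) (eW : ⊤ ≤ iW ⁻¹ᵁ (φk ⁻¹ᵁ Uo)) (m : Γ(L, ⊤))
    (y : Γ(F, Uo))
    (he : e'.app ⊤ (pbRes ζ' L (U := ⊤) le_top m) = pbRes iU F eU y) (O : Zs.Opens)
    (e2 : iW ''ᵁ (j ⁻¹ᵁ O) ≤ φk ⁻¹ᵁ Uo) :
    toR iW ((Scheme.Modules.pullback φk).obj F) (j ⁻¹ᵁ O)
        ((Ψgen j qq φ' ζ' iU iW φk h1 h2 L F e').app (j ⁻¹ᵁ O)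
          (pbRes j ((Scheme.Modules.pullback qq).obj L) (le_refl _) (pbRes qq L (U := ⊤) le_top m))) =
      ((Scheme.Modules.pullback φk).obj F).presheaf.map (homOfLE e2).op
        (pbRes φk F (le_refl (φk ⁻¹ᵁ Uo)) y) := by
  simp only [Ψgen, Scheme.Modules.Hom.comp_app, ConcreteCategory.comp_apply]
  rw [← DescAlg.PbSec.R_eq, DescAlg.PbSec.R_pbRes,
    tr_inv_pbRes φ' rfl L (W := ⊤) le_top le_top le_top,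
    H78.Proper.UnitSections.map_pbRes, he, ← DescAlg.PbSec.R_eq, DescAlg.PbSec.R_pbRes,
    tr_inv_pbRes iW rfl F (W := φk ⁻¹ᵁ Uo) le_rfl (le_top.trans eW) _]
  exact toR_iso_inv_pbRes iW _ _ _

end Gen

/-- The identification of the levels. -/
def Ψ (k : ℕ) : (Scheme.Modules.pullback (Jk f φ h𝔛 p hp q hU hsq k)).obj (GG f h𝔛 p hp hU 𝔐) ⟶
    (Scheme.Modules.restrictFunctor (Wk φ h𝔛 p U k).ι).obj (Rk φ 𝔐 k) :=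
  Ψgen (Jk f φ h𝔛 p hp q hU hsq k) (qc f h𝔛 p hp hU) ((φ : FSch.Hom ℨ 𝔛).app k ∣_ Uk h𝔛 p U k)
    (ζ h𝔛 p hU k) (Uk h𝔛 p U k).ι (Wk φ h𝔛 p U k).ι ((φ : FSch.Hom ℨ 𝔛).app k)
    (Jk_qc f φ h𝔛 p hp q hU hsq k) (φU φ h𝔛 p k) (LL h𝔛 p U 𝔐) (𝔐.F k) (e h𝔛 p hU 𝔐 k)

theorem isIso_Ψ (h𝔐 : 𝔐.IsCoh) (k : ℕ) : IsIso (Ψ f φ h𝔛 p hp q hU hsq 𝔐 k) := by
  haveI := isIso_e h𝔛 p hU 𝔐 h𝔐 k
  exact isIso_Ψgen _ _ _ _ _ _ _ _ _ _ _ _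

/-- The transpose on sections. -/
def βgen {B C : Scheme.{u}} (j : C ⟶ B) (G : B.Modules) {N : C.Modules}
    (ψ : (Scheme.Modules.pullback j).obj G ⟶ N) (O : B.Opens) : Γ(G, O) →+ Γ(N, j ⁻¹ᵁ O) :=
  (ψ.app (j ⁻¹ᵁ O)).hom.comp (((Scheme.Modules.pullbackPushforwardAdjunction j).unit.app G).app O).hom

theorem βgen_eq {B C : Scheme.{u}} (j : C ⟶ B) (G : B.Modules) {N : C.Modules}
    (ψ : (Scheme.Modules.pullback j).obj G ⟶ N) (O : B.Opens) (s : Γ(G, O)) :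
    βgen j G ψ O s =
      ψ.app (j ⁻¹ᵁ O) (((Scheme.Modules.pullbackPushforwardAdjunction j).unit.app G).app O s) := rfl

theorem βgen_pbRes {B C : Scheme.{u}} (j : C ⟶ B) (G : B.Modules) {N : C.Modules}
    (ψ : (Scheme.Modules.pullback j).obj G ⟶ N) (O : B.Opens) (s : Γ(G, O)) :
    βgen j G ψ O s = ψ.app (j ⁻¹ᵁ O) (pbRes j G (le_refl (j ⁻¹ᵁ O)) s) :=
  congrArg (ψ.app (j ⁻¹ᵁ O))
    (ConcreteCategory.congr_hom (((Scheme.Modules.pullback j).obj G).presheaf.map_id _) _).symm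

theorem βgen_smul {B C : Scheme.{u}} (j : C ⟶ B) (G : B.Modules) {N : C.Modules}
    (ψ : (Scheme.Modules.pullback j).obj G ⟶ N) (O : B.Opens) (a : Γ(B, O)) (s : Γ(G, O)) :
    βgen j G ψ O (a • s) = j.app O a • βgen j G ψ O s := by
  rw [βgen_pbRes, βgen_pbRes, pbRes_smul, Scheme.Modules.Hom.app_smul, Scheme.Hom.app_eq_appLE]

theorem βgen_res {B C : Scheme.{u}} (j : C ⟶ B) (G : B.Modules) {N : C.Modules}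
    (ψ : (Scheme.Modules.pullback j).obj G ⟶ N) {O O' : B.Opens} (h : O' ≤ O) (s : Γ(G, O)) :
    βgen j G ψ O' (G.presheaf.map (homOfLE h).op s) =
      N.presheaf.map (homOfLE (j.preimage_mono h)).op (βgen j G ψ O s) :=
  (congrArg (ψ.app (j ⁻¹ᵁ O')) (((Scheme.Modules.pullbackPushforwardAdjunction j).unit.app G).mapPresheaf.naturality_apply
    (homOfLE h).op s)).trans (ψ.mapPresheaf.naturality_apply (homOfLE (j.preimage_mono h)).op _)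

theorem image_le_pre (k : ℕ) (O : (Wk φ h𝔛 p U k : Scheme.{u}).Opens) :
    (Wk φ h𝔛 p U k).ι ''ᵁ O ≤ ℨ.lvU hℨ.1 k (PullFSys.preφ φ (VV p U)) :=
  (Scheme.Opens.ι_image_le _ _).trans
    (le_of_eq (FSch.Hom.lvU_preimage φ hℨ.1 h𝔛.1 k (VV p U)))

/-- The comparison on sections. -/
def β (k : ℕ) (O : (Zc f h𝔛 p hp hU).Opens) :
    Γ(GG f h𝔛 p hp hU 𝔐, O) →+
      Γ(Rk φ 𝔐 k, (Wk φ h𝔛 p U k).ι ''ᵁ (Jk f φ h𝔛 p hp q hU hsq k ⁻¹ᵁ O)) :=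
  (toR (Wk φ h𝔛 p U k).ι (Rk φ 𝔐 k) (Jk f φ h𝔛 p hp q hU hsq k ⁻¹ᵁ O)).comp
    (βgen (Jk f φ h𝔛 p hp q hU hsq k) (GG f h𝔛 p hp hU 𝔐) (Ψ f φ h𝔛 p hp q hU hsq 𝔐 k) O)

theorem ψ_apply (k : ℕ) (O : (Zc f h𝔛 p hp hU).Opens) (s : Γ(GG f h𝔛 p hp hU 𝔐, O))
    {N : (Wk φ h𝔛 p U k : Scheme.{u}).Modules}
    (ψ : (Scheme.Modules.pullback (Jk f φ h𝔛 p hp q hU hsq k)).obj (GG f h𝔛 p hp hU 𝔐) ⟶ N) :
    βgen (Jk f φ h𝔛 p hp q hU hsq k) (GG f h𝔛 p hp hU 𝔐) ψ O s = ψ.app ((Jk f φ h𝔛 p hp q hU hsq k) ⁻¹ᵁ O) (pbRes (Jk f φ h𝔛 p hp q hU hsq k) (GG f h𝔛 p hp hU 𝔐) (le_refl _) s) :=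
  βgen_pbRes (Jk f φ h𝔛 p hp q hU hsq k) (GG f h𝔛 p hp hU 𝔐) ψ O s

theorem ψ_eq (k : ℕ) (O : (Zc f h𝔛 p hp hU).Opens) (s : Γ(GG f h𝔛 p hp hU 𝔐, O))
    {N : (Wk φ h𝔛 p U k : Scheme.{u}).Modules}
    (ψ : (Scheme.Modules.pullback (Jk f φ h𝔛 p hp q hU hsq k)).obj (GG f h𝔛 p hp hU 𝔐) ⟶ N) :
    βgen (Jk f φ h𝔛 p hp q hU hsq k) (GG f h𝔛 p hp hU 𝔐) ψ O s = ψ.app ((Jk f φ h𝔛 p hp q hU hsq k) ⁻¹ᵁ O)
      (((Scheme.Modules.pullbackPushforwardAdjunction (Jk f φ h𝔛 p hp q hU hsq k)).unit.app (GG f h𝔛 p hp hU 𝔐)).app O s) :=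
  βgen_eq (Jk f φ h𝔛 p hp q hU hsq k) (GG f h𝔛 p hp hU 𝔐) ψ O s

theorem ψ_smul (k : ℕ) (O : (Zc f h𝔛 p hp hU).Opens) (a : Γ(Zc f h𝔛 p hp hU, O)) (s : Γ(GG f h𝔛 p hp hU 𝔐, O))
    {N : (Wk φ h𝔛 p U k : Scheme.{u}).Modules}
    (ψ : (Scheme.Modules.pullback (Jk f φ h𝔛 p hp q hU hsq k)).obj (GG f h𝔛 p hp hU 𝔐) ⟶ N) :
    βgen (Jk f φ h𝔛 p hp q hU hsq k) (GG f h𝔛 p hp hU 𝔐) ψ O (a • s) = (Jk f φ h𝔛 p hp q hU hsq k).app O a • βgen (Jk f φ h𝔛 p hp q hU hsq k) (GG f h𝔛 p hp hU 𝔐) ψ O s :=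
  βgen_smul (Jk f φ h𝔛 p hp q hU hsq k) (GG f h𝔛 p hp hU 𝔐) ψ O a s

theorem ψ_res (k : ℕ) {O O' : (Zc f h𝔛 p hp hU).Opens} (h : O' ≤ O) (s : Γ(GG f h𝔛 p hp hU 𝔐, O))
    {N : (Wk φ h𝔛 p U k : Scheme.{u}).Modules}
    (ψ : (Scheme.Modules.pullback (Jk f φ h𝔛 p hp q hU hsq k)).obj (GG f h𝔛 p hp hU 𝔐) ⟶ N) :
    βgen (Jk f φ h𝔛 p hp q hU hsq k) (GG f h𝔛 p hp hU 𝔐) ψ O' ((GG f h𝔛 p hp hU 𝔐).presheaf.map (homOfLE h).op s) =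
      N.presheaf.map (homOfLE ((Jk f φ h𝔛 p hp q hU hsq k).preimage_mono h)).op (βgen (Jk f φ h𝔛 p hp q hU hsq k) (GG f h𝔛 p hp hU 𝔐) ψ O s) :=
  βgen_res (Jk f φ h𝔛 p hp q hU hsq k) (GG f h𝔛 p hp hU 𝔐) ψ h s

theorem β_def (k : ℕ) (O : (Zc f h𝔛 p hp hU).Opens) (s : Γ(GG f h𝔛 p hp hU 𝔐, O)) :
    β f φ h𝔛 p hp q hU hsq 𝔐 k O s =
      toR (Wk φ h𝔛 p U k).ι (Rk φ 𝔐 k) (Jk f φ h𝔛 p hp q hU hsq k ⁻¹ᵁ O) (βgen (Jk f φ h𝔛 p hp q hU hsq k) (GG f h𝔛 p hp hU 𝔐) (Ψ f φ h𝔛 p hp q hU hsq 𝔐 k) O s) := by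
  rw [β, AddMonoidHom.comp_apply]

theorem β_apply (k : ℕ) (O : (Zc f h𝔛 p hp hU).Opens) (s : Γ(GG f h𝔛 p hp hU 𝔐, O)) :
    β f φ h𝔛 p hp q hU hsq 𝔐 k O s =
      toR (Wk φ h𝔛 p U k).ι (Rk φ 𝔐 k) (Jk f φ h𝔛 p hp q hU hsq k ⁻¹ᵁ O)
        ((Ψ f φ h𝔛 p hp q hU hsq 𝔐 k).app (Jk f φ h𝔛 p hp q hU hsq k ⁻¹ᵁ O)
          (pbRes (Jk f φ h𝔛 p hp q hU hsq k) (GG f h𝔛 p hp hU 𝔐) (le_refl _) s)) := by
  exact (β_def f φ h𝔛 p hp q hU hsq 𝔐 k O s).trans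
    (congrArg _ (ψ_apply f φ h𝔛 p hp q hU hsq 𝔐 k O s (Ψ f φ h𝔛 p hp q hU hsq 𝔐 k)))

theorem β_eq (k : ℕ) (O : (Zc f h𝔛 p hp hU).Opens) (s : Γ(GG f h𝔛 p hp hU 𝔐, O)) :
    β f φ h𝔛 p hp q hU hsq 𝔐 k O s =
      toR (Wk φ h𝔛 p U k).ι (Rk φ 𝔐 k) (Jk f φ h𝔛 p hp q hU hsq k ⁻¹ᵁ O)
        ((Ψ f φ h𝔛 p hp q hU hsq 𝔐 k).app (Jk f φ h𝔛 p hp q hU hsq k ⁻¹ᵁ O)
          (((Scheme.Modules.pullbackPushforwardAdjunction (Jk f φ h𝔛 p hp q hU hsq k)).unit.app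
            (GG f h𝔛 p hp hU 𝔐)).app O s)) := by
  exact (β_def f φ h𝔛 p hp q hU hsq 𝔐 k O s).trans
    (congrArg _ (ψ_eq f φ h𝔛 p hp q hU hsq 𝔐 k O s (Ψ f φ h𝔛 p hp q hU hsq 𝔐 k)))

/-- A pulled back section of the base. -/
def gX (O : (Zc f h𝔛 p hp hU).Opens) (x : sec h𝔛.1 (𝔐.realMod h𝔛.1) (VV p U)) :
    Γ(GG f h𝔛 p hp hU 𝔐, O) :=
  pbRes (qc f h𝔛 p hp hU) (LL h𝔛 p U 𝔐) (U := ⊤) le_top (tX h𝔛 p 𝔐 x)

theorem β_gX (k : ℕ) (O : (Zc f h𝔛 p hp hU).Opens) (x : sec h𝔛.1 (𝔐.realMod h𝔛.1) (VV p U)) :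
    β f φ h𝔛 p hp q hU hsq 𝔐 k O (gX f h𝔛 p hp hU 𝔐 O x) =
      (Rk φ 𝔐 k).presheaf.map (homOfLE (image_le_pre φ h𝔛 hℨ p k (Jk f φ h𝔛 p hp q hU hsq k ⁻¹ᵁ O))).op
        (PullFSys.ηl φ hℨ h𝔛 𝔐 k (VV p U) (π h𝔛.1 𝔐.F 𝔐.toPush k (VV p U) x)) := by
  rw [β_apply]
  refine (Ψgen_track (Jk f φ h𝔛 p hp q hU hsq k) (qc f h𝔛 p hp hU) ((φ : FSch.Hom ℨ 𝔛).app k ∣_ Uk h𝔛 p U k)
    (ζ h𝔛 p hU k) (Uk h𝔛 p U k).ι (Wk φ h𝔛 p U k).ι ((φ : FSch.Hom ℨ 𝔛).app k)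
    (Jk_qc f φ h𝔛 p hp q hU hsq k) (φU φ h𝔛 p k) (LL h𝔛 p U 𝔐) (𝔐.F k) (e h𝔛 p hU 𝔐 k)
    (Scheme.Opens.ι_preimage_self _).ge (Scheme.Opens.ι_preimage_self (Wk φ h𝔛 p U k)).ge
    (tX h𝔛 p 𝔐 x) (π h𝔛.1 𝔐.F 𝔐.toPush k (VV p U) x) (e_tX h𝔛 p hU 𝔐 k x) O
    (Scheme.Opens.ι_image_le _ _)).trans ?_
  rw [PullFSys.ηl_apply]
  refine (CohDelta.Units.map_map _ _ _
    (homOfLE (Scheme.Opens.ι_image_le (Wk φ h𝔛 p U k) (Jk f φ h𝔛 p hp q hU hsq k ⁻¹ᵁ O))).op _).trans ?_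
  symm
  exact CohDelta.Units.map_map _ _ _ _ _

theorem β_smul (k : ℕ) (O : (Zc f h𝔛 p hp hU).Opens) (a : Γ(Zc f h𝔛 p hp hU, O))
    (s : Γ(GG f h𝔛 p hp hU 𝔐, O)) :
    β f φ h𝔛 p hp q hU hsq 𝔐 k O (a • s) =
      ((Wk φ h𝔛 p U k).ι.appIso _).inv ((Jk f φ h𝔛 p hp q hU hsq k).app O a) •
        β f φ h𝔛 p hp q hU hsq 𝔐 k O s := by
  rw [β_def, β_def, ← toR_smul]
  exact congrArg _ (ψ_smul f φ h𝔛 p hp q hU hsq 𝔐 k O a s (Ψ f φ h𝔛 p hp q hU hsq 𝔐 k))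

theorem β_res (k : ℕ) {O O' : (Zc f h𝔛 p hp hU).Opens} (h : O' ≤ O) (s : Γ(GG f h𝔛 p hp hU 𝔐, O)) :
    β f φ h𝔛 p hp q hU hsq 𝔐 k O' ((GG f h𝔛 p hp hU 𝔐).presheaf.map (homOfLE h).op s) =
      (Rk φ 𝔐 k).presheaf.map (homOfLE ((Wk φ h𝔛 p U k).ι.image_mono
        ((Jk f φ h𝔛 p hp q hU hsq k).preimage_mono h))).op (β f φ h𝔛 p hp q hU hsq 𝔐 k O s) := by
  rw [β_def, β_def, ← toR_res (Wk φ h𝔛 p U k).ι (Rk φ 𝔐 k) ((Jk f φ h𝔛 p hp q hU hsq k).preimage_mono h)]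
  exact congrArg _ (ψ_res f φ h𝔛 p hp q hU hsq 𝔐 k h s (Ψ f φ h𝔛 p hp q hU hsq 𝔐 k))

end Groth.Agent.H30.KillLevel
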