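import Mathlib.AlgebraicGeometry.Restrict

/-!
# Functions on a restriction through a square (helper30)
-/

set_option autoImplicit false

noncomputable section

universe u

open CategoryTheory CategoryTheory.Limits AlgebraicGeometry TopologicalSpace Opposite

namespace Groth.Agent.H30.KillScalarGen

theorem appLE_congr_hom {A B : Scheme.{u}} {f g : A ⟶ B} (h : f = g) (U : B.Opens) (V : A.Opens)
    (e : V ≤ f ⁻¹ᵁ U) : f.appLE U V e = g.appLE U V (h ▸ e) := by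
  subst h; rfl

theorem app_app_eq {A B C T : Scheme.{u}} (j : A ⟶ B) (q : B ⟶ T) (ψ : A ⟶ C) (ζ : C ⟶ T)
    (h : j ≫ q = ψ ≫ ζ) (b : Γ(T, ⊤)) :
    j.app ⊤ (q.app ⊤ b) = ψ.appLE ⊤ (j ⁻¹ᵁ ⊤) le_top (ζ.appTop b) := by
  have h1 : q.appLE ⊤ ⊤ le_rfl ≫ j.appLE ⊤ (j ⁻¹ᵁ ⊤) le_rfl =
      ζ.appLE ⊤ ⊤ le_rfl ≫ ψ.appLE ⊤ (j ⁻¹ᵁ ⊤) le_top := by
    rw [Scheme.Hom.appLE_comp_appLE, Scheme.Hom.appLE_comp_appLE, appLE_congr_hom h]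
  have h2 := ConcreteCategory.congr_hom h1 b
  rw [ConcreteCategory.comp_apply, ConcreteCategory.comp_apply] at h2
  rw [Scheme.Hom.appTop, Scheme.Hom.app_eq_appLE, Scheme.Hom.app_eq_appLE, Scheme.Hom.app_eq_appLE]
  exact h2

theorem scalar_gen {Zk Xk B T : Scheme.{u}} (φk : Zk ⟶ Xk) (U₀ : Xk.Opens)
    (j : (φk ⁻¹ᵁ U₀ : Scheme.{u}) ⟶ B) (q : B ⟶ T) (ζ : (U₀ : Scheme.{u}) ⟶ T)
    (h : j ≫ q = (φk ∣_ U₀) ≫ ζ) (b : Γ(T, ⊤)) (c : Γ(Xk, U₀)) (hζ : ζ.appTop b = U₀.topIso.inv c)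
    (V : Zk.Opens) (hV : V ≤ (φk ⁻¹ᵁ U₀).ι ''ᵁ (j ⁻¹ᵁ ⊤)) (hV' : V ≤ φk ⁻¹ᵁ U₀) :
    Zk.presheaf.map (homOfLE hV).op (((φk ⁻¹ᵁ U₀).ι.appIso _).inv (j.app ⊤ (q.app ⊤ b))) =
      φk.appLE U₀ V hV' c := by
  rw [app_app_eq j q _ ζ h b, hζ, Scheme.Opens.ι_appIso]
  have h3 : U₀.topIso.inv ≫ (φk ∣_ U₀).appLE ⊤ (j ⁻¹ᵁ ⊤) le_top ≫ Zk.presheaf.map (homOfLE hV).op =
      φk.appLE U₀ V hV' := by
    rw [morphismRestrict_appLE, Scheme.Opens.topIso_inv]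
    erw [Scheme.Hom.map_appLE_assoc, Scheme.Hom.appLE_map]
  exact ConcreteCategory.congr_hom h3 c

end Groth.Agent.H30.KillScalarGen
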