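import Groth.Agent.H30.FSch.KillTop
import Groth.Agent.H30.FSch.KillScalarGen
import Groth.Agent.H78.Proper.PushBound
import Groth.Agent.H78.Formal.Algebraize
import Groth.Agent.H78.Proper.Localised
import Groth.Agent.Lib.Cyc.PP.Push
import Groth.Agent.Lib.ModPair.Basic

/-!
# Formal functions on the base change to a completed affine open (helper30)
-/

set_option autoImplicit false
set_option maxRecDepth 8000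
set_option linter.style.haveILetI false
set_option linter.unusedSectionVars false

noncomputable section

universe u

open CategoryTheory CategoryTheory.Limits AlgebraicGeometry TopologicalSpace Opposite
open Groth.Agent.H30 Groth.Agent.H30.RealLimSec Groth.Agent.Lib Groth.Agent.H30.KillBase
  Groth.Agent.H30.KillMod Groth.Agent.H30.KillLevel
open ZarCoh.FlatBC.PullbackSections (pbRes pbRes_smul bijective_pbTensor pbTensor pbTensor_tmul)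
open Groth.Agent.H78.Formal.Sections (sMap sIdeal)
open Groth.Agent.H78.Formal.Elem (cπ)

namespace Groth.Agent.H30.KillCore

attribute [local irreducible] β Ψ

variable {X Z : Scheme.{u}} (f : Z ⟶ X) [IsProper f] {𝔛 ℨ : FSch.Sys.{u}} (φ : ℨ ⟶ 𝔛)
  (h𝔛 : 𝔛.IsLocNoethFormal) (hℨ : ℨ.IsLocNoethFormal)
  (p : ∀ k, 𝔛.X k ⟶ X) (hp : ∀ k, 𝔛.ι k ≫ p (k + 1) = p k)
  (q : ∀ k, ℨ.X k ⟶ Z) (hq : ∀ k, ℨ.ι k ≫ q (k + 1) = q k)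
  [∀ k, IsClosedImmersion (p k)]
  {U : X.Opens} (hU : IsAffineOpen U)
  (hsq : ∀ k, q k ≫ f = (φ : FSch.Hom ℨ 𝔛).app k ≫ p k)
  (hpb : ∀ k, IsPullback (q k) ((φ : FSch.Hom ℨ 𝔛).app k) f (p k))
  (𝔐 : FSch.ModSys 𝔛) (h𝔐 : 𝔐.IsCoh)

/-- Restriction of a level section. -/
def res (k : ℕ) (O : (Zc f h𝔛 p hp hU).Opens) :
    Γ(Rk φ 𝔐 k, (Wk φ h𝔛 p U k).ι ''ᵁ (Jk f φ h𝔛 p hp q hU hsq k ⁻¹ᵁ ⊤)) →+
      Γ(Rk φ 𝔐 k, (Wk φ h𝔛 p U k).ι ''ᵁ (Jk f φ h𝔛 p hp q hU hsq k ⁻¹ᵁ O)) :=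
  ((Rk φ 𝔐 k).presheaf.map (homOfLE ((Wk φ h𝔛 p U k).ι.image_mono
    ((Jk f φ h𝔛 p hp q hU hsq k).preimage_mono (le_top (a := O))))).op).hom

theorem res_β (k : ℕ) (O : (Zc f h𝔛 p hp hU).Opens) (m : Γ(GG f h𝔛 p hp hU 𝔐, ⊤)) :
    β f φ h𝔛 p hp q hU hsq 𝔐 k O ((GG f h𝔛 p hp hU 𝔐).presheaf.map (homOfLE le_top).op m) =
      res f φ h𝔛 p hp q hU hsq 𝔐 k O (β f φ h𝔛 p hp q hU hsq 𝔐 k ⊤ m) :=
  β_res f φ h𝔛 p hp q hU hsq 𝔐 k le_top m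

include hℨ h𝔐 in
theorem β_down (Y : ∀ k, Γ(Rk φ 𝔐 k, (Wk φ h𝔛 p U k).ι ''ᵁ (Jk f φ h𝔛 p hp q hU hsq k ⁻¹ᵁ ⊤)))
    (hY : ∀ k, τ φ 𝔐 k _ _ (image_trans f φ h𝔛 p hp q hU hsq k hq ⊤) (Y (k + 1)) = Y k)
    (k l : ℕ) (hkl : k ≤ l) {O : (Zc f h𝔛 p hp hU).Opens} (hO : IsAffineOpen O)
    (s : Γ(GG f h𝔛 p hp hU 𝔐, O))
    (hs : β f φ h𝔛 p hp q hU hsq 𝔐 l O s = res f φ h𝔛 p hp q hU hsq 𝔐 l O (Y l)) :
    β f φ h𝔛 p hp q hU hsq 𝔐 k O s = res f φ h𝔛 p hp q hU hsq 𝔐 k O (Y k) := by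
  induction hkl with
  | refl => exact hs
  | @step l hkl ih =>
    refine ih ?_
    rw [← β_trans f φ h𝔛 hℨ p hp q hq hU hsq 𝔐 h𝔐 l hO s, hs]
    refine (τ_res φ 𝔐 l (image_trans f φ h𝔛 p hp q hU hsq l hq ⊤) _ _
      ((Wk φ h𝔛 p U l).ι.image_mono ((Jk f φ h𝔛 p hp q hU hsq l).preimage_mono le_top)) (Y (l + 1))).trans ?_
    rw [hY]
    rfl

theorem β_glob (k : ℕ) (y : Γ(Rk φ 𝔐 k, (Wk φ h𝔛 p U k).ι ''ᵁ (Jk f φ h𝔛 p hp q hU hsq k ⁻¹ᵁ ⊤)))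
    (m : Γ(GG f h𝔛 p hp hU 𝔐, ⊤))
    (h : ∀ (O : (Zc f h𝔛 p hp hU).Opens), IsAffineOpen O →
      β f φ h𝔛 p hp q hU hsq 𝔐 k O ((GG f h𝔛 p hp hU 𝔐).presheaf.map (homOfLE le_top).op m) =
        res f φ h𝔛 p hp q hU hsq 𝔐 k O y) :
    β f φ h𝔛 p hp q hU hsq 𝔐 k ⊤ m = y := by
  refine TopCat.Presheaf.IsSheaf.section_ext ((Scheme.Modules.pushforward (Jk f φ h𝔛 p hp q hU hsq k)).obj
    ((Scheme.Modules.restrictFunctor (Wk φ h𝔛 p U k).ι).obj (Rk φ 𝔐 k))).isSheaf fun x _ => ?_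
  obtain ⟨O, hO, hx⟩ := H78.Formal.Sections.exists_affine (X := Zc f h𝔛 p hp hU) x
  exact ⟨O, le_top, hx, (res_β f φ h𝔛 p hp q hU hsq 𝔐 k O m).symm.trans (h O hO)⟩

include hℨ h𝔐 in
theorem β_down_top (Y : ∀ k, Γ(Rk φ 𝔐 k, (Wk φ h𝔛 p U k).ι ''ᵁ (Jk f φ h𝔛 p hp q hU hsq k ⁻¹ᵁ ⊤)))
    (hY : ∀ k, τ φ 𝔐 k _ _ (image_trans f φ h𝔛 p hp q hU hsq k hq ⊤) (Y (k + 1)) = Y k)
    (k l : ℕ) (hkl : k ≤ l) (m : Γ(GG f h𝔛 p hp hU 𝔐, ⊤))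
    (hm : β f φ h𝔛 p hp q hU hsq 𝔐 l ⊤ m = Y l) : β f φ h𝔛 p hp q hU hsq 𝔐 k ⊤ m = Y k :=
  β_glob f φ h𝔛 p hp q hU hsq 𝔐 k (Y k) m fun O hO =>
    β_down f φ h𝔛 hℨ p hp q hq hU hsq 𝔐 h𝔐 Y hY k l hkl hO _
      ((res_β f φ h𝔛 p hp q hU hsq 𝔐 l O m).trans (congrArg _ hm))

include hℨ hpb h𝔐 in
theorem exists_lift (Y : ∀ k, Γ(Rk φ 𝔐 k, (Wk φ h𝔛 p U k).ι ''ᵁ (Jk f φ h𝔛 p hp q hU hsq k ⁻¹ᵁ ⊤)))
    (hY : ∀ k, τ φ 𝔐 k _ _ (image_trans f φ h𝔛 p hp q hU hsq k hq ⊤) (Y (k + 1)) = Y k)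
    (k c : ℕ)
    (hc : letI := overZ f h𝔛 p hp hU
      ∀ u : Γ((Formal.completion (Levels.J (h := h𝔛.1) (VV p U)) (GG f h𝔛 p hp hU 𝔐)).obj (op (k + c)), ⊤),
        ∃ s : Γ(GG f h𝔛 p hp hU 𝔐, ⊤),
          (cπ (Levels.J (h := h𝔛.1) (VV p U)) (GG f h𝔛 p hp hU 𝔐) k).app ⊤ s =
            H78.Formal.Elem.tr (Formal.completion (Levels.J (h := h𝔛.1) (VV p U)) (GG f h𝔛 p hp hU 𝔐)) ⊤
              (Nat.le_add_right k c) u) :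
    ∃ m : Γ(GG f h𝔛 p hp hU 𝔐, ⊤), β f φ h𝔛 p hp q hU hsq 𝔐 k ⊤ m = Y k := by
  letI := overZ f h𝔛 p hp hU
  let J := Levels.J (h := h𝔛.1) (VV p U)
  let G := GG f h𝔛 p hp hU 𝔐
  haveI := (isCoh_GG f h𝔛 p hp hU 𝔐 h𝔐).1
  obtain ⟨d, hdi, hd⟩ := exists_dd f φ h𝔛 p hp q hU hsq hpb 𝔐 h𝔐 (k + c)
  obtain ⟨u, hu⟩ := (H78.Formal.Sections.app_bijective d ⊤).2 (Y (k + c))
  obtain ⟨m, hm⟩ := hc u
  refine ⟨m, β_glob f φ h𝔛 p hp q hU hsq 𝔐 k (Y k) m fun O hO => ?_⟩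
  let uO := ((Formal.completion J G).obj (op (k + c))).presheaf.map (homOfLE (le_top (a := O))).op u
  obtain ⟨s, hs⟩ := H78.Formal.Sections.modPowπ_surjective J (k + c + 1) hO uO
  have h1 : β f φ h𝔛 p hp q hU hsq 𝔐 (k + c) O s = res f φ h𝔛 p hp q hU hsq 𝔐 (k + c) O (Y (k + c)) := by
    rw [← hd O s, show (cπ J G (k + c)).app O s = uO from hs]
    exact (d.mapPresheaf.naturality_apply (homOfLE (le_top (a := O))).op u).trans (congrArg _ hu)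
  rw [← β_down f φ h𝔛 hℨ p hp q hq hU hsq 𝔐 h𝔐 Y hY k (k + c) (Nat.le_add_right k c) hO s h1]
  obtain ⟨d', hdi', hd'⟩ := exists_dd f φ h𝔛 p hp q hU hsq hpb 𝔐 h𝔐 k
  rw [← hd' O, ← hd' O]
  refine congrArg (d'.app O) ?_
  rw [← H78.Formal.Elem.completion_π_tr J G (Nat.le_add_right k c) s,
    show (cπ J G (k + c)).app O s = uO from hs]
  refine ((cπ J G k).mapPresheaf.naturality_apply (homOfLE (le_top (a := O))).op m).trans ?_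
  refine (congrArg _ hm).trans ?_
  exact (((Formal.completion J G).map (homOfLE (Nat.le_add_right k c)).op).mapPresheaf.naturality_apply
    (homOfLE (le_top (a := O))).op u).symm

end Groth.Agent.H30.KillCore
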