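import Groth.Agent.H30.FSch.KillBase
import Groth.Agent.Lib.Modules.OpenRes

/-!
# The algebraization of a coherent module over a completed affine open (helper30)
-/

set_option autoImplicit false
set_option linter.style.haveILetI false
set_option linter.unusedSectionVars false

noncomputable section

universe u

open CategoryTheory CategoryTheory.Limits AlgebraicGeometry TopologicalSpace Opposite
open Groth.Agent.H30 Groth.Agent.H30.RealLimSec Groth.Agent.Lib Groth.Agent.H30.KillBase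
open ZarCoh.FlatBC.PullbackSections (pbRes pbRes_smul)

namespace Groth.Agent.H30.KillMod

variable {X : Scheme.{u}} {𝔛 : FSch.Sys.{u}} (h𝔛 : 𝔛.IsLocNoethFormal)
  (p : ∀ k, 𝔛.X k ⟶ X) [∀ k, IsClosedImmersion (p k)]
  {U : X.Opens} (hU : IsAffineOpen U) (𝔐 : FSch.ModSys 𝔛)

variable (U) in
/-- The module of sections. -/
abbrev MM : ModuleCat.{u} (AA h𝔛 p U) :=
  ModuleCat.of (AA h𝔛 p U) (sec h𝔛.1 (𝔐.realMod h𝔛.1) (VV p U))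

variable (U) in
/-- The associated module on the spectrum. -/
abbrev LL : (Spec (AA h𝔛 p U)).Modules := tilde (MM h𝔛 p U 𝔐)

/-- A section of the module, on the spectrum. -/
def tX (x : sec h𝔛.1 (𝔐.realMod h𝔛.1) (VV p U)) : Γ(LL h𝔛 p U 𝔐, ⊤) :=
  tilde.toOpen (MM h𝔛 p U 𝔐) ⊤ x

theorem tX_smul (a : AA h𝔛 p U) (x : sec h𝔛.1 (𝔐.realMod h𝔛.1) (VV p U)) :
    tX h𝔛 p 𝔐 (a • x) = (Scheme.ΓSpecIso (AA h𝔛 p U)).inv a • tX h𝔛 p 𝔐 x := by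
  refine ((tilde.toOpen (MM h𝔛 p U 𝔐) ⊤).hom.map_smul a x).trans ?_
  refine (Scheme.Modules.smul_Spec_def a (tX h𝔛 p 𝔐 x)).trans
    (congrArg (fun r : Γ(Spec (AA h𝔛 p U), ⊤) => r • tX h𝔛 p 𝔐 x) ?_)
  exact ConcreteCategory.congr_hom ((Spec (AA h𝔛 p U)).presheaf.map_id _) _

theorem tX_bijective : Function.Bijective (tX (U := U) h𝔛 p 𝔐) :=
  ConcreteCategory.bijective_of_isIso (tilde.toOpen (MM h𝔛 p U 𝔐) ⊤)

variable (U) in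
/-- A level of the module on the open of the level. -/
abbrev Nk (k : ℕ) : (Uk h𝔛 p U k : Scheme.{u}).Modules :=
  (Scheme.Modules.pullback (Uk h𝔛 p U k).ι).obj (𝔐.F k)

/-- A section on a level. -/
def nX (k : ℕ) (x : sec h𝔛.1 (𝔐.realMod h𝔛.1) (VV p U)) : Γ(Nk h𝔛 p U 𝔐 k, ⊤) :=
  pbRes (Uk h𝔛 p U k).ι (𝔐.F k) (Scheme.Opens.ι_preimage_self _).ge
    (π h𝔛.1 𝔐.F 𝔐.toPush k (VV p U) x)

theorem appLE_ι_top (k : ℕ) (b : Γ(𝔛.X k, Uk h𝔛 p U k)) :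
    (Uk h𝔛 p U k).ι.appLE (Uk h𝔛 p U k) ⊤ (Scheme.Opens.ι_preimage_self _).ge b =
      (Uk h𝔛 p U k).topIso.inv b := by
  rw [Scheme.Opens.ι_appLE]
  exact congrArg (fun i => (𝔛.X k).presheaf.map i b) (Subsingleton.elim _ _)

/-- A section on a level, as a section on the spectrum. -/
abbrev nX' (k : ℕ) (x : sec h𝔛.1 (𝔐.realMod h𝔛.1) (VV p U)) :
    Γ((Scheme.Modules.pushforward (ζ h𝔛 p hU k)).obj (Nk h𝔛 p U 𝔐 k), ⊤) := nX h𝔛 p 𝔐 k x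

theorem nX'_smul (k : ℕ) (a : AA h𝔛 p U) (x : sec h𝔛.1 (𝔐.realMod h𝔛.1) (VV p U)) :
    nX' h𝔛 p hU 𝔐 k (a • x) = a • nX' h𝔛 p hU 𝔐 k x := by
  refine Eq.trans ?_ (Scheme.Modules.smul_Spec_def a (nX' h𝔛 p hU 𝔐 k x)).symm
  refine (congrArg (pbRes _ _ _) (map_smul (π h𝔛.1 𝔐.F 𝔐.toPush k (VV p U)) a x)).trans ?_
  refine (pbRes_smul _ _ _ (Levels.proj 𝔛 h𝔛.1 k (VV p U) a) _).trans ?_
  refine congrArg (fun r : Γ((Uk h𝔛 p U k : Scheme.{u}), ⊤) => r • nX h𝔛 p 𝔐 k x) ?_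
  refine (appLE_ι_top h𝔛 p k _).trans ((ζ_appTop h𝔛 p hU k a).symm.trans ?_)
  exact congrArg ((ζ h𝔛 p hU k).app ⊤)
    (ConcreteCategory.congr_hom ((Spec (AA h𝔛 p U)).presheaf.map_id _) _).symm

/-- The transpose of the comparison on a level. -/
def eHom (k : ℕ) : MM h𝔛 p U 𝔐 ⟶
    (moduleSpecΓFunctor (R := AA h𝔛 p U)).obj
      ((Scheme.Modules.pushforward (ζ h𝔛 p hU k)).obj (Nk h𝔛 p U 𝔐 k)) :=
  ModuleCat.ofHom (Y := Γ((Scheme.Modules.pushforward (ζ h𝔛 p hU k)).obj (Nk h𝔛 p U 𝔐 k), ⊤))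
    (LinearMap.mk ⟨nX' h𝔛 p hU 𝔐 k, fun x y => by
      refine (congrArg (pbRes _ _ _) (map_add (π h𝔛.1 𝔐.F 𝔐.toPush k (VV p U)) x y)).trans ?_
      exact map_add _ _ _⟩ fun a x => nX'_smul h𝔛 p hU 𝔐 k a x)

/-- The comparison on a level. -/
def e (k : ℕ) : (Scheme.Modules.pullback (ζ h𝔛 p hU k)).obj (LL h𝔛 p U 𝔐) ⟶ Nk h𝔛 p U 𝔐 k :=
  ((Scheme.Modules.pullbackPushforwardAdjunction (ζ h𝔛 p hU k)).homEquiv _ _).symm
    ((tilde.adjunction.homEquiv _ _).symm (eHom h𝔛 p hU 𝔐 k))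

theorem e_tX (k : ℕ) (x : sec h𝔛.1 (𝔐.realMod h𝔛.1) (VV p U)) :
    (e h𝔛 p hU 𝔐 k).app ⊤ (pbRes (ζ h𝔛 p hU k) (LL h𝔛 p U 𝔐) (U := ⊤) le_top (tX h𝔛 p 𝔐 x)) =
      nX h𝔛 p 𝔐 k x := by
  let α := (tilde.adjunction.homEquiv _ _).symm (eHom h𝔛 p hU 𝔐 k)
  have h1 : α.app ⊤ (tX h𝔛 p 𝔐 x) = (show Γ((Scheme.Modules.pushforward (ζ h𝔛 p hU k)).obj
      (Nk h𝔛 p U 𝔐 k), ⊤) from nX h𝔛 p 𝔐 k x) := by
    have h2 : tilde.adjunction.unit.app (MM h𝔛 p U 𝔐) ≫ moduleSpecΓFunctor.map α = eHom h𝔛 p hU 𝔐 k :=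
      (tilde.adjunction.homEquiv_unit _ _ _).symm.trans (Equiv.apply_symm_apply _ _)
    exact ConcreteCategory.congr_hom h2 x
  have h3 : (Scheme.Modules.pullbackPushforwardAdjunction (ζ h𝔛 p hU k)).unit.app _ ≫
      (Scheme.Modules.pushforward (ζ h𝔛 p hU k)).map (e h𝔛 p hU 𝔐 k) = α :=
    (Adjunction.homEquiv_unit _ _ _ _).symm.trans (Equiv.apply_symm_apply _ _)
  refine Eq.trans ?_ h1
  refine Eq.trans ?_ (ConcreteCategory.congr_hom (congrArg (fun χ => Scheme.Modules.Hom.app χ ⊤) h3) _)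
  exact congrArg ((e h𝔛 p hU 𝔐 k).app ⊤)
    (ConcreteCategory.congr_hom (((Scheme.Modules.pullback (ζ h𝔛 p hU k)).obj _).presheaf.map_id _) _)

include hU in
theorem isIso_e (h𝔐 : 𝔐.IsCoh) (k : ℕ) : IsIso (e h𝔛 p hU 𝔐 k) := by
  haveI := isClosedImmersion_ζ h𝔛 p hU k
  haveI : (𝔐.F k).IsQuasicoherent := (h𝔐 k).1
  haveI := QCoh.Pullback.isQCoh_pullback (ζ h𝔛 p hU k) (LL h𝔛 p U 𝔐)
  haveI := QCoh.Pullback.isQCoh_pullback (Uk h𝔛 p U k).ι (𝔐.F k)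
  haveI : IsAffine (Uk h𝔛 p U k : Scheme.{u}) := isAffineOpen_Uk h𝔛 p hU k
  obtain ⟨hs, hk⟩ := (CohSys.main h𝔛 𝔐 h𝔐 (hVV p hU)).2.2 k
  refine H78.Formal.Sections.isIso_of_cover _ fun z => ⟨⊤, isAffineOpen_top _, trivial, ?_, ?_⟩
  · rw [injective_iff_map_eq_zero]
    intro w hw
    obtain ⟨m, rfl⟩ := UnitKernel.unit_app_surjective (ζ h𝔛 p hU k) (LL h𝔛 p U 𝔐) (isAffineOpen_top _) w
    obtain ⟨x, rfl⟩ := (tX_bijective h𝔛 p 𝔐).2 m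
    have h1 : nX h𝔛 p 𝔐 k x = 0 := by
      refine (e_tX h𝔛 p hU 𝔐 k x).symm.trans (Eq.trans ?_ hw)
      exact congrArg ((e h𝔛 p hU 𝔐 k).app ⊤)
        (ConcreteCategory.congr_hom (((Scheme.Modules.pullback (ζ h𝔛 p hU k)).obj _).presheaf.map_id _) _)
    have h2 : π h𝔛.1 𝔐.F 𝔐.toPush k (VV p U) x = 0 := by
      refine (Modules.OpenRes.bijective_pbRes (Uk h𝔛 p U k).ι (𝔐.F k) (Scheme.Opens.opensRange_ι _).ge (Scheme.Opens.ι_preimage_self _).ge (Scheme.Opens.ι_preimage_self _).symm).1 ?_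
      exact h1.trans (map_zero _).symm
    have h3 : x ∈ LinearMap.ker (π h𝔛.1 𝔐.F 𝔐.toPush k (VV p U)) := h2
    rw [hk] at h3
    refine (UnitKernel.unit_app_eq_zero_iff (ζ h𝔛 p hU k) _ (isAffineOpen_top _) _).2 ?_
    rw [ker_ζ_top h𝔛 p hU k]
    refine Submodule.smul_induction_on h3 (fun a ha m _ => ?_) fun a b ha hb => ?_
    · rw [tX_smul]
      exact Submodule.smul_mem_smul (Ideal.mem_map_of_mem _ ha) trivial
    · rw [show tX h𝔛 p 𝔐 (a + b) = tX h𝔛 p 𝔐 a + tX h𝔛 p 𝔐 b from map_add _ _ _]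
      exact add_mem ha hb
  · intro w
    obtain ⟨y, hy⟩ := (Modules.OpenRes.bijective_pbRes (Uk h𝔛 p U k).ι (𝔐.F k) (Scheme.Opens.opensRange_ι _).ge (Scheme.Opens.ι_preimage_self _).ge (Scheme.Opens.ι_preimage_self _).symm).2 w
    obtain ⟨x, rfl⟩ := hs y
    exact ⟨_, (e_tX h𝔛 p hU 𝔐 k x).trans hy⟩

end Groth.Agent.H30.KillMod
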