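import Groth.Agent.H30.FSch.KillSurj
import Groth.Agent.H78.Formal.Algebraize
import Groth.Agent.H78.Proper.Localised
import Groth.Agent.Lib.Cyc.PP.Push
import Groth.Agent.Lib.ModPair.Basic

/-!
# Formal functions on the base change to a completed affine open (helper30)
-/

set_option autoImplicit false
set_option maxRecDepth 8000
set_option linter.style.haveILetI false
set_option linter.unusedSectionVars false

noncomputable section

universe u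

open CategoryTheory CategoryTheory.Limits AlgebraicGeometry TopologicalSpace Opposite
open Groth.Agent.H30 Groth.Agent.H30.RealLimSec Groth.Agent.Lib Groth.Agent.H30.KillBase
  Groth.Agent.H30.KillMod Groth.Agent.H30.KillLevel
open ZarCoh.FlatBC.PullbackSections (pbRes pbRes_smul bijective_pbTensor pbTensor pbTensor_tmul)
open Groth.Agent.H78.Formal.Sections (sMap sIdeal)
open Groth.Agent.H78.Formal.Elem (cπ)

namespace Groth.Agent.H30.KillCore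

attribute [local irreducible] β Ψ

variable {X Z : Scheme.{u}} (f : Z ⟶ X) [IsProper f] {𝔛 ℨ : FSch.Sys.{u}} (φ : ℨ ⟶ 𝔛)
  (h𝔛 : 𝔛.IsLocNoethFormal) (hℨ : ℨ.IsLocNoethFormal)
  (p : ∀ k, 𝔛.X k ⟶ X) (hp : ∀ k, 𝔛.ι k ≫ p (k + 1) = p k)
  (q : ∀ k, ℨ.X k ⟶ Z) (hq : ∀ k, ℨ.ι k ≫ q (k + 1) = q k)
  [∀ k, IsClosedImmersion (p k)]
  {U : X.Opens} (hU : IsAffineOpen U)
  (hsq : ∀ k, q k ≫ f = (φ : FSch.Hom ℨ 𝔛).app k ≫ p k)
  (hpb : ∀ k, IsPullback (q k) ((φ : FSch.Hom ℨ 𝔛).app k) f (p k))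
  (𝔐 : FSch.ModSys 𝔛) (h𝔐 : 𝔐.IsCoh)

include hpb h𝔐 hq hU hsq in
/-- Over an affine open, kernel and cokernel of the comparison are killed by a power of a function
invertible only where `f` is an isomorphism. -/
theorem exists_pow [IsLocallyNoetherian X] {O : X.Opens} [IsIso (f ∣_ O)] (t : Γ(X, U))
    (ht : X.basicOpen t ≤ O) :
    ∃ N : ℕ, (∀ x : sec h𝔛.1 (𝔐.realMod h𝔛.1) (VV p U), PullFSys.pb φ hℨ h𝔛 𝔐 (VV p U) x = 0 →
        sh h𝔛 p hp U t ^ N • x = 0) ∧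
      ∀ y : sec hℨ.1 ((FSch.ModSys.pullback φ 𝔐).realMod hℨ.1) (PullFSys.preφ φ (VV p U)),
        ∃ x, PullFSys.pb φ hℨ h𝔛 𝔐 (VV p U) x =
          PullFSys.shφ φ hℨ h𝔛 (VV p U) (sh h𝔛 p hp U t ^ N) • y := by
  letI := modG f h𝔛 p hp hU 𝔐
  haveI := Levels.isNoetherianRing_A h𝔛 (hVV p hU)
  let T := Spec (AA h𝔛 p U)
  let L := LL h𝔛 p U 𝔐
  let qq := qc f h𝔛 p hp hU
  let r : AA h𝔛 p U := sh h𝔛 p hp U t
  let rT : Γ(T, ⊤) := (Scheme.ΓSpecIso (AA h𝔛 p U)).inv r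
  haveI : IsLocallyNoetherian T := inferInstanceAs (IsLocallyNoetherian (Spec (AA h𝔛 p U)))
  haveI : IsLocallyNoetherian (Zc f h𝔛 p hp hU) := LocallyOfFiniteType.isLocallyNoetherian qq
  haveI : IsNoetherianRing Γ(T, ⊤) :=
    IsLocallyNoetherian.component_noetherian (X := T) ⟨⊤, isAffineOpen_top T⟩
  have hL := isCoh_LL h𝔛 p hU 𝔐 h𝔐
  haveI := hL.1
  have hle : (⊤ : T.Opens) ≤ aT h𝔛 p hp hU ⁻¹ᵁ U := by
    rw [Scheme.Hom.comp_preimage, hU.fromSpec_preimage_self]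
    exact le_top
  have hrT : (aT h𝔛 p hp hU).appLE U ⊤ hle t = rT := by
    rw [H78.Proper.AffineCompl.appLE_fromSpec hU (sh h𝔛 p hp U)]
    rfl
  have hD : T.basicOpen rT ≤ aT h𝔛 p hp hU ⁻¹ᵁ O := by
    refine le_trans ?_ ((aT h𝔛 p hp hU).preimage_mono ht)
    rw [Scheme.preimage_basicOpen, ← hrT]
    exact (Scheme.basicOpen_res _ _ _).trans_le inf_le_right
  haveI : IsIso (qq ∣_ T.basicOpen rT) :=
    ModPair.isIso_restrict_of_isPullback (IsPullback.of_hasPullback f (aT h𝔛 p hp hU)) O hD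
  have hbij : Function.Bijective (((Scheme.Modules.pullbackPushforwardAdjunction qq).unit.app L).app
      (T.basicOpen rT)) := bijective_unit_of_isIso_restrict qq L (T.basicOpen rT) ((isAffineOpen_top T).basicOpen rT)
  obtain ⟨N, hker, hcok⟩ := H78.Proper.Localised.exists_pow (isAffineOpen_top T) hL
    (Cyc.PP.Push.isCoh_push qq (isCoh_GG f h𝔛 p hp hU 𝔐 h𝔐))
    ((Scheme.Modules.pullbackPushforwardAdjunction qq).unit.app L) rT hbij
  have hg : ∀ x, ((Scheme.Modules.pullbackPushforwardAdjunction qq).unit.app L).app ⊤ (tX h𝔛 p 𝔐 x) =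
      gX f h𝔛 p hp hU 𝔐 ⊤ x := fun x =>
    (ConcreteCategory.congr_hom (((Scheme.Modules.pullback qq).obj L).presheaf.map_id _) _).symm
  have hpow : rT ^ N = (Scheme.ΓSpecIso (AA h𝔛 p U)).inv (r ^ N) := (map_pow _ _ _).symm
  refine ⟨N, fun x hx => ?_, fun y => ?_⟩
  · have h1 : gX f h𝔛 p hp hU 𝔐 ⊤ x = 0 := by
      refine eq_zero_of_ρ f φ h𝔛 hℨ p hp q hU hsq hpb 𝔐 h𝔐 _ fun k => ?_
      rw [ρ_gX, ← PullFSys.π_pb, hx]
      exact map_zero _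
    have h2 := hker (tX h𝔛 p 𝔐 x) ((hg x).trans h1)
    rw [hpow, ← tX_smul] at h2
    exact (tX_bijective h𝔛 p 𝔐).1 (h2.trans (map_zero (tilde.toOpen (MM h𝔛 p U 𝔐) ⊤).hom).symm)
  · obtain ⟨z, hz⟩ := exists_ρ_eq f φ h𝔛 hℨ p hp q hq hU hsq hpb 𝔐 h𝔐 y
    obtain ⟨w, hw⟩ := hcok z
    obtain ⟨x, rfl⟩ := (tX_bijective h𝔛 p 𝔐).2 w
    rw [hg, hpow] at hw
    refine ⟨x, RealLimSec.ext_of_π hℨ.1 _ _ _ _ fun k => ?_⟩
    rw [PullFSys.π_pb, ← ρ_gX f φ h𝔛 hℨ p hp q hU hsq 𝔐 k]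
    refine (congrArg (ρ f φ h𝔛 hℨ p hp q hU hsq 𝔐 k) hw).trans ?_
    refine (ρ_smul f φ h𝔛 hℨ p hp q hU hsq 𝔐 k (r ^ N) z).trans ?_
    rw [hz k]
    exact ((π hℨ.1 (FSch.ModSys.pullback φ 𝔐).F (FSch.ModSys.pullback φ 𝔐).toPush k
      (PullFSys.preφ φ (VV p U))).map_smul _ _).symm

end Groth.Agent.H30.KillCore
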