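import Groth.Agent.H30.FSch.KillCore
import Groth.Agent.H78.Proper.PushBound
import Groth.Agent.H78.Formal.Algebraize
import Groth.Agent.H78.Proper.Localised
import Groth.Agent.Lib.Cyc.PP.Push
import Groth.Agent.Lib.ModPair.Basic

/-!
# Formal functions on the base change to a completed affine open (helper30)
-/

set_option autoImplicit false
set_option maxRecDepth 8000
set_option linter.style.haveILetI false
set_option linter.unusedSectionVars false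

noncomputable section

universe u

open CategoryTheory CategoryTheory.Limits AlgebraicGeometry TopologicalSpace Opposite
open Groth.Agent.H30 Groth.Agent.H30.RealLimSec Groth.Agent.Lib Groth.Agent.H30.KillBase
  Groth.Agent.H30.KillMod Groth.Agent.H30.KillLevel
open ZarCoh.FlatBC.PullbackSections (pbRes pbRes_smul bijective_pbTensor pbTensor pbTensor_tmul)
open Groth.Agent.H78.Formal.Sections (sMap sIdeal)
open Groth.Agent.H78.Formal.Elem (cπ)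

namespace Groth.Agent.H30.KillCore

theorem η_gen {B C D : Scheme.{u}} (iW : C ⟶ D) [IsOpenImmersion iW] (M : D.Modules) (j : C ⟶ B)
    (G : B.Modules) (ψ : (Scheme.Modules.pullback j).obj G ⟶ (Scheme.Modules.restrictFunctor iW).obj M)
    (O : B.Opens) (s : Γ(G, O)) :
    ((Scheme.Modules.pullbackPushforwardAdjunction j).unit.app G ≫
      (Scheme.Modules.pushforward j).map ψ).app O s = toR iW M (j ⁻¹ᵁ O) (βgen j G ψ O s) := rfl

attribute [local irreducible] β Ψ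

variable {X Z : Scheme.{u}} (f : Z ⟶ X) [IsProper f] {𝔛 ℨ : FSch.Sys.{u}} (φ : ℨ ⟶ 𝔛)
  (h𝔛 : 𝔛.IsLocNoethFormal) (hℨ : ℨ.IsLocNoethFormal)
  (p : ∀ k, 𝔛.X k ⟶ X) (hp : ∀ k, 𝔛.ι k ≫ p (k + 1) = p k)
  (q : ∀ k, ℨ.X k ⟶ Z) (hq : ∀ k, ℨ.ι k ≫ q (k + 1) = q k)
  [∀ k, IsClosedImmersion (p k)]
  {U : X.Opens} (hU : IsAffineOpen U)
  (hsq : ∀ k, q k ≫ f = (φ : FSch.Hom ℨ 𝔛).app k ≫ p k)
  (hpb : ∀ k, IsPullback (q k) ((φ : FSch.Hom ℨ 𝔛).app k) f (p k))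
  (𝔐 : FSch.ModSys 𝔛) (h𝔐 : 𝔐.IsCoh)

theorem bijective_unit_of_isIso_restrict {B C : Scheme.{u}} (g : C ⟶ B) (L : B.Modules) [L.IsQuasicoherent]
    (W : B.Opens) (hW : IsAffineOpen W) [IsIso (g ∣_ W)] :
    Function.Bijective (((Scheme.Modules.pullbackPushforwardAdjunction g).unit.app L).app W) := by
  have hW' : IsAffineOpen (g ⁻¹ᵁ W) := by
    haveI : IsAffine (W : Scheme.{u}) := hW
    exact IsAffine.of_isIso (g ∣_ W)
  haveI : IsIso (g.app W) := by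
    have h : IsIso ((g ∣_ W).appTop) := inferInstanceAs (IsIso ((g ∣_ W).app ⊤))
    rw [morphismRestrict_appTop] at h
    have h2 : IsIso (g.app (W.ι ''ᵁ ⊤)) :=
      @IsIso.of_isIso_comp_right _ _ _ _ _ (g.app (W.ι ''ᵁ ⊤)) _ (Functor.map_isIso _ _) h
    rwa [Scheme.Opens.ι_image_top] at h2
  have happ : g.appLE W (g ⁻¹ᵁ W) le_rfl = g.app W := by rw [Scheme.Hom.app_eq_appLE]
  have e : ∀ x, pbRes g L (le_refl (g ⁻¹ᵁ W)) x =
      ((Scheme.Modules.pullbackPushforwardAdjunction g).unit.app L).app W x := fun x =>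
    ConcreteCategory.congr_hom (((Scheme.Modules.pullback g).obj L).presheaf.map_id _) _
  have hb : Function.Bijective (pbRes g L (le_refl (g ⁻¹ᵁ W))) :=
    ⟨H78.Proper.UnitSections.injective_pbRes _ L hW hW' _ ⊥ (fun a ha m => by rw [Ideal.mem_bot.1 ha, zero_smul])
        ((Ideal.Quotient.mk ⊥).comp (inv (g.app W)).hom) (fun x => by
          rw [happ]
          exact congrArg (Ideal.Quotient.mk ⊥) (ConcreteCategory.congr_hom (IsIso.hom_inv_id (g.app W)) x)),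
      H78.Proper.UnitSections.surjective_pbRes _ L hW hW' _ ⊥ (fun a ha m => by rw [Ideal.mem_bot.1 ha, zero_smul])
        fun x => ⟨inv (g.app W) x, by
          rw [happ, Ideal.map_bot, Ideal.mem_bot, sub_eq_zero]
          exact (ConcreteCategory.congr_hom (IsIso.inv_hom_id (g.app W)) x).symm⟩⟩
  exact ⟨fun a b hab => hb.1 ((e a).trans (hab.trans (e b).symm)),
    fun y => (hb.2 y).imp fun x hx => (e x).symm.trans hx⟩

theorem top_le (k : ℕ) :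
    ℨ.lvU hℨ.1 k (PullFSys.preφ φ (VV p U)) ≤
      (Wk φ h𝔛 p U k).ι ''ᵁ (Jk f φ h𝔛 p hp q hU hsq k ⁻¹ᵁ ⊤) := by
  intro z hz
  refine ⟨⟨z, (ge_of_eq (FSch.Hom.lvU_preimage φ hℨ.1 h𝔛.1 k (VV p U))) hz⟩, trivial, rfl⟩

/-- The comparison on global sections. -/
def ρ (k : ℕ) : Γ(GG f h𝔛 p hp hU 𝔐, ⊤) →+
    lev hℨ.1 (FSch.ModSys.pullback φ 𝔐).F k (PullFSys.preφ φ (VV p U)) :=
  ((Rk φ 𝔐 k).presheaf.map (homOfLE (top_le f φ h𝔛 hℨ p hp q hU hsq k)).op).hom.comp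
    (β f φ h𝔛 p hp q hU hsq 𝔐 k ⊤)

theorem ρ_bij (k : ℕ) : Function.Bijective
    ((Rk φ 𝔐 k).presheaf.map (homOfLE (top_le f φ h𝔛 hℨ p hp q hU hsq k)).op) :=
  CohSys.restrict_bijective _ (top_le f φ h𝔛 hℨ p hp q hU hsq k) (image_le_pre φ h𝔛 hℨ p k _)

theorem ρ_gX (k : ℕ) (x : sec h𝔛.1 (𝔐.realMod h𝔛.1) (VV p U)) :
    ρ f φ h𝔛 hℨ p hp q hU hsq 𝔐 k (gX f h𝔛 p hp hU 𝔐 ⊤ x) =
      PullFSys.ηl φ hℨ h𝔛 𝔐 k (VV p U) (π h𝔛.1 𝔐.F 𝔐.toPush k (VV p U) x) := by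
  refine (congrArg ((Rk φ 𝔐 k).presheaf.map (homOfLE (top_le f φ h𝔛 hℨ p hp q hU hsq k)).op)
    (β_gX f φ h𝔛 hℨ p hp q hU hsq 𝔐 k ⊤ x)).trans ?_
  exact (CohDelta.Units.map_map _ _ _ (𝟙 _) _).trans (ConcreteCategory.congr_hom ((Rk φ 𝔐 k).presheaf.map_id _) _)

include hpb h𝔐 in
theorem exists_dd (k : ℕ) :
    letI := overZ f h𝔛 p hp hU
    ∃ d : (Formal.completion (Levels.J (h := h𝔛.1) (VV p U)) (GG f h𝔛 p hp hU 𝔐)).obj (op k) ⟶
        (Scheme.Modules.pushforward (Jk f φ h𝔛 p hp q hU hsq k)).obj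
          ((Scheme.Modules.restrictFunctor (Wk φ h𝔛 p U k).ι).obj (Rk φ 𝔐 k)),
      IsIso d ∧ ∀ (O : (Zc f h𝔛 p hp hU).Opens) (s : Γ(GG f h𝔛 p hp hU 𝔐, O)),
        d.app O ((cπ (Levels.J (h := h𝔛.1) (VV p U)) (GG f h𝔛 p hp hU 𝔐) k).app O s) =
          β f φ h𝔛 p hp q hU hsq 𝔐 k O s := by
  letI := overZ f h𝔛 p hp hU
  let J := Levels.J (h := h𝔛.1) (VV p U)
  let G := GG f h𝔛 p hp hU 𝔐
  let jk := Jk f φ h𝔛 p hp q hU hsq k
  haveI := isClosedImmersion_Jk f φ h𝔛 p hp q hU hsq hpb k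
  haveI := (isCoh_GG f h𝔛 p hp hU 𝔐 h𝔐).1
  haveI := isIso_Ψ f φ h𝔛 p hp q hU hsq 𝔐 h𝔐 k
  haveI : ((Scheme.Modules.pullback jk).obj G).IsQuasicoherent := QCoh.Pullback.isQCoh_pullback jk G
  haveI : ((Scheme.Modules.restrictFunctor (Wk φ h𝔛 p U k).ι).obj (Rk φ 𝔐 k)).IsQuasicoherent := by
    haveI : (Rk φ 𝔐 k).IsQuasicoherent := (PullCoh.isCoh_pullback φ 𝔐 h𝔐 k).1
    infer_instance
  haveI : ((Scheme.Modules.pushforward jk).obj
      ((Scheme.Modules.restrictFunctor (Wk φ h𝔛 p U k).ι).obj (Rk φ 𝔐 k))).IsQuasicoherent :=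
    QCoh.Pushforward.isQCoh_pushforward _
  haveI : ((Formal.completion J G).obj (op k)).IsQuasicoherent := H78.Formal.Sections.isQCoh_modPow J (k + 1)
  haveI : (Formal.modPow J (k + 1) G).IsQuasicoherent := H78.Formal.Sections.isQCoh_modPow J (k + 1)
  haveI : Epi (Formal.modPowπ J (k + 1) G) := inferInstanceAs (Epi (cokernel.π _))
  let η : G ⟶ (Scheme.Modules.pushforward jk).obj
      ((Scheme.Modules.restrictFunctor (Wk φ h𝔛 p U k).ι).obj (Rk φ 𝔐 k)) :=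
    (Scheme.Modules.pullbackPushforwardAdjunction jk).unit.app G ≫
      (Scheme.Modules.pushforward jk).map (Ψ f φ h𝔛 p hp q hU hsq 𝔐 k)
  have hη : ∀ O (s : Γ(G, O)), η.app O s = β f φ h𝔛 p hp q hU hsq 𝔐 k O s := fun O s =>
    (η_gen (Wk φ h𝔛 p U k).ι (Rk φ 𝔐 k) jk G (Ψ f φ h𝔛 p hp q hU hsq 𝔐 k) O s).trans
      (β_def f φ h𝔛 p hp q hU hsq 𝔐 k O s).symm
  obtain ⟨d, hd⟩ := H78.Formal.Sys.exists_desc (Formal.modPowπ J (k + 1) G) η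
    fun V hV s hs => (hη V s).trans (((β_bij_spec f φ h𝔛 p hp q hU hsq hpb 𝔐 h𝔐 k hV).1 s).2 hs)
  have hd' : ∀ V (s : Γ(G, V)), d.app V ((cπ J G k).app V s) = β f φ h𝔛 p hp q hU hsq 𝔐 k V s := fun V s =>
    (ConcreteCategory.congr_hom (congrArg (fun χ => χ.app V) hd) s).trans (hη V s)
  refine ⟨d, H78.Formal.Sections.isIso_of_cover d fun x => ?_, hd'⟩
  obtain ⟨V, hV, hx⟩ := H78.Formal.Sections.exists_affine x
  refine ⟨V, hV, hx, ?_, fun y => ?_⟩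
  · rw [injective_iff_map_eq_zero]
    intro y hy
    obtain ⟨s, rfl⟩ := H78.Formal.Sections.modPowπ_surjective J (k + 1) hV y
    exact ((β_bij_spec f φ h𝔛 p hp q hU hsq hpb 𝔐 h𝔐 k hV).1 s).1 ((hd' V s).symm.trans hy)
  · obtain ⟨s, hs⟩ := (β_bij_spec f φ h𝔛 p hp q hU hsq hpb 𝔐 h𝔐 k hV).2 y
    exact ⟨_, (hd' V s).trans hs⟩

/-- The action of the completed ring on global sections of the base change. -/
abbrev modG : Module (AA h𝔛 p U) Γ(GG f h𝔛 p hp hU 𝔐, ⊤) :=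
  Module.compHom Γ(GG f h𝔛 p hp hU 𝔐, ⊤)
    (show AA h𝔛 p U →+* Γ(Zc f h𝔛 p hp hU, ⊤) from
      ((Scheme.ΓSpecIso (AA h𝔛 p U)).inv ≫ (qc f h𝔛 p hp hU).app ⊤).hom)

include h𝔐 in
theorem finite_G :
    letI := modG f h𝔛 p hp hU 𝔐
    Module.Finite (AA h𝔛 p U) Γ(GG f h𝔛 p hp hU 𝔐, ⊤) := by
  letI := modG f h𝔛 p hp hU 𝔐
  haveI := Levels.isNoetherianRing_A h𝔛 (hVV p hU)
  haveI : IsLocallyNoetherian (Zc f h𝔛 p hp hU) := LocallyOfFiniteType.isLocallyNoetherian (qc f h𝔛 p hp hU)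
  haveI hf : Module.Finite Γ(Spec (AA h𝔛 p U), ⊤)
      Γ((Coh.push (qc f h𝔛 p hp hU)).obj (GG f h𝔛 p hp hU 𝔐), ⊤) :=
    CohBasics.Closure.finite_sections (Cyc.PP.Push.isCoh_push _ (isCoh_GG f h𝔛 p hp hU 𝔐 h𝔐)) (isAffineOpen_top _)
  letI : Algebra (AA h𝔛 p U) Γ(Spec (AA h𝔛 p U), ⊤) := (Scheme.ΓSpecIso (AA h𝔛 p U)).inv.hom.toAlgebra
  haveI : Module.Finite (AA h𝔛 p U) Γ(Spec (AA h𝔛 p U), ⊤) :=
    Module.Finite.of_surjective (Algebra.linearMap (AA h𝔛 p U) _)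
      (ConcreteCategory.bijective_of_isIso (Scheme.ΓSpecIso (AA h𝔛 p U)).inv).2
  obtain ⟨g, hg⟩ := hf.fg_top
  refine ⟨⟨(show Finset Γ(GG f h𝔛 p hp hU 𝔐, ⊤) from g), eq_top_iff.2 fun x _ => ?_⟩⟩
  have key : ∀ y ∈ Submodule.span Γ(Spec (AA h𝔛 p U), ⊤)
      (g : Set Γ((Coh.push (qc f h𝔛 p hp hU)).obj (GG f h𝔛 p hp hU 𝔐), ⊤)),
      (show Γ(GG f h𝔛 p hp hU 𝔐, ⊤) from y) ∈
        Submodule.span (AA h𝔛 p U)
          ((show Finset Γ(GG f h𝔛 p hp hU 𝔐, ⊤) from g) : Set Γ(GG f h𝔛 p hp hU 𝔐, ⊤)) := by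
    intro y hy
    induction hy using Submodule.span_induction with
    | mem y hy => exact Submodule.subset_span hy
    | zero => exact zero_mem _
    | add a b _ _ ha hb => exact add_mem ha hb
    | smul r y _ hy =>
      obtain ⟨a, rfl⟩ := (ConcreteCategory.bijective_of_isIso (Scheme.ΓSpecIso (AA h𝔛 p U)).inv).2 r
      change a • (show Γ(GG f h𝔛 p hp hU 𝔐, ⊤) from y) ∈ _
      exact Submodule.smul_mem _ a hy
  exact key x (hg ▸ Submodule.mem_top)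

theorem smul_top_le (I : Ideal (AA h𝔛 p U)) (z : Γ(GG f h𝔛 p hp hU 𝔐, ⊤)) :
    letI := overZ f h𝔛 p hp hU
    letI := modG f h𝔛 p hp hU 𝔐
    z ∈ sIdeal I (⊤ : (Zc f h𝔛 p hp hU).Opens) •
        (⊤ : Submodule Γ(Zc f h𝔛 p hp hU, ⊤) Γ(GG f h𝔛 p hp hU 𝔐, ⊤)) ↔
      z ∈ I • (⊤ : Submodule (AA h𝔛 p U) Γ(GG f h𝔛 p hp hU 𝔐, ⊤)) := by
  letI := overZ f h𝔛 p hp hU
  letI := modG f h𝔛 p hp hU 𝔐
  have e : ∀ (a : AA h𝔛 p U) (m : Γ(GG f h𝔛 p hp hU 𝔐, ⊤)),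
      sMap (AA h𝔛 p U) (⊤ : (Zc f h𝔛 p hp hU).Opens) a • m = a • m := fun a m => by
    have h : sMap (AA h𝔛 p U) (⊤ : (Zc f h𝔛 p hp hU).Opens) a =
        (qc f h𝔛 p hp hU).app ⊤ ((Scheme.ΓSpecIso (AA h𝔛 p U)).inv a) := by
      rw [sMap_qc, Scheme.Hom.app_eq_appLE]
      rfl
    exact (congrArg (fun r : Γ(Zc f h𝔛 p hp hU, ⊤) => r • m) h).trans rfl
  constructor
  · intro h
    refine Submodule.smul_induction_on h (fun r hr m _ => ?_) fun a b ha hb => add_mem ha hb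
    induction hr using Submodule.span_induction generalizing m with
    | mem x hx =>
      obtain ⟨a, ha, rfl⟩ := hx
      rw [e]; exact Submodule.smul_mem_smul ha trivial
    | zero => rw [zero_smul]; exact zero_mem _
    | add x x' _ _ hx hx' => rw [add_smul]; exact add_mem (hx m trivial) (hx' m trivial)
    | smul x x' _ hx' => rw [smul_eq_mul, mul_comm, mul_smul]; exact hx' (x • m) trivial
  · intro h
    refine Submodule.smul_induction_on h (fun a ha m _ => ?_) fun a b ha hb => add_mem ha hb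
    rw [← e]
    exact Submodule.smul_mem_smul (Ideal.mem_map_of_mem _ ha) trivial

include hpb h𝔐 in
theorem eq_zero_of_ρ (z : Γ(GG f h𝔛 p hp hU 𝔐, ⊤))
    (hz : ∀ k, ρ f φ h𝔛 hℨ p hp q hU hsq 𝔐 k z = 0) : z = 0 := by
  letI := overZ f h𝔛 p hp hU
  letI := modG f h𝔛 p hp hU 𝔐
  haveI := Levels.isNoetherianRing_A h𝔛 (hVV p hU)
  haveI : IsProper ((Zc f h𝔛 p hp hU) ↘ Spec (CommRingCat.of (AA h𝔛 p U))) :=
    inferInstanceAs (IsProper (qc f h𝔛 p hp hU))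
  haveI := finite_G f h𝔛 p hp hU 𝔐 h𝔐
  haveI := (Levels.adic h𝔛 (hVV p hU)).1
  haveI : IsAdicComplete (Levels.J (h := h𝔛.1) (VV p U)) Γ(GG f h𝔛 p hp hU 𝔐, ⊤) :=
    Adic.Complete.isAdicComplete_of_finite
  obtain ⟨c, hc⟩ := H78.Proper.PushBound.exists_shift (Levels.J (h := h𝔛.1) (VV p U))
    (isCoh_GG f h𝔛 p hp hU 𝔐 h𝔐)
  refine IsHausdorff.haus (I := Levels.J (h := h𝔛.1) (VV p U)) inferInstance z fun n => ?_
  rw [SModEq.zero]
  refine Submodule.smul_mono_left (Ideal.pow_le_pow_right (Nat.le_succ n)) ?_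
  rw [← smul_top_le f h𝔛 p hp hU 𝔐]
  refine (hc n).1 z ?_
  obtain ⟨d, hd, hdd⟩ := exists_dd f φ h𝔛 p hp q hU hsq hpb 𝔐 h𝔐 (n + c)
  refine (H78.Formal.Sections.app_bijective d ⊤).1 ?_
  rw [hdd, map_zero]
  exact (ρ_bij f φ h𝔛 hℨ p hp q hU hsq 𝔐 (n + c)).1 ((hz (n + c)).trans (map_zero _).symm)

end Groth.Agent.H30.KillCore
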