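import Groth.Agent.H30.FSch.KillLift
import Groth.Agent.H30.FSch.KillTop
import Groth.Agent.H30.FSch.KillScalarGen
import Groth.Agent.H78.Proper.PushBound
import Groth.Agent.H78.Formal.Algebraize
import Groth.Agent.H78.Proper.Localised
import Groth.Agent.Lib.Cyc.PP.Push
import Groth.Agent.Lib.ModPair.Basic

/-!
# Formal functions on the base change to a completed affine open (helper30)
-/

set_option autoImplicit false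
set_option maxRecDepth 8000
set_option linter.style.haveILetI false
set_option linter.unusedSectionVars false

noncomputable section

universe u

open CategoryTheory CategoryTheory.Limits AlgebraicGeometry TopologicalSpace Opposite
open Groth.Agent.H30 Groth.Agent.H30.RealLimSec Groth.Agent.Lib Groth.Agent.H30.KillBase
  Groth.Agent.H30.KillMod Groth.Agent.H30.KillLevel
open ZarCoh.FlatBC.PullbackSections (pbRes pbRes_smul bijective_pbTensor pbTensor pbTensor_tmul)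
open Groth.Agent.H78.Formal.Sections (sMap sIdeal)
open Groth.Agent.H78.Formal.Elem (cπ)

namespace Groth.Agent.H30.KillCore

attribute [local irreducible] β Ψ

variable {X Z : Scheme.{u}} (f : Z ⟶ X) [IsProper f] {𝔛 ℨ : FSch.Sys.{u}} (φ : ℨ ⟶ 𝔛)
  (h𝔛 : 𝔛.IsLocNoethFormal) (hℨ : ℨ.IsLocNoethFormal)
  (p : ∀ k, 𝔛.X k ⟶ X) (hp : ∀ k, 𝔛.ι k ≫ p (k + 1) = p k)
  (q : ∀ k, ℨ.X k ⟶ Z) (hq : ∀ k, ℨ.ι k ≫ q (k + 1) = q k)
  [∀ k, IsClosedImmersion (p k)]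
  {U : X.Opens} (hU : IsAffineOpen U)
  (hsq : ∀ k, q k ≫ f = (φ : FSch.Hom ℨ 𝔛).app k ≫ p k)
  (hpb : ∀ k, IsPullback (q k) ((φ : FSch.Hom ℨ 𝔛).app k) f (p k))
  (𝔐 : FSch.ModSys 𝔛) (h𝔐 : 𝔐.IsCoh)

theorem scalar (k : ℕ) (a : AA h𝔛 p U) :
    (ℨ.X k).presheaf.map (homOfLE (top_le f φ h𝔛 hℨ p hp q hU hsq k)).op
        (((Wk φ h𝔛 p U k).ι.appIso _).inv ((Jk f φ h𝔛 p hp q hU hsq k).app ⊤
          ((qc f h𝔛 p hp hU).app ⊤ ((Scheme.ΓSpecIso (AA h𝔛 p U)).inv a)))) =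
      Levels.proj ℨ hℨ.1 k (PullFSys.preφ φ (VV p U)) (PullFSys.shφ φ hℨ h𝔛 (VV p U) a) :=
  (KillScalarGen.scalar_gen ((φ : FSch.Hom ℨ 𝔛).app k) (Uk h𝔛 p U k) (Jk f φ h𝔛 p hp q hU hsq k)
    (qc f h𝔛 p hp hU) (ζ h𝔛 p hU k) (Jk_qc f φ h𝔛 p hp q hU hsq k) _ _ (ζ_appTop h𝔛 p hU k a) _
    (top_le f φ h𝔛 hℨ p hp q hU hsq k) (PullFSys.lvU_le φ hℨ h𝔛 k (VV p U))).trans
    (PullFSys.proj_shφ φ hℨ h𝔛 k (VV p U) a).symm

theorem ρ_smul (k : ℕ) (a : AA h𝔛 p U) (z : Γ(GG f h𝔛 p hp hU 𝔐, ⊤)) :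
    letI := modG f h𝔛 p hp hU 𝔐
    ρ f φ h𝔛 hℨ p hp q hU hsq 𝔐 k (a • z) =
      PullFSys.shφ φ hℨ h𝔛 (VV p U) a • ρ f φ h𝔛 hℨ p hp q hU hsq 𝔐 k z := by
  letI := modG f h𝔛 p hp hU 𝔐
  refine (congrArg ((Rk φ 𝔐 k).presheaf.map (homOfLE (top_le f φ h𝔛 hℨ p hp q hU hsq k)).op)
    (β_smul f φ h𝔛 p hp q hU hsq 𝔐 k ⊤ _ z)).trans ?_
  refine (Scheme.Modules.map_smul _ _ _ _).trans ?_
  exact congrArg (fun r : Γ(ℨ.X k, ℨ.lvU hℨ.1 k (PullFSys.preφ φ (VV p U))) =>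
    r • ρ f φ h𝔛 hℨ p hp q hU hsq 𝔐 k z) (scalar f φ h𝔛 hℨ p hp q hU hsq k a)

include hpb h𝔐 hq in
theorem exists_ρ_eq
    (y : sec hℨ.1 ((FSch.ModSys.pullback φ 𝔐).realMod hℨ.1) (PullFSys.preφ φ (VV p U))) :
    ∃ z : Γ(GG f h𝔛 p hp hU 𝔐, ⊤), ∀ k, ρ f φ h𝔛 hℨ p hp q hU hsq 𝔐 k z =
      π hℨ.1 (FSch.ModSys.pullback φ 𝔐).F (FSch.ModSys.pullback φ 𝔐).toPush k (PullFSys.preφ φ (VV p U)) y := by
  letI := overZ f h𝔛 p hp hU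
  letI := modG f h𝔛 p hp hU 𝔐
  let J := Levels.J (h := h𝔛.1) (VV p U)
  let G := GG f h𝔛 p hp hU 𝔐
  let RR := FSch.ModSys.pullback φ 𝔐
  haveI := Levels.isNoetherianRing_A h𝔛 (hVV p hU)
  haveI : IsProper ((Zc f h𝔛 p hp hU) ↘ Spec (CommRingCat.of (AA h𝔛 p U))) :=
    inferInstanceAs (IsProper (qc f h𝔛 p hp hU))
  haveI := finite_G f h𝔛 p hp hU 𝔐 h𝔐
  haveI := (Levels.adic h𝔛 (hVV p hU)).1
  haveI : IsPrecomplete J Γ(G, ⊤) := Adic.Complete.isPrecomplete_of_finite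
  haveI := (isCoh_GG f h𝔛 p hp hU 𝔐 h𝔐).1
  obtain ⟨c, hc⟩ := H78.Proper.PushBound.exists_shift J (isCoh_GG f h𝔛 p hp hU 𝔐 h𝔐)
  choose Y hY using fun k => (ρ_bij f φ h𝔛 hℨ p hp q hU hsq 𝔐 k).2
    (π hℨ.1 RR.F RR.toPush k (PullFSys.preφ φ (VV p U)) y)
  have hYt : ∀ k, τ φ 𝔐 k _ _ (image_trans f φ h𝔛 p hp q hU hsq k hq ⊤) (Y (k + 1)) = Y k := fun k => by
    refine (ρ_bij f φ h𝔛 hℨ p hp q hU hsq 𝔐 k).1 ?_
    refine (τ_res φ 𝔐 k (image_trans f φ h𝔛 p hp q hU hsq k hq ⊤) (ℨ.lvU_le hℨ.1 k _)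
      (top_le f φ h𝔛 hℨ p hp q hU hsq (k + 1)) (top_le f φ h𝔛 hℨ p hp q hU hsq k) (Y (k + 1))).symm.trans ?_
    rw [hY (k + 1), τ_tr φ hℨ 𝔐, hY k]
    exact LinearMap.congr_fun (tr_π hℨ.1 RR.F RR.toPush k _) y
  choose m hm using fun k => exists_lift f φ h𝔛 hℨ p hp q hq hU hsq hpb 𝔐 h𝔐 Y hYt k c (hc k).2
  have hdiff : ∀ n, m (n + 1 + c) - m (n + c) ∈ J ^ (n + 1) • (⊤ : Submodule (AA h𝔛 p U) Γ(G, ⊤)) := by
    intro n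
    refine (smul_top_le f h𝔛 p hp hU 𝔐 (J ^ (n + 1)) _).1 ((hc n).1 _ ?_)
    obtain ⟨d, hdi, hd⟩ := exists_dd f φ h𝔛 p hp q hU hsq hpb 𝔐 h𝔐 (n + c)
    refine (H78.Formal.Sections.app_bijective d ⊤).1 ?_
    have h2 := β_down_top f φ h𝔛 hℨ p hp q hq hU hsq 𝔐 h𝔐 Y hYt (n + c) (n + 1 + c) (by omega) _ (hm _)
    refine (hd ⊤ _).trans ?_
    rw [map_sub, h2, hm, sub_self]
    exact (map_zero _).symm
  obtain ⟨z, hz⟩ := IsPrecomplete.prec (I := J) inferInstance (f := fun n => m (n + c)) (fun {a b} hab => by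
    induction hab with
    | refl => exact SModEq.refl _
    | @step b hab ih =>
      refine ih.trans (SModEq.symm (SModEq.sub_mem.2 ?_))
      exact Submodule.smul_mono_left (Ideal.pow_le_pow_right (Nat.le_succ_of_le hab)) (hdiff b))
  refine ⟨z, fun k => ?_⟩
  have h1 : ρ f φ h𝔛 hℨ p hp q hU hsq 𝔐 k (m (k + 1 + c) - z) = 0 := by
    refine Submodule.smul_induction_on (p := fun w => ρ f φ h𝔛 hℨ p hp q hU hsq 𝔐 k w = 0)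
      (SModEq.sub_mem.1 (hz (k + 1))) (fun a ha w _ => ?_) fun a b ha hb => by rw [map_add, ha, hb, add_zero]
    refine (ρ_smul f φ h𝔛 hℨ p hp q hU hsq 𝔐 k a w).trans ?_
    refine (lev_smul _ _ _ _ _ _).trans ?_
    have h0 : Levels.proj 𝔛 h𝔛.1 k (VV p U) a = 0 := RingHom.mem_ker.1
      (((Levels.adic h𝔛 (hVV p hU)).2.1 k).2.symm ▸ ha)
    have h0' : Levels.proj ℨ hℨ.1 k (PullFSys.preφ φ (VV p U)) (PullFSys.shφ φ hℨ h𝔛 (VV p U) a) = 0 :=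
      (PullFSys.proj_shφ φ hℨ h𝔛 k (VV p U) a).trans ((congrArg _ h0).trans (map_zero _))
    exact (congrArg (· • _) h0').trans (zero_smul _ _)
  have h2 : ρ f φ h𝔛 hℨ p hp q hU hsq 𝔐 k (m (k + 1 + c)) = ρ f φ h𝔛 hℨ p hp q hU hsq 𝔐 k z :=
    sub_eq_zero.1 ((map_sub _ _ _).symm.trans h1)
  refine (h2.symm.trans ?_).trans (hY k)
  exact congrArg ((Rk φ 𝔐 k).presheaf.map (homOfLE (top_le f φ h𝔛 hℨ p hp q hU hsq k)).op)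
    (β_down_top f φ h𝔛 hℨ p hp q hq hU hsq 𝔐 h𝔐 Y hYt k (k + 1 + c) (by omega) _ (hm _))

end Groth.Agent.H30.KillCore
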