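import Groth.Agent.H30.FSch.CohPres
import Groth.Agent.Lib.RMorLocal.Pull

/-!
# The inverse image on a level, locally (helper30)

Sections of `u_k^* F` are locally images of sections of `F`, and a section killed by the unit is
locally in `I_k • F`.
-/

set_option autoImplicit false
set_option linter.style.haveILetI false

universe u

open CategoryTheory CategoryTheory.Limits AlgebraicGeometry TopologicalSpace Opposite
open Groth.Agent.H30 Groth.Agent.H30.RealLimSec
open Groth.Agent.Lib Groth.Agent.Lib.ModTensor.Local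

namespace Groth.Agent.H30.LevelPull

variable {𝔛 : FSch.Sys.{u}} (h : 𝔛.IsFormal) (k : ℕ) (F : FSch.ModF 𝔛 h)

/-- The inverse image on the level `k`. -/
noncomputable abbrev pullk : (𝔛.X k).Modules := (FSch.levelMor 𝔛 h k).pull.obj F

/-- The unit on sections. -/
noncomputable def η (V : (𝔛.X 0).Opens) :
    sec h F V →ₗ[Levels.A 𝔛 h V] lev h (fun j => pullk h j F) k V where
  toFun x := secMap h ((FSch.levelMor 𝔛 h k).adj.unit.app F) V x
  map_add' := map_add _
  map_smul' := map_smul _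

theorem η_res {W V : (𝔛.X 0).Opens} (e : V ≤ W) (x : sec h F W) :
    η h k F V (CohPres.resF h F e x) =
      QCoh.Localizing.res (pullk h k F) (CohPres.lvU_mono h k e) (η h k F W x) :=
  LevelAdj.secMap_map ((FSch.levelMor 𝔛 h k).adj.unit.app F) e x

theorem le_of_lvU_le {V W : (𝔛.X 0).Opens} (e : 𝔛.lvU h k V ≤ 𝔛.lvU h k W) : V ≤ W := by
  intro z hz
  have hg : 𝔛.gInv h k ((𝔛.toX k).base z) = z :=
    ConcreteCategory.congr_hom (𝔛.toX_base_gInv h k) z
  have := e (show (𝔛.toX k).base z ∈ 𝔛.lvU h k V by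
    show 𝔛.gInv h k ((𝔛.toX k).base z) ∈ V
    rw [hg]; exact hz)
  rw [← hg]
  exact this

theorem exists_lvU_le {c : (𝔛.X k).Opens} {z : 𝔛.X k} (hz : z ∈ c) :
    ∃ V : (𝔛.X 0).Opens, IsAffineOpen V ∧ z ∈ 𝔛.lvU h k V ∧ 𝔛.lvU h k V ≤ c := by
  obtain ⟨_, ⟨V, rfl⟩, hzV, hVc⟩ := Opens.isBasis_iff_nbhd.1 (LevelAdj.isBasis_aff h k) hz
  exact ⟨V.1, V.2, hzV, hVc⟩

/-- Every section of the inverse image is locally in the image of the unit. -/
theorem exists_unit_eq {c : (𝔛.X k).Opens} (s : Γ(pullk h k F, c)) {z : 𝔛.X k} (hz : z ∈ c) :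
    ∃ (V : (𝔛.X 0).Opens) (_ : IsAffineOpen V) (_ : z ∈ 𝔛.lvU h k V)
      (hVc : 𝔛.lvU h k V ≤ c) (m : sec h F V),
      η h k F V m = QCoh.Localizing.res (pullk h k F) hVc s := by
  obtain ⟨S, hS, hlift⟩ := RMorLocal.Pull.exists_cover_eps (FSch.levelMor 𝔛 h k) F
    (c := c) (fun _ : Unit => s)
  obtain ⟨c', g, hg, hzc'⟩ := hS z hz
  obtain ⟨w, hw⟩ := hlift g hg
  obtain ⟨V, hV, hzV, hVc'⟩ := exists_lvU_le h k hzc'
  refine ⟨V, hV, hzV, hVc'.trans (leOfHom g), ?_⟩
  suffices ∀ y : (RMorLocal.Pull.Fr (FSch.levelMor 𝔛 h k) F).obj (op c'), ∃ m : sec h F V,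
      η h k F V m = QCoh.Localizing.res (pullk h k F) hVc'
        ((RMorLocal.Pull.eps (FSch.levelMor 𝔛 h k) F).app (op c') y) by
    obtain ⟨m, hm⟩ := this (w ())
    refine ⟨m, hm.trans ?_⟩
    rw [hw ()]
    exact QCoh.Localizing.res_res (M := pullk h k F) (leOfHom g) hVc' s
  intro y
  refine Finsupp.induction_linear (motive := fun y => ∃ m : sec h F V,
      η h k F V m = QCoh.Localizing.res (pullk h k F) hVc'
        ((RMorLocal.Pull.eps (FSch.levelMor 𝔛 h k) F).app (op c') y)) y ?_ ?_ ?_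
  · exact ⟨0, (map_zero _).trans ((congrArg _ (map_zero _)).trans (map_zero _)).symm⟩
  · rintro y₁ y₂ ⟨m₁, h₁⟩ ⟨m₂, h₂⟩
    exact ⟨m₁ + m₂, (map_add _ _ _).trans ((congrArg₂ (· + ·) h₁ h₂).trans
      ((congrArg _ (map_add _ _ _)).trans (map_add _ _ _)).symm)⟩
  · rintro ⟨⟨d, ψ⟩, m⟩ r
    obtain ⟨a, ha⟩ := OshBasic.OshProj_surjective 𝔛 h k hV
      ((𝔛.X k).presheaf.map (homOfLE hVc').op r)
    have e : V ≤ d := le_of_lvU_le h k (hVc'.trans (leOfHom ψ))
    refine ⟨a • CohPres.resF h F e m, ?_⟩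
    have h1 : (RMorLocal.Pull.eps (FSch.levelMor 𝔛 h k) F).app (op c')
        (Finsupp.single (⟨⟨d, ψ⟩, m⟩ : (RMorLocal.Pull.Sym (FSch.levelMor 𝔛 h k) F).obj (op c')) r) =
        (show Γ(𝔛.X k, c') from r) • (show Γ(pullk h k F, c') from
          QCoh.Localizing.res (pullk h k F) (leOfHom ψ) (η h k F d m)) := by
      have e1 : ((show (𝔛.X k).sheaf.obj.obj (op c') from r) • RMorLocal.Pull.b (FSch.levelMor 𝔛 h k) F (c := op c') ψ m :
          (RMorLocal.Pull.Fr (FSch.levelMor 𝔛 h k) F).obj (op c')) =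
          (Finsupp.single (⟨⟨d, ψ⟩, m⟩ : (RMorLocal.Pull.Sym (FSch.levelMor 𝔛 h k) F).obj (op c')) r :
            (RMorLocal.Pull.Sym (FSch.levelMor 𝔛 h k) F).obj (op c') →₀ Γ(𝔛.X k, c')) :=
        ((Finsupp.smul_single (show Γ(𝔛.X k, c') from r) _ (1 : Γ(𝔛.X k, c'))).trans
          (congrArg (Finsupp.single _) (mul_one (show Γ(𝔛.X k, c') from r))))
      refine (congrArg ((RMorLocal.Pull.eps (FSch.levelMor 𝔛 h k) F).app (op c')) e1).symm.trans ?_
      refine (((RMorLocal.Pull.eps (FSch.levelMor 𝔛 h k) F).app (op c')).hom.map_smul r _).trans ?_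
      exact congrArg (r • ·) (RMorLocal.Pull.eps_b (FSch.levelMor 𝔛 h k) F (c := op c') ψ m)
    refine Eq.trans ?_ (congrArg (QCoh.Localizing.res (pullk h k F) hVc') h1).symm
    rw [QCoh.Localizing.res_smul, QCoh.Localizing.res_res]
    refine (map_smul _ _ _).trans ?_
    refine (lev_smul h _ k V a _).trans ?_
    exact congrArg₂ (· • ·) ha (η_res h k F e m)

/-- The kernel of the projection, acting on sections. -/
noncomputable abbrev IF (V : (𝔛.X 0).Opens) : Submodule (Levels.A 𝔛 h V) (sec h F V) :=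
  RingHom.ker (Levels.proj 𝔛 h k V).hom • ⊤

theorem smul_congr {V : (𝔛.X 0).Opens} {a a' : Levels.A 𝔛 h V}
    (e : Levels.proj 𝔛 h k V a = Levels.proj 𝔛 h k V a') (y : sec h F V) :
    (Submodule.Quotient.mk (a • y) : sec h F V ⧸ IF h k F V) =
      Submodule.Quotient.mk (a' • y) := by
  rw [Submodule.Quotient.eq, ← sub_smul]
  refine Submodule.smul_mem_smul ?_ trivial
  rw [RingHom.mem_ker, map_sub, sub_eq_zero]
  exact e

theorem resA_refl {V : (𝔛.X 0).Opens} (a : Levels.A 𝔛 h V) :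
    CohPres.resA h (le_refl V) a = a := by
  show ((𝔛.Osh h).obj.map (𝟙 (op V))).hom a = a
  rw [CategoryTheory.Functor.map_id]
  rfl

theorem resF_resF {U V W : (𝔛.X 0).Opens} (e : V ≤ U) (e' : W ≤ V) (x : sec h F U) :
    CohPres.resF h F e' (CohPres.resF h F e x) = CohPres.resF h F (e'.trans e) x :=
  PresSh.res_res F e e' x

/-- A section killed by the unit is locally in `I_k • F`. -/
theorem exists_mem_of_unit_eq_zero {W : (𝔛.X 0).Opens} (m : sec h F W) (hm : η h k F W m = 0)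
    {z : 𝔛.X k} (hz : z ∈ 𝔛.lvU h k W) :
    ∃ (V : (𝔛.X 0).Opens) (_ : IsAffineOpen V) (hVW : V ≤ W) (_ : z ∈ 𝔛.lvU h k V),
      CohPres.resF h F hVW m ∈ IF h k F V := by
  classical
  obtain ⟨S, hS, hspan⟩ := RMorLocal.Pull.exists_cover_span (FSch.levelMor 𝔛 h k) F
    (c := 𝔛.lvU h k W)
    (z := RMorLocal.Pull.b (FSch.levelMor 𝔛 h k) F (c := op (𝔛.lvU h k W)) (d := W) (𝟙 _) m) (by
      refine (RMorLocal.Pull.eps_b (FSch.levelMor 𝔛 h k) F (c := op (𝔛.lvU h k W)) (d := W) (𝟙 _) m).trans ?_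
      exact (congrArg (res (RMorLocal.Pull.PMod (FSch.levelMor 𝔛 h k) F) _) hm).trans (map_zero _))
  obtain ⟨c', g, hg, hzc'⟩ := hS z hz
  obtain ⟨V, hV, hzV, hVc'⟩ := exists_lvU_le h k hzc'
  have hVd : ∀ {d : (𝔛.X 0).Opens}, (c' ⟶ 𝔛.lvU h k d) → V ≤ d := fun ψ =>
    le_of_lvU_le h k (hVc'.trans (leOfHom ψ))
  choose lift hlift using fun a : Γ(𝔛.X k, c') =>
    OshBasic.OshProj_surjective 𝔛 h k hV ((𝔛.X k).presheaf.map (homOfLE hVc').op a)
  let T := sec h F V ⧸ IF h k F V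
  let Φ : (RMorLocal.Pull.Fr (FSch.levelMor 𝔛 h k) F).obj (op c') →+ T :=
    (Finsupp.liftAddHom fun s => AddMonoidHom.mk'
      (fun a => Submodule.Quotient.mk (lift a • CohPres.resF h F (hVd s.1.2) s.2))
      fun a a' => by
        rw [← Submodule.Quotient.mk_add, ← add_smul]
        refine smul_congr h k F ?_ _
        rw [map_add]
        exact (hlift (a + a')).trans ((map_add _ _ _).trans (congrArg₂ (· + ·) (hlift a).symm (hlift a').symm)) :
      ((RMorLocal.Pull.Sym (FSch.levelMor 𝔛 h k) F).obj (op c') →₀ Γ(𝔛.X k, c')) →+ T)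
  have hΦb : ∀ {d : (𝔛.X 0).Opens} (ψ : c' ⟶ 𝔛.lvU h k d) (x : sec h F d),
      Φ (RMorLocal.Pull.b (FSch.levelMor 𝔛 h k) F (c := op c') ψ x) =
        Submodule.Quotient.mk (CohPres.resF h F (hVd ψ) x) := by
    intro d ψ x
    refine (Finsupp.liftAddHom_apply_single _ _ (1 : Γ(𝔛.X k, c'))).trans ?_
    refine (smul_congr h k F (a' := 1) ?_ _).trans (by rw [one_smul])
    rw [map_one]
    exact (hlift 1).trans (map_one _)
  have hΦsmul : ∀ (s : (𝔛.X k).sheaf.obj.obj (op c'))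
      (y : (RMorLocal.Pull.Fr (FSch.levelMor 𝔛 h k) F).obj (op c')),
      Φ (s • y) = lift s • Φ y := by
    intro s y
    refine Finsupp.induction_linear (motive := fun y => Φ (s • (show
      (RMorLocal.Pull.Fr (FSch.levelMor 𝔛 h k) F).obj (op c') from y)) = lift s • Φ y) y ?_ ?_ ?_
    · exact ((congrArg Φ (smul_zero _)).trans (map_zero _)).trans
        ((congrArg (lift s • ·) (map_zero Φ)).trans (smul_zero _)).symm
    · intro y₁ y₂ h₁ h₂
      exact ((congrArg Φ (smul_add _ _ _)).trans (map_add _ _ _)).trans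
        ((congrArg₂ (· + ·) h₁ h₂).trans
          ((congrArg (lift s • ·) (map_add Φ _ _)).trans (smul_add _ _ _)).symm)
    · intro i a
      revert a
      show ∀ a : Γ(𝔛.X k, c'), _
      intro a
      refine (congrArg Φ (Finsupp.smul_single (show Γ(𝔛.X k, c') from s) i a)).trans ?_
      refine (Finsupp.liftAddHom_apply_single _ _ _).trans ?_
      refine Eq.trans ?_ (congrArg (lift s • ·) (Finsupp.liftAddHom_apply_single _ _ _)).symm
      show Submodule.Quotient.mk (lift ((show Γ(𝔛.X k, c') from s) * a) • _) = lift s • Submodule.Quotient.mk (lift a • _)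
      rw [← Submodule.Quotient.mk_smul, smul_smul]
      refine smul_congr h k F ?_ _
      rw [map_mul]
      exact (hlift ((show Γ(𝔛.X k, c') from s) * a)).trans ((map_mul _ _ _).trans (congrArg₂ (· * ·) (hlift s).symm (hlift a).symm))
  have hrel : ∀ y, RMorLocal.Pull.IsRel (FSch.levelMor 𝔛 h k) F (op c') y → Φ y = 0 := by
    intro y hy
    cases hy with
    | @add d ψ x x' =>
      refine (map_sub Φ _ _).trans ?_
      refine (congrArg (· - _) (map_sub Φ _ _)).trans ?_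
      refine (congrArg₂ (· - ·) (congrArg₂ (· - ·) (hΦb ψ _) (hΦb ψ x)) (hΦb ψ x')).trans ?_
      rw [map_add, Submodule.Quotient.mk_add]
      abel
    | @smul d ψ a x =>
      refine (map_sub Φ _ _).trans ?_
      refine sub_eq_zero.2 ((hΦb ψ _).trans (Eq.trans ?_ (hΦsmul _ _).symm))
      rw [hΦb ψ, CohPres.resF_smul, ← Submodule.Quotient.mk_smul]
      refine smul_congr h k F ?_ _
      rw [CohPres.proj_resA]
      refine Eq.trans ?_ (hlift _).symm
      exact (QCoh.Localizing.resR_resR (leOfHom ψ) hVc' _).symm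
    | @map d d' ψ g x =>
      refine (map_sub Φ _ _).trans ?_
      refine sub_eq_zero.2 ((hΦb ψ _).trans (Eq.trans ?_ (hΦb _ _).symm))
      refine congrArg Submodule.Quotient.mk ?_
      exact resF_resF h F (leOfHom g) (hVd ψ) x
  refine ⟨V, hV, hVd g, hzV, ?_⟩
  have h1 : Φ (res (RMorLocal.Pull.Fr (FSch.levelMor 𝔛 h k) F) g.op
      (RMorLocal.Pull.b (FSch.levelMor 𝔛 h k) F (c := op (𝔛.lvU h k W)) (d := W) (𝟙 _) m)) = 0 := by
    have hmem := hspan g hg
    refine Submodule.span_induction (p := fun y _ => Φ y = 0) (fun y hy => hrel y hy) (map_zero _)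
      (fun a b _ _ ha hb => (map_add _ _ _).trans (by rw [ha, hb, add_zero]))
      (fun a b _ hb => (hΦsmul a b).trans (by rw [hb, smul_zero])) hmem
  have h2 := congrArg Φ (RMorLocal.Pull.res_b (FSch.levelMor 𝔛 h k) F (c := op (𝔛.lvU h k W))
    (c' := op c') g.op (d := W) (𝟙 _) m)
  have h3 := h2.symm.trans h1
  exact (Submodule.Quotient.mk_eq_zero _).1 ((hΦb _ m).symm.trans h3)

end Groth.Agent.H30.LevelPull
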