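import Groth.Agent.H30.FSch.CohCons
import Groth.Agent.H30.FSch.LevelPull

/-!
# Coherent modules of a level on the formal scheme (helper30)
-/

set_option autoImplicit false
set_option linter.style.haveILetI false
set_option linter.unusedSectionVars false

universe u

open CategoryTheory CategoryTheory.Limits AlgebraicGeometry TopologicalSpace Opposite
open Groth.Agent.H30 Groth.Agent.H30.RealLimSec Groth.Agent.Lib

namespace Groth.Agent.H30.LevelCoh

variable {𝔛 : FSch.Sys.{u}} (h𝔛 : 𝔛.IsLocNoethFormal) (k : ℕ)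

/-- A coherent module of a level is coherent on the formal scheme. -/
theorem isCohF_push (N : (𝔛.X k).Modules) (hN : Coh.IsCoh N) :
    FSch.IsCohF 𝔛 h𝔛.1 ((FSch.levelMor 𝔛 h𝔛.1 k).push.obj N) := by
  haveI : N.IsQuasicoherent := hN.1
  haveI : SheafOfModules.IsFiniteType (R := (𝔛.X k).ringCatSheaf) N := hN.2
  refine PresSh.isFinitePresentation_of_isPres fun x => ?_
  obtain ⟨W, hW, hxW⟩ := CohCons.exists_affine (𝔛 := 𝔛) x
  have hWk := OshBasic.isAffineOpen_lvU 𝔛 h𝔛.1 k hW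
  haveI := Levels.isNoetherianRing_A h𝔛 hW
  haveI := CohBasics.Affine.finite_sections (M := N) hWk
  let B := Γ(𝔛.X k, 𝔛.lvU h𝔛.1 k W)
  obtain ⟨n, ψ, hψ⟩ := Module.Finite.exists_fin' B Γ(N, 𝔛.lvU h𝔛.1 k W)
  let g : Fin n → Γ(N, 𝔛.lvU h𝔛.1 k W) := fun i => ψ (Pi.single i 1)
  have hg : ∀ c, ψ c = ∑ i, c i • g i := fun c => by
    conv_lhs => rw [pi_eq_sum_univ' c]
    simp only [map_sum, map_smul, g]
  let M := (FSch.levelMor 𝔛 h𝔛.1 k).push.obj N
  let f : Fin n → sec h𝔛.1 M W := g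
  let φ : (Fin n → Levels.A 𝔛 h𝔛.1 W) →ₗ[Levels.A 𝔛 h𝔛.1 W] sec h𝔛.1 M W := Fintype.linearCombination _ f
  have hφ : ∀ a, φ a = ∑ i, a i • f i := fun a => Fintype.linearCombination_apply _ _ a
  have hsum : ∀ (V : (𝔛.X 0).Opens) (e : V ≤ W) (a : Fin n → Levels.A 𝔛 h𝔛.1 V),
      (∑ i, a i • CohPres.resF h𝔛.1 M e (f i)) =
        (show sec h𝔛.1 M V from
          ((∑ i, Levels.proj 𝔛 h𝔛.1 k V (a i) • QCoh.Localizing.res N (CohPres.lvU_mono h𝔛.1 k e) (g i) :
            Γ(N, 𝔛.lvU h𝔛.1 k V)))) := fun V e a => rfl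
  have hker : ∀ a : Fin n → Levels.A 𝔛 h𝔛.1 W,
      φ a = 0 ↔ ψ (fun i => Levels.proj 𝔛 h𝔛.1 k W (a i)) = 0 := fun a => by
    rw [hφ, hg]
    rfl
  obtain ⟨m, r, hr⟩ := Submodule.fg_iff_exists_fin_generating_family.1
    (IsNoetherian.noetherian (LinearMap.ker φ))
  have hexW : ∀ a : Fin n → Levels.A 𝔛 h𝔛.1 W, φ a = 0 →
      ∃ d : Fin m → Levels.A 𝔛 h𝔛.1 W, ∀ i, a i = ∑ j, d j * r j i := fun a ha => by
    rw [← LinearMap.mem_ker, ← hr, Submodule.mem_span_range_iff_exists_fun] at ha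
    obtain ⟨d, hd⟩ := ha
    exact ⟨d, fun i => by rw [← hd]; simp⟩
  have hrel : ∀ j, φ (r j) = 0 := fun j => LinearMap.mem_ker.1 (hr ▸ Submodule.subset_span ⟨j, rfl⟩)
  obtain ⟨hp, hpk⟩ := (Levels.adic h𝔛 hW).2.1 k
  have hlev : PresSh.IsPres (R := (𝔛.X k).ringCatSheaf) N (𝔛.lvU h𝔛.1 k W) g
      (fun j i => Levels.proj 𝔛 h𝔛.1 k W (r j i)) :=
    SchPres.isPres_of_affine N hWk g _
      (fun s => by
        obtain ⟨c, rfl⟩ := hψ s
        exact ⟨c, hg c⟩)
      (fun j => (hg _).symm.trans ((hker (r j)).1 (hrel j)))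
      fun c hc => by
        choose a ha using fun i => hp (c i)
        obtain ⟨d, hd⟩ := hexW a ((hker a).2 (by
          rw [show (fun i => Levels.proj 𝔛 h𝔛.1 k W (a i)) = c from funext ha]
          exact (hg c).trans hc))
        refine ⟨fun j => Levels.proj 𝔛 h𝔛.1 k W (d j), fun i => ?_⟩
        rw [← ha i, hd i, map_sum]
        simp only [map_mul]
  refine ⟨W, n, m, f, r, hxW, PresSh.IsPres.of_basis {V | IsAffineOpen (V : (𝔛.X 0).Opens)}
    (CohPres.isBasis_affine (𝔛.X 0)) (fun j => (hφ (r j)).symm.trans (hrel j))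
    (fun V hV hVW s z hz => ?_) fun V hV hVW c hc z hz => ?_⟩
  · obtain ⟨b, hb⟩ := SchPres.gen_of_isPres hlev (OshBasic.isAffineOpen_lvU 𝔛 h𝔛.1 k hV)
      (CohPres.lvU_mono h𝔛.1 k hVW) (show Γ(N, 𝔛.lvU h𝔛.1 k V) from s)
    choose a ha using fun i => ((Levels.adic h𝔛 hV).2.1 k).1 (b i)
    refine ⟨V, le_rfl, hz, a, ?_⟩
    refine Eq.trans ?_ (hsum V hVW a).symm
    refine ((congrArg (fun g => M.val.map g s) (Subsingleton.elim (homOfLE (le_refl V)).op (𝟙 _))).trans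
      (congrArg (fun φ => φ.hom s) (M.val.map_id (op V)))).trans (hb.trans ?_)
    exact Finset.sum_congr rfl fun i _ => by rw [ha i]
  · obtain ⟨c, rfl⟩ : ∃ c' : Fin n → Levels.A 𝔛 h𝔛.1 V, c' = c := ⟨c, rfl⟩
    obtain ⟨d', hd'⟩ := SchPres.exact_of_isPres hlev (OshBasic.isAffineOpen_lvU 𝔛 h𝔛.1 k hV)
      (CohPres.lvU_mono h𝔛.1 k hVW) (fun i => Levels.proj 𝔛 h𝔛.1 k V (c i)) ((hsum V hVW c).symm.trans hc)
    choose d₁ hd₁ using fun j => ((Levels.adic h𝔛 hV).2.1 k).1 (d' j)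
    have hmem : ∀ i, c i - ∑ j, d₁ j * CohPres.resA h𝔛.1 hVW (r j i) ∈
        (Levels.J (h := h𝔛.1) W ^ (k + 1)).map (CohPres.resA h𝔛.1 hVW) := fun i => by
      rw [Ideal.map_pow, CohExact.J_map h𝔛 hW hV hVW, ← ((Levels.adic h𝔛 hV).2.1 k).2, RingHom.mem_ker,
        map_sub, map_sum, sub_eq_zero]
      refine (hd' i).trans (Finset.sum_congr rfl fun j _ => ?_)
      rw [map_mul, hd₁, CohPres.proj_resA]
    let S : Submodule (Levels.A 𝔛 h𝔛.1 V) (Fin n → Levels.A 𝔛 h𝔛.1 V) :=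
      LinearMap.range (Fintype.linearCombination _ fun j i => CohPres.resA h𝔛.1 hVW (r j i))
    have hS : ∀ i, ∀ b ∈ (Levels.J (h := h𝔛.1) W ^ (k + 1)).map (CohPres.resA h𝔛.1 hVW), Pi.single i b ∈ S := by
      intro i b hb
      induction hb using Submodule.span_induction with
      | mem b hb =>
        obtain ⟨a, ha, rfl⟩ := hb
        obtain ⟨d, hd⟩ := hexW (Pi.single i a) ((hker _).2 (by
          have h0 : (fun l => Levels.proj 𝔛 h𝔛.1 k W ((Pi.single i a : Fin n → Levels.A 𝔛 h𝔛.1 W) l)) = 0 := by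
            funext l
            rcases eq_or_ne l i with rfl | hne
            · rw [Pi.single_eq_same, Pi.zero_apply]
              exact RingHom.mem_ker.1 (hpk.symm ▸ ha)
            · rw [Pi.single_eq_of_ne hne, map_zero, Pi.zero_apply]
          rw [h0, map_zero]))
        refine ⟨fun j => CohPres.resA h𝔛.1 hVW (d j), funext fun l => ?_⟩
        have := congrArg (CohPres.resA h𝔛.1 hVW) (hd l)
        rw [map_sum] at this
        simp only [map_mul] at this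
        rcases eq_or_ne l i with rfl | hne
        · rw [Pi.single_eq_same] at this ⊢
          simpa [Fintype.linearCombination_apply] using this.symm
        · rw [Pi.single_eq_of_ne hne, map_zero] at this
          rw [Pi.single_eq_of_ne hne]
          simpa [Fintype.linearCombination_apply] using this.symm
      | zero => rw [Pi.single_zero]; exact S.zero_mem
      | add a b _ _ ha hb => rw [Pi.single_add]; exact S.add_mem ha hb
      | smul a b _ hb =>
        rw [smul_eq_mul, show (Pi.single i (a * b) : Fin n → Levels.A 𝔛 h𝔛.1 V) = a • Pi.single i b from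
          (Pi.single_smul' i a b)]
        exact S.smul_mem a hb
    obtain ⟨d₂, hd₂⟩ : (∑ i, Pi.single i (c i - ∑ j, d₁ j * CohPres.resA h𝔛.1 hVW (r j i))) ∈ S :=
      S.sum_mem fun i _ => hS i _ (hmem i)
    refine ⟨V, le_rfl, hz, fun j => d₁ j + d₂ j, fun i => ?_⟩
    refine ((congrArg (fun g => (ModSite.ringSh (𝔛.Osh h𝔛.1)).obj.map g (c i))
      (Subsingleton.elim (homOfLE (le_refl V)).op (𝟙 _))).trans
      (ConcreteCategory.congr_hom (CategoryTheory.Functor.map_id _ _) _)).trans ?_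
    have h1 := congrFun hd₂ i
    rw [Finset.univ_sum_single, Fintype.linearCombination_apply, Finset.sum_apply] at h1
    simp only [Pi.smul_apply, smul_eq_mul] at h1
    show c i = ∑ j, (d₁ j + d₂ j) * CohPres.resA h𝔛.1 hVW (r j i)
    simp only [add_mul, Finset.sum_add_distrib]
    rw [h1, add_sub_cancel]

/-- A coherent module killed by a power of the ideal of definition is a coherent module of a level. -/
theorem exists_iso_push (M : FSch.ModF 𝔛 h𝔛.1) (hM : FSch.IsCohF 𝔛 h𝔛.1 M)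
    (hk : ∀ V : (𝔛.X 0).Opens, IsAffineOpen V →
      Levels.J (h := h𝔛.1) V ^ (k + 1) • (⊤ : Submodule (Levels.A 𝔛 h𝔛.1 V) (sec h𝔛.1 M V)) = ⊥) :
    ∃ N : (𝔛.X k).Modules, Coh.IsCoh N ∧ Nonempty (M ≅ (FSch.levelMor 𝔛 h𝔛.1 k).push.obj N) := by
  refine ⟨_, CohF.isCoh_sys h𝔛 M hM k, ⟨?_⟩⟩
  have hbij : ∀ V : (𝔛.X 0).affineOpens, Function.Bijective (LevelPull.η h𝔛.1 k M V.1) := fun V => by
    obtain ⟨hs, hker⟩ := CohExact.η_spec h𝔛 hM V.2 k
    exact ⟨LinearMap.ker_eq_bot.1 (hker.trans (hk V.1 V.2)), hs⟩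
  haveI : Mono ((FSch.levelMor 𝔛 h𝔛.1 k).adj.unit.app M) :=
    CohCons.mono_of_injective _ fun V => (hbij V).1
  haveI : Epi ((FSch.levelMor 𝔛 h𝔛.1 k).adj.unit.app M) :=
    CohCons.epi_of_surjective _ fun V => (hbij V).2
  exact @asIso (FSch.ModF 𝔛 h𝔛.1) _ _ _ _ (isIso_of_mono_of_epi ((FSch.levelMor 𝔛 h𝔛.1 k).adj.unit.app M))

end Groth.Agent.H30.LevelCoh
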