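import Groth.Agent.H30.SysLemmas

/-!
# Levels of a pseudo-proper morphism of formal systems are proper (helper30)
-/

set_option autoImplicit false
set_option linter.style.haveILetI false

universe u

open CategoryTheory CategoryTheory.Limits AlgebraicGeometry

namespace Groth.Agent.H30.LevelProper

/-- Finite type lifts along a surjection with nilpotent finitely generated kernel. -/
theorem finiteType_of_comp {A B C : Type u} [CommRing A] [CommRing B] [CommRing C] (f : A →+* B) (p : B →+* C)
    (hp : Function.Surjective p) (hfg : (RingHom.ker p).FG) (hnil : IsNilpotent (RingHom.ker p))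
    (h : (p.comp f).FiniteType) : f.FiniteType := by
  classical
  algebraize [f, p.comp f]
  obtain ⟨s, hs⟩ : (⊤ : Subalgebra A C).FG := Algebra.FiniteType.out
  choose g hg using hp
  obtain ⟨t, ht⟩ := hfg
  let S := Algebra.adjoin A ((s.image g ∪ t : Finset B) : Set B)
  let π : B →ₐ[A] C := { p with commutes' := fun a => rfl }
  have hπ : S.map π = ⊤ := by
    rw [eq_top_iff, ← hs]
    refine Algebra.adjoin_le fun x hx => ⟨g x, Algebra.subset_adjoin ?_, hg x⟩
    exact Finset.mem_coe.2 (Finset.mem_union_left _ (Finset.mem_image_of_mem g hx))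
  have h1 : ∀ b : B, ∃ y ∈ S, b - y ∈ RingHom.ker p := fun b => by
    obtain ⟨y, hy, hyb⟩ := (hπ ▸ trivial : π b ∈ S.map π)
    refine ⟨y, hy, ?_⟩
    rw [RingHom.mem_ker, map_sub, sub_eq_zero]
    exact hyb.symm
  have h2 : ∀ n (b : B), ∃ y ∈ S, b - y ∈ RingHom.ker p ^ n := by
    intro n
    induction n with
    | zero => exact fun b => ⟨0, S.zero_mem, by simp⟩
    | succ n ih =>
      intro b
      obtain ⟨y, hy, hby⟩ := h1 b
      have key : ∀ z ∈ RingHom.ker p, ∃ y' ∈ S, z - y' ∈ RingHom.ker p ^ (n + 1) := by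
        intro z hz
        rw [← ht] at hz
        induction hz using Submodule.span_induction with
        | mem z hz =>
          exact ⟨z, Algebra.subset_adjoin (Finset.mem_coe.2 (Finset.mem_union_right _ hz)), by simp⟩
        | zero => exact ⟨0, S.zero_mem, by simp⟩
        | add z w _ _ hz hw =>
          obtain ⟨a, ha, haz⟩ := hz
          obtain ⟨c, hc, hcw⟩ := hw
          exact ⟨a + c, S.add_mem ha hc, by rw [add_sub_add_comm]; exact Ideal.add_mem _ haz hcw⟩
        | smul a z hz' ihz =>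
          obtain ⟨c, hc, hcz⟩ := ihz
          obtain ⟨a', ha', haa⟩ := ih a
          have hzk : z ∈ RingHom.ker p := by rw [← ht]; exact hz'
          refine ⟨a' * c, S.mul_mem ha' hc, ?_⟩
          have hck : c ∈ RingHom.ker p := by
            have : z - c ∈ RingHom.ker p := Ideal.pow_le_self (Nat.succ_ne_zero n) hcz
            exact ((RingHom.ker p).sub_mem_iff_right hzk).1 this
          rw [smul_eq_mul, show a * z - a' * c = a * (z - c) + (a - a') * c by ring]
          refine Ideal.add_mem _ (Ideal.mul_mem_left _ a hcz) ?_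
          rw [pow_succ]
          exact Ideal.mul_mem_mul haa hck
      obtain ⟨y', hy', hy''⟩ := key _ hby
      exact ⟨y + y', S.add_mem hy hy', by rwa [← sub_sub]⟩
  refine ⟨⟨s.image g ∪ t, eq_top_iff.2 fun b _ => ?_⟩⟩
  obtain ⟨N, hN⟩ := hnil
  obtain ⟨y, hy, hby⟩ := h2 N b
  rw [hN, Ideal.zero_eq_bot, Ideal.mem_bot, sub_eq_zero] at hby
  exact hby ▸ hy

variable {𝔛 𝔜 : FSch.Sys.{u}}

theorem toX_comp (f : 𝔛 ⟶ 𝔜) : ∀ n, 𝔛.toX n ≫ (f : FSch.Hom 𝔛 𝔜).app n =
    (f : FSch.Hom 𝔛 𝔜).app 0 ≫ 𝔜.toX n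
  | 0 => (Category.id_comp _).trans (Category.comp_id _).symm
  | n + 1 => by
    show (𝔛.toX n ≫ 𝔛.ι n) ≫ _ = _ ≫ (𝔜.toX n ≫ 𝔜.ι n)
    rw [Category.assoc, ← (f : FSch.Hom 𝔛 𝔜).comm n, ← Category.assoc, toX_comp f n, Category.assoc]

/-- The levels of a morphism with proper smallest level are proper. -/
theorem app_isProper (h𝔛 : 𝔛.IsLocNoethFormal) (h𝔜 : 𝔜.IsLocNoethFormal) (f : 𝔛 ⟶ 𝔜)
    [IsProper ((f : FSch.Hom 𝔛 𝔜).app 0)] (n : ℕ) : IsProper ((f : FSch.Hom 𝔛 𝔜).app n) := by
  let f' := (f : FSch.Hom 𝔛 𝔜).app n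
  let iX := 𝔛.toX n
  have : IsClosedImmersion iX := SysLemmas.toX_isClosedImmersion h𝔛.1 n
  have : Surjective iX := SysLemmas.toX_surjective h𝔛.1 n
  have : IsClosedImmersion (𝔜.toX n) := SysLemmas.toX_isClosedImmersion h𝔜.1 n
  have hw : iX ≫ f' = (f : FSch.Hom 𝔛 𝔜).app 0 ≫ 𝔜.toX n := toX_comp f n
  have : UniversallyClosed f' :=
    (Groth.Agent.H54.ThickBasic.universallyClosed_iff hw).mp inferInstance
  have hsep : IsSeparated (iX ≫ f') := hw ▸ inferInstance
  have : QuasiSeparated f' := Groth.Agent.H54.ThickBasic.quasiSeparated_of_comp_surjective iX f'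
  have h2 : pullback.diagonal (iX ≫ f') ≫
      pullback.map (iX ≫ f') (iX ≫ f') f' f' iX iX (𝟙 (𝔜.X n)) (by simp) (by simp) =
      iX ≫ pullback.diagonal f' := by
    apply pullback.hom_ext
    · simp only [Category.assoc, pullback.map, pullback.lift_fst, pullback.diagonal_fst,
        pullback.diagonal_fst_assoc, Category.comp_id]
    · simp only [Category.assoc, pullback.map, pullback.lift_snd, pullback.diagonal_snd,
        pullback.diagonal_snd_assoc, Category.comp_id]
  have : UniversallyClosed (iX ≫ pullback.diagonal f') := by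
    rw [← h2]
    have : UniversallyClosed
        (pullback.map (iX ≫ f') (iX ≫ f') f' f' iX iX (𝟙 (𝔜.X n)) (by simp) (by simp)) :=
      MorphismProperty.pullbackMap (P := @UniversallyClosed) inferInstance inferInstance rfl rfl
    infer_instance
  have : UniversallyClosed (pullback.diagonal f') :=
    UniversallyClosed.of_comp_surjective iX (pullback.diagonal f')
  have : IsSeparated f' := ⟨IsClosedImmersion.of_isPreimmersion _
    (Scheme.Hom.isClosedMap (pullback.diagonal f')).isClosed_range⟩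
  have : LocallyOfFiniteType f' := by
    have hlft : LocallyOfFiniteType (iX ≫ f') := hw ▸ inferInstance
    refine ⟨fun {V} hV {U} hU hUV => ?_⟩
    haveI := h𝔛.2.2 n
    haveI : IsNoetherianRing Γ(𝔛.X n, U) := IsLocallyNoetherian.component_noetherian ⟨U, hU⟩
    refine finiteType_of_comp (f'.appLE V U hUV).hom (iX.app U).hom (iX.app_surjective _ hU)
      (IsNoetherian.noetherian _) ?_ ?_
    · obtain ⟨N, hN⟩ := IsNoetherianRing.isNilpotent_nilradical Γ(𝔛.X n, U)
      exact ⟨N, le_bot_iff.mp ((Ideal.pow_right_mono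
        (Groth.Agent.H54.ThickLocal.le_nilradical_of_surjective iX hU) N).trans hN.le)⟩
    · have h3 := hlft.1 hV (hU.preimage iX) (show iX ⁻¹ᵁ U ≤ (iX ≫ f') ⁻¹ᵁ V from iX.preimage_mono hUV)
      rw [← CommRingCat.hom_comp, Scheme.Hom.app_eq_appLE, Scheme.Hom.appLE_comp_appLE]
      exact h3
  exact { }

end Groth.Agent.H30.LevelProper
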