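import Groth.Agent.H30.FSch.OshBasic
import Groth.Agent.Lib.Adic.RingLimit
import Groth.Agent.Lib.Adic.Complete

/-!
# The ring of sections of the structure sheaf of a formal scheme over an affine open (helper30)
-/

set_option autoImplicit false

universe u

open CategoryTheory CategoryTheory.Limits AlgebraicGeometry TopologicalSpace Opposite
open Groth.Agent.H30

namespace Groth.Agent.H30.Levels

variable (𝔛 : FSch.Sys.{u}) (h : 𝔛.IsFormal)

/-- The ring of sections of `O_𝔛`. -/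
noncomputable abbrev A (V : (𝔛.X 0).Opens) : CommRingCat.{u} := (𝔛.Osh h).obj.obj (op V)

/-- The ring of sections of the level `n`. -/
noncomputable abbrev B (n : ℕ) (V : (𝔛.X 0).Opens) : CommRingCat.{u} := Γ(𝔛.X n, 𝔛.lvU h n V)

/-- The projection to level `n`. -/
noncomputable abbrev proj (n : ℕ) (V : (𝔛.X 0).Opens) : A 𝔛 h V ⟶ B 𝔛 h n V :=
  (𝔛.OshProj h n).hom.app (op V)

/-- The transition map. -/
noncomputable abbrev trans (n : ℕ) (V : (𝔛.X 0).Opens) : B 𝔛 h (n + 1) V ⟶ B 𝔛 h n V :=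
  (𝔛.ι n).appLE (𝔛.lvU h (n + 1) V) (𝔛.lvU h n V) (𝔛.lvU_le h n V)

theorem proj_trans (n : ℕ) (V : (𝔛.X 0).Opens) :
    proj 𝔛 h (n + 1) V ≫ trans 𝔛 h n V = proj 𝔛 h n V :=
  congr_arg (fun φ => φ.hom.app (op V)) (𝔛.OshProj_levelMap h n)

theorem toX_preimage (n : ℕ) (V : (𝔛.X 0).Opens) : 𝔛.lvU h 0 V ≤ 𝔛.toX n ⁻¹ᵁ 𝔛.lvU h n V := by
  intro z hz
  have h0 : 𝔛.gInv h 0 z = z := ConcreteCategory.congr_hom (𝔛.toX_base_gInv h 0) z
  show 𝔛.gInv h n ((𝔛.toX n).base z) ∈ V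
  rw [show 𝔛.gInv h n ((𝔛.toX n).base z) = z from ConcreteCategory.congr_hom (𝔛.toX_base_gInv h n) z,
    ← h0]
  exact hz

/-- The map to level zero. -/
noncomputable abbrev toZero (n : ℕ) (V : (𝔛.X 0).Opens) : B 𝔛 h n V ⟶ B 𝔛 h 0 V :=
  (𝔛.toX n).appLE (𝔛.lvU h n V) (𝔛.lvU h 0 V) (toX_preimage 𝔛 h n V)

theorem toZero_zero (V : (𝔛.X 0).Opens) : toZero 𝔛 h 0 V = 𝟙 _ := by
  simp only [toZero, FSch.Sys.toX, Scheme.Hom.appLE, Scheme.Hom.id_app]
  exact (Category.id_comp _).trans ((𝔛.X 0).presheaf.map_id _)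

theorem trans_toZero (n : ℕ) (V : (𝔛.X 0).Opens) :
    trans 𝔛 h n V ≫ toZero 𝔛 h n V = toZero 𝔛 h (n + 1) V :=
  FSch.appLE_comp_appLE_of_eq _ _ _ rfl _ _ _ _ _ _

theorem proj_toZero (n : ℕ) (V : (𝔛.X 0).Opens) :
    proj 𝔛 h n V ≫ toZero 𝔛 h n V = proj 𝔛 h 0 V := by
  induction n with
  | zero => rw [toZero_zero, Category.comp_id]
  | succ n ih => rw [← trans_toZero, ← Category.assoc, proj_trans, ih]

theorem ker_appLE_eq {X Y : Scheme.{u}} (f : X ⟶ Y) (U : Y.Opens) (W : X.Opens)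
    (e : W ≤ f ⁻¹ᵁ U) (e' : f ⁻¹ᵁ U ≤ W) :
    RingHom.ker (f.appLE U W e).hom = RingHom.ker (f.app U).hom := by
  obtain rfl : W = f ⁻¹ᵁ U := le_antisymm e e'
  rw [Scheme.Hom.app_eq_appLE]

theorem ker_toZero (n : ℕ) (V : (𝔛.X 0).Opens) :
    RingHom.ker (toZero 𝔛 h n V).hom = RingHom.ker ((𝔛.toX n).app (𝔛.lvU h n V)).hom :=
  ker_appLE_eq _ _ _ _ fun z hz => by
    show 𝔛.gInv h 0 z ∈ V
    rw [show 𝔛.gInv h 0 z = z from ConcreteCategory.congr_hom (𝔛.toX_base_gInv h 0) z]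
    have hz' : 𝔛.gInv h n ((𝔛.toX n).base z) ∈ V := hz
    rwa [show 𝔛.gInv h n ((𝔛.toX n).base z) = z from
      ConcreteCategory.congr_hom (𝔛.toX_base_gInv h n) z] at hz'

theorem ker_trans' (n : ℕ) (V : (𝔛.X 0).Opens) :
    RingHom.ker (trans 𝔛 h n V).hom = RingHom.ker ((𝔛.ι n).app (𝔛.lvU h (n + 1) V)).hom :=
  ker_appLE_eq _ _ _ _ (𝔛.lvU_succ h n V).le

variable {𝔛 h}

theorem trans_surjective (n : ℕ) {V : (𝔛.X 0).Opens} (hV : IsAffineOpen V) :
    Function.Surjective (trans 𝔛 h n V) :=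
  OshBasic.levelMap_surjective 𝔛 h n hV

theorem ker_trans (hA : 𝔛.IsAdic) (n : ℕ) {V : (𝔛.X 0).Opens} (hV : IsAffineOpen V) :
    RingHom.ker (trans 𝔛 h n V).hom = RingHom.ker (toZero 𝔛 h (n + 1) V).hom ^ (n + 1) := by
  have := FSch.Sys.toX_isClosedImmersion 𝔛 h (n + 1)
  have := (h n).1
  let U : (𝔛.X (n + 1)).affineOpens := ⟨_, OshBasic.isAffineOpen_lvU 𝔛 h (n + 1) hV⟩
  rw [ker_trans', ker_toZero, ← (𝔛.ι n).ker_apply U, ← (𝔛.toX (n + 1)).ker_apply U, hA n,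
    Scheme.IdealSheafData.ideal_pow, Pi.pow_apply]

theorem ext_of_proj {V : (𝔛.X 0).Opens} (x : A 𝔛 h V) (hx : ∀ n, proj 𝔛 h n V x = 0) : x = 0 := by
  let G := sheafToPresheaf (Opens.grothendieckTopology (𝔛.X 0)) CommRingCat.{u} ⋙
    (evaluation _ CommRingCat.{u}).obj (op V)
  have hc := isLimitOfPreserves G (limit.isLimit (𝔛.levelRing h))
  refine Concrete.isLimit_ext _ hc x 0 fun j => ?_
  rw [map_zero]
  exact hx j.unop

theorem exists_of_compatible {V : (𝔛.X 0).Opens} (y : ∀ n, B 𝔛 h n V)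
    (hy : ∀ n, trans 𝔛 h n V (y (n + 1)) = y n) : ∃ x, ∀ n, proj 𝔛 h n V x = y n := by
  let G := sheafToPresheaf (Opens.grothendieckTopology (𝔛.X 0)) CommRingCat.{u} ⋙
    (evaluation _ CommRingCat.{u}).obj (op V)
  have hc := isLimitOfPreserves (forget CommRingCat.{u})
    (isLimitOfPreserves G (limit.isLimit (𝔛.levelRing h)))
  let s : ((𝔛.levelRing h ⋙ G) ⋙ forget CommRingCat.{u}).sections :=
    ⟨fun n => y n.unop, by
      intro m n f
      obtain ⟨d, hd⟩ := Nat.exists_eq_add_of_le f.unop.le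
      obtain ⟨m⟩ := m
      obtain ⟨n⟩ := n
      simp only at hd
      subst hd
      induction d with
      | zero =>
        rw [Subsingleton.elim f (𝟙 _)]
        exact ConcreteCategory.congr_hom (CategoryTheory.Functor.map_id (𝔛.levelRing h ⋙ G) _) _
      | succ d ih =>
        rw [Subsingleton.elim f ((homOfLE (Nat.le_add_right (n + d) 1)).op ≫
          (homOfLE (Nat.le_add_right n d)).op)]
        refine (ConcreteCategory.congr_hom (CategoryTheory.Functor.map_comp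
          ((𝔛.levelRing h ⋙ G) ⋙ forget CommRingCat.{u}) _ _) _).trans ?_
        refine (congrArg (((𝔛.levelRing h ⋙ G) ⋙ forget CommRingCat.{u}).map
          (homOfLE (Nat.le_add_right n d)).op) ?_).trans (ih (homOfLE (Nat.le_add_right n d)).op)
        show ((𝔛.levelRing h).map (homOfLE (Nat.le_add_right (n + d) 1)).op).hom.app (op V)
          (y (n + d + 1)) = y (n + d)
        rw [FSch.Sys.levelRing_map_succ]
        exact hy (n + d)⟩
  exact ⟨(Types.isLimitEquivSections hc).symm s, fun n =>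
    Types.isLimitEquivSections_symm_apply hc s (op n)⟩

variable (h𝔛 : 𝔛.IsLocNoethFormal) {V : (𝔛.X 0).Opens} (hV : IsAffineOpen V)

/-- The ideal of definition over an affine open. -/
noncomputable abbrev J (V : (𝔛.X 0).Opens) : Ideal (A 𝔛 h V) := RingHom.ker (proj 𝔛 h 0 V).hom

include hV in
theorem isNoetherianRing_B (n : ℕ) : IsNoetherianRing (B 𝔛 h𝔛.1 n V) :=
  have := h𝔛.2.2 n
  IsLocallyNoetherian.component_noetherian ⟨_, OshBasic.isAffineOpen_lvU 𝔛 h𝔛.1 n hV⟩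

include hV in
/-- `Γ(V, O_𝔛)` is complete, projects onto the levels with kernels the powers of `J`. -/
theorem adic :
    IsAdicComplete (J (h := h𝔛.1) V) (A 𝔛 h𝔛.1 V) ∧
      (∀ n, Function.Surjective (proj 𝔛 h𝔛.1 n V) ∧
        RingHom.ker (proj 𝔛 h𝔛.1 n V).hom = J (h := h𝔛.1) V ^ (n + 1)) ∧
      (J (h := h𝔛.1) V).FG := by
  refine Groth.Agent.Lib.Adic.RingLimit.main (B := fun n => B 𝔛 h𝔛.1 n V)
    (u := fun n => (trans 𝔛 h𝔛.1 n V).hom) (fun n => trans_surjective n hV)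
    (v := fun n => (toZero 𝔛 h𝔛.1 n V).hom) ?_ (fun n => ?_) (fun n => ker_trans h𝔛.2.1 n hV)
    ?_ (p := fun n => (proj 𝔛 h𝔛.1 n V).hom) (fun n => ?_) ext_of_proj
    (fun y hy => exists_of_compatible y hy)
  · simp only [toZero_zero]; rfl
  · rw [← trans_toZero]; rfl
  · exact (isNoetherianRing_iff_ideal_fg _).1 (isNoetherianRing_B h𝔛 hV 1) _
  · rw [← proj_trans 𝔛 h𝔛.1 n V]; rfl

include hV in
theorem isNoetherianRing_A : IsNoetherianRing (A 𝔛 h𝔛.1 V) := by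
  obtain ⟨hc, hs, hfg⟩ := adic h𝔛 hV
  have := isNoetherianRing_B h𝔛 hV 0
  have : IsNoetherianRing (A 𝔛 h𝔛.1 V ⧸ J (h := h𝔛.1) V) :=
    isNoetherianRing_of_ringEquiv _ (RingHom.quotientKerEquivOfSurjective (hs 0).1).symm
  exact Groth.Agent.Lib.Adic.Complete.isNoetherianRing_of_fg hfg

end Groth.Agent.H30.Levels
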