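import Groth.Prelude.Def_ARSys
import Groth.Agent.Lib.MLSeq.Basic
import Mathlib.Algebra.Category.Grp.Abelian
import Mathlib.Algebra.Category.Grp.EpiMono
import Mathlib.CategoryTheory.Subobject.Limits

/-!
# Elementwise Mittag-Leffler gives the subobject form (helper30)
-/

set_option autoImplicit false

universe u

open CategoryTheory CategoryTheory.Limits Opposite
open Groth.Agent.Lib

namespace Groth.Agent.H30.MLAux

theorem imageSubobject_le_of_range {M M' N : AddCommGrpCat.{u}} (f : M ⟶ N) (g : M' ⟶ N)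
    (h : ∀ x, ∃ y, g y = f x) : imageSubobject f ≤ imageSubobject g := by
  have hι : Function.Injective (imageSubobject g).arrow.hom :=
    (AddCommGrpCat.mono_iff_injective _).1 inferInstance
  have hl : ∀ x, ∃ z, (imageSubobject g).arrow.hom z = f x := fun x => by
    obtain ⟨y, hy⟩ := h x
    exact ⟨(factorThruImageSubobject g).hom y,
      (ConcreteCategory.congr_hom (imageSubobject_arrow_comp g) y).trans hy⟩
  choose l hlx using hl
  refine imageSubobject_le f (AddCommGrpCat.ofHom (AddMonoidHom.mk' l fun a b => hι ?_)) ?_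
  · exact (hlx _).trans ((map_add f.hom a b).trans
      ((congrArg₂ (· + ·) (hlx a) (hlx b)).symm.trans (map_add _ _ _).symm))
  · exact ConcreteCategory.hom_ext _ _ hlx

theorem isML_of_ML (X : ℕᵒᵖ ⥤ AddCommGrpCat.{u}) (hX : MLSeq.Basic.ML X) : ARSys.IsML X := by
  intro n
  obtain ⟨j, hnj, hj⟩ := hX n
  obtain ⟨r, rfl⟩ := Nat.exists_eq_add_of_le hnj
  refine ⟨r, fun s hrs => le_antisymm (imageSubobject_le_of_range _ _ fun x => ?_)
    (imageSubobject_le_of_range _ _ fun x => ?_)⟩
  · refine ⟨X.map (homOfLE (Nat.add_le_add_left hrs n)).op x, ?_⟩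
    exact (ConcreteCategory.congr_hom (X.map_comp _ _) x).symm
  · obtain ⟨y, hy⟩ := hj (n + s) (Nat.le_add_right n s) x
    exact ⟨y, hy⟩

end Groth.Agent.H30.MLAux
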