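import Groth.Prelude.Def_ModSite
import Mathlib.Topology.Sheaves.SheafCondition.Sites
import Mathlib.Algebra.Category.ModuleCat.Sheaf.PushforwardContinuous
import Mathlib.Topology.Category.TopCat.Opens

/-!
# Localisation of modules at an open, and the scalars of that open (helper30)

`loc O U M` has sections `M (W ⊓ U)` over `W`; the functions on `U` act on it.
-/

set_option autoImplicit false
set_option linter.unusedSectionVars false

universe u

open CategoryTheory CategoryTheory.Limits Opposite TopologicalSpace

namespace Groth.Agent.H30.ModLoc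

variable {X : TopCat.{u}} (O : Sheaf (Opens.grothendieckTopology X) CommRingCat.{u}) (U : Opens X)

/-- Intersection with `U`. -/
abbrev cut : Opens X ⥤ Opens X := Opens.map U.inclusion' ⋙ U.isOpenEmbedding.functor

theorem cut_le (W : Opens X) : (cut U).obj W ≤ W := by
  rintro _ ⟨y, hy, rfl⟩
  exact hy

theorem cut_le' (W : Opens X) : (cut U).obj W ≤ U := by
  rintro _ ⟨y, _, rfl⟩
  exact y.2

theorem cut_eq {W : Opens X} (h : W ≤ U) : (cut U).obj W = W :=
  le_antisymm (cut_le U W) fun x hx => ⟨⟨x, h hx⟩, hx, rfl⟩

instance : (cut U).IsContinuous (Opens.grothendieckTopology X) (Opens.grothendieckTopology X) :=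
  haveI := U.isOpenEmbedding.functor_isContinuous
  Functor.isContinuous_comp _ _ _ (Opens.grothendieckTopology ((Opens.toTopCat X).obj U)) _

/-- Restriction of functions. -/
noncomputable def cutSharp : ModSite.ringSh O ⟶ ((cut U).sheafPushforwardContinuous RingCat.{u}
    (Opens.grothendieckTopology X) (Opens.grothendieckTopology X)).obj (ModSite.ringSh O) :=
  ⟨{ app := fun W => (ModSite.ringSh O).obj.map (homOfLE (cut_le U W.unop)).op
     naturality := fun W W' i => by
      show (ModSite.ringSh O).obj.map _ ≫ (ModSite.ringSh O).obj.map _ =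
        (ModSite.ringSh O).obj.map _ ≫ (ModSite.ringSh O).obj.map _
      rw [← Functor.map_comp, ← Functor.map_comp]
      rfl }⟩

/-- The localisation at `U`. -/
noncomputable abbrev loc : ModSite.Mod O ⥤ ModSite.Mod O := SheafOfModules.pushforward.{u} (cutSharp O U)

variable {O}

theorem resRes (M : ModSite.Mod O) {A B C : Opens X} (h : B ≤ A) (h' : C ≤ B) (m : M.val.obj (op A)) :
    M.val.map (homOfLE h').op (M.val.map (homOfLE h).op m) = M.val.map (homOfLE (h'.trans h)).op m :=
  (PresheafOfModules.map_comp_apply M.val (homOfLE h).op (homOfLE h').op m).symm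

theorem scRes {A B C : Opens X} (h : B ≤ A) (h' : C ≤ B) (a : O.obj.obj (op A)) :
    O.obj.map (homOfLE h').op (O.obj.map (homOfLE h).op a) = O.obj.map (homOfLE (h'.trans h)).op a :=
  (ConcreteCategory.congr_hom (O.obj.map_comp (homOfLE h).op (homOfLE h').op) a).symm

variable (O)

/-- Scalar multiplication on the sections of a module. -/
noncomputable def sm (M : ModSite.Mod O) {W : Opens X} (a : O.obj.obj (op W)) :
    M.val.obj (op W) →+ M.val.obj (op W) where
  toFun m := (show (ModSite.ringSh O).obj.obj (op W) from a) • m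
  map_zero' := smul_zero _
  map_add' := smul_add _

theorem sm_map (M : ModSite.Mod O) {W W' : Opens X} (h : W' ≤ W) (a : O.obj.obj (op W)) (m : M.val.obj (op W)) :
    M.val.map (homOfLE h).op (sm O M a m) = sm O M (O.obj.map (homOfLE h).op a) (M.val.map (homOfLE h).op m) :=
  M.val.map_smul (homOfLE h).op a m

theorem sm_app {M N : ModSite.Mod O} (φ : M ⟶ N) {W : Opens X} (a : O.obj.obj (op W)) (m : M.val.obj (op W)) :
    φ.val.app (op W) (sm O M a m) = sm O N a (φ.val.app (op W) m) :=
  (φ.val.app (op W)).hom.map_smul _ m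

theorem sm_comm (M : ModSite.Mod O) {W : Opens X} (a b : O.obj.obj (op W)) (m : M.val.obj (op W)) :
    sm O M a (sm O M b m) = sm O M b (sm O M a m) := by
  show (show (ModSite.ringSh O).obj.obj (op W) from a) • ((show (ModSite.ringSh O).obj.obj (op W) from b) • m) =
    (show (ModSite.ringSh O).obj.obj (op W) from b) • ((show (ModSite.ringSh O).obj.obj (op W) from a) • m)
  rw [smul_smul, smul_smul]
  exact congrArg (· • m) (mul_comm a b)

theorem resSq (M : ModSite.Mod O) {A B C D : (Opens X)ᵒᵖ} (f : A ⟶ B) (g : B ⟶ D) (f' : A ⟶ C) (g' : C ⟶ D)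
    (m : M.val.presheaf.obj A) :
    (M.val.presheaf.map g).hom ((M.val.presheaf.map f).hom m) =
      (M.val.presheaf.map g').hom ((M.val.presheaf.map f').hom m) := by
  rw [← ConcreteCategory.comp_apply, ← ConcreteCategory.comp_apply, ← Functor.map_comp, ← Functor.map_comp,
    Subsingleton.elim (f ≫ g) (f' ≫ g')]

/-- The restrictions, on abelian presheaves. -/
noncomputable def ηPre (M : ModSite.Mod O) : M.val.presheaf ⟶ ((loc O U).obj M).val.presheaf where
  app W := M.val.presheaf.map (homOfLE (cut_le U W.unop)).op
  naturality W W' i := ConcreteCategory.hom_ext _ _ fun m =>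
    resSq O M i (homOfLE (cut_le U W'.unop)).op (homOfLE (cut_le U W.unop)).op ((cut U).map i.unop).op m

/-- The unit. -/
noncomputable def ηApp (M : ModSite.Mod O) : M ⟶ (loc O U).obj M :=
  ⟨PresheafOfModules.homMk (ηPre O U M)
    fun W r m => M.val.map_smul (homOfLE (cut_le U W.unop)).op r m⟩

theorem ηApp_apply (M : ModSite.Mod O) (W : Opens X) (m : M.val.obj (op W)) :
    (ηApp O U M).val.app (op W) m = M.val.map (homOfLE (cut_le U W)).op m := rfl

theorem η_natural {M N : ModSite.Mod O} (φ : M ⟶ N) : φ ≫ ηApp O U N = ηApp O U M ≫ (loc O U).map φ := by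
  refine SheafOfModules.hom_ext (PresheafOfModules.hom_ext fun W => ModuleCat.hom_ext (LinearMap.ext fun m => ?_))
  exact (PresheafOfModules.naturality_apply φ.val (homOfLE (cut_le U W.unop)).op m).symm

theorem ηApp_bijective (M : ModSite.Mod O) {W : Opens X} (h : W ≤ U) :
    Function.Bijective ((ηApp O U M).val.app (op W)) := by
  have key : ∀ (W' : Opens X) (e : W' = W) (h' : W' ≤ W), Function.Bijective (M.val.map (homOfLE h').op) := by
    rintro _ rfl h'
    have hid : ∀ m : M.val.obj (op _), M.val.map (homOfLE h').op m = m := fun m =>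
      (congrArg (fun g => M.val.map g m) (Subsingleton.elim (homOfLE h').op (𝟙 _))).trans
        (congrArg (fun φ => φ.hom m) (M.val.map_id _))
    exact ⟨fun x y hxy => (hid x).symm.trans (hxy.trans (hid y)), fun x => ⟨x, hid x⟩⟩
  exact key _ (cut_eq U h) (cut_le U W)

variable (a : O.obj.obj (op U))

/-- A function on `U`, as an endomorphism of a localised module. -/
noncomputable def mulApp (M : ModSite.Mod O) : (loc O U).obj M ⟶ (loc O U).obj M :=
  ⟨PresheafOfModules.homMk
    { app := fun W => AddCommGrpCat.ofHom (show ((loc O U).obj M).val.obj W →+ ((loc O U).obj M).val.obj W from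
        sm O M (W := (cut U).obj W.unop) (O.obj.map (homOfLE (cut_le' U W.unop)).op a))
      naturality := fun W W' i => ConcreteCategory.hom_ext _ _ fun (m : M.val.obj (op ((cut U).obj W.unop))) => by
        show sm O M (O.obj.map (homOfLE (cut_le' U W'.unop)).op a)
            (M.val.map (homOfLE ((cut U).monotone (leOfHom i.unop))).op m) =
          M.val.map (homOfLE ((cut U).monotone (leOfHom i.unop))).op
            (sm O M (O.obj.map (homOfLE (cut_le' U W.unop)).op a) m)
        rw [sm_map, scRes] }
    fun W r (m : M.val.obj (op ((cut U).obj W.unop))) =>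
      sm_comm O M (O.obj.map (homOfLE (cut_le' U W.unop)).op a)
        (O.obj.map (homOfLE (cut_le U W.unop)).op r) m⟩

theorem mulApp_apply (M : ModSite.Mod O) (W : Opens X) (m : M.val.obj (op ((cut U).obj W))) :
    (mulApp O U a M).val.app (op W) (show ((loc O U).obj M).val.obj (op W) from m) =
      sm O M (O.obj.map (homOfLE (cut_le' U W)).op a) m := rfl

theorem mul_natural {M N : ModSite.Mod O} (φ : M ⟶ N) :
    (loc O U).map φ ≫ mulApp O U a N = mulApp O U a M ≫ (loc O U).map φ := by
  refine SheafOfModules.hom_ext (PresheafOfModules.hom_ext fun W => ModuleCat.hom_ext (LinearMap.ext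
    fun (m : M.val.obj (op ((cut U).obj W.unop))) => ?_))
  exact (sm_app O φ (O.obj.map (homOfLE (cut_le' U W.unop)).op a) m).symm

/-- The scalar commutes with the unit of a localised module. -/
theorem mul_η (M : ModSite.Mod O) :
    mulApp O U a M ≫ ηApp O U ((loc O U).obj M) =
      ηApp O U ((loc O U).obj M) ≫ mulApp O U a ((loc O U).obj M) := by
  refine SheafOfModules.hom_ext (PresheafOfModules.hom_ext fun W => ModuleCat.hom_ext (LinearMap.ext
    fun (m : M.val.obj (op ((cut U).obj W.unop))) => ?_))
  show M.val.map (homOfLE ((cut U).monotone (cut_le U W.unop))).op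
      (sm O M (O.obj.map (homOfLE (cut_le' U W.unop)).op a) m) =
    sm O M (O.obj.map (homOfLE (cut_le U ((cut U).obj W.unop))).op (O.obj.map (homOfLE (cut_le' U W.unop)).op a))
      (M.val.map (homOfLE ((cut U).monotone (cut_le U W.unop))).op m)
  rw [sm_map]

instance mono_loc_map {M N : ModSite.Mod O} (φ : M ⟶ N) [Mono φ] : Mono ((loc O U).map φ) := by
  haveI : Mono ((SheafOfModules.toSheaf _).map φ) := inferInstance
  haveI : Mono ((sheafToPresheaf _ _).map ((SheafOfModules.toSheaf _).map φ)) := inferInstance
  refine (SheafOfModules.toSheaf (ModSite.ringSh O)).mono_of_mono_map ?_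
  refine (sheafToPresheaf _ AddCommGrpCat.{u}).mono_of_mono_map ((NatTrans.mono_iff_mono_app _).2 fun W => ?_)
  exact (NatTrans.mono_iff_mono_app _).1
    (inferInstance : Mono ((sheafToPresheaf _ _).map ((SheafOfModules.toSheaf _).map φ))) (op ((cut U).obj W.unop))

end Groth.Agent.H30.ModLoc
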