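import Groth.Prelude.Def_FSch5
import Groth.Agent.Lib.Lim.Thickening

/-!
# Affine opens of formal schemes and sections of the structure sheaf (helper30)
-/

universe u

open CategoryTheory CategoryTheory.Limits AlgebraicGeometry TopologicalSpace Opposite

namespace Groth.Agent.H30.OshBasic

section SeqLimit

/-- Elements lift through a limit of a sequence with surjective transition maps. -/
theorem exists_lift {F : ℕᵒᵖ ⥤ CommRingCat.{u}} {c : Cone F} (hc : IsLimit c)
    (hF : ∀ n, Function.Surjective (F.map (homOfLE (Nat.le_succ n)).op)) (i : ℕ) :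
    Function.Surjective (c.π.app (op i)) := by
  intro a
  let tr : ∀ {m n : ℕ}, m ≤ n → F.obj (op n) → F.obj (op m) := fun h x => F.map (homOfLE h).op x
  have tr_tr : ∀ {l m n : ℕ} (h : l ≤ m) (h' : m ≤ n) (x : F.obj (op n)),
      tr h (tr h' x) = tr (h.trans h') x := fun h h' x => by
    show F.map (homOfLE h).op (F.map (homOfLE h').op x) = _
    rw [← ConcreteCategory.comp_apply, ← F.map_comp]
    rfl
  have tr_refl : ∀ {n : ℕ} (x : F.obj (op n)), tr le_rfl x = x := fun {n} x => by
    show F.map (homOfLE le_rfl).op x = x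
    rw [show (homOfLE (le_refl n)).op = 𝟙 (op n) from rfl, F.map_id]
    rfl
  choose g hg using fun k (x : F.obj (op (i + k))) => hF (i + k) x
  let r : ∀ k, F.obj (op (i + k)) := fun k => Nat.rec (motive := fun k => F.obj (op (i + k))) a g k
  have hr : ∀ k, tr (Nat.le_succ (i + k)) (r (k + 1)) = r k := fun k => hg k (r k)
  have hr' : ∀ k l (h : i + k ≤ i + l), tr h (r l) = r k := by
    intro k l h
    induction l with
    | zero =>
      obtain rfl : k = 0 := by omega
      exact tr_refl _
    | succ l ih =>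
      rcases Nat.lt_or_ge l k with hlt | hle
      · obtain rfl : k = l + 1 := by omega
        exact tr_refl _
      · rw [← tr_tr (show i + k ≤ i + l by omega) (Nat.le_succ (i + l)), hr]
        exact ih _
  let s : (F ⋙ forget CommRingCat.{u}).sections :=
    ⟨fun n => tr (Nat.le_add_left n.unop i) (r n.unop), fun {m n} f => by
      show tr f.unop.le (tr (Nat.le_add_left m.unop i) (r m.unop)) = _
      show _ = tr (Nat.le_add_left n.unop i) (r n.unop)
      rw [tr_tr, ← hr' n.unop m.unop (Nat.add_le_add_left f.unop.le i), tr_tr]⟩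
  refine ⟨(Types.isLimitEquivSections (isLimitOfPreserves (forget CommRingCat.{u}) hc)).symm s, ?_⟩
  refine (Types.isLimitEquivSections_symm_apply (isLimitOfPreserves (forget CommRingCat.{u}) hc) s (op i)).trans ?_
  show tr (Nat.le_add_left i i) (r i) = a
  exact hr' 0 i (Nat.le_add_left i i)

end SeqLimit

variable (𝔛 : FSch.Sys.{u}) (h : 𝔛.IsFormal)

/-- The levels over an affine open of the common space are affine. -/
theorem isAffineOpen_lvU (n : ℕ) {U : (𝔛.X 0).Opens} (hU : IsAffineOpen U) :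
    IsAffineOpen (𝔛.lvU h n U) := by
  have := FSch.Sys.toX_isClosedImmersion 𝔛 h n
  have hpre : (𝔛.toX n) ⁻¹ᵁ 𝔛.lvU h n U = U := by
    ext z
    show (𝔛.toX n).base z ∈ (Opens.map (𝔛.gInv h n)).obj U ↔ _
    have := ConcreteCategory.congr_hom (𝔛.toX_base_gInv h n) z
    show 𝔛.gInv h n ((𝔛.toX n).base z) ∈ U ↔ _
    rw [show 𝔛.gInv h n ((𝔛.toX n).base z) = z from this]
    rfl
  have : IsClosedImmersion ((𝔛.toX n) ∣_ 𝔛.lvU h n U) := IsZariskiLocalAtTarget.restrict (P := @IsClosedImmersion) inferInstance _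
  have : Surjective ((𝔛.toX n) ∣_ 𝔛.lvU h n U) := by
    have : Surjective (𝔛.toX n) := ⟨FSch.Sys.toX_surjective 𝔛 h n⟩
    exact IsZariskiLocalAtTarget.restrict (P := @Surjective.{u}) inferInstance _
  have : IsAffine (((𝔛.toX n) ⁻¹ᵁ 𝔛.lvU h n U : (𝔛.X 0).Opens) : Scheme.{u}) := by
    rw [hpre]; exact hU
  exact Groth.Agent.Lib.Lim.Thickening.isAffine_of_surjective ((𝔛.toX n) ∣_ 𝔛.lvU h n U)

/-- The transition maps of the structure sheaves are surjective on affine opens. -/
theorem levelMap_surjective (n : ℕ) {U : (𝔛.X 0).Opens} (hU : IsAffineOpen U) :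
    Function.Surjective ((𝔛.levelMap h n).hom.app (op U)) := by
  have := (h n).1
  rw [FSch.Sys.levelMap_app, Scheme.Hom.appLE]
  intro x
  let e := 𝔛.lvU_succ h n U
  obtain ⟨z, hz⟩ := (𝔛.ι n).app_surjective _ (isAffineOpen_lvU 𝔛 h (n + 1) hU)
    ((𝔛.X n).presheaf.map (homOfLE e.le).op x)
  refine ⟨z, ?_⟩
  show (𝔛.X n).presheaf.map _ ((𝔛.ι n).app _ z) = x
  rw [hz, ← ConcreteCategory.comp_apply, ← Functor.map_comp]
  show (𝔛.X n).presheaf.map (𝟙 _) x = x
  rw [CategoryTheory.Functor.map_id]
  rfl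

/-- `O_𝔛 → O_{X_i}` is surjective over affine opens. -/
theorem OshProj_surjective (i : ℕ) {U : (𝔛.X 0).Opens} (hU : IsAffineOpen U) :
    Function.Surjective ((𝔛.OshProj h i).hom.app (op U)) := by
  let G := sheafToPresheaf (Opens.grothendieckTopology (𝔛.X 0)) CommRingCat.{u} ⋙
    (evaluation _ CommRingCat.{u}).obj (op U)
  have hc := isLimitOfPreserves G (limit.isLimit (𝔛.levelRing h))
  refine exists_lift hc (fun n => ?_) i
  show Function.Surjective (((𝔛.levelRing h).map (homOfLE (Nat.le_add_right n 1)).op).hom.app (op U))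
  rw [FSch.Sys.levelRing_map_succ]
  exact levelMap_surjective 𝔛 h n hU

end Groth.Agent.H30.OshBasic
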