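import Groth.Agent.H30.FSch.GrML
import Groth.Agent.H30.FSch.CohF
import Groth.Agent.H30.FSch.MLAux
import Groth.Agent.H30.TopCoh
import Groth.Agent.Lib.ZarCoh.Affine

/-!
# Cohomology of a coherent module on a formal scheme proper over an adic base (helper30)
-/

set_option autoImplicit false
set_option linter.style.haveILetI false
set_option linter.unusedSectionVars false

universe u

open CategoryTheory CategoryTheory.Limits AlgebraicGeometry TopologicalSpace Opposite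
open Groth.Agent.H30 Groth.Agent.H30.RealLimSec
open Groth.Agent.Lib

namespace Groth.Agent.H30.ProperML

variable {𝔛 : FSch.Sys.{u}} (h𝔛 : 𝔛.IsLocNoethFormal) (𝔐 : FSch.ModSys 𝔛) (h𝔐 : 𝔐.IsCoh)

include h𝔐 in
theorem acyclic {V : (𝔛.X 0).Opens} (hV : IsAffineOpen V) (n i : ℕ) (hi : 0 < i) :
    Subsingleton (CohTop.HU ((GrLevel.G h𝔛 𝔐).obj (op n)) i V) := by
  haveI : (𝔐.F n).IsQuasicoherent := (h𝔐 n).1
  have hg : Topology.IsClosedEmbedding (𝔛.gInv h𝔛.1 n) := (𝔛.levelHomeo h𝔛.1 n).symm.isClosedEmbedding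
  obtain ⟨e⟩ := TopCoh.nonempty_hPushEquiv (𝔛.gInv h𝔛.1 n) (Coh.toAb (𝔐.F n))
    (fun q => TopCoh.isZero_rpush_of_isClosedEmbedding hg _ q) V i
  obtain ⟨q, rfl⟩ : ∃ q, i = q + 1 := ⟨i - 1, by omega⟩
  exact @Equiv.subsingleton _ _ e.symm.toEquiv
    (ZarCoh.Affine.HU_subsingleton (𝔐.F n) (OshBasic.isAffineOpen_lvU 𝔛 h𝔛.1 n hV) q)

include h𝔐 in
theorem toLim_bijective (i : ℕ) (hML : ∀ j, j + 1 = i → MLSeq.Basic.ML (HTower.sys (GrLevel.G h𝔛 𝔐) j)) :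
    Function.Bijective (HTower.toLim (GrLevel.G h𝔛 𝔐) i) :=
  HTower.toLim_bijective _ {V | IsAffineOpen (V : (𝔛.X 0).Opens)} (Scheme.isBasis_affineOpens _)
    (fun V hV n y => by
      obtain ⟨x, hx⟩ := (CohSys.tr_spec h𝔛 𝔐 h𝔐 hV n).1 y
      exact ⟨x, (GrLevel.t_apply h𝔛 𝔐 n V x).trans hx⟩)
    (fun V hV n i hi => acyclic h𝔛 𝔐 h𝔐 hV n i hi) i hML

section Spf

variable {A : Type u} [CommRing A] {J : Ideal A} (f : 𝔛 ⟶ FSch.spf A J)

/-- The structure map of a level. -/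
noncomputable abbrev q (n : ℕ) : 𝔛.X n ⟶ Spec (CommRingCat.of A) :=
  (f : FSch.Hom _ _).app n ≫ FSch.spfToSpec A J n

theorem hq (n : ℕ) : 𝔛.ι n ≫ q f (n + 1) = q f n := by
  rw [q, ← Category.assoc, ← (f : FSch.Hom _ _).comm, Category.assoc]
  exact congrArg (_ ≫ ·) (CohB1.specQuotTrans_specQuot J n)

include h𝔐 in
theorem ml [IsNoetherianRing A] (hf : FSch.IsProperHom f) (i : ℕ) :
    MLSeq.Basic.ML (HTower.sys (GrLevel.G h𝔛 𝔐) i) := by
  haveI : ∀ n, IsClosedImmersion (FSch.spfToSpec A J n) := fun n => IdealLemmas.isClosedImmersion_specQuot A J n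
  haveI : IsProper ((f : FSch.Hom _ _).app 0) := hf.2
  haveI : IsProper (q f 0) := inferInstance
  refine GrML.ml (J := J) h𝔛 (q f) (hq f) (fun n => ?_) 𝔐 h𝔐 i
  have hk := IdealLemmas.isLocNoethFormal_spf A J
  rw [SysLemmas.ker_toX_of_isAdicHom hf.1 hk.1 n,
    IdealLemmas.ker_toX_eq (FSch.spf A J) (FSch.idealSpec A J) (fun n => FSch.spfToSpec A J n)
      (fun n => CohB1.specQuotTrans_specQuot J n) (IdealLemmas.ker_specQuot A J) n,
    Scheme.IdealSheafData.comap_comp]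

end Spf

theorem levelTrans_eq (F : FSch.ModF 𝔛 h𝔛.1) (k : ℕ) :
    FSch.levelTrans 𝔛 h𝔛.1 F k =
      (FSch.levelSysOf 𝔛 h𝔛.1 (CohF.sys F).F (CohF.sys F).toPush).map (homOfLE (Nat.le_succ k)).op := by
  rw [show homOfLE (Nat.le_succ k) = homOfLE (Nat.le_add_right k 1) from rfl, FSch.levelSysOf_map_succ,
    CohF.toPush_sys]
  rfl

end Groth.Agent.H30.ProperML
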