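import Groth.Agent.H30.FSch.HLim
import Groth.Agent.H30.FSch.ComplPull
import Groth.Agent.H78.Proper.PushBound
import Groth.Agent.Lib.Ideal.Comap

/-!
# Formal functions on the levels of a completion, over an arbitrary base (helper30)
-/

set_option autoImplicit false
set_option linter.style.haveILetI false
set_option linter.unusedSectionVars false

noncomputable section

universe u

open CategoryTheory CategoryTheory.Limits AlgebraicGeometry TopologicalSpace Opposite
open Groth.Agent.H30 Groth.Agent.H30.RealLimSec Groth.Agent.Lib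
open Groth.Agent.H78.Formal.Sections (sMap sIdeal)
open Groth.Agent.H78.Formal.Elem (cπ tr_tr)

namespace Groth.Agent.H30.ProperShift

variable {X Z : Scheme.{u}} (g : Z ⟶ X) {V : X.Opens} (hV : IsAffineOpen V)

/-- The preimage of an affine open, over its ring of functions. -/
abbrev overV : ((g ⁻¹ᵁ V : Z.Opens) : Scheme.{u}).Over (Spec (CommRingCat.of Γ(X, V))) :=
  ⟨(g ∣_ V) ≫ hV.isoSpec.hom⟩

theorem image_le (U : ((g ⁻¹ᵁ V : Z.Opens) : Scheme.{u}).Opens) : (g ⁻¹ᵁ V).ι ''ᵁ U ≤ g ⁻¹ᵁ V :=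
  Scheme.Opens.ι_image_le _ _

/-- The scalars of the base on an open of the preimage. -/
theorem sMap_eq (U : ((g ⁻¹ᵁ V : Z.Opens) : Scheme.{u}).Opens) (a : Γ(X, V)) :
    letI := overV g hV
    sMap Γ(X, V) U a = g.appLE V ((g ⁻¹ᵁ V).ι ''ᵁ U) (image_le g U) a := by
  letI := overV g hV
  have h1 : CommRingCat.ofHom (sMap Γ(X, V) U) =
      (Scheme.ΓSpecIso (CommRingCat.of Γ(X, V))).inv ≫ ((g ∣_ V) ≫ hV.isoSpec.hom).appTop ≫
        ((g ⁻¹ᵁ V : Z.Opens) : Scheme.{u}).presheaf.map (homOfLE le_top).op := rfl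
  refine (ConcreteCategory.congr_hom h1 a).trans ?_
  refine ConcreteCategory.congr_hom (f := (Scheme.ΓSpecIso (CommRingCat.of Γ(X, V))).inv ≫ _) ?_ a
  rw [IsAffineOpen.isoSpec_hom, Scheme.Hom.comp_appTop]
  simp only [Category.assoc, Scheme.Opens.toSpecΓ_appTop]
  erw [Iso.inv_hom_id_assoc]
  simp [Scheme.Hom.appTop, Scheme.Opens.topIso_inv, morphismRestrict_app',
    Scheme.Opens.toScheme_presheaf_map]
  erw [Scheme.Hom.appLE_map, Scheme.Hom.map_appLE]

/-- Additive maps compatible with scalars respect ideal multiples. -/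
theorem map_mem_smul_top {R R' M M' : Type*} [CommRing R] [CommRing R'] [AddCommGroup M] [AddCommGroup M']
    [Module R M] [Module R' M'] (f : M →+ M') (φ : R → R') (hf : ∀ r z, f (r • z) = φ r • f z)
    {I : Ideal R} {I' : Ideal R'} (hI : ∀ r ∈ I, φ r ∈ I') {x : M}
    (hx : x ∈ I • (⊤ : Submodule R M)) : f x ∈ I' • (⊤ : Submodule R' M') :=
  Submodule.smul_induction_on (p := fun z => f z ∈ I' • (⊤ : Submodule R' M')) hx
    (fun r hr z _ => by rw [hf]; exact Submodule.smul_mem_smul (hI r hr) trivial)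
    fun a b ha hb => by rw [map_add]; exact add_mem ha hb

/-- Ideal multiples in a restricted module. -/
theorem mem_smul_restrict {Y : Scheme.{u}} (W : Y.Opens) (G : Y.Modules) {U : (W : Scheme.{u}).Opens}
    (I : Ideal Γ((W : Scheme.{u}), U)) (I' : Ideal Γ(Y, W.ι ''ᵁ U)) (hI : I = I') (s : Γ(G, W.ι ''ᵁ U)) :
    @Membership.mem Γ((Scheme.Modules.restrictFunctor W.ι).obj G, U) _ _
        (I • (⊤ : Submodule Γ((W : Scheme.{u}), U) Γ((Scheme.Modules.restrictFunctor W.ι).obj G, U))) s ↔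
      s ∈ I' • (⊤ : Submodule Γ(Y, W.ι ''ᵁ U) Γ(G, W.ι ''ᵁ U)) := by
  subst hI
  have e0 : ∀ (r : Γ((W : Scheme.{u}), U)) (z : Γ(G, W.ι ''ᵁ U)),
      @HSMul.hSMul Γ((W : Scheme.{u}), U) Γ((Scheme.Modules.restrictFunctor W.ι).obj G, U) _ _ r z =
        @HSMul.hSMul Γ(Y, W.ι ''ᵁ U) Γ(G, W.ι ''ᵁ U) _ _ r z := fun r z => by
    refine congrArg (fun t : Γ(Y, W.ι ''ᵁ U) => @HSMul.hSMul Γ(Y, W.ι ''ᵁ U) Γ(G, W.ι ''ᵁ U) _ _ t z)
      (show (W.ι.appIso U).inv r = r from ?_)
    rw [Scheme.Opens.ι_appIso]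
    rfl
  let f₁ : Γ((Scheme.Modules.restrictFunctor W.ι).obj G, U) →+ Γ(G, W.ι ''ᵁ U) := AddMonoidHom.id _
  let f₂ : Γ(G, W.ι ''ᵁ U) →+ Γ((Scheme.Modules.restrictFunctor W.ι).obj G, U) := AddMonoidHom.id _
  constructor
  · intro h
    exact map_mem_smul_top (R := Γ((W : Scheme.{u}), U)) (R' := Γ(Y, W.ι ''ᵁ U)) (M := Γ((Scheme.Modules.restrictFunctor W.ι).obj G, U)) (M' := Γ(G, W.ι ''ᵁ U)) f₁ (fun r => r) e0 (fun r hr => hr) h
  · intro h
    exact map_mem_smul_top (R := Γ(Y, W.ι ''ᵁ U)) (R' := Γ((W : Scheme.{u}), U)) (M' := Γ((Scheme.Modules.restrictFunctor W.ι).obj G, U)) (M := Γ(G, W.ι ''ᵁ U)) f₂ (fun r => r) (fun r z => (e0 r z).symm) (fun r hr => hr) h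

variable [IsLocallyNoetherian X] [IsLocallyNoetherian Z]
  {ℨ : FSch.Sys.{u}} (hℨ : ℨ.IsLocNoethFormal) [IsProper g]
  (q : ∀ n, ℨ.X n ⟶ Z) (hq : ∀ n, ℨ.ι n ≫ q (n + 1) = q n) [∀ k, IsClosedImmersion (q k)]
  (𝓘 : X.IdealSheafData) (hIZ : ∀ k (U : Z.affineOpens), (q k).ker.ideal U = (𝓘.comap g).ideal U ^ (k + 1))
  (G : Z.Modules)

set_option quotPrecheck false in
local notation "SS" => ComplSec.pullSys q hq G

/-- Lower levels of an element vanishing on a higher level vanish. -/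
theorem π_zero_of_le {W : (ℨ.X 0).Opens}
    (x : sec hℨ.1 (FSch.realLim ℨ hℨ.1 (SS).F (SS).toPush) W) {k l : ℕ} (h : k ≤ l)
    (hx : π hℨ.1 (SS).F (SS).toPush l W x = 0) : π hℨ.1 (SS).F (SS).toPush k W x = 0 := by
  induction h with
  | refl => exact hx
  | step h ih =>
    refine ih ?_
    rw [← LinearMap.congr_fun (tr_π hℨ.1 (SS).F (SS).toPush _ W) x, LinearMap.comp_apply, hx, map_zero]

set_option maxHeartbeats 1000000 in
include hV hIZ in
/-- The theorem on formal functions over an affine open of the base, on the levels. -/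
theorem exists_shift (hG : Coh.IsCoh G) :
    ∃ c : ℕ,
      (∀ k (m : Γ(G, g ⁻¹ᵁ V)), ComplSec.σ hℨ.1 q hq G (k + c) (g ⁻¹ᵁ V) m = 0 →
        (show Γ((Scheme.Modules.pushforward g).obj G, V) from m) ∈
          𝓘.ideal ⟨V, hV⟩ ^ (k + 1) • (⊤ : Submodule Γ(X, V) Γ((Scheme.Modules.pushforward g).obj G, V))) ∧
      (∀ k (y : sec hℨ.1 (FSch.realLim ℨ hℨ.1 (SS).F (SS).toPush) (ComplSec.pre q (g ⁻¹ᵁ V))),
        ∃ m : Γ(G, g ⁻¹ᵁ V), ComplSec.σ hℨ.1 q hq G k (g ⁻¹ᵁ V) m =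
          π hℨ.1 (SS).F (SS).toPush k (ComplSec.pre q (g ⁻¹ᵁ V)) y) := by
  classical
  haveI := hG.1
  set W : Z.Opens := g ⁻¹ᵁ V with hWdef
  haveI : IsNoetherianRing Γ(X, V) := IsLocallyNoetherian.component_noetherian (X := X) ⟨V, hV⟩
  letI : (W : Scheme.{u}).Over (Spec (CommRingCat.of Γ(X, V))) := overV g hV
  haveI : IsProper ((W : Scheme.{u}) ↘ Spec (CommRingCat.of Γ(X, V))) :=
    inferInstanceAs (IsProper ((g ∣_ V) ≫ hV.isoSpec.hom))
  let J : Ideal Γ(X, V) := 𝓘.ideal ⟨V, hV⟩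
  let ρ := Scheme.Modules.restrictFunctor W.ι
  let F' : (W : Scheme.{u}).Modules := ρ.obj G
  have hF' : Coh.IsCoh F' := H78.Formal.Extend.isCoh_restr W.ι hG
  haveI := hF'.1
  let M := fun k => ρ.obj ((Scheme.Modules.pushforward (q k)).obj ((Scheme.Modules.pullback (q k)).obj G))
  let η : ∀ k, F' ⟶ M k := fun k => ρ.map ((Scheme.Modules.pullbackPushforwardAdjunction (q k)).unit.app G)
  haveI hMq : ∀ k, (M k).IsQuasicoherent := fun k => by
    haveI : ((Scheme.Modules.pullback (q k)).obj G).IsQuasicoherent := QCoh.Pullback.isQCoh_pullback (q k) G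
    haveI : ((Scheme.Modules.pushforward (q k)).obj ((Scheme.Modules.pullback (q k)).obj G)).IsQuasicoherent :=
      QCoh.Pushforward.isQCoh_pushforward _
    infer_instance
  have hη : ∀ k (U : (W : Scheme.{u}).Opens) (s : Γ(F', U)),
      (η k).app U s = CohDelta.Units.eta (q k) G (W.ι ''ᵁ U) s := fun k U s => rfl
  have hηi : ∀ k (U : (W : Scheme.{u}).Opens), IsAffineOpen U → ∀ s : Γ(F', U),
      (η k).app U s = 0 ↔ (Formal.modPowπ J (k + 1) F').app U s = 0 := by
    intro k U hU s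
    have hU' : IsAffineOpen (W.ι ''ᵁ U) := hU.image_of_isOpenImmersion W.ι
    rw [H78.Formal.Sections.modPowπ_eq_zero_iff J (k + 1) hU s, hη]
    refine (UnitKernel.unit_app_eq_zero_iff (q k) G hU' s).trans ?_
    have e : (q k).ker.ideal ⟨W.ι ''ᵁ U, hU'⟩ = sIdeal J U ^ (k + 1) := by
      rw [hIZ k ⟨_, hU'⟩, Ideal.Comap.ideal_comap g 𝓘 ⟨V, hV⟩ ⟨W.ι ''ᵁ U, hU'⟩ (image_le g U)]
      refine congrArg (fun φ : Γ(X, V) →+* Γ((W : Scheme.{u}), U) => J.map φ ^ (k + 1)) ?_
      exact RingHom.ext fun a => (sMap_eq g hV U a).symm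
    rw [e]
    exact (mem_smul_restrict W G (sIdeal J U ^ (k + 1)) _ rfl s).symm
  have hex : ∀ k, ∃ d : Formal.modPow J (k + 1) F' ⟶ M k, IsIso d ∧ Formal.modPowπ J (k + 1) F' ≫ d = η k := by
    intro k
    haveI : (Formal.modPow J (k + 1) F').IsQuasicoherent := H78.Formal.Sections.isQCoh_modPow J (k + 1)
    haveI : Epi (Formal.modPowπ J (k + 1) F') := inferInstanceAs (Epi (cokernel.π _))
    obtain ⟨d, hd⟩ := H78.Formal.Sys.exists_desc (Formal.modPowπ J (k + 1) F') (η k)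
      fun U hU s hs => (hηi k U hU s).2 hs
    have hd' : ∀ U (s : Γ(F', U)), d.app U ((Formal.modPowπ J (k + 1) F').app U s) = (η k).app U s :=
      fun U s => ConcreteCategory.congr_hom (congrArg (fun χ => χ.app U) hd) s
    refine ⟨d, H78.Formal.Sections.isIso_of_cover d fun x => ?_, hd⟩
    obtain ⟨U, hU, hx⟩ := H78.Formal.Sections.exists_affine x
    refine ⟨U, hU, hx, ?_, fun y => ?_⟩
    · rw [injective_iff_map_eq_zero]
      intro y hy
      obtain ⟨s, rfl⟩ := H78.Formal.Sections.modPowπ_surjective J (k + 1) hU y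
      exact (hηi k U hU s).1 ((hd' U s).symm.trans hy)
    · obtain ⟨s, hs⟩ := UnitKernel.unit_app_surjective (q k) G (hU.image_of_isOpenImmersion W.ι) y
      exact ⟨_, (hd' U s).trans hs⟩
  choose d hdi hd using hex
  have hdπ : ∀ k (U : (W : Scheme.{u}).Opens) (s : Γ(F', U)),
      (d k).app U ((cπ J F' k).app U s) = (η k).app U s := fun k U s =>
    ConcreteCategory.congr_hom (congrArg (fun χ => χ.app U) (hd k)) s
  have hdb : ∀ k (U : (W : Scheme.{u}).Opens), Function.Bijective ((d k).app U) := fun k U =>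
    haveI := hdi k
    H78.Formal.Sections.app_bijective _ U
  obtain ⟨c, hc⟩ := H78.Proper.PushBound.exists_shift J hF'
  have hWt : W.ι ''ᵁ ⊤ = W := W.ι_image_top
  have hσ : ∀ k (U : Z.Opens) (m : Γ(G, U)),
      ComplSec.σ hℨ.1 q hq G k U m = 0 ↔ CohDelta.Units.eta (q k) G U m = 0 := fun k U m =>
    ⟨fun h => (CohSys.restrict_bijective _ (ComplSec.lvU_pre hℨ.1 q hq k U).le
      (ComplSec.lvU_pre hℨ.1 q hq k U).ge).1 (h.trans (map_zero _).symm),
     fun h => by rw [ComplSec.σ_apply]; exact (congrArg _ h).trans (map_zero _)⟩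
  refine ⟨c, fun k m hm => ?_, fun k y => ?_⟩
  · let s : Γ(F', ⊤) := G.presheaf.map (homOfLE hWt.le).op m
    have h1 : (η (k + c)).app ⊤ s = 0 := by
      rw [hη]
      refine (((Scheme.Modules.pullbackPushforwardAdjunction (q (k + c))).unit.app G).mapPresheaf.naturality_apply
        (homOfLE hWt.le).op m).trans ?_
      exact (congrArg _ ((hσ _ _ m).1 hm)).trans (map_zero _)
    rw [← hdπ] at h1
    have h2 := (hc k).1 s ((hdb (k + c) ⊤).1 (h1.trans (map_zero _).symm))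
    let back : Γ(F', ⊤) →+ Γ((Scheme.Modules.pushforward g).obj G, V) :=
      (G.presheaf.map (homOfLE hWt.ge).op).hom
    have hres : back s = m := H78.Proper.PushBound.res_res G hWt.ge hWt.le m
    have hsm : ∀ (a : Γ(X, V)) (z : Γ(F', ⊤)),
        back (sMap Γ(X, V) (⊤ : (W : Scheme.{u}).Opens) a • z) = a • back z := by
      intro a z
      have e0 : (W.ι.appIso ⊤).inv (sMap Γ(X, V) (⊤ : (W : Scheme.{u}).Opens) a) =
          g.appLE V (W.ι ''ᵁ ⊤) (image_le g ⊤) a := by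
        rw [Scheme.Opens.ι_appIso]
        exact sMap_eq g hV ⊤ a
      refine Eq.trans (b := @HSMul.hSMul Γ(Z, W) Γ(G, W) _ _ (g.app V a)
        (G.presheaf.map (homOfLE hWt.ge).op z)) ?_ rfl
      refine (congrArg (G.presheaf.map (homOfLE hWt.ge).op) (congrArg (fun r : Γ(Z, W.ι ''ᵁ ⊤) =>
        @HSMul.hSMul Γ(Z, W.ι ''ᵁ ⊤) Γ(G, W.ι ''ᵁ ⊤) _ _ r z) e0)).trans ?_
      refine (G.map_smul (homOfLE hWt.ge) _ _).trans (congrArg (· • _) ?_)
      rw [Scheme.Hom.app_eq_appLE]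
      exact ConcreteCategory.congr_hom (Scheme.Hom.appLE_map g (image_le g ⊤) (homOfLE hWt.ge).op) a
    rw [← hres]
    refine Submodule.smul_induction_on h2 (fun r hr z _ => ?_) fun a b ha hb => by
      rw [map_add]; exact add_mem ha hb
    induction hr using Submodule.span_induction generalizing z with
    | mem x hx =>
      obtain ⟨a, ha, rfl⟩ := hx
      exact (hsm a z) ▸ Submodule.smul_mem_smul ha trivial
    | zero => rw [zero_smul, map_zero]; exact zero_mem _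
    | add x x' _ _ hx hx' => rw [add_smul, map_add]; exact add_mem (hx z trivial) (hx' z trivial)
    | smul x x' _ hx' => rw [smul_eq_mul, mul_comm, mul_smul]; exact hx' (x • z) trivial
  · -- the element on the level `k + c`, as a section over the preimage
    obtain ⟨w, hw⟩ := (CohSys.restrict_bijective _ (ComplSec.lvU_pre hℨ.1 q hq (k + c) W).le
      (ComplSec.lvU_pre hℨ.1 q hq (k + c) W).ge).2 (π hℨ.1 (SS).F (SS).toPush (k + c) (ComplSec.pre q W) y)
    let w' : Γ(M (k + c), ⊤) := ((Scheme.Modules.pushforward (q (k + c))).obj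
      ((Scheme.Modules.pullback (q (k + c))).obj G)).presheaf.map (homOfLE hWt.le).op w
    obtain ⟨v, hv⟩ := (hdb (k + c) ⊤).2 w'
    obtain ⟨s, hs⟩ := (hc k).2 v
    refine ⟨G.presheaf.map (homOfLE hWt.ge).op s, ?_⟩
    have hcov : ℨ.lvU hℨ.1 k (ComplSec.pre q W) ≤
        ⨆ U : (W : Scheme.{u}).affineOpens, ℨ.lvU hℨ.1 k (ComplSec.pre q (W.ι ''ᵁ U.1)) := by
      intro z hz
      have hz' : q k z ∈ W := (ComplSec.lvU_pre hℨ.1 q hq k W).le hz
      obtain ⟨U, hU, hzU⟩ := H78.Formal.Sections.exists_affine (X := (W : Scheme.{u})) (⟨q k z, hz'⟩)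
      refine Opens.mem_iSup.2 ⟨⟨U, hU⟩, ?_⟩
      exact (ComplSec.lvU_pre hℨ.1 q hq k (W.ι ''ᵁ U)).ge ⟨_, hzU, rfl⟩
    have hle : ∀ U : (W : Scheme.{u}).Opens, W.ι ''ᵁ U ≤ W := fun U => image_le g U
    refine TopCat.Sheaf.eq_of_locally_eq' ⟨((SS).F k).presheaf, ((SS).F k).isSheaf⟩
      (fun U : (W : Scheme.{u}).affineOpens => ℨ.lvU hℨ.1 k (ComplSec.pre q (W.ι ''ᵁ U.1)))
      (ℨ.lvU hℨ.1 k (ComplSec.pre q W))
      (fun U => homOfLE (CohPres.lvU_mono hℨ.1 k ((q 0).preimage_mono (hle U.1)))) hcov _ _ fun U => ?_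
    have hU' : IsAffineOpen (W.ι ''ᵁ U.1) := U.2.image_of_isOpenImmersion W.ι
    refine Eq.trans (ComplPull.σ_res hℨ q hq G k (hle U.1) _) (Eq.trans ?_
      (CohPres.π_res hℨ.1 (SS).F (SS).toPush k ((q 0).preimage_mono (hle U.1)) y))
    -- approximate on the affine open
    let yU := CohPres.resF hℨ.1 (FSch.realLim ℨ hℨ.1 (SS).F (SS).toPush) ((q 0).preimage_mono (hle U.1)) y
    let rG : Γ(G, W.ι ''ᵁ ⊤) →+ Γ(G, W.ι ''ᵁ U.1) :=
      (G.presheaf.map (homOfLE (W.ι.image_mono le_top)).op).hom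
    obtain ⟨m', hm'⟩ := ComplSec.σ_surjective hℨ.1 q hq G (k + c) hU'
      (π hℨ.1 (SS).F (SS).toPush (k + c) _ yU)
    have h0 : π hℨ.1 (SS).F (SS).toPush k _ (yU - ComplPull.ehat hℨ q hq G (W.ι ''ᵁ U.1) m') = 0 :=
      π_zero_of_le hℨ q hq G _ (Nat.le_add_right k c) (by rw [map_sub, ComplPull.π_ehat, hm', sub_self])
    rw [map_sub, ComplPull.π_ehat, sub_eq_zero] at h0
    refine Eq.trans ?_ h0.symm
    rw [show G.presheaf.map (homOfLE (hle U.1)).op (G.presheaf.map (homOfLE hWt.ge).op s) = rG s from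
      CohDelta.Units.map_map _ _ _ _ _]
    rw [← sub_eq_zero, ← map_sub, hσ]
    -- both come from `m'` in the reduction
    have e1 : (cπ J F' (k + c)).app U.1 (show Γ(F', U.1) from m') =
        (Formal.modPow J (k + c + 1) F').presheaf.map (homOfLE le_top).op v := by
      refine (hdb (k + c) U.1).1 ?_
      rw [hdπ, hη]
      refine Eq.trans ?_ ((d (k + c)).mapPresheaf.naturality_apply (homOfLE (le_top (a := U.1))).op v).symm
      refine Eq.trans ?_ (congrArg _ hv.symm)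
      refine (CohSys.restrict_bijective _ (ComplSec.lvU_pre hℨ.1 q hq (k + c) (W.ι ''ᵁ U.1)).le
        (ComplSec.lvU_pre hℨ.1 q hq (k + c) (W.ι ''ᵁ U.1)).ge).1 ?_
      refine Eq.trans hm' ?_
      refine (CohPres.π_res hℨ.1 (SS).F (SS).toPush (k + c) ((q 0).preimage_mono (hle U.1)) y).trans ?_
      refine (congrArg _ hw.symm).trans ?_
      refine (CohDelta.Units.map_map _ _ _
        (homOfLE (((CohPres.lvU_mono hℨ.1 (k + c) ((q 0).preimage_mono (hle U.1))).trans
          (ComplSec.lvU_pre hℨ.1 q hq (k + c) W).le))).op _).trans ?_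
      symm
      refine (congrArg _ (CohDelta.Units.map_map _ _ _
        (homOfLE ((q (k + c)).preimage_mono (hle U.1))).op w)).trans ?_
      exact CohDelta.Units.map_map _ _ _ _ _
    have e2 : (cπ J F' k).app U.1 (show Γ(F', U.1) from rG s) = (cπ J F' k).app U.1 (show Γ(F', U.1) from m') := by
      have n1 : (cπ J F' k).app U.1 (show Γ(F', U.1) from rG s) =
          ((Formal.completion J F').obj (op k)).presheaf.map (homOfLE le_top).op ((cπ J F' k).app ⊤ s) :=
        (cπ J F' k).mapPresheaf.naturality_apply (homOfLE (le_top (a := U.1))).op s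
      rw [n1, hs, ← H78.Formal.Elem.completion_π_tr J F' (Nat.le_add_right k c)
        (show Γ(F', U.1) from m')]
      rw [show (cπ J F' (k + c)).app U.1 (show Γ(F', U.1) from m') = _ from e1]
      exact (((Formal.completion J F').map (homOfLE (Nat.le_add_right k c)).op).mapPresheaf.naturality_apply
        (homOfLE (le_top (a := U.1))).op v).symm
    have e3 : (η k).app U.1 (show Γ(F', U.1) from rG s - m') = 0 := by
      rw [← hdπ k U.1 (show Γ(F', U.1) from rG s - m')]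
      refine (congrArg ((d k).app U.1) ((map_sub ((cπ J F' k).app U.1).hom
        (show Γ(F', U.1) from rG s) (show Γ(F', U.1) from m')).trans (sub_eq_zero.2 e2))).trans (map_zero _)
    exact (hη k U.1 _).symm.trans e3

end Groth.Agent.H30.ProperShift
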