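import Groth.Agent.H30.FSch.PullFSys
import Groth.Agent.Lib.ModSiteLoc.PullFree
import Groth.Agent.S13335
import Groth.Agent.S13336
import Groth.Agent.S13337
import Groth.Agent.S13334

/-!
# Inverse images of modules of coherent systems (helper30)
-/

set_option autoImplicit false
set_option linter.style.haveILetI false
set_option linter.unusedSectionVars false

noncomputable section

universe u

open CategoryTheory CategoryTheory.Limits AlgebraicGeometry TopologicalSpace Opposite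
open Groth.Agent.H30 Groth.Agent.H30.RealLimSec Groth.Agent.Lib

namespace Groth.Agent.H30.PullCoh

variable {𝔛 𝔜 : FSch.Sys.{u}} (φ : 𝔛 ⟶ 𝔜) (h𝔛 : 𝔛.IsLocNoethFormal) (h𝔜 : 𝔜.IsLocNoethFormal)
  (𝔐 : FSch.ModSys 𝔜)

theorem isCohF_pullF {M : FSch.ModF 𝔜 h𝔜.1} (hM : FSch.IsCohF 𝔜 h𝔜.1 M) :
    FSch.IsCohF 𝔛 h𝔛.1 ((FSch.pullF φ h𝔛.1 h𝔜.1).obj M) :=
  ModSiteLoc.PullFree.isFinitePresentation_pull (FSch.homMor φ h𝔛.1 h𝔜.1) hM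

theorem isCoh_pullback (h𝔐 : 𝔐.IsCoh) : (FSch.ModSys.pullback φ 𝔐).IsCoh :=
  fun n => Cyc.FP.Stalk.isCoh_pullback _ (h𝔐 n)

/-- The comparison on a level. -/
theorem isIso_pull_e₀ (h𝔐 : 𝔐.IsCoh) (k : ℕ) :
    IsIso ((FSch.levelMor 𝔛 h𝔛.1 k).pull.map (PullFSys.e₀ φ h𝔛 h𝔜 𝔐)) := by
  let RR := FSch.ModSys.pullback φ 𝔐
  let a := FSch.levelMor 𝔛 h𝔛.1 k
  let b := FSch.homMor φ h𝔛.1 h𝔜.1
  let c := ModSite.RMor.ofScheme ((φ : FSch.Hom 𝔛 𝔜).app k)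
  let d := FSch.levelMor 𝔜 h𝔜.1 k
  haveI hX : IsIso ((a.adj.homEquiv _ _).symm (FSch.realProj 𝔛 h𝔛.1 RR.F RR.toPush k)) :=
    Groth.Agent.S13336.result 𝔛 h𝔛 RR (isCoh_pullback φ 𝔐 h𝔐) k
  haveI hY : IsIso ((d.adj.homEquiv _ _).symm (FSch.realProj 𝔜 h𝔜.1 𝔐.F 𝔐.toPush k)) :=
    Groth.Agent.S13336.result 𝔜 h𝔜 𝔐 h𝔐 k
  have key : (FSch.lvPullSq φ h𝔛.1 h𝔜.1 k).hom.app (𝔐.realMod h𝔜.1) ≫
      a.pull.map (PullFSys.e₀ φ h𝔛 h𝔜 𝔐) ≫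
        (a.adj.homEquiv _ _).symm (FSch.realProj 𝔛 h𝔛.1 RR.F RR.toPush k) =
      c.pull.map ((d.adj.homEquiv _ _).symm (FSch.realProj 𝔜 h𝔜.1 𝔐.F 𝔐.toPush k)) := by
    apply ((d.adj.comp c.adj).homEquiv _ _).injective
    have hconj : ∀ (M : FSch.ModF 𝔜 h𝔜.1) (N : (𝔛.X k).Modules) (g : a.pull.obj (b.pull.obj M) ⟶ N),
        (d.adj.comp c.adj).homEquiv M N ((FSch.lvPullSq φ h𝔛.1 h𝔜.1 k).hom.app M ≫ g) =
          (b.adj.comp a.adj).homEquiv M N g ≫ (FSch.lvPushSq φ h𝔛.1 h𝔜.1 k).hom.app N := by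
      intro M N g
      have hu := unit_conjugateEquiv (b.adj.comp a.adj) (d.adj.comp c.adj)
        ((conjugateEquiv (b.adj.comp a.adj) (d.adj.comp c.adj)).symm (FSch.lvPushSq φ h𝔛.1 h𝔜.1 k).hom) M
      rw [Equiv.apply_symm_apply] at hu
      rw [Adjunction.homEquiv_unit, Adjunction.homEquiv_unit, Functor.map_comp]
      refine (Category.assoc _ _ _).symm.trans ((congrArg (· ≫ _) hu.symm).trans ?_)
      refine (Category.assoc _ _ _).trans ?_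
      refine (congrArg (_ ≫ ·) ((FSch.lvPushSq φ h𝔛.1 h𝔜.1 k).hom.naturality g).symm).trans ?_
      exact (Category.assoc _ _ _).symm
    rw [hconj, Adjunction.comp_homEquiv, Adjunction.comp_homEquiv]
    simp only [Equiv.trans_apply]
    rw [Adjunction.homEquiv_naturality_left, Equiv.apply_symm_apply, Adjunction.homEquiv_naturality_right,
      Category.assoc]
    refine (PullFSys.spec_e₀ φ h𝔛 h𝔜 𝔐 k).trans ?_
    have e : ∀ {P Q : (𝔜.X k).Modules} (h : P ⟶ Q),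
        c.adj.homEquiv P (c.pull.obj Q) (c.pull.map h) = h ≫ c.adj.unit.app Q := fun h =>
      (c.adj.homEquiv_unit _ _ _).trans (c.adj.unit.naturality h).symm
    refine Eq.trans ?_ (congrArg (d.adj.homEquiv _ _) (e _)).symm
    refine Eq.trans ?_ (d.adj.homEquiv_naturality_right _ _).symm
    exact congrArg (· ≫ _) (Equiv.apply_symm_apply _ _).symm
  have h1 : IsIso ((FSch.lvPullSq φ h𝔛.1 h𝔜.1 k).hom.app (𝔐.realMod h𝔜.1) ≫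
      a.pull.map (PullFSys.e₀ φ h𝔛 h𝔜 𝔐) ≫
        (a.adj.homEquiv _ _).symm (FSch.realProj 𝔛 h𝔛.1 RR.F RR.toPush k)) :=
    key.symm ▸ (haveI := hY; Functor.map_isIso c.pull _)
  have h2 := @IsIso.of_isIso_comp_left _ _ _ _ _ _ _ inferInstance h1
  exact @IsIso.of_isIso_comp_right _ _ _ _ _ _ _ hX h2

/-- A map of modules of coherent systems which is an isomorphism on every level is one. -/
theorem isIso_realModMap {𝔄 𝔅 : FSch.ModSys 𝔛} (h𝔄 : 𝔄.IsCoh) (h𝔅 : 𝔅.IsCoh) (s : 𝔄 ⟶ 𝔅)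
    (h : ∀ k, IsIso ((FSch.levelMor 𝔛 h𝔛.1 k).pull.map (FSch.ModSys.realModMap h𝔛.1 s))) :
    IsIso (FSch.ModSys.realModMap h𝔛.1 s) := by
  have hs : ∀ k, IsIso (s.app k) := fun k => by
    let a := FSch.levelMor 𝔛 h𝔛.1 k
    haveI := h k
    haveI hA : IsIso ((a.adj.homEquiv _ _).symm (FSch.realProj 𝔛 h𝔛.1 𝔄.F 𝔄.toPush k)) :=
      Groth.Agent.S13336.result 𝔛 h𝔛 𝔄 h𝔄 k
    haveI hB : IsIso ((a.adj.homEquiv _ _).symm (FSch.realProj 𝔛 h𝔛.1 𝔅.F 𝔅.toPush k)) :=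
      Groth.Agent.S13336.result 𝔛 h𝔛 𝔅 h𝔅 k
    have e : a.pull.map (FSch.ModSys.realModMap h𝔛.1 s) ≫
        (a.adj.homEquiv _ _).symm (FSch.realProj 𝔛 h𝔛.1 𝔅.F 𝔅.toPush k) =
        (a.adj.homEquiv _ _).symm (FSch.realProj 𝔛 h𝔛.1 𝔄.F 𝔄.toPush k) ≫ s.app k := by
      rw [← Adjunction.homEquiv_naturality_left_symm, ← Adjunction.homEquiv_naturality_right_symm]
      refine congrArg _ ?_
      exact FSch.realLimMap_realProj 𝔛 h𝔛.1 s.app (FSch.ModSys.Hom.toPush_comm s) k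
    have h1 : IsIso ((a.adj.homEquiv _ _).symm (FSch.realProj 𝔛 h𝔛.1 𝔄.F 𝔄.toPush k) ≫ s.app k) :=
      e ▸ @IsIso.comp_isIso' _ _ _ _ _ _ _ (h k) hB
    exact @IsIso.of_isIso_comp_left _ _ _ _ _ _ _ hA h1
  haveI : IsIso s := by
    haveI := hs
    refine ⟨⟨fun k => inv (s.app k), fun k => ?_⟩, ?_, ?_⟩
    · rw [Functor.map_inv, IsIso.inv_comp_eq, ← Category.assoc, IsIso.eq_comp_inv]
      exact (s.comm k).symm
    · exact FSch.ModSys.Hom.ext (funext fun k => IsIso.hom_inv_id (s.app k))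
    · exact FSch.ModSys.Hom.ext (funext fun k => IsIso.inv_hom_id (s.app k))
  exact (PullFSys.realModIso h𝔛 (asIso s)).isIso_hom

/-- The inverse image of the module of a coherent system is the module of the inverse image. -/
theorem isIso_e₀ (h𝔐 : 𝔐.IsCoh) : IsIso (PullFSys.e₀ φ h𝔛 h𝔜 𝔐) := by
  obtain ⟨𝔑, h𝔑, ⟨i⟩⟩ := Groth.Agent.S13335.result 𝔛 h𝔛 _
    (isCohF_pullF φ h𝔛 h𝔜 (Groth.Agent.S13334.result 𝔜 h𝔜 𝔐 h𝔐))
  obtain ⟨s, hs⟩ := (Groth.Agent.S13337.result 𝔛 h𝔛 𝔑 (FSch.ModSys.pullback φ 𝔐) h𝔑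
    (isCoh_pullback φ 𝔐 h𝔐)).2 (i.inv ≫ PullFSys.e₀ φ h𝔛 h𝔜 𝔐)
  haveI : IsIso (FSch.ModSys.realModMap h𝔛.1 s) := isIso_realModMap h𝔛 h𝔑 (isCoh_pullback φ 𝔐 h𝔐) s
    fun k => by
      haveI := isIso_pull_e₀ φ h𝔛 h𝔜 𝔐 h𝔐 k
      rw [show FSch.ModSys.realModMap h𝔛.1 s = i.inv ≫ PullFSys.e₀ φ h𝔛 h𝔜 𝔐 from hs, Functor.map_comp]
      infer_instance
  have : PullFSys.e₀ φ h𝔛 h𝔜 𝔐 = i.hom ≫ FSch.ModSys.realModMap h𝔛.1 s := by
    rw [show FSch.ModSys.realModMap h𝔛.1 s = i.inv ≫ PullFSys.e₀ φ h𝔛 h𝔜 𝔐 from hs, Iso.hom_inv_id_assoc]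
  rw [this]
  infer_instance

end Groth.Agent.H30.PullCoh
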