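import Groth.Agent.H30.FSch.AffineEquiv
import Groth.Agent.H30.FSch.ComplPull
import Groth.Agent.H30.FSch.ComplMonoEpi
import Groth.Prelude.Def_FSch6

/-!
# Inverse images of modules of coherent systems (helper30)
-/

set_option autoImplicit false
set_option linter.style.haveILetI false
set_option linter.unusedSectionVars false

universe u

open CategoryTheory CategoryTheory.Limits AlgebraicGeometry TopologicalSpace Opposite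
open Groth.Agent.H30 Groth.Agent.H30.RealLimSec
open Groth.Agent.Lib
open Groth.Agent.Lib.CohDelta.Units (eta eta_map comp_eta eta_congr map_map)

namespace Groth.Agent.H30.PullFSys

section Scheme

variable {Z₀ Z₁ W₀ W₁ : Scheme.{u}}

theorem map_self {Z : Scheme.{u}} (M : Z.Modules) {U : Z.Opens} (i : op U ⟶ op U) (y : Γ(M, U)) :
    M.presheaf.map i y = y := by
  rw [Subsingleton.elim i (𝟙 _), CategoryTheory.Functor.map_id]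
  rfl

/-- Units along a commutative square, after restriction. -/
theorem res_sq_eta (g₁ : Z₀ ⟶ Z₁) (g₂ : Z₁ ⟶ W₁) (h₁ : Z₀ ⟶ W₀) (h₂ : W₀ ⟶ W₁)
    (hsq : g₁ ≫ g₂ = h₁ ≫ h₂) (M : W₁.Modules) (U : W₁.Opens) (m : Γ(M, U)) {V : Z₀.Opens}
    (e₁ : V ≤ g₁ ⁻¹ᵁ (g₂ ⁻¹ᵁ U)) (e₂ : V ≤ h₁ ⁻¹ᵁ (h₂ ⁻¹ᵁ U)) :
    ((Scheme.Modules.pullback h₁).obj ((Scheme.Modules.pullback h₂).obj M)).presheaf.map (homOfLE e₁).op
        (((Scheme.Modules.pullbackComp g₁ g₂).app M ≪≫ (Scheme.Modules.pullbackCongr hsq).app M ≪≫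
          (Scheme.Modules.pullbackComp h₁ h₂).symm.app M).hom.app (g₁ ⁻¹ᵁ (g₂ ⁻¹ᵁ U))
            (eta g₁ _ _ (eta g₂ M U m))) =
      ((Scheme.Modules.pullback h₁).obj ((Scheme.Modules.pullback h₂).obj M)).presheaf.map (homOfLE e₂).op
        (eta h₁ _ _ (eta h₂ M U m)) := by
  have hU : (h₁ ≫ h₂) ⁻¹ᵁ U = (g₁ ≫ g₂) ⁻¹ᵁ U := by rw [hsq]
  have h : ((Scheme.Modules.pullbackCongr hsq).hom.app M).app (g₁ ⁻¹ᵁ (g₂ ⁻¹ᵁ U))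
      (((Scheme.Modules.pullbackComp g₁ g₂).hom.app M).app (g₁ ⁻¹ᵁ (g₂ ⁻¹ᵁ U))
        (eta g₁ _ _ (eta g₂ M U m))) =
      ((Scheme.Modules.pullback (h₁ ≫ h₂)).obj M).presheaf.map (eqToHom hU.symm).op (eta (h₁ ≫ h₂) M U m) :=
    (congrArg _ (comp_eta g₁ g₂ M U m)).trans (eta_congr hsq M U m hU)
  refine (congrArg (fun z => ((Scheme.Modules.pullback h₁).obj ((Scheme.Modules.pullback h₂).obj M)).presheaf.map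
    (homOfLE e₁).op (((Scheme.Modules.pullbackComp h₁ h₂).inv.app M).app _ z)) h).trans ?_
  refine (congrArg _ (((Scheme.Modules.pullbackComp h₁ h₂).inv.app M).mapPresheaf.naturality_apply
    (eqToHom hU.symm).op _)).trans ?_
  refine (map_map _ _ _ (homOfLE e₂).op _).trans ?_
  refine congrArg _ ?_
  exact (CohDelta.Units.eta_comp h₁ h₂ M U m).symm

end Scheme

variable {𝔛 𝔜 : FSch.Sys.{u}} (φ : 𝔛 ⟶ 𝔜) (h𝔛 : 𝔛.IsLocNoethFormal) (h𝔜 : 𝔜.IsLocNoethFormal)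

/-- The inverse image of an open of the common space. -/
noncomputable abbrev preφ (V : (𝔜.X 0).Opens) : (𝔛.X 0).Opens := (φ : FSch.Hom 𝔛 𝔜).app 0 ⁻¹ᵁ V

include h𝔛 h𝔜 in
theorem lvU_le (k : ℕ) (V : (𝔜.X 0).Opens) :
    𝔛.lvU h𝔛.1 k (preφ φ V) ≤ (φ : FSch.Hom 𝔛 𝔜).app k ⁻¹ᵁ 𝔜.lvU h𝔜.1 k V :=
  (FSch.Hom.lvU_preimage φ h𝔛.1 h𝔜.1 k V).ge

variable (𝔐 : FSch.ModSys 𝔜)

local notation "RR" => FSch.ModSys.pullback φ 𝔐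

/-- The inverse image of a section of level `k`. -/
noncomputable def ηl (k : ℕ) (V : (𝔜.X 0).Opens) :
    lev h𝔜.1 𝔐.F k V →+ lev h𝔛.1 (RR).F k (preφ φ V) :=
  (((RR).F k).presheaf.map (homOfLE (lvU_le φ h𝔛 h𝔜 k V)).op).hom.comp
    (((Scheme.Modules.pullbackPushforwardAdjunction ((φ : FSch.Hom 𝔛 𝔜).app k)).unit.app (𝔐.F k)).app
      (𝔜.lvU h𝔜.1 k V)).hom

theorem ηl_apply (k : ℕ) (V : (𝔜.X 0).Opens) (y : lev h𝔜.1 𝔐.F k V) :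
    ηl φ h𝔛 h𝔜 𝔐 k V y = ((RR).F k).presheaf.map (homOfLE (lvU_le φ h𝔛 h𝔜 k V)).op
      (eta ((φ : FSch.Hom 𝔛 𝔜).app k) (𝔐.F k) (𝔜.lvU h𝔜.1 k V) y) := rfl

/-- Inverse images commute with the transition maps. -/
theorem tr_ηl (k : ℕ) (V : (𝔜.X 0).Opens) (y : lev h𝔜.1 𝔐.F (k + 1) V) :
    tr h𝔛.1 (RR).F (RR).toPush k (preφ φ V) (ηl φ h𝔛 h𝔜 𝔐 (k + 1) V y) =
      ηl φ h𝔛 h𝔜 𝔐 k V (tr h𝔜.1 𝔐.F 𝔐.toPush k V y) := by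
  let f₁ := (φ : FSch.Hom 𝔛 𝔜).app (k + 1)
  let f₀ := (φ : FSch.Hom 𝔛 𝔜).app k
  have e2 : 𝔛.lvU h𝔛.1 k (preφ φ V) ≤ 𝔛.ι k ⁻¹ᵁ (f₁ ⁻¹ᵁ 𝔜.lvU h𝔜.1 (k + 1) V) :=
    (𝔛.lvU_le h𝔛.1 k _).trans ((𝔛.ι k).preimage_mono (lvU_le φ h𝔛 h𝔜 (k + 1) V))
  have e3 : 𝔛.lvU h𝔛.1 k (preφ φ V) ≤ f₀ ⁻¹ᵁ (𝔜.ι k ⁻¹ᵁ 𝔜.lvU h𝔜.1 (k + 1) V) :=
    (lvU_le φ h𝔛 h𝔜 k V).trans (f₀.preimage_mono (𝔜.lvU_le h𝔜.1 k V))
  rw [ηl_apply, ← AffineEquiv.tr_res h𝔛 (RR) k _ (lvU_le φ h𝔛 h𝔜 (k + 1) V) e2, ηl_apply,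
    CohSys.tr_eq h𝔜]
  have h1 := res_sq_eta (𝔛.ι k) f₁ f₀ (𝔜.ι k) ((φ : FSch.Hom 𝔛 𝔜).comm k).symm (𝔐.F (k + 1))
    (𝔜.lvU h𝔜.1 (k + 1) V) y e2 e3
  refine (((Scheme.Modules.pullback f₀).map (𝔐.e k).hom).mapPresheaf.naturality_apply (homOfLE e2).op _).symm.trans ?_
  refine (congrArg (((Scheme.Modules.pullback f₀).map (𝔐.e k).hom).app (𝔛.lvU h𝔛.1 k (preφ φ V))) h1).trans ?_
  refine (((Scheme.Modules.pullback f₀).map (𝔐.e k).hom).mapPresheaf.naturality_apply (homOfLE e3).op _).trans ?_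
  refine (congrArg (((Scheme.Modules.pullback f₀).obj (𝔐.F k)).presheaf.map (homOfLE e3).op)
    (eta_map f₀ (𝔐.e k).hom _ _)).trans ?_
  symm
  refine (congrArg (((RR).F k).presheaf.map (homOfLE (lvU_le φ h𝔛 h𝔜 k V)).op)
    (((Scheme.Modules.pullbackPushforwardAdjunction f₀).unit.app (𝔐.F k)).mapPresheaf.naturality_apply
      (homOfLE (𝔜.lvU_le h𝔜.1 k V)).op _)).trans ?_
  exact map_map _ _ _ _ _

theorem exists_sec (V : (𝔜.X 0).Opens) (x : sec h𝔜.1 (𝔐.realMod h𝔜.1) V) :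
    ∃ z : sec h𝔛.1 ((RR).realMod h𝔛.1) (preφ φ V), ∀ k,
      π h𝔛.1 (RR).F (RR).toPush k (preφ φ V) z =
        ηl φ h𝔛 h𝔜 𝔐 k V (π h𝔜.1 𝔐.F 𝔐.toPush k V x) :=
  RealLimSec.exists_of_compatible h𝔛.1 (RR).F (RR).toPush _ fun k =>
    (tr_ηl φ h𝔛 h𝔜 𝔐 k V _).trans
      (congrArg _ (LinearMap.congr_fun (tr_π h𝔜.1 𝔐.F 𝔐.toPush k V) x))

/-- The inverse image of a section. -/
noncomputable def pb (V : (𝔜.X 0).Opens) (x : sec h𝔜.1 (𝔐.realMod h𝔜.1) V) :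
    sec h𝔛.1 ((RR).realMod h𝔛.1) (preφ φ V) :=
  (exists_sec φ h𝔛 h𝔜 𝔐 V x).choose

theorem π_pb (k : ℕ) (V : (𝔜.X 0).Opens) (x : sec h𝔜.1 (𝔐.realMod h𝔜.1) V) :
    π h𝔛.1 (RR).F (RR).toPush k (preφ φ V) (pb φ h𝔛 h𝔜 𝔐 V x) =
      ηl φ h𝔛 h𝔜 𝔐 k V (π h𝔜.1 𝔐.F 𝔐.toPush k V x) :=
  (exists_sec φ h𝔛 h𝔜 𝔐 V x).choose_spec k

/-- The structure map. -/
noncomputable def shφ (V : (𝔜.X 0).Opens) : Levels.A 𝔜 h𝔜.1 V →+* Levels.A 𝔛 h𝔛.1 (preφ φ V) :=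
  ((FSch.Hom.sharp φ h𝔛.1 h𝔜.1).hom.app (op V)).hom

theorem proj_shφ (k : ℕ) (V : (𝔜.X 0).Opens) (a : Levels.A 𝔜 h𝔜.1 V) :
    Levels.proj 𝔛 h𝔛.1 k (preφ φ V) (shφ φ h𝔛 h𝔜 V a) =
      ((φ : FSch.Hom 𝔛 𝔜).app k).appLE (𝔜.lvU h𝔜.1 k V) _ (lvU_le φ h𝔛 h𝔜 k V)
        (Levels.proj 𝔜 h𝔜.1 k V a) :=
  congrArg (fun ψ => ψ.hom.app (op V) a) (FSch.Hom.sharp_proj φ h𝔛.1 h𝔜.1 k)

theorem pb_smul (V : (𝔜.X 0).Opens) (a : Levels.A 𝔜 h𝔜.1 V) (x : sec h𝔜.1 (𝔐.realMod h𝔜.1) V) :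
    pb φ h𝔛 h𝔜 𝔐 V (a • x) = shφ φ h𝔛 h𝔜 V a • pb φ h𝔛 h𝔜 𝔐 V x := by
  refine RealLimSec.ext_of_π h𝔛.1 _ _ _ _ fun k => ?_
  rw [π_pb]
  refine Eq.trans ?_ (((π h𝔛.1 (RR).F (RR).toPush k (preφ φ V)).map_smul _ _).trans
    ((lev_smul _ _ _ _ _ _).trans (congrArg₂ (fun r (z : Γ((RR).F k, 𝔛.lvU h𝔛.1 k (preφ φ V))) => r • z)
      (proj_shφ φ h𝔛 h𝔜 k V a) (π_pb φ h𝔛 h𝔜 𝔐 k V x)))).symm
  refine (congrArg (ηl φ h𝔛 h𝔜 𝔐 k V) (((π h𝔜.1 𝔐.F 𝔐.toPush k V).map_smul a x).trans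
    (lev_smul _ _ _ _ _ _))).trans ?_
  rw [ηl_apply]
  refine (congrArg _ (Scheme.Modules.Hom.app_smul
    ((Scheme.Modules.pullbackPushforwardAdjunction ((φ : FSch.Hom 𝔛 𝔜).app k)).unit.app (𝔐.F k)) _ _)).trans ?_
  exact Scheme.Modules.map_smul _ _ _ _

theorem pb_add (V : (𝔜.X 0).Opens) (x y : sec h𝔜.1 (𝔐.realMod h𝔜.1) V) :
    pb φ h𝔛 h𝔜 𝔐 V (x + y) = pb φ h𝔛 h𝔜 𝔐 V x + pb φ h𝔛 h𝔜 𝔐 V y := by
  refine RealLimSec.ext_of_π h𝔛.1 _ _ _ _ fun k => ?_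
  refine (π_pb φ h𝔛 h𝔜 𝔐 k V _).trans (Eq.trans ?_ (map_add _ _ _).symm)
  exact ((congrArg (ηl φ h𝔛 h𝔜 𝔐 k V) (map_add _ _ _)).trans (map_add _ _ _)).trans
    (congrArg₂ (· + ·) (π_pb φ h𝔛 h𝔜 𝔐 k V x).symm (π_pb φ h𝔛 h𝔜 𝔐 k V y).symm)

theorem pb_res {V V' : (𝔜.X 0).Opens} (e : V' ≤ V) (x : sec h𝔜.1 (𝔐.realMod h𝔜.1) V) :
    CohPres.resF h𝔛.1 _ (((φ : FSch.Hom 𝔛 𝔜).app 0).preimage_mono e) (pb φ h𝔛 h𝔜 𝔐 V x) =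
      pb φ h𝔛 h𝔜 𝔐 V' (CohPres.resF h𝔜.1 _ e x) := by
  refine RealLimSec.ext_of_π h𝔛.1 _ _ _ _ fun k => ?_
  refine (CohPres.π_res h𝔛.1 _ _ k _ _).trans ?_
  rw [π_pb]
  refine Eq.trans ?_ (π_pb φ h𝔛 h𝔜 𝔐 k V' _).symm
  refine Eq.trans ?_ (congrArg (ηl φ h𝔛 h𝔜 𝔐 k V') (CohPres.π_res h𝔜.1 _ _ k e x)).symm
  rw [ηl_apply, ηl_apply]
  symm
  refine (congrArg _ (((Scheme.Modules.pullbackPushforwardAdjunction ((φ : FSch.Hom 𝔛 𝔜).app k)).unit.app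
    (𝔐.F k)).mapPresheaf.naturality_apply (homOfLE (CohPres.lvU_mono h𝔜.1 k e)).op _)).trans ?_
  refine (map_map _ _ _ (homOfLE ((CohPres.lvU_mono h𝔛.1 k (((φ : FSch.Hom 𝔛 𝔜).app 0).preimage_mono e)).trans
    (lvU_le φ h𝔛 h𝔜 k V))).op _).trans ?_
  exact (map_map _ _ _ _ _).symm

/-- `F ⟶ f_* (f^* F)` for the module of a system. -/
noncomputable def φmap :
    𝔐.realMod h𝔜.1 ⟶ (FSch.pushF φ h𝔛.1 h𝔜.1).obj ((RR).realMod h𝔛.1) :=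
  ⟨PresheafOfModules.homMk
    { app := fun V => AddCommGrpCat.ofHom
        (AddMonoidHom.mk' (fun x => pb φ h𝔛 h𝔜 𝔐 V.unop x) (pb_add φ h𝔛 h𝔜 𝔐 V.unop))
      naturality := fun V V' i => by
        refine ConcreteCategory.hom_ext _ _ fun x => ?_
        exact (pb_res φ h𝔛 h𝔜 𝔐 (leOfHom i.unop) x).symm }
    fun V a x => pb_smul φ h𝔛 h𝔜 𝔐 V.unop a x⟩

/-- The comparison `f^* F ⟶` module of the inverse image system. -/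
noncomputable def e₀ :
    (FSch.pullF φ h𝔛.1 h𝔜.1).obj (𝔐.realMod h𝔜.1) ⟶ (RR).realMod h𝔛.1 :=
  ((FSch.homMor φ h𝔛.1 h𝔜.1).adj.homEquiv _ _).symm (φmap φ h𝔛 h𝔜 𝔐)

theorem homEquiv_e₀ :
    (FSch.homMor φ h𝔛.1 h𝔜.1).adj.homEquiv _ _ (e₀ φ h𝔛 h𝔜 𝔐) = φmap φ h𝔛 h𝔜 𝔐 :=
  Equiv.apply_symm_apply _ _

/-- The defining property of the comparison. -/
theorem spec_e₀ (k : ℕ) :
    (FSch.homMor φ h𝔛.1 h𝔜.1).adj.homEquiv _ _ (e₀ φ h𝔛 h𝔜 𝔐) ≫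
        (FSch.pushF φ h𝔛.1 h𝔜.1).map (FSch.realProj 𝔛 h𝔛.1 _ _ k) ≫
        (FSch.lvPushSq φ h𝔛.1 h𝔜.1 k).hom.app ((RR).F k) =
      FSch.realProj 𝔜 h𝔜.1 _ _ k ≫
        (FSch.levelMor 𝔜 h𝔜.1 k).push.map
          ((ModSite.RMor.ofScheme ((φ : FSch.Hom 𝔛 𝔜).app k)).adj.unit.app (𝔐.F k)) := by
  rw [homEquiv_e₀]
  refine SheafOfModules.hom_ext (PresheafOfModules.hom_ext fun V => ModuleCat.hom_ext (LinearMap.ext fun x => ?_))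
  show ((RR).F k).presheaf.map (eqToHom (FSch.Hom.lvU_preimage φ h𝔛.1 h𝔜.1 k V.unop)).op
      (π h𝔛.1 (RR).F (RR).toPush k (preφ φ V.unop) (pb φ h𝔛 h𝔜 𝔐 V.unop x)) =
    eta ((φ : FSch.Hom 𝔛 𝔜).app k) (𝔐.F k) (𝔜.lvU h𝔜.1 k V.unop) (π h𝔜.1 𝔐.F 𝔐.toPush k V.unop x)
  rw [π_pb, ηl_apply]
  exact (map_map _ _ _ (𝟙 _) _).trans (map_self _ _ _)

/-- The module of a system, functorially. -/
theorem realModMap_comp {𝔄 𝔅 ℭ : FSch.ModSys 𝔛} (a : 𝔄 ⟶ 𝔅) (b : 𝔅 ⟶ ℭ) :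
    FSch.ModSys.realModMap h𝔛.1 (a ≫ b) =
      FSch.ModSys.realModMap h𝔛.1 a ≫ FSch.ModSys.realModMap h𝔛.1 b := by
  refine SheafOfModules.hom_ext (PresheafOfModules.hom_ext fun V => ModuleCat.hom_ext (LinearMap.ext fun x => ?_))
  refine RealLimSec.ext_of_π h𝔛.1 _ _ _ _ fun k => ?_
  refine (AffineEquiv.π_realModMap h𝔛 (a ≫ b) k V.unop x).trans ?_
  exact ((AffineEquiv.π_realModMap h𝔛 b k V.unop _).trans
    (congrArg _ (AffineEquiv.π_realModMap h𝔛 a k V.unop x))).symm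

theorem realModMap_id (𝔄 : FSch.ModSys 𝔛) : FSch.ModSys.realModMap h𝔛.1 (𝟙 𝔄) = 𝟙 _ := by
  refine SheafOfModules.hom_ext (PresheafOfModules.hom_ext fun V => ModuleCat.hom_ext (LinearMap.ext fun x => ?_))
  exact RealLimSec.ext_of_π h𝔛.1 _ _ _ _ fun k => AffineEquiv.π_realModMap h𝔛 (𝟙 𝔄) k V.unop x

/-- An isomorphism of systems, on modules. -/
noncomputable def realModIso {𝔄 𝔅 : FSch.ModSys 𝔛} (a : 𝔄 ≅ 𝔅) :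
    𝔄.realMod h𝔛.1 ≅ 𝔅.realMod h𝔛.1 where
  hom := FSch.ModSys.realModMap h𝔛.1 a.hom
  inv := FSch.ModSys.realModMap h𝔛.1 a.inv
  hom_inv_id := by rw [← realModMap_comp h𝔛, a.hom_inv_id, realModMap_id h𝔛]
  inv_hom_id := by rw [← realModMap_comp h𝔛, a.inv_hom_id, realModMap_id h𝔛]

theorem φmap_naturality {𝔑 : FSch.ModSys 𝔜} (s : 𝔐 ⟶ 𝔑) :
    φmap φ h𝔛 h𝔜 𝔐 ≫ (FSch.pushF φ h𝔛.1 h𝔜.1).map
        (FSch.ModSys.realModMap h𝔛.1 (FSch.ModSys.pullbackMap φ s)) =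
      FSch.ModSys.realModMap h𝔜.1 s ≫ φmap φ h𝔛 h𝔜 𝔑 := by
  refine SheafOfModules.hom_ext (PresheafOfModules.hom_ext fun V => ModuleCat.hom_ext (LinearMap.ext fun x => ?_))
  refine RealLimSec.ext_of_π h𝔛.1 _ _ _ _ fun k => ?_
  refine ((AffineEquiv.π_realModMap h𝔛 (FSch.ModSys.pullbackMap φ s) k (preφ φ V.unop) _).trans
    (congrArg _ (π_pb φ h𝔛 h𝔜 𝔐 k V.unop x))).trans ?_
  refine Eq.trans ?_ ((π_pb φ h𝔛 h𝔜 𝔑 k V.unop _).trans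
    (congrArg _ (AffineEquiv.π_realModMap h𝔜 s k V.unop x))).symm
  rw [ηl_apply, ηl_apply]
  refine (((Scheme.Modules.pullback ((φ : FSch.Hom 𝔛 𝔜).app k)).map (s.app k)).mapPresheaf.naturality_apply
    (homOfLE (lvU_le φ h𝔛 h𝔜 k V.unop)).op _).trans ?_
  exact congrArg _ (eta_map _ _ _ _)

/-- Being an isomorphism is invariant. -/
theorem isIso_e₀_of_iso {𝔑 : FSch.ModSys 𝔜} (s : 𝔐 ≅ 𝔑) [IsIso (e₀ φ h𝔛 h𝔜 𝔑)] :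
    IsIso (e₀ φ h𝔛 h𝔜 𝔐) := by
  let P : RR ≅ FSch.ModSys.pullback φ 𝔑 := (FSch.ModSys.pullbackFun φ).mapIso s
  have h : e₀ φ h𝔛 h𝔜 𝔐 ≫ (realModIso h𝔛 P).hom =
      ((FSch.pullF φ h𝔛.1 h𝔜.1).mapIso (realModIso h𝔜 s)).hom ≫ e₀ φ h𝔛 h𝔜 𝔑 := by
    refine ((FSch.homMor φ h𝔛.1 h𝔜.1).adj.homEquiv _ _).injective ?_
    rw [Adjunction.homEquiv_naturality_right, Functor.mapIso_hom, Adjunction.homEquiv_naturality_left,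
      homEquiv_e₀, homEquiv_e₀]
    exact φmap_naturality φ h𝔛 h𝔜 𝔐 s.hom
  rw [← Iso.eq_comp_inv] at h
  rw [h]
  infer_instance

section Over

variable {X Y : Scheme.{u}} [IsLocallyNoetherian X] [IsLocallyNoetherian Y] (f : X ⟶ Y)
  (p : ∀ n, 𝔛.X n ⟶ X) (hp : ∀ n, 𝔛.ι n ≫ p (n + 1) = p n)
  (r : ∀ n, 𝔜.X n ⟶ Y) (hr : ∀ n, 𝔜.ι n ≫ r (n + 1) = r n)
  [∀ k, IsClosedImmersion (p k)] [∀ k, IsClosedImmersion (r k)]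
  (hsq : ∀ n, p n ≫ f = (φ : FSch.Hom 𝔛 𝔜).app n ≫ r n)
  (G : Y.Modules)

local notation "PY" => ComplSec.pullSys r hr G
local notation "PX" => ComplSec.pullSys p hp (Functor.obj (Scheme.Modules.pullback f) G)

/-- The comparison of levels `p^* f^* G ≅ φ^* r^* G`. -/
noncomputable def cl (k : ℕ) : (PX).F k ≅ (FSch.ModSys.pullback φ (PY)).F k :=
  (Scheme.Modules.pullbackComp (p k) f).app G ≪≫ (Scheme.Modules.pullbackCongr (hsq k)).app G ≪≫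
    (Scheme.Modules.pullbackComp ((φ : FSch.Hom 𝔛 𝔜).app k) (r k)).symm.app G

include hsq in
theorem pre_eq (U : Y.Opens) : ComplSec.pre p (f ⁻¹ᵁ U) = preφ φ (ComplSec.pre r U) :=
  FSch.sch_sq_preimage φ f p r hsq U

theorem cl_σ (k : ℕ) (U : Y.Opens) (m : Γ(G, U))
    (e : 𝔛.lvU h𝔛.1 k (preφ φ (ComplSec.pre r U)) ≤ 𝔛.lvU h𝔛.1 k (ComplSec.pre p (f ⁻¹ᵁ U))) :
    ((FSch.ModSys.pullback φ (PY)).F k).presheaf.map (homOfLE e).op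
        ((cl φ f p hp r hr hsq G k).hom.app (𝔛.lvU h𝔛.1 k (ComplSec.pre p (f ⁻¹ᵁ U)))
          (ComplSec.σ h𝔛.1 p hp ((Scheme.Modules.pullback f).obj G) k (f ⁻¹ᵁ U) (eta f G U m))) =
      ηl φ h𝔛 h𝔜 (PY) k (ComplSec.pre r U) (ComplSec.σ h𝔜.1 r hr G k U m) := by
  have e2 := (ComplSec.lvU_pre h𝔛.1 p hp k (f ⁻¹ᵁ U)).le
  have e3 : 𝔛.lvU h𝔛.1 k (preφ φ (ComplSec.pre r U)) ≤ (φ : FSch.Hom 𝔛 𝔜).app k ⁻¹ᵁ (r k ⁻¹ᵁ U) :=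
    (lvU_le φ h𝔛 h𝔜 k _).trans (((φ : FSch.Hom 𝔛 𝔜).app k).preimage_mono (ComplSec.lvU_pre h𝔜.1 r hr k U).le)
  rw [ComplSec.σ_apply]
  refine (congrArg _ ((cl φ f p hp r hr hsq G k).hom.mapPresheaf.naturality_apply (homOfLE e2).op _)).trans ?_
  refine (map_map _ _ _ (homOfLE (e.trans e2)).op _).trans ?_
  refine (res_sq_eta (p k) f ((φ : FSch.Hom 𝔛 𝔜).app k) (r k) (hsq k) G U m (e.trans e2) e3).trans ?_
  rw [ηl_apply, ComplSec.σ_apply]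
  symm
  refine (congrArg _ (((Scheme.Modules.pullbackPushforwardAdjunction ((φ : FSch.Hom 𝔛 𝔜).app k)).unit.app
    ((PY).F k)).mapPresheaf.naturality_apply (homOfLE (ComplSec.lvU_pre h𝔜.1 r hr k U).le).op _)).trans ?_
  exact map_map _ _ _ _ _

omit [IsLocallyNoetherian X] [IsLocallyNoetherian Y] [∀ k, IsClosedImmersion (p k)] [∀ k, IsClosedImmersion (r k)] in
/-- Maps out of `g^* M` are determined on units. -/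
theorem hom_ext_eta {Z W : Scheme.{u}} (g : Z ⟶ W) {M : W.Modules} {N : Z.Modules}
    {a b : (Scheme.Modules.pullback g).obj M ⟶ N}
    (h : ∀ U m, a.app (g ⁻¹ᵁ U) (eta g M U m) = b.app (g ⁻¹ᵁ U) (eta g M U m)) : a = b := by
  refine ((Scheme.Modules.pullbackPushforwardAdjunction g).homEquiv M N).injective ?_
  rw [Adjunction.homEquiv_unit, Adjunction.homEquiv_unit]
  exact Scheme.Modules.hom_ext _ _ fun U => ConcreteCategory.hom_ext _ _ fun m => h U m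

include h𝔛 h𝔜 in
theorem cl_comm (k : ℕ) :
    (Scheme.Modules.pullback (𝔛.ι k)).map (cl φ f p hp r hr hsq G (k + 1)).hom ≫
        ((FSch.ModSys.pullback φ (PY)).e k).hom =
      ((PX).e k).hom ≫ (cl φ f p hp r hr hsq G k).hom := by
  refine ((Scheme.Modules.pullbackPushforwardAdjunction (𝔛.ι k)).homEquiv _ _).injective ?_
  refine ((Scheme.Modules.pullbackPushforwardAdjunction (p (k + 1))).homEquiv _ _).injective ?_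
  refine hom_ext_eta f fun U m => ?_
  rw [Adjunction.homEquiv_unit, Adjunction.homEquiv_unit, Adjunction.homEquiv_unit, Adjunction.homEquiv_unit]
  set W : (𝔛.X (k + 1)).Opens := p (k + 1) ⁻¹ᵁ (f ⁻¹ᵁ U)
  set z := eta (p (k + 1)) ((Scheme.Modules.pullback f).obj G) (f ⁻¹ᵁ U) (eta f G U m)
  show ((FSch.ModSys.pullback φ (PY)).e k).hom.app (𝔛.ι k ⁻¹ᵁ W)
      (((Scheme.Modules.pullback (𝔛.ι k)).map (cl φ f p hp r hr hsq G (k + 1)).hom).app (𝔛.ι k ⁻¹ᵁ W)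
        (eta (𝔛.ι k) _ W z)) =
    (cl φ f p hp r hr hsq G k).hom.app (𝔛.ι k ⁻¹ᵁ W) (((PX).e k).hom.app (𝔛.ι k ⁻¹ᵁ W) (eta (𝔛.ι k) _ W z))
  let V := preφ φ (ComplSec.pre r U)
  have eV : V = ComplSec.pre p (f ⁻¹ᵁ U) := (pre_eq φ f p r hsq U).symm
  have el : 𝔛.lvU h𝔛.1 k V ≤ 𝔛.lvU h𝔛.1 k (ComplSec.pre p (f ⁻¹ᵁ U)) := CohPres.lvU_mono h𝔛.1 k eV.le
  have el1 : 𝔛.lvU h𝔛.1 (k + 1) V ≤ 𝔛.lvU h𝔛.1 (k + 1) (ComplSec.pre p (f ⁻¹ᵁ U)) :=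
    CohPres.lvU_mono h𝔛.1 (k + 1) eV.le
  have e1 : 𝔛.lvU h𝔛.1 (k + 1) V ≤ W := el1.trans (ComplSec.lvU_pre h𝔛.1 p hp (k + 1) (f ⁻¹ᵁ U)).le
  have e2 : 𝔛.lvU h𝔛.1 k V ≤ 𝔛.ι k ⁻¹ᵁ W := (𝔛.lvU_le h𝔛.1 k V).trans ((𝔛.ι k).preimage_mono e1)
  have e2' : 𝔛.ι k ⁻¹ᵁ W ≤ 𝔛.lvU h𝔛.1 k V := by
    refine ((𝔛.ι k).preimage_mono ?_).trans (𝔛.lvU_succ h𝔛.1 k V).le
    exact (ComplSec.lvU_pre h𝔛.1 p hp (k + 1) (f ⁻¹ᵁ U)).ge.trans (CohPres.lvU_mono h𝔛.1 (k + 1) eV.ge)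
  refine (CohSys.restrict_bijective ((FSch.ModSys.pullback φ (PY)).F k) e2 e2').1 ?_
  rw [eta_map]
  refine (AffineEquiv.tr_res h𝔛 (FSch.ModSys.pullback φ (PY)) k W e1 e2 _).trans ?_
  have h1 : ((FSch.ModSys.pullback φ (PY)).F (k + 1)).presheaf.map (homOfLE e1).op
      ((cl φ f p hp r hr hsq G (k + 1)).hom.app W z) =
      ηl φ h𝔛 h𝔜 (PY) (k + 1) (ComplSec.pre r U) (ComplSec.σ h𝔜.1 r hr G (k + 1) U m) := by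
    rw [← cl_σ φ h𝔛 h𝔜 f p hp r hr hsq G (k + 1) U m el1, ComplSec.σ_apply]
    symm
    refine (congrArg _ ((cl φ f p hp r hr hsq G (k + 1)).hom.mapPresheaf.naturality_apply
      (homOfLE (ComplSec.lvU_pre h𝔛.1 p hp (k + 1) (f ⁻¹ᵁ U)).le).op _)).trans ?_
    exact map_map _ _ _ _ _
  refine ((congrArg _ h1).trans (tr_ηl φ h𝔛 h𝔜 (PY) k (ComplSec.pre r U) _)).trans ?_
  refine (congrArg _ (ComplSec.tr_σ h𝔜.1 r hr G h𝔜 k U m)).trans ?_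
  refine (cl_σ φ h𝔛 h𝔜 f p hp r hr hsq G k U m el).symm.trans ?_
  have e1' := (ComplSec.lvU_pre h𝔛.1 p hp (k + 1) (f ⁻¹ᵁ U)).le
  have e2p : 𝔛.lvU h𝔛.1 k (ComplSec.pre p (f ⁻¹ᵁ U)) ≤ 𝔛.ι k ⁻¹ᵁ W :=
    (𝔛.lvU_le h𝔛.1 k _).trans ((𝔛.ι k).preimage_mono e1')
  have h2 : ((PX).F k).presheaf.map (homOfLE e2p).op (((PX).e k).hom.app (𝔛.ι k ⁻¹ᵁ W) (eta (𝔛.ι k) _ W z)) =
      ComplSec.σ h𝔛.1 p hp ((Scheme.Modules.pullback f).obj G) k (f ⁻¹ᵁ U) (eta f G U m) :=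
    (AffineEquiv.tr_res h𝔛 (PX) k W e1' e2p z).trans
      (ComplSec.tr_σ h𝔛.1 p hp ((Scheme.Modules.pullback f).obj G) h𝔛 k (f ⁻¹ᵁ U) (eta f G U m))
  rw [← h2]
  refine (congrArg _ ((cl φ f p hp r hr hsq G k).hom.mapPresheaf.naturality_apply (homOfLE e2p).op _)).trans ?_
  exact map_map _ _ _ _ _

/-- The comparison of systems. -/
noncomputable def clIso (hc : ∀ k, (Scheme.Modules.pullback (𝔛.ι k)).map (cl φ f p hp r hr hsq G (k + 1)).hom ≫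
        ((FSch.ModSys.pullback φ (PY)).e k).hom =
      ((PX).e k).hom ≫ (cl φ f p hp r hr hsq G k).hom) :
    PX ≅ FSch.ModSys.pullback φ (PY) where
  hom := ⟨fun k => (cl φ f p hp r hr hsq G k).hom, hc⟩
  inv := ⟨fun k => (cl φ f p hp r hr hsq G k).inv, fun k => by
    rw [← Functor.mapIso_inv, Iso.inv_comp_eq, ← Category.assoc, Iso.eq_comp_inv]
    exact (hc k).symm⟩
  hom_inv_id := FSch.ModSys.Hom.ext (funext fun k => (cl φ f p hp r hr hsq G k).hom_inv_id)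
  inv_hom_id := FSch.ModSys.Hom.ext (funext fun k => (cl φ f p hp r hr hsq G k).inv_hom_id)

include hp hsq in
/-- The comparison is an isomorphism for the completion of a coherent module. -/
theorem isIso_e₀ (hG : Coh.IsCoh G) : IsIso (e₀ φ h𝔛 h𝔜 (PY)) := by
  have hfG : Coh.IsCoh ((Scheme.Modules.pullback f).obj G) := Cyc.FP.Stalk.isCoh_pullback f hG
  haveI := ComplPull.isIso_γ h𝔜 r hr G hG (ComplMonoEpi.isCoh_pullSys r hr hG)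
  haveI := ComplPull.isIso_γ h𝔛 p hp _ hfG (ComplMonoEpi.isCoh_pullSys p hp hfG)
  let v := FSch.toSchemeMor 𝔜 h𝔜.1 r hr
  let adjA := v.adj.comp (FSch.homMor φ h𝔛.1 h𝔜.1).adj
  let adjB := ((Scheme.Modules.pullbackPushforwardAdjunction f).comp (FSch.toSchemeMor 𝔛 h𝔛.1 p hp).adj).ofNatIsoRight
    (FSch.schPushSq φ h𝔛.1 h𝔜.1 f p hp r hr hsq)
  let I := realModIso h𝔛 (clIso φ f p hp r hr hsq G (cl_comm φ h𝔛 h𝔜 f p hp r hr hsq G))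
  let x₀ := ComplPull.γ h𝔛 p hp ((Scheme.Modules.pullback f).obj G) ≫ I.hom
  let ψ := (FSch.pullF φ h𝔛.1 h𝔜.1).map (ComplPull.γ h𝔜 r hr G) ≫ e₀ φ h𝔛 h𝔜 (PY)
  have hψ : ψ = (adjA.leftAdjointUniq adjB).hom.app G ≫ x₀ := by
    refine (adjA.homEquiv G _).injective ?_
    have hA : adjA.homEquiv G _ ψ =
        ComplPull.τ h𝔜 r hr G ≫ v.push.map (φmap φ h𝔛 h𝔜 (PY)) := by
      rw [Adjunction.comp_homEquiv]
      show v.adj.homEquiv _ _ ((FSch.homMor φ h𝔛.1 h𝔜.1).adj.homEquiv _ _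
        ((FSch.pullF φ h𝔛.1 h𝔜.1).map (ComplPull.γ h𝔜 r hr G) ≫ e₀ φ h𝔛 h𝔜 (PY))) = _
      rw [Adjunction.homEquiv_naturality_left, homEquiv_e₀, Adjunction.homEquiv_naturality_right,
        ComplPull.homEquiv_γ]
      rfl
    have hB : adjA.homEquiv G _ ((adjA.leftAdjointUniq adjB).hom.app G ≫ x₀) =
        adjB.homEquiv G _ x₀ := by
      rw [Adjunction.homEquiv_unit, Adjunction.homEquiv_unit, Functor.map_comp, ← Category.assoc,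
        Adjunction.unit_leftAdjointUniq_hom_app]
      rfl
    rw [hA]
    refine Eq.trans ?_ hB.symm
    have hB' : adjB.homEquiv G _ x₀ =
        (((Scheme.Modules.pullbackPushforwardAdjunction f).homEquiv _ _)
          (((FSch.toSchemeMor 𝔛 h𝔛.1 p hp).adj.homEquiv _ _) x₀)) ≫
          (FSch.schPushSq φ h𝔛.1 h𝔜.1 f p hp r hr hsq).hom.app _ := by
      refine (Adjunction.homEquiv_ofNatIsoRight_apply _ _ _).trans ?_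
      rw [Adjunction.comp_homEquiv]
      rfl
    refine Eq.trans ?_ hB'.symm
    rw [Adjunction.homEquiv_naturality_right, ComplPull.homEquiv_γ, Adjunction.homEquiv_unit]
    refine SheafOfModules.hom_ext (PresheafOfModules.hom_ext fun U => ModuleCat.hom_ext (LinearMap.ext fun m => ?_))
    obtain ⟨U⟩ := U
    show pb φ h𝔛 h𝔜 (PY) (ComplSec.pre r U) (ComplPull.ehat h𝔜 r hr G U m) =
      CohPres.resF h𝔛.1 _ (pre_eq φ f p r hsq U).ge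
        (secMap h𝔛.1 I.hom (ComplSec.pre p (f ⁻¹ᵁ U))
          (ComplPull.ehat h𝔛 p hp ((Scheme.Modules.pullback f).obj G) (f ⁻¹ᵁ U) (eta f G U m)))
    refine RealLimSec.ext_of_π h𝔛.1 _ _ _ _ fun k => ?_
    refine ((π_pb φ h𝔛 h𝔜 (PY) k _ _).trans (congrArg _ (ComplPull.π_ehat h𝔜 r hr G k U m))).trans ?_
    refine Eq.trans ?_ (CohPres.π_res h𝔛.1 _ _ k _ _).symm
    refine Eq.trans ?_ (congrArg _ (AffineEquiv.π_realModMap h𝔛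
      (clIso φ f p hp r hr hsq G (cl_comm φ h𝔛 h𝔜 f p hp r hr hsq G)).hom k _ _)).symm
    refine Eq.trans ?_ (congrArg (fun z => ((FSch.ModSys.pullback φ (PY)).F k).presheaf.map _
      ((cl φ f p hp r hr hsq G k).hom.app _ z))
        (ComplPull.π_ehat h𝔛 p hp ((Scheme.Modules.pullback f).obj G) k (f ⁻¹ᵁ U) (eta f G U m))).symm
    exact (cl_σ φ h𝔛 h𝔜 f p hp r hr hsq G k U m _).symm
  haveI : IsIso ψ := by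
    rw [hψ]
    infer_instance
  exact IsIso.of_isIso_comp_left ((FSch.pullF φ h𝔛.1 h𝔜.1).map (ComplPull.γ h𝔜 r hr G)) _

include hp hr hsq in
/-- The pinned isomorphism, for systems isomorphic to completions. -/
theorem exists_iso (hG : Coh.IsCoh G) (s : 𝔐 ≅ PY) :
    ∃ e : (FSch.pullF φ h𝔛.1 h𝔜.1).obj (𝔐.realMod h𝔜.1) ≅ (RR).realMod h𝔛.1,
      ∀ k : ℕ, (FSch.homMor φ h𝔛.1 h𝔜.1).adj.homEquiv _ _ e.hom ≫
          (FSch.pushF φ h𝔛.1 h𝔜.1).map (FSch.realProj 𝔛 h𝔛.1 _ _ k) ≫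
          (FSch.lvPushSq φ h𝔛.1 h𝔜.1 k).hom.app ((RR).F k) =
        FSch.realProj 𝔜 h𝔜.1 _ _ k ≫
          (FSch.levelMor 𝔜 h𝔜.1 k).push.map
            ((ModSite.RMor.ofScheme ((φ : FSch.Hom 𝔛 𝔜).app k)).adj.unit.app (𝔐.F k)) := by
  haveI := isIso_e₀ φ h𝔛 h𝔜 f p hp r hr hsq G hG
  haveI := isIso_e₀_of_iso φ h𝔛 h𝔜 𝔐 s
  exact ⟨asIso (e₀ φ h𝔛 h𝔜 𝔐), spec_e₀ φ h𝔛 h𝔜 𝔐⟩

end Over

end Groth.Agent.H30.PullFSys
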