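import Groth.Agent.H30.FSch.Levels

/-!
# Sections of `realLim` (helper30)
-/

set_option autoImplicit false

universe u

open CategoryTheory CategoryTheory.Limits AlgebraicGeometry TopologicalSpace Opposite
open Groth.Agent.H30

namespace Groth.Agent.H30.RealLimSec

variable {𝔛 : FSch.Sys.{u}} (h : 𝔛.IsFormal)

/-- Sections of a module on `𝔛`, as a module over the ring of sections of `O_𝔛`. -/
noncomputable abbrev sec (F : FSch.ModF 𝔛 h) (V : (𝔛.X 0).Opens) : Type u := F.val.obj (op V)

noncomputable instance secModule (F : FSch.ModF 𝔛 h) (V : (𝔛.X 0).Opens) :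
    Module (Levels.A 𝔛 h V) (sec h F V) :=
  (F.val.obj (op V)).isModule

/-- A morphism on sections. -/
noncomputable def secMap {F F' : FSch.ModF 𝔛 h} (φ : F ⟶ F') (V : (𝔛.X 0).Opens) :
    sec h F V →ₗ[Levels.A 𝔛 h V] sec h F' V where
  toFun := (φ.val.app (op V)).hom
  map_add' := map_add _
  map_smul' := map_smul _

variable (G : ∀ k, (𝔛.X k).Modules)
  (t : ∀ k, G (k + 1) ⟶ (Scheme.Modules.pushforward (𝔛.ι k)).obj (G k))

/-- Sections of `G k` over an open of the common space. -/
noncomputable abbrev lev (k : ℕ) (V : (𝔛.X 0).Opens) : Type u := Γ(G k, 𝔛.lvU h k V)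

noncomputable instance levModule (k : ℕ) (V : (𝔛.X 0).Opens) :
    Module (Levels.A 𝔛 h V) (lev h G k V) :=
  Module.compHom _ (Levels.proj 𝔛 h k V).hom

theorem lev_smul (k : ℕ) (V : (𝔛.X 0).Opens) (a : Levels.A 𝔛 h V) (x : lev h G k V) :
    a • x = Levels.proj 𝔛 h k V a • (show Γ(G k, 𝔛.lvU h k V) from x) := rfl

/-- The transition maps on sections. -/
noncomputable def tr (k : ℕ) (V : (𝔛.X 0).Opens) :
    lev h G (k + 1) V →ₗ[Levels.A 𝔛 h V] lev h G k V where
  toFun x := secMap h ((FSch.levelMor 𝔛 h (k + 1)).push.map (t k) ≫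
    (FSch.pushCompare 𝔛 h k).app (G k)) V x
  map_add' := map_add _
  map_smul' := map_smul _

theorem tr_apply (k : ℕ) (V : (𝔛.X 0).Opens) (x : lev h G (k + 1) V) :
    tr h G t k V x = (G k).presheaf.map (homOfLE (𝔛.lvU_le h k V)).op
      ((t k).app (𝔛.lvU h (k + 1) V) x) := rfl

/-- The projections on sections. -/
noncomputable def π (k : ℕ) (V : (𝔛.X 0).Opens) :
    sec h (FSch.realLim 𝔛 h G t) V →ₗ[Levels.A 𝔛 h V] lev h G k V where
  toFun x := secMap h (FSch.realProj 𝔛 h G t k) V x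
  map_add' := map_add _
  map_smul' := map_smul _

theorem tr_π (k : ℕ) (V : (𝔛.X 0).Opens) : tr h G t k V ∘ₗ π h G t (k + 1) V = π h G t k V := by
  refine LinearMap.ext fun x => ?_
  exact congr_arg (fun φ : FSch.realLim 𝔛 h G t ⟶ _ => secMap h φ V x) (FSch.realProj_map 𝔛 h G t k)

/-- Sections of the limit form a limit. -/
noncomputable def isLimitSec (V : (𝔛.X 0).Opens) :=
  isLimitOfPreserves (SheafOfModules.evaluation (ModSite.ringSh (𝔛.Osh h)) (op V) ⋙
    forget (ModuleCat ((ModSite.ringSh (𝔛.Osh h)).obj.obj (op V))))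
    (limit.isLimit (FSch.levelSysOf 𝔛 h G t))

theorem ext_of_π {V : (𝔛.X 0).Opens} (x y : sec h (FSch.realLim 𝔛 h G t) V)
    (hxy : ∀ k, π h G t k V x = π h G t k V y) : x = y :=
  (Types.isLimitEquivSections (isLimitSec h G t V)).injective
    (Subtype.ext (funext fun j => by
      rw [Types.isLimitEquivSections_apply, Types.isLimitEquivSections_apply]
      exact hxy j.unop))

theorem exists_of_compatible {V : (𝔛.X 0).Opens} (y : ∀ k, lev h G k V)
    (hy : ∀ k, tr h G t k V (y (k + 1)) = y k) :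
    ∃ x, ∀ k, π h G t k V x = y k := by
  let F := FSch.levelSysOf 𝔛 h G t ⋙ (SheafOfModules.evaluation (ModSite.ringSh (𝔛.Osh h)) (op V) ⋙
    forget (ModuleCat ((ModSite.ringSh (𝔛.Osh h)).obj.obj (op V))))
  let s : F.sections := ⟨fun n => y n.unop, by
    rintro ⟨m⟩ ⟨n⟩ f
    obtain ⟨d, hd⟩ := Nat.exists_eq_add_of_le f.unop.le
    simp only at hd
    subst hd
    induction d with
    | zero =>
      rw [Subsingleton.elim f (𝟙 _)]
      exact ConcreteCategory.congr_hom (CategoryTheory.Functor.map_id F _) _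
    | succ d ih =>
      rw [Subsingleton.elim f ((homOfLE (Nat.le_add_right (n + d) 1)).op ≫
        (homOfLE (Nat.le_add_right n d)).op)]
      refine (ConcreteCategory.congr_hom (CategoryTheory.Functor.map_comp F _ _) _).trans ?_
      refine (congrArg (F.map (homOfLE (Nat.le_add_right n d)).op) ?_).trans
        (ih (homOfLE (Nat.le_add_right n d)).op)
      show secMap h ((FSch.levelSysOf 𝔛 h G t).map (homOfLE (Nat.le_add_right (n + d) 1)).op) V
        (y (n + d + 1)) = y (n + d)
      rw [FSch.levelSysOf_map_succ]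
      exact hy (n + d)⟩
  exact ⟨(Types.isLimitEquivSections (isLimitSec h G t V)).symm s, fun n =>
    Types.isLimitEquivSections_symm_apply (isLimitSec h G t V) s (op n)⟩

theorem tr_naturality {V V' : (𝔛.X 0).Opens} (hVV : V' ≤ V) (k : ℕ) (x : lev h G (k + 1) V) :
    (G k).presheaf.map (homOfLE (fun _ hz => hVV hz : 𝔛.lvU h k V' ≤ 𝔛.lvU h k V)).op
        (tr h G t k V x) =
      tr h G t k V' ((G (k + 1)).presheaf.map
        (homOfLE (fun _ hz => hVV hz : 𝔛.lvU h (k + 1) V' ≤ 𝔛.lvU h (k + 1) V)).op x) :=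
  (PresheafOfModules.naturality_apply ((FSch.levelMor 𝔛 h (k + 1)).push.map (t k) ≫
    (FSch.pushCompare 𝔛 h k).app (G k)).val (homOfLE hVV).op x).symm

end Groth.Agent.H30.RealLimSec
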