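import Groth.Agent.H30.FSch.GrLevel
import Groth.Agent.H30.FSch.PullFSys
import Groth.Agent.Lib.Modules.OpenRes
import Groth.Agent.Lib.ZarCoh.Compare
import Groth.Agent.Lib.Cyc.FP.Stalk
import Groth.Agent.S13342

/-!
# The tower of levels over an open of the common space (helper30)
-/

set_option autoImplicit false
set_option linter.style.haveILetI false
set_option linter.unusedSectionVars false

universe u

open CategoryTheory CategoryTheory.Limits AlgebraicGeometry TopologicalSpace Opposite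
open Groth.Agent.H30 Groth.Agent.H30.RealLimSec
open Groth.Agent.Lib Groth.Agent.Lib.ZarCoh.Compare

namespace Groth.Agent.H30.RestrictLevels

variable {𝔛 : FSch.Sys.{u}} (h𝔛 : 𝔛.IsLocNoethFormal) (U : (𝔛.X 0).Opens)

/-- The induced formal system. -/
noncomputable abbrev sys : FSch.Sys.{u} := 𝔛.restrictOpen h𝔛.1 U

/-- The inclusion. -/
noncomputable abbrev incl : sys h𝔛 U ⟶ 𝔛 := 𝔛.restrictOpenι h𝔛.1 U

theorem hsys : (sys h𝔛 U).IsLocNoethFormal := (Groth.Agent.S13342.result 𝔛 h𝔛.1 U).2.1 h𝔛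

theorem he : Topology.IsOpenEmbedding ((𝔛.lvU h𝔛.1 0 U).ι.base) := (𝔛.lvU h𝔛.1 0 U).ι.isOpenEmbedding

variable (𝔐 : FSch.ModSys 𝔛)

/-- The restricted system of modules. -/
noncomputable abbrev mod : FSch.ModSys (sys h𝔛 U) := FSch.ModSys.pullback (incl h𝔛 U) 𝔐

theorem isCoh_mod (h𝔐 : 𝔐.IsCoh) : (mod h𝔛 U 𝔐).IsCoh := fun n => by
  haveI := h𝔛.2.2 n
  haveI := (hsys h𝔛 U).2.2 n
  exact Cyc.FP.Stalk.isCoh_pullback _ (h𝔐 n)

theorem preφ_image (W : ((sys h𝔛 U).X 0).Opens) :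
    PullFSys.preφ (incl h𝔛 U) ((he h𝔛 U).functor.obj W) = W := by
  ext x
  exact ⟨fun ⟨y, hy, e⟩ => (he h𝔛 U).injective e ▸ hy, fun hx => ⟨x, hx, rfl⟩⟩

theorem image_le (n : ℕ) (W : ((sys h𝔛 U).X 0).Opens) :
    𝔛.lvU h𝔛.1 n ((he h𝔛 U).functor.obj W) ≤ (𝔛.lvU h𝔛.1 n U).ι.opensRange := by
  rw [Scheme.Opens.opensRange_ι]
  refine CohPres.lvU_mono h𝔛.1 n ?_
  rintro _ ⟨y, _, rfl⟩
  have h0 : (y.1 : 𝔛.X 0) ∈ 𝔛.lvU h𝔛.1 0 U := y.2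
  have h1 : (𝔛.gInv h𝔛.1 0) y.1 = y.1 :=
    ConcreteCategory.congr_hom (𝔛.toX_base_gInv h𝔛.1 0) y.1
  exact (congrArg (· ∈ U) h1).mp h0

/-- Restriction of the sections of a level. -/
noncomputable def secRes (n : ℕ) (W : ((sys h𝔛 U).X 0).Opens) :
    lev h𝔛.1 𝔐.F n ((he h𝔛 U).functor.obj W) →+ lev (hsys h𝔛 U).1 (mod h𝔛 U 𝔐).F n W :=
  AddMonoidHom.comp (((mod h𝔛 U 𝔐).F n).presheaf.map
      (homOfLE (CohPres.lvU_mono (hsys h𝔛 U).1 n (preφ_image h𝔛 U W).ge)).op).hom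
    (PullFSys.ηl (incl h𝔛 U) (hsys h𝔛 U) h𝔛 𝔐 n _)

theorem secRes_bijective (n : ℕ) (W : ((sys h𝔛 U).X 0).Opens) :
    Function.Bijective (secRes h𝔛 U 𝔐 n W) := by
  haveI : IsOpenImmersion ((incl h𝔛 U : FSch.Hom _ _).app n) :=
    inferInstanceAs (IsOpenImmersion (𝔛.lvU h𝔛.1 n U).ι)
  have h₁ := Modules.OpenRes.bijective_rs_of_eq ((mod h𝔛 U 𝔐).F n)
    (CohPres.lvU_mono (hsys h𝔛 U).1 n (preφ_image h𝔛 U W).ge)
    (congrArg ((sys h𝔛 U).lvU (hsys h𝔛 U).1 n) (preφ_image h𝔛 U W).symm)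
  have h₂ := Modules.OpenRes.bijective_pbRes ((incl h𝔛 U : FSch.Hom _ _).app n) (𝔐.F n) (image_le h𝔛 U n W)
    (PullFSys.lvU_le (incl h𝔛 U) (hsys h𝔛 U) h𝔛 n _)
    (FSch.Hom.lvU_preimage (incl h𝔛 U) (hsys h𝔛 U).1 h𝔛.1 n _).symm
  exact h₁.comp h₂

/-- The levels of the restricted system are the restrictions of the levels. -/
noncomputable def levIso (n : ℕ) :
    (rst (he h𝔛 U)).obj ((GrLevel.G h𝔛 𝔐).obj (op n)) ≅ (GrLevel.G (hsys h𝔛 U) (mod h𝔛 U 𝔐)).obj (op n) :=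
  (fullyFaithfulSheafToPresheaf _ _).preimageIso
    (NatIso.ofComponents
      (fun W => (AddEquiv.ofBijective (secRes h𝔛 U 𝔐 n W.unop) (secRes_bijective h𝔛 U 𝔐 n W.unop)).toAddCommGrpIso)
      fun {W W'} i => by
        refine ConcreteCategory.hom_ext _ _ fun (x : lev h𝔛.1 𝔐.F n ((he h𝔛 U).functor.obj W.unop)) => ?_
        have hi : PullFSys.preφ (incl h𝔛 U) ((he h𝔛 U).functor.obj W'.unop) ≤
            PullFSys.preφ (incl h𝔛 U) ((he h𝔛 U).functor.obj W.unop) :=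
          ((incl h𝔛 U : FSch.Hom _ _).app 0).preimage_mono (leOfHom ((he h𝔛 U).functor.map i.unop))
        show ((mod h𝔛 U 𝔐).F n).presheaf.map (homOfLE (CohPres.lvU_mono (hsys h𝔛 U).1 n (preφ_image h𝔛 U W'.unop).ge)).op
            (PullFSys.ηl (incl h𝔛 U) (hsys h𝔛 U) h𝔛 𝔐 n _ ((𝔐.F n).presheaf.map
              (homOfLE (CohPres.lvU_mono h𝔛.1 n (leOfHom ((he h𝔛 U).functor.map i.unop)))).op x)) =
          ((mod h𝔛 U 𝔐).F n).presheaf.map (homOfLE (CohPres.lvU_mono (hsys h𝔛 U).1 n (leOfHom i.unop))).op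
            (((mod h𝔛 U 𝔐).F n).presheaf.map (homOfLE (CohPres.lvU_mono (hsys h𝔛 U).1 n (preφ_image h𝔛 U W.unop).ge)).op
              (PullFSys.ηl (incl h𝔛 U) (hsys h𝔛 U) h𝔛 𝔐 n _ x))
        rw [PullFSys.ηl_apply, PullFSys.ηl_apply]
        refine (congrArg (fun z => ((mod h𝔛 U 𝔐).F n).presheaf.map _ (((mod h𝔛 U 𝔐).F n).presheaf.map _ z))
          (((Scheme.Modules.pullbackPushforwardAdjunction ((incl h𝔛 U : FSch.Hom _ _).app n)).unit.app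
            (𝔐.F n)).mapPresheaf.naturality_apply _ x)).trans ?_
        have e1 : (sys h𝔛 U).lvU (hsys h𝔛 U).1 n W'.unop ≤
            ((incl h𝔛 U : FSch.Hom _ _).app n) ⁻¹ᵁ 𝔛.lvU h𝔛.1 n ((he h𝔛 U).functor.obj W.unop) :=
          ((CohPres.lvU_mono (hsys h𝔛 U).1 n (preφ_image h𝔛 U W'.unop).ge).trans
            (CohPres.lvU_mono (hsys h𝔛 U).1 n hi)).trans (PullFSys.lvU_le (incl h𝔛 U) (hsys h𝔛 U) h𝔛 n _)
        refine (congrArg _ (CohDelta.Units.map_map _ _ _ (homOfLE ((CohPres.lvU_mono (hsys h𝔛 U).1 n hi).trans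
          (PullFSys.lvU_le (incl h𝔛 U) (hsys h𝔛 U) h𝔛 n _))).op _)).trans ?_
        refine (CohDelta.Units.map_map _ _ _ (homOfLE e1).op _).trans ?_
        symm
        refine (congrArg _ (CohDelta.Units.map_map _ _ _ (homOfLE ((CohPres.lvU_mono (hsys h𝔛 U).1 n
          (preφ_image h𝔛 U W.unop).ge).trans (PullFSys.lvU_le (incl h𝔛 U) (hsys h𝔛 U) h𝔛 n _))).op _)).trans ?_
        exact CohDelta.Units.map_map _ _ _ _ _)

theorem levIso_hom_apply (n : ℕ) (W : ((sys h𝔛 U).X 0).Opens) (x : lev h𝔛.1 𝔐.F n ((he h𝔛 U).functor.obj W)) :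
    ((levIso h𝔛 U 𝔐 n).hom.hom.app (op W)).hom x = secRes h𝔛 U 𝔐 n W x := rfl

theorem secRes_tr (n : ℕ) (W : ((sys h𝔛 U).X 0).Opens)
    (x : lev h𝔛.1 𝔐.F (n + 1) ((he h𝔛 U).functor.obj W)) :
    secRes h𝔛 U 𝔐 n W (tr h𝔛.1 𝔐.F 𝔐.toPush n _ x) =
      tr (hsys h𝔛 U).1 (mod h𝔛 U 𝔐).F (mod h𝔛 U 𝔐).toPush n W (secRes h𝔛 U 𝔐 (n + 1) W x) := by
  refine (congrArg (((mod h𝔛 U 𝔐).F n).presheaf.map _) (PullFSys.tr_ηl (incl h𝔛 U) (hsys h𝔛 U) h𝔛 𝔐 n _ x).symm).trans ?_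
  rw [← GrLevel.t_apply (hsys h𝔛 U) (mod h𝔛 U 𝔐) n _ _, ← GrLevel.t_apply (hsys h𝔛 U) (mod h𝔛 U 𝔐) n W _]
  exact (ConcreteCategory.congr_hom
    ((MLGr.t (GrLevel.G (hsys h𝔛 U) (mod h𝔛 U 𝔐)) (Nat.le_succ n)).hom.naturality
      (homOfLE (preφ_image h𝔛 U W).ge).op) _).symm

/-- The comparison of towers. -/
noncomputable def towerHom : GrLevel.G h𝔛 𝔐 ⋙ rst (he h𝔛 U) ⟶ GrLevel.G (hsys h𝔛 U) (mod h𝔛 U 𝔐) :=
  NatTrans.ofOpSequence (fun n => (levIso h𝔛 U 𝔐 n).hom) fun n => by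
    refine Sheaf.hom_ext (NatTrans.ext (funext fun W => ConcreteCategory.hom_ext _ _
      fun (x : lev h𝔛.1 𝔐.F (n + 1) ((he h𝔛 U).functor.obj W.unop)) => ?_))
    show secRes h𝔛 U 𝔐 n W.unop
        (((MLGr.t (GrLevel.G h𝔛 𝔐) (Nat.le_succ n)).hom.app (op ((he h𝔛 U).functor.obj W.unop))).hom x) =
      ((MLGr.t (GrLevel.G (hsys h𝔛 U) (mod h𝔛 U 𝔐)) (Nat.le_succ n)).hom.app W).hom
        (secRes h𝔛 U 𝔐 (n + 1) W.unop x)
    rw [GrLevel.t_apply]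
    exact (secRes_tr h𝔛 U 𝔐 n W.unop x).trans (GrLevel.t_apply (hsys h𝔛 U) (mod h𝔛 U 𝔐) n W.unop _).symm

instance isIso_towerHom : IsIso (towerHom h𝔛 U 𝔐) := by
  haveI : ∀ n, IsIso ((towerHom h𝔛 U 𝔐).app n) := fun n =>
    inferInstanceAs (IsIso (levIso h𝔛 U 𝔐 n.unop).hom)
  exact NatIso.isIso_of_isIso_app _

end Groth.Agent.H30.RestrictLevels
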