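import Groth.Agent.H30.FSch.RestrictLevels
import Groth.Agent.H30.FSch.ProperML

/-!
# Cohomology of the levels over an open (helper30)
-/

set_option autoImplicit false
set_option linter.style.haveILetI false
set_option linter.unusedSectionVars false

universe u

open CategoryTheory CategoryTheory.Limits AlgebraicGeometry TopologicalSpace Opposite
open CategoryTheory.Abelian
open Groth.Agent.H30 Groth.Agent.H30.RealLimSec
open Groth.Agent.Lib Groth.Agent.Lib.ZarCoh.Compare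
open Groth.Agent.Lib.ZarCoh.Basic (Zs)

namespace Groth.Agent.H30.RestrictML

section Alg

variable {A B C D : Type u} [AddCommGroup A] [AddCommGroup B] [AddCommGroup C] [AddCommGroup D]

/-- A composite of three isomorphisms. -/
def trans3 (a : A ≃+ B) (b : C ≃+ B) (c : C ≃+ D) : A ≃+ D := (a.trans b.symm).trans c

theorem trans3_apply (a : A ≃+ B) (b : C ≃+ B) (c : C ≃+ D) (x : A) : trans3 a b c x = c (b.symm (a x)) := rfl

/-- Isomorphic systems of groups, from pointwise isomorphisms. -/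
noncomputable def sysIsoOf {F G : ℕᵒᵖ ⥤ AddCommGrpCat.{u}} (e : ∀ n, F.obj n ≃+ G.obj n)
    (h : ∀ {m n : ℕᵒᵖ} (a : m ⟶ n) (x : F.obj m), e n ((F.map a).hom x) = (G.map a).hom (e m x)) : F ≅ G :=
  NatIso.ofComponents (fun n => (e n).toAddCommGrpIso) fun a => ConcreteCategory.hom_ext _ _ fun x => h a x

end Alg

section Gen

variable {X Y : TopCat.{u}} {e : X ⟶ Y} (he : Topology.IsOpenEmbedding e) (F : ℕᵒᵖ ⥤ CohTop.Ab Y)
  (F' : ℕᵒᵖ ⥤ CohTop.Ab X) (t : F ⋙ rst he ⟶ F') [IsIso t]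

/-- Cohomology over the image is cohomology upstairs. -/
noncomputable def equiv (i : ℕ) (n : ℕᵒᵖ) :
    Ext.{u} (Zs.obj (he.functor.obj ⊤)) (F.obj n) i ≃+ Sheaf.H.{u} (F'.obj n) i :=
  trans3 (restrEquiv he ⊤ i (F.obj n)) (hTop ((rst he).obj (F.obj n)) i) (HTower.hIso ((asIso t).app n) i)

theorem equiv_natural (i : ℕ) {m n : ℕᵒᵖ} (a : m ⟶ n) (x : Ext.{u} (Zs.obj (he.functor.obj ⊤)) (F.obj m) i) :
    equiv he F F' t i n (x.comp (Ext.mk₀ (F.map a)) (add_zero i)) =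
      (equiv he F F' t i m x).comp (Ext.mk₀ (F'.map a)) (add_zero i) := by
  have h1 : restrEquiv he ⊤ i (F.obj n) (x.comp (Ext.mk₀ (F.map a)) (add_zero i)) =
      (restrEquiv he ⊤ i (F.obj m) x).comp (Ext.mk₀ ((rst he).map (F.map a))) (add_zero i) := by
    show restrMap he ⊤ i (F.obj n) _ = _
    rw [cmp_comp (rst he) (openGen he ⊤) x (Ext.mk₀ (F.map a)) (add_zero i), Ext.mapExactFunctor_mk₀]
    rfl
  have h2 : ∀ z : Ext.{u} (Zs.obj ⊤) ((rst he).obj (F.obj m)) i,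
      (hTop ((rst he).obj (F.obj n)) i).symm (z.comp (Ext.mk₀ ((rst he).map (F.map a))) (add_zero i)) =
        ((hTop ((rst he).obj (F.obj m)) i).symm z).comp (Ext.mk₀ ((rst he).map (F.map a))) (add_zero i) := by
    intro z
    apply (hTop ((rst he).obj (F.obj n)) i).injective
    rw [AddEquiv.apply_symm_apply, hTop_comp, AddEquiv.apply_symm_apply]
  show ((hTop _ i).symm (restrEquiv he ⊤ i (F.obj n) _)).comp (Ext.mk₀ (t.app n)) (add_zero i) =
    (((hTop _ i).symm (restrEquiv he ⊤ i (F.obj m) x)).comp (Ext.mk₀ (t.app m)) (add_zero i)).comp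
      (Ext.mk₀ (F'.map a)) (add_zero i)
  rw [h1, h2, Ext.comp_assoc_of_second_deg_zero, Ext.comp_assoc_of_second_deg_zero, Ext.mk₀_comp_mk₀,
    Ext.mk₀_comp_mk₀]
  exact congrArg (fun φ => Ext.comp _ (Ext.mk₀ φ) (add_zero i)) (t.naturality a)

/-- The systems of cohomology groups agree. -/
noncomputable def sysIso (i : ℕ) :
    F ⋙ extFunctorObj.{u} (Zs.obj (he.functor.obj ⊤)) i ≅ HTower.sys F' i :=
  sysIsoOf (fun n => equiv he F F' t i n) fun a x => equiv_natural he F F' t i a x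

include t in
theorem ml_image (i : ℕ) (h : MLSeq.Basic.ML (HTower.sys F' i)) :
    MLSeq.Basic.ML (F ⋙ extFunctorObj.{u} (Zs.obj (he.functor.obj ⊤)) i) :=
  MLSeq.Basic.ml_of_epi (sysIso he F F' t i).inv
    (fun n => ((AddCommGrpCat.epi_iff_surjective _).1 inferInstance)) h

end Gen

variable {𝔛 : FSch.Sys.{u}} (h𝔛 : 𝔛.IsLocNoethFormal) (U : (𝔛.X 0).Opens) (𝔐 : FSch.ModSys 𝔛) (h𝔐 : 𝔐.IsCoh)

theorem image_top : (RestrictLevels.he h𝔛 U).functor.obj ⊤ = U := by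
  ext x
  have h1 : (𝔛.gInv h𝔛.1 0) x = x := ConcreteCategory.congr_hom (𝔛.toX_base_gInv h𝔛.1 0) x
  constructor
  · rintro ⟨⟨y, hy⟩, -, rfl⟩
    exact (congrArg (· ∈ U) (ConcreteCategory.congr_hom (𝔛.toX_base_gInv h𝔛.1 0) y)).mp hy
  · intro hx
    exact ⟨⟨x, (congrArg (· ∈ U) h1).mpr hx⟩, trivial, rfl⟩

/-- Mittag-Leffler over an open follows from the induced formal system. -/
theorem ml_open (i : ℕ)
    (h : MLSeq.Basic.ML (HTower.sys (GrLevel.G (RestrictLevels.hsys h𝔛 U) (RestrictLevels.mod h𝔛 U 𝔐)) i)) :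
    MLSeq.Basic.ML (GrLevel.G h𝔛 𝔐 ⋙ extFunctorObj.{u} (Zs.obj U) i) := by
  have := ml_image (RestrictLevels.he h𝔛 U) (GrLevel.G h𝔛 𝔐) _ (RestrictLevels.towerHom h𝔛 U 𝔐) i h
  exact (congrArg (fun W => MLSeq.Basic.ML (GrLevel.G h𝔛 𝔐 ⋙ extFunctorObj.{u} (Zs.obj W) i))
    (image_top h𝔛 U)).mp this

end Groth.Agent.H30.RestrictML
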