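import Groth.Agent.Lib.ModSS29.DeltaPre
import Groth.Agent.Lib.ModSS29.DerivedNat
import Groth.Agent.Lib.RlimTrunc.ModFlasque
import Groth.Agent.Lib.BigEt.Derived
import Groth.Agent.H30.ColimCoh.RpushPresheaf
import Groth.Agent.H30.TopCoh
import Groth.Agent.H30.FSch.AcycPush
import Groth.Prelude.Def_FSch5

/-!
# The underlying abelian sheaves of higher direct images on formal schemes (helper30)
-/

set_option autoImplicit false
set_option linter.style.haveILetI false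
set_option linter.unusedSectionVars false

universe u

open CategoryTheory CategoryTheory.Limits AlgebraicGeometry TopologicalSpace Opposite CategoryTheory.Abelian
open Groth.Agent.H30 Groth.Agent.Lib

namespace Groth.Agent.H30.RpushAbNat

variable {𝔛 𝔜 : FSch.Sys.{u}} (h𝔛 : 𝔛.IsFormal) (h𝔜 : 𝔜.IsFormal) (f : 𝔛 ⟶ 𝔜)
  [HasInjectiveResolutions (FSch.ModF 𝔛 h𝔛)] (q : ℕ)

/-- The underlying abelian sheaf. -/
noncomputable abbrev ab {𝔛 : FSch.Sys.{u}} (h : 𝔛.IsFormal) :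
    FSch.ModF 𝔛 h ⥤ CohTop.Ab (𝔛.X 0).carrier :=
  SheafOfModules.toSheaf (ModSite.ringSh (𝔛.Osh h))

/-- Direct images commute with the underlying sheaves. -/
noncomputable def pushAbIso :
    FSch.pushF f h𝔛 h𝔜 ⋙ ab h𝔜 ≅ ab h𝔛 ⋙ CohTop.push ((f : FSch.Hom 𝔛 𝔜).app 0).base :=
  NatIso.ofComponents (fun _ => Iso.refl _)

/-- The cohomology presheaves, sheafified. -/
noncomputable abbrev cohPsi : CohTop.Ab (𝔛.X 0).carrier ⥤ CohTop.Ab (𝔜.X 0).carrier :=
  Sheaf.cohomologyPresheafFunctor (Opens.grothendieckTopology (𝔛.X 0)) q ⋙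
    ColimCoh.RpushPresheaf.psi ((f : FSch.Hom 𝔛 𝔜).app 0).base

theorem nonempty_iso :
    Nonempty (FSch.RpushF f h𝔛 h𝔜 q ⋙ ab h𝔜 ≅ ab h𝔛 ⋙ cohPsi f q) := by
  haveI : PreservesLimitsOfSize.{0, 0} (FSch.homMor f h𝔛 h𝔜).push :=
    (FSch.homMor f h𝔛 h𝔜).adj.rightAdjoint_preservesLimits
  haveI : PreservesFiniteLimits (FSch.pushF f h𝔛 h𝔜) := PreservesLimitsOfSize.preservesFiniteLimits _
  haveI : (ab h𝔜).Additive := inferInstance
  haveI : (ab h𝔜).PreservesHomology := inferInstance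
  haveI : PreservesFiniteLimits (ab h𝔛) := inferInstance
  haveI : PreservesFiniteColimits (ab h𝔛) := inferInstance
  haveI : PreservesLimitsOfSize.{0, 0} (CohTop.push ((f : FSch.Hom 𝔛 𝔜).app 0).base) :=
    (TopCat.Sheaf.pullbackPushforwardAdjunction AddCommGrpCat.{u} _).rightAdjoint_preservesLimits
  haveI : PreservesFiniteLimits (CohTop.push ((f : FSch.Hom 𝔛 𝔜).app 0).base) :=
    PreservesLimitsOfSize.preservesFiniteLimits _
  haveI : EnoughInjectives (FSch.ModF 𝔛 h𝔛) := inferInstance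
  obtain ⟨e₁⟩ := ModSS29.DeltaPre.nonempty_rightDerived_preIso (ab h𝔛)
    (CohTop.push ((f : FSch.Hom 𝔛 𝔜).app 0).base)
    (fun I hI n =>
      haveI : TopCat.Sheaf.IsFlasque ((ab h𝔛).obj I) := RlimTrunc.ModFlasque.isFlasque_toSheaf I
      TopCoh.isZero_rpush_of_flasque _ _ n) q
  exact ⟨(ModSS29.DerivedNat.postIso (FSch.pushF f h𝔛 h𝔜) (ab h𝔜) q).symm ≪≫
    Groth.Agent.Lib.BigEt.Derived.natIsoIso (pushAbIso h𝔛 h𝔜 f) q ≪≫ e₁ ≪≫
    Functor.isoWhiskerLeft (ab h𝔛) (ColimCoh.RpushPresheaf.rpushIso _ q)⟩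

end Groth.Agent.H30.RpushAbNat
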