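import Groth.Agent.H30.ColimCoh.RpushPresheaf
import Groth.Agent.H30.FSch.GlueAff
import Groth.Agent.H30.FSch.ProperShift
import Groth.Agent.Lib.ModSS29.DeltaPre
import Groth.Agent.Lib.ModSS29.DerivedNat
import Groth.Agent.Lib.RlimTrunc.ModFlasque
import Groth.Agent.Lib.DerivedOX.RestrictRpush
import Groth.Agent.Lib.ZarCoh.Morph

/-!
# Sections of higher direct images over affine opens, naturally and linearly (helper30)
-/

set_option autoImplicit false
set_option linter.style.haveILetI false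
set_option linter.unusedSectionVars false

universe u

open CategoryTheory CategoryTheory.Limits AlgebraicGeometry TopologicalSpace Opposite CategoryTheory.Abelian
open Groth.Agent.H30 Groth.Agent.Lib
open Groth.Agent.Lib.ZarCoh.Basic (Zs rs)

namespace Groth.Agent.H30.RpushAff

section Scalar

variable {X Y : Scheme.{u}} (g : X ⟶ Y) (r : Coh.Γtop Y)

theorem smulModΓ_natural {M N : X.Modules} (φ : M ⟶ N) (s : Coh.Γtop X) :
    φ ≫ Formal.smulModΓ N s = Formal.smulModΓ M s ≫ φ :=
  Scheme.Modules.hom_ext _ _ fun U => ConcreteCategory.hom_ext _ _ fun m => (φ.app_smul _ _).symm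

/-- Multiplication by a global function, as a natural transformation. -/
noncomputable def smulNat (X : Scheme.{u}) (s : Coh.Γtop X) : 𝟭 X.Modules ⟶ 𝟭 X.Modules where
  app M := Formal.smulModΓ M s
  naturality _ _ φ := smulModΓ_natural φ s

theorem push_smul (M : X.Modules) :
    (Scheme.Modules.pushforward g).map (Formal.smulModΓ M (g.appTop r)) =
      Formal.smulModΓ ((Scheme.Modules.pushforward g).obj M) r := by
  refine Scheme.Modules.hom_ext _ _ fun U => ConcreteCategory.hom_ext _ _ fun m => ?_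
  refine congrArg (fun a : Γ(X, g ⁻¹ᵁ U) => a • (show Γ(M, g ⁻¹ᵁ U) from m)) ?_
  exact ConcreteCategory.congr_hom (Scheme.Hom.naturality g (homOfLE (le_top : U ≤ ⊤)).op).symm r

variable [HasInjectiveResolutions X.Modules] (n : ℕ)

/-- Higher direct images are linear over global functions. -/
theorem rightDerived_smul (M : X.Modules) :
    (Coh.Rpush g n).map (Formal.smulModΓ M (g.appTop r)) =
      Formal.smulModΓ ((Coh.Rpush g n).obj M) r := by
  let P := Scheme.Modules.pushforward g
  let I := injectiveResolution M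
  let K := (P.mapHomologicalComplex (ComplexShape.up ℕ)).obj I.cocomplex
  let φ : I.cocomplex ⟶ I.cocomplex :=
    { f := fun j => Formal.smulModΓ (I.cocomplex.X j) (g.appTop r)
      comm' := fun i j _ => (smulModΓ_natural _ _).symm }
  have comm : I.ι.f 0 ≫ φ.f 0 = Formal.smulModΓ M (g.appTop r) ≫ I.ι.f 0 := smulModΓ_natural _ _
  have h1 := InjectiveResolution.isoRightDerivedObj_hom_naturality (Formal.smulModΓ M (g.appTop r)) I I φ comm P n
  have hcyc : HomologicalComplex.cyclesMap ((P.mapHomologicalComplex _).map φ) n =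
      Formal.smulModΓ (K.cycles n) r := by
    rw [← cancel_mono (K.iCycles n), HomologicalComplex.cyclesMap_i, ← smulModΓ_natural]
    exact congrArg (K.iCycles n ≫ ·) (push_smul g r _)
  have hH : HomologicalComplex.homologyMap ((P.mapHomologicalComplex _).map φ) n =
      Formal.smulModΓ (K.homology n) r := by
    rw [← cancel_epi (K.homologyπ n), HomologicalComplex.homologyπ_naturality, hcyc]
    exact (smulModΓ_natural _ _).symm
  rw [← cancel_mono (I.isoRightDerivedObj P n).hom]
  refine h1.trans ?_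
  rw [← smulModΓ_natural]
  exact congrArg ((I.isoRightDerivedObj P n).hom ≫ ·) hH

end Scalar

section Open

variable {X Y : Scheme.{u}} (f : X ⟶ Y) (V : Y.Opens)
  [HasInjectiveResolutions X.Modules] (n : ℕ)

theorem nonempty_restrictIso :
    Nonempty (Coh.Rpush f n ⋙ Scheme.Modules.restrictFunctor V.ι ≅
      Scheme.Modules.restrictFunctor (f ⁻¹ᵁ V).ι ⋙ Coh.Rpush (f ∣_ V) n) := by
  haveI : ∀ (Z : Scheme.{u}) (U : Z.Opens), PreservesFiniteLimits (Scheme.Modules.restrictFunctor U.ι) := fun Z U => by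
    haveI : PreservesLimitsOfSize.{0, 0} (Scheme.Modules.restrictFunctor U.ι) :=
      (DerivedOX.RestrictKInj.extZeroAdj U).rightAdjoint_preservesLimits
    exact PreservesLimitsOfSize.preservesFiniteLimits _
  haveI : ∀ (Z : Scheme.{u}) (U : Z.Opens), PreservesFiniteColimits (Scheme.Modules.restrictFunctor U.ι) := fun Z U => by
    haveI : PreservesColimitsOfSize.{0, 0} (Scheme.Modules.restrictFunctor U.ι) :=
      (Scheme.Modules.restrictAdjunction U.ι).leftAdjoint_preservesColimits
    exact PreservesColimitsOfSize.preservesFiniteColimits _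
  haveI : ∀ (Z : Scheme.{u}) (U : Z.Opens), (Scheme.Modules.restrictFunctor U.ι).Additive := fun Z U =>
    Functor.additive_of_preserves_binary_products _
  haveI : ∀ (Z : Scheme.{u}) (U : Z.Opens), (Scheme.Modules.restrictFunctor U.ι).PreservesHomology :=
    fun Z U => inferInstance
  haveI : PreservesLimitsOfSize.{0, 0} (Scheme.Modules.pushforward (f ∣_ V)) :=
    (Scheme.Modules.pullbackPushforwardAdjunction (f ∣_ V)).rightAdjoint_preservesLimits
  haveI : PreservesFiniteLimits (Scheme.Modules.pushforward (f ∣_ V)) :=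
    PreservesLimitsOfSize.preservesFiniteLimits _
  haveI : EnoughInjectives X.Modules := inferInstance
  obtain ⟨e₁⟩ := ModSS29.DeltaPre.nonempty_rightDerived_preIso
    (Scheme.Modules.restrictFunctor (f ⁻¹ᵁ V).ι) (Scheme.Modules.pushforward (f ∣_ V))
    (fun I _ m =>
      haveI := Injective.injective_of_adjoint (DerivedOX.RestrictKInj.extZeroAdj (f ⁻¹ᵁ V)) I
      (Scheme.Modules.pushforward (f ∣_ V)).isZero_rightDerived_obj_injective_succ m
        ((Scheme.Modules.restrictFunctor (f ⁻¹ᵁ V).ι).obj I)) n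
  exact ⟨(ModSS29.DerivedNat.postIso (Scheme.Modules.pushforward f) (Scheme.Modules.restrictFunctor V.ι) n).symm ≪≫
    Groth.Agent.Lib.BigEt.Derived.natIsoIso (DerivedOX.RestrictRpush.pushRestrictIso f V) n ≪≫ e₁⟩

end Open

section Top

variable {X Y : Scheme.{u}} (g : X ⟶ Y) [HasInjectiveResolutions X.Modules] (n : ℕ)

theorem nonempty_rpushAbIso :
    Nonempty (Coh.Rpush g n ⋙ SheafOfModules.toSheaf Y.ringCatSheaf ≅
      SheafOfModules.toSheaf X.ringCatSheaf ⋙
        Sheaf.cohomologyPresheafFunctor (Opens.grothendieckTopology X) n ⋙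
          ColimCoh.RpushPresheaf.psi g.base) := by
  haveI : PreservesLimitsOfSize.{0, 0} (CohTop.push g.base) :=
    (TopCat.Sheaf.pullbackPushforwardAdjunction AddCommGrpCat.{u} _).rightAdjoint_preservesLimits
  haveI : PreservesFiniteLimits (CohTop.push g.base) := PreservesLimitsOfSize.preservesFiniteLimits _
  haveI : (SheafOfModules.toSheaf Y.ringCatSheaf).PreservesHomology := inferInstance
  haveI : PreservesFiniteLimits (SheafOfModules.toSheaf X.ringCatSheaf) := inferInstance
  haveI : PreservesFiniteColimits (SheafOfModules.toSheaf X.ringCatSheaf) := inferInstance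
  haveI : EnoughInjectives X.Modules := inferInstance
  obtain ⟨e₁⟩ := ModSS29.DeltaPre.nonempty_rightDerived_preIso (SheafOfModules.toSheaf X.ringCatSheaf)
    (CohTop.push g.base)
    (fun I hI m =>
      haveI : TopCat.Sheaf.IsFlasque ((SheafOfModules.toSheaf X.ringCatSheaf).obj I) :=
        RlimTrunc.ModFlasque.isFlasque_toSheaf I
      TopCoh.isZero_rpush_of_flasque _ _ m) n
  let e₀ : Scheme.Modules.pushforward g ⋙ SheafOfModules.toSheaf Y.ringCatSheaf ≅
      SheafOfModules.toSheaf X.ringCatSheaf ⋙ CohTop.push g.base :=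
    NatIso.ofComponents (fun _ => Iso.refl _)
  exact ⟨(ModSS29.DerivedNat.postIso (Scheme.Modules.pushforward g) (SheafOfModules.toSheaf Y.ringCatSheaf) n).symm ≪≫
    Groth.Agent.Lib.BigEt.Derived.natIsoIso e₀ n ≪≫ e₁ ≪≫
    Functor.isoWhiskerLeft _ (ColimCoh.RpushPresheaf.rpushIso g.base n)⟩

variable (M : X.Modules)

/-- The cohomology presheaf of preimages. -/
noncomputable abbrev P : (Opens Y)ᵒᵖ ⥤ AddCommGrpCat.{u} :=
  (Opens.map g.base).op ⋙
    (Sheaf.cohomologyPresheafFunctor (Opens.grothendieckTopology X) n).obj (Coh.toAb M)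

theorem P_map {V W : Y.Opens} (h : W ≤ V)
    (x : Ext.{u} (Zs.obj (g ⁻¹ᵁ V)) (Coh.toAb M) n) :
    rs (Coh.toAb M) n (g.preimage_mono h) x = (P g n M).map (homOfLE h).op x := rfl

/-- The locally bijective comparison. -/
noncomputable def cmpG : CohDelta.Glue.Cmp g M n
    ((presheafToSheaf (Opens.grothendieckTopology Y) AddCommGrpCat.{u}).obj (P g n M)) where
  e W := ((toSheafify (Opens.grothendieckTopology Y) (P g n M)).app (op W)).hom
  nat {V W} h x := by
    refine (congrArg ((toSheafify (Opens.grothendieckTopology Y) (P g n M)).app (op W)).hom (P_map g n M h x)).trans ?_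
    exact (toSheafify (Opens.grothendieckTopology Y) (P g n M)).naturality_apply _ _
  surj V t y hy := by
    obtain ⟨U, hU, ⟨p, hp⟩, hyU⟩ := (TopCat.Presheaf.isLocallySurjective_iff
      (toSheafify (Opens.grothendieckTopology Y) (P g n M))).1
        (show Presheaf.IsLocallySurjective (Opens.grothendieckTopology Y)
          (toSheafify (Opens.grothendieckTopology Y) (P g n M)) from inferInstance) V t y hy
    exact ⟨U, hU, hyU, p, hp⟩
  inj V x hx y hy := by
    obtain ⟨U, i, hU, hyU⟩ := Presheaf.equalizerSieve_mem (Opens.grothendieckTopology Y)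
      (toSheafify (Opens.grothendieckTopology Y) (P g n M)) (show (P g n M).obj (op V) from x) 0 (hx.trans (map_zero _).symm) y hy
    exact ⟨U, leOfHom i, hyU, hU.trans (map_zero _)⟩

theorem toSheafify_bijective [IsAffine Y] [QuasiCompact g] [QuasiSeparated g] [M.IsQuasicoherent] :
    Function.Bijective ((toSheafify (Opens.grothendieckTopology Y) (P g n M)).app (op ⊤)).hom :=
  CohDelta.Glue.bijective_top g M (cmpG g n M)

variable [IsAffine Y] [QuasiCompact g] [QuasiSeparated g]

/-- Global sections of higher direct images to an affine scheme. -/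
noncomputable def topEquiv (e : Coh.Rpush g n ⋙ SheafOfModules.toSheaf Y.ringCatSheaf ≅
      SheafOfModules.toSheaf X.ringCatSheaf ⋙
        Sheaf.cohomologyPresheafFunctor (Opens.grothendieckTopology X) n ⋙
          ColimCoh.RpushPresheaf.psi g.base) [M.IsQuasicoherent] :
    Coh.HH X M n ≃+ Γ((Coh.Rpush g n).obj M, ⊤) :=
  ((ZarCoh.Compare.hTop (Coh.toAb M) n).trans
    (AddEquiv.ofBijective ((toSheafify (Opens.grothendieckTopology Y) (P g n M)).app (op ⊤)).hom
      (toSheafify_bijective g n M))).trans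
    (((sheafToPresheaf _ _).mapIso (e.app M)).app (op ⊤)).symm.addCommGroupIsoToAddEquiv

theorem topEquiv_natural (e : Coh.Rpush g n ⋙ SheafOfModules.toSheaf Y.ringCatSheaf ≅
      SheafOfModules.toSheaf X.ringCatSheaf ⋙
        Sheaf.cohomologyPresheafFunctor (Opens.grothendieckTopology X) n ⋙
          ColimCoh.RpushPresheaf.psi g.base)
    {N : X.Modules} [M.IsQuasicoherent] [N.IsQuasicoherent] (φ : M ⟶ N) (z : Coh.HH X M n) :
    topEquiv g n N e (Sheaf.H.map ((SheafOfModules.toSheaf _).map φ) n z) =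
      ((Coh.Rpush g n).map φ).app ⊤ (topEquiv g n M e z) := by
  let Φ : P g n M ⟶ P g n N := Functor.whiskerLeft (Opens.map g.base).op
    ((Sheaf.cohomologyPresheafFunctor (Opens.grothendieckTopology X) n).map ((SheafOfModules.toSheaf _).map φ))
  have h1 : ((presheafToSheaf (Opens.grothendieckTopology Y) AddCommGrpCat.{u}).map Φ).hom.app (op ⊤)
      ((toSheafify (Opens.grothendieckTopology Y) (P g n M)).app (op ⊤) (ZarCoh.Compare.hTop (Coh.toAb M) n z)) =
      (toSheafify (Opens.grothendieckTopology Y) (P g n N)).app (op ⊤)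
        (Φ.app (op ⊤) (ZarCoh.Compare.hTop (Coh.toAb M) n z)) :=
    congrArg (fun ψ => ψ.app (op (⊤ : Y.Opens)) (ZarCoh.Compare.hTop (Coh.toAb M) n z))
      (toSheafify_naturality (Opens.grothendieckTopology Y) Φ).symm
  have h2 : ZarCoh.Compare.hTop (Coh.toAb N) n (Sheaf.H.map ((SheafOfModules.toSheaf _).map φ) n z) =
      Φ.app (op ⊤) (ZarCoh.Compare.hTop (Coh.toAb M) n z) :=
    ZarCoh.Compare.hTop_comp z (Ext.mk₀ ((SheafOfModules.toSheaf X.ringCatSheaf).map φ)) (add_zero n)
  have h3 : ∀ y, (e.inv.app N).hom.app (op ⊤)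
      (((presheafToSheaf (Opens.grothendieckTopology Y) AddCommGrpCat.{u}).map Φ).hom.app (op ⊤) y) =
      ((Coh.Rpush g n).map φ).app ⊤ ((e.inv.app M).hom.app (op ⊤) y) := fun y =>
    congrArg (fun ψ => ψ.hom.app (op (⊤ : Y.Opens)) y) (e.inv.naturality φ)
  exact (congrArg (fun y : (P g n N).obj (op ⊤) => (e.inv.app N).hom.app (op ⊤)
    ((toSheafify (Opens.grothendieckTopology Y) (P g n N)).app (op ⊤) y)) h2).trans
    ((congrArg _ h1.symm).trans (h3 _))

end Top

section Affine

variable {X Y : Scheme.{u}} (f : X ⟶ Y) [QuasiCompact f] [QuasiSeparated f]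
  [HasInjectiveResolutions X.Modules] (n : ℕ) {V : Y.Opens} (hV : IsAffineOpen V)

include hV in
/-- Sections of higher direct images over an affine open, naturally and linearly. -/
theorem exists_equiv :
    letI := ProperShift.overV f hV
    ∃ Ψ : ∀ (M : X.Modules) [M.IsQuasicoherent],
        Γ((Coh.Rpush f n).obj M, V) ≃+ Coh.HH (f ⁻¹ᵁ V : X.Opens) (M.restrict (f ⁻¹ᵁ V).ι) n,
      (∀ {M N : X.Modules} [M.IsQuasicoherent] [N.IsQuasicoherent] (φ : M ⟶ N) x,
        Ψ N (((Coh.Rpush f n).map φ).app V x) =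
          Sheaf.H.map ((SheafOfModules.toSheaf _).map ((Scheme.Modules.restrictFunctor (f ⁻¹ᵁ V).ι).map φ)) n (Ψ M x)) ∧
      ∀ (M : X.Modules) [M.IsQuasicoherent] (a : Γ(Y, V)) (x : Γ((Coh.Rpush f n).obj M, V)),
        Ψ M (a • x) = Sheaf.H.map ((SheafOfModules.toSheaf _).map
          (Formal.smulMod Γ(Y, V) (M.restrict (f ⁻¹ᵁ V).ι) a)) n (Ψ M x) := by
  letI := ProperShift.overV f hV
  haveI : IsAffine (V : Scheme.{u}) := hV
  obtain ⟨ρ⟩ := nonempty_restrictIso f V n
  obtain ⟨e⟩ := nonempty_rpushAbIso (f ∣_ V) n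
  let res : ∀ (M : X.Modules), Γ((Coh.Rpush f n).obj M, V) ≃+ Γ((Coh.Rpush f n).obj M, V.ι ''ᵁ ⊤) :=
    fun M => (((Coh.Rpush f n).obj M).presheaf.mapIso (eqToIso (congrArg op V.ι_image_top.symm))).addCommGroupIsoToAddEquiv
  let st : ∀ (M : X.Modules), Γ((Coh.Rpush f n).obj M, V.ι ''ᵁ ⊤) ≃+
      Γ((Coh.Rpush (f ∣_ V) n).obj (M.restrict (f ⁻¹ᵁ V).ι), ⊤) := fun M =>
    AddEquiv.ofBijective ((ρ.hom.app M).app ⊤).hom (H78.Formal.Sections.app_bijective (ρ.hom.app M) ⊤)
  haveI : ∀ (M : X.Modules) [M.IsQuasicoherent], (M.restrict (f ⁻¹ᵁ V).ι).IsQuasicoherent := fun M _ =>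
    inferInstanceAs ((Scheme.Modules.restrictFunctor (f ⁻¹ᵁ V).ι).obj M).IsQuasicoherent
  let T : ∀ (M : X.Modules) [M.IsQuasicoherent], Coh.HH (f ⁻¹ᵁ V : X.Opens) (M.restrict (f ⁻¹ᵁ V).ι) n ≃+
      Γ((Coh.Rpush (f ∣_ V) n).obj (M.restrict (f ⁻¹ᵁ V).ι), ⊤) := fun M _ =>
    topEquiv (f ∣_ V) n (M.restrict (f ⁻¹ᵁ V).ι) e
  refine ⟨fun M _ => ((res M).trans (st M)).trans (T M).symm, ?_, ?_⟩
  · intro M N _ _ φ x
    refine (T N).symm_apply_eq.2 ?_
    refine Eq.trans ?_ (topEquiv_natural (f ∣_ V) n _ e _ _).symm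
    refine Eq.trans ?_ (congrArg _ ((T M).apply_symm_apply _).symm)
    refine Eq.trans (congrArg (st N)
      (((Coh.Rpush f n).map φ).mapPresheaf.naturality_apply (eqToHom (congrArg op V.ι_image_top.symm)) x).symm) ?_
    exact congrArg (fun ψ => ψ.app (⊤ : (V : Scheme.{u}).Opens) (res M x)) (ρ.hom.naturality φ)
  · intro M _ a x
    refine (T M).symm_apply_eq.2 ?_
    refine Eq.trans ?_ (topEquiv_natural (f ∣_ V) n _ e _ _).symm
    refine Eq.trans ?_ (congrArg _ ((T M).apply_symm_apply _).symm)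
    let r : Coh.Γtop (V : Scheme.{u}) := Y.presheaf.map (eqToHom (congrArg op V.ι_image_top.symm)) a
    have hr : Coh.toGlobal (((f ⁻¹ᵁ V : X.Opens) : Scheme.{u}) ↘ Spec (CommRingCat.of Γ(Y, V))) a =
        (f ∣_ V).appTop r := by
      change ((f ∣_ V) ≫ hV.isoSpec.hom).appTop ((Scheme.ΓSpecIso (CommRingCat.of Γ(Y, V))).inv a) = _
      rw [IsAffineOpen.isoSpec_hom, Scheme.Hom.comp_appTop, Scheme.Opens.toSpecΓ_appTop]
      refine congrArg (f ∣_ V).appTop ?_
      change V.topIso.inv ((Scheme.ΓSpecIso Γ(Y, V)).hom ((Scheme.ΓSpecIso (CommRingCat.of Γ(Y, V))).inv a)) = _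
      refine (congrArg (V.topIso.inv)
        (ConcreteCategory.congr_hom (Scheme.ΓSpecIso (CommRingCat.of Γ(Y, V))).inv_hom_id a)).trans ?_
      rw [Scheme.Opens.topIso_inv]
      exact congrArg (fun i => Y.presheaf.map i a) (Subsingleton.elim _ _)
    have h1 : res M (a • x) = (show Γ(Y, V.ι ''ᵁ ⊤) from r) • res M x :=
      Scheme.Modules.map_smul _ _ _ _
    refine (congrArg (st M) h1).trans ?_
    refine Eq.trans ?_ (congrArg (fun ψ => ψ.app (⊤ : (V : Scheme.{u}).Opens) (st M (res M x)))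
      ((congrArg (fun s => (Coh.Rpush (f ∣_ V) n).map (Formal.smulModΓ (M.restrict (f ⁻¹ᵁ V).ι) s)) hr).trans
        (rightDerived_smul (f ∣_ V) r n _))).symm
    have e0 : (V.ι.appIso (⊤ : (V : Scheme.{u}).Opens)).inv (show Γ((V : Scheme.{u}), ⊤) from r) =
        (show Γ(Y, V.ι ''ᵁ ⊤) from r) := by
      rw [Scheme.Opens.ι_appIso]
      rfl
    have h2 : (show Γ(Y, V.ι ''ᵁ ⊤) from r) • res M x =
        (show Γ((Coh.Rpush f n).obj M, V.ι ''ᵁ ⊤) from (show Γ((V : Scheme.{u}), ⊤) from r) •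
          (show Γ(((Coh.Rpush f n).obj M).restrict V.ι, ⊤) from res M x)) :=
      (congrArg (fun t : Γ(Y, V.ι ''ᵁ ⊤) => t • res M x) e0).symm
    refine (congrArg (st M) h2).trans ?_
    refine Eq.trans ((ρ.hom.app M).app_smul (show Γ((V : Scheme.{u}), ⊤) from r)
      (show Γ(((Coh.Rpush f n).obj M).restrict V.ι, ⊤) from res M x)) ?_
    refine congrArg (· • st M (res M x)) ?_
    exact (ConcreteCategory.congr_hom ((V : Scheme.{u}).presheaf.map_id (op ⊤)) r).symm

end Affine

end Groth.Agent.H30.RpushAff
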