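import Groth.Agent.H30.FSch.RpushLimit
import Groth.Agent.H30.FSch.AffinePushD
import Groth.Agent.H30.FSch.AffAcyclic
import Groth.Agent.Lib.Cech.MV

/-!
# The cohomological amplitude of a separated morphism of Noetherian formal schemes (helper30)
-/

set_option autoImplicit false
set_option linter.style.haveILetI false
set_option linter.unusedSectionVars false

universe u

open CategoryTheory CategoryTheory.Limits AlgebraicGeometry TopologicalSpace Opposite CategoryTheory.Abelian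
open Groth.Agent.H30 Groth.Agent.Lib
open Groth.Agent.Lib.ZarCoh.Basic (Zs)

namespace Groth.Agent.H30.RpushBound

section MV

variable {X : TopCat.{u}} (F : CohTop.Ab X) (P : Opens X → Prop) (hP : ∀ U V, P U → P V → P (U ⊓ V))
  (hv : ∀ U, P U → ∀ q, Subsingleton (CohTop.HU F (q + 1) U))

theorem subsingleton_sup (U V : Opens X) (k : ℕ) (hU : Subsingleton (CohTop.HU F (k + 1) U))
    (hV : Subsingleton (CohTop.HU F (k + 1) V)) (hUV : Subsingleton (CohTop.HU F k (U ⊓ V))) :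
    Subsingleton (CohTop.HU F (k + 1) (U ⊔ V)) := by
  refine subsingleton_of_forall_eq 0 fun z => ?_
  obtain ⟨w, hw⟩ := Cech.MV.sq_exists_δ_eq F (Opens.mayerVietorisSquare U V) k z
    (hU.elim _ _) (hV.elim _ _)
  rw [← hw, hUV.elim w 0]
  exact map_zero _

include hP hv in
theorem subsingleton_iSup : ∀ (n : ℕ) (U : Fin (n + 1) → Opens X), (∀ i, P (U i)) →
    ∀ k, n ≤ k → Subsingleton (CohTop.HU F (k + 1) (⨆ i, U i)) := by
  intro n
  induction n with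
  | zero =>
    intro U hU k _
    rw [show (⨆ i, U i) = U 0 from le_antisymm (iSup_le fun i => (congrArg U (Subsingleton.elim (α := Fin 1) i 0)).le) (le_iSup U 0)]
    exact hv _ (hU 0) k
  | succ n ih =>
    intro U hU k hk
    obtain ⟨k, rfl⟩ : ∃ k', k = k' + 1 := ⟨k - 1, by omega⟩
    have he : (⨆ i, U i) = U 0 ⊔ ⨆ i : Fin (n + 1), U i.succ :=
      le_antisymm (iSup_le fun i => Fin.cases le_sup_left (fun j => le_sup_of_le_right (le_iSup (fun l : Fin (n + 1) => U l.succ) j)) i)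
        (sup_le (le_iSup U 0) (iSup_le fun i => le_iSup U i.succ))
    rw [he]
    refine subsingleton_sup F _ _ (k + 1) (hv _ (hU 0) _) (ih _ (fun i => hU i.succ) _ (by omega)) ?_
    rw [inf_iSup_eq]
    exact ih _ (fun i => hP _ _ (hU 0) (hU i.succ)) k (by omega)

include hP hv in
/-- Cohomology vanishes above the number of members of a cover with good intersections. -/
theorem subsingleton_of_cover {ι : Type*} (s : Finset ι) (U : ι → Opens X) (hU : ∀ i ∈ s, P (U i))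
    (W : Opens X) (hW : W = s.sup U) (hbot : P ⊥) (k : ℕ) (hk : s.card < k) :
    Subsingleton (CohTop.HU F k W) := by
  obtain ⟨k, rfl⟩ : ∃ k', k = k' + 1 := ⟨k - 1, by omega⟩
  let e := s.equivFin.symm
  let U' : Fin (s.card + 1) → Opens X := Fin.cases ⊥ fun i => U (e i)
  have h : W = ⨆ i, U' i := by
    refine hW.trans (le_antisymm (Finset.sup_le fun i hi => ?_) (iSup_le fun i => ?_))
    · refine le_iSup_of_le (s.equivFin ⟨i, hi⟩).succ (le_of_eq ?_)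
      simp [U', e]
    · induction i using Fin.cases with
      | zero => exact bot_le
      | succ j => exact Finset.le_sup (f := U) (e j).2
  rw [h]
  refine subsingleton_iSup F P hP hv s.card U' (fun i => ?_) k (by omega)
  induction i using Fin.cases with
  | zero => exact hbot
  | succ j => exact hU _ (e j).2

end MV

variable {𝔛 𝔜 : FSch.Sys.{u}} (h𝔛 : 𝔛.IsLocNoethFormal) (h𝔜 : 𝔜.IsLocNoethFormal) (f : 𝔛 ⟶ 𝔜)
  (hf : IsSeparated ((f : FSch.Hom 𝔛 𝔜).app 0))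

include hf in
/-- Over an affine open of the base, affine opens meet in affine opens, also with preimages of affines. -/
theorem isAffineOpen_inter {W : (𝔜.X 0).Opens} (hW : IsAffineOpen W) {U : (𝔛.X 0).Opens} (hU : IsAffineOpen U)
    (hUW : U ≤ ((f : FSch.Hom 𝔛 𝔜).app 0) ⁻¹ᵁ W) :
    (∀ V : (𝔜.X 0).Opens, IsAffineOpen V → V ≤ W → IsAffineOpen (U ⊓ ((f : FSch.Hom 𝔛 𝔜).app 0) ⁻¹ᵁ V)) ∧
    (∀ U' : (𝔛.X 0).Opens, IsAffineOpen U' → U' ≤ ((f : FSch.Hom 𝔛 𝔜).app 0) ⁻¹ᵁ W → IsAffineOpen (U ⊓ U')) := by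
  let g := (f : FSch.Hom 𝔛 𝔜).app 0
  haveI : IsSeparated g := hf
  haveI : IsAffine (W : Scheme.{u}) := hW
  haveI : IsAffine (U : Scheme.{u}) := hU
  refine ⟨fun V hV hVW => ?_, fun U' hU' hU'W => ?_⟩
  · have h1 : IsAffineOpen (W.ι ⁻¹ᵁ V) := hV.preimage_of_isOpenImmersion W.ι (by rwa [Scheme.Opens.opensRange_ι])
    have h2 := (h1.preimage (g.resLE W U hUW)).image_of_isOpenImmersion U.ι
    rw [← Scheme.Hom.comp_preimage, Scheme.Hom.resLE_comp_ι, Scheme.Hom.comp_preimage,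
      Scheme.Hom.image_preimage_eq_opensRange_inf, Scheme.Opens.opensRange_ι] at h2
    exact h2
  · let S : (𝔛.X 0).Opens := g ⁻¹ᵁ W
    haveI : (S : Scheme.{u}).IsSeparated := ⟨by
      haveI : IsSeparated (g ∣_ W) := IsZariskiLocalAtTarget.restrict (P := @IsSeparated) inferInstance W
      rw [← Subsingleton.elim ((g ∣_ W) ≫ terminal.from (W : Scheme.{u})) (terminal.from _)]
      infer_instance⟩
    have h1 : IsAffineOpen (S.ι ⁻¹ᵁ U) := hU.preimage_of_isOpenImmersion S.ι (by rwa [Scheme.Opens.opensRange_ι])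
    have h2 : IsAffineOpen (S.ι ⁻¹ᵁ U') := hU'.preimage_of_isOpenImmersion S.ι (by rwa [Scheme.Opens.opensRange_ι])
    have h3 := (h1.inf h2).image_of_isOpenImmersion S.ι
    rw [← Scheme.Hom.preimage_inf, Scheme.Hom.image_preimage_eq_opensRange_inf, Scheme.Opens.opensRange_ι,
      inf_eq_right.2 (inf_le_left.trans hUW)] at h3
    exact h3

/-- The affine opens inside a member of a finite affine cover. -/
abbrev Small (t : Finset (𝔜.X 0).affineOpens) : Set (Opens (𝔜.X 0)) :=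
  {V | IsAffineOpen (V : (𝔜.X 0).Opens) ∧ ∃ W ∈ t, V ≤ W.1}

theorem isBasis_small (t : Finset (𝔜.X 0).affineOpens) (ht : ∀ y, ∃ W ∈ t, y ∈ W.1) :
    Opens.IsBasis (Small t) := Opens.isBasis_iff_nbhd.2 fun {U y} hy => by
  obtain ⟨W, hWt, hyW⟩ := ht y
  obtain ⟨V, hV, hyV, hVU⟩ := Opens.isBasis_iff_nbhd.1 (Scheme.isBasis_affineOpens (𝔜.X 0))
    (show y ∈ U ⊓ W.1 from ⟨hy, hyW⟩)
  exact ⟨V, ⟨hV, W, hWt, hVU.trans inf_le_right⟩, hyV, hVU.trans inf_le_left⟩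

include hf h𝔜 in
/-- A uniform bound on the cohomology of the preimages of small affine opens. -/
theorem exists_bound [CompactSpace (𝔛.X 0)] [CompactSpace (𝔜.X 0)] :
    ∃ (N : ℕ) (t : Finset (𝔜.X 0).affineOpens), (∀ y, ∃ W ∈ t, y ∈ W.1) ∧
      ∀ M : FSch.ModF 𝔛 h𝔛.1,
        AcycPush.Acy {U | IsAffineOpen (U : (𝔛.X 0).Opens)} M →
        ∀ V ∈ Small t, ∀ k : ℕ, N < k →
          Subsingleton (CohTop.HU ((SheafOfModules.toSheaf (ModSite.ringSh (𝔛.Osh h𝔛.1))).obj M) k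
            (((f : FSch.Hom 𝔛 𝔜).app 0) ⁻¹ᵁ V)) := by
  classical
  haveI : IsLocallyNoetherian (𝔛.X 0) := h𝔛.2.2 0
  haveI : IsLocallyNoetherian (𝔜.X 0) := h𝔜.2.2 0
  haveI : QuasiSeparatedSpace (𝔜.X 0) := inferInstance
  let g := (f : FSch.Hom 𝔛 𝔜).app 0
  haveI : QuasiCompact g := inferInstance
  obtain ⟨t, ht⟩ := isCompact_univ.elim_finite_subcover
    (fun W : (𝔜.X 0).affineOpens => (W.1 : Set (𝔜.X 0))) (fun W => W.1.2) fun y _ => by
      obtain ⟨W, hW, hyW, -⟩ := exists_isAffineOpen_mem_and_subset (X := 𝔜.X 0) (x := y) (U := ⊤) trivial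
      exact Set.mem_iUnion.2 ⟨⟨W, hW⟩, hyW⟩
  have hcover : ∀ y, ∃ W ∈ t, y ∈ W.1 := fun y => by
    obtain ⟨W, hW, hy⟩ := Set.mem_iUnion₂.1 (ht (Set.mem_univ y))
    exact ⟨W, hW, hy⟩
  have hs : ∀ W : (𝔜.X 0).affineOpens, ∃ s : Finset (𝔛.X 0).affineOpens,
      (∀ U ∈ s, U.1 ≤ g ⁻¹ᵁ W.1) ∧ g ⁻¹ᵁ W.1 = s.sup fun U => U.1 := fun W => by
    have hc : IsCompact ((g ⁻¹ᵁ W.1 : (𝔛.X 0).Opens) : Set (𝔛.X 0)) :=
      g.isCompact_preimage W.2.isCompact
    obtain ⟨s, hs, he⟩ := isCompact_and_isOpen_iff_finite_and_eq_biUnion_affineOpens.mp ⟨hc, (g ⁻¹ᵁ W.1).2⟩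
    have hle : ∀ U ∈ hs.toFinset, U.1 ≤ g ⁻¹ᵁ W.1 := fun U hU z hz => by
      show z ∈ ((g ⁻¹ᵁ W.1 : (𝔛.X 0).Opens) : Set (𝔛.X 0))
      rw [he]
      exact Set.mem_biUnion (hs.mem_toFinset.1 hU) hz
    refine ⟨hs.toFinset, hle, le_antisymm (fun z hz => ?_) (Finset.sup_le hle)⟩
    have hz' : z ∈ ((g ⁻¹ᵁ W.1 : (𝔛.X 0).Opens) : Set (𝔛.X 0)) := hz
    rw [he] at hz'
    obtain ⟨U, hU, hzU⟩ := Set.mem_iUnion₂.1 hz'
    exact Finset.le_sup (f := fun U : (𝔛.X 0).affineOpens => U.1) (hs.mem_toFinset.2 hU) hzU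
  choose s hle heq using hs
  refine ⟨t.sup fun W => (s W).card, t, hcover, fun M hM V hV k hk => ?_⟩
  obtain ⟨hVaff, W, hWt, hVW⟩ := hV
  refine subsingleton_of_cover _ (fun U => IsAffineOpen (U : (𝔛.X 0).Opens) ∧ U ≤ g ⁻¹ᵁ W.1) (fun U U' hU hU' =>
      ⟨(isAffineOpen_inter f hf W.2 hU.1 hU.2).2 U' hU'.1 hU'.2, inf_le_left.trans hU.2⟩)
    (fun U hU q => hM U hU.1 q) (s W) (fun U => U.1 ⊓ g ⁻¹ᵁ V) (fun U hU =>
      ⟨(isAffineOpen_inter f hf W.2 U.2 (hle W U hU)).1 V hVaff hVW, inf_le_left.trans (hle W U hU)⟩)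
    _ ?_ ⟨isAffineOpen_bot _, bot_le⟩ k (lt_of_le_of_lt (Finset.le_sup (f := fun W => (s W).card) hWt) hk)
  refine le_antisymm (fun z hz => ?_) (Finset.sup_le fun U _ => inf_le_right)
  have hzW : z ∈ g ⁻¹ᵁ W.1 := hVW hz
  rw [heq W, Finset.sup_eq_iSup] at hzW
  obtain ⟨U, hzU⟩ := Opens.mem_iSup.1 hzW
  obtain ⟨hU, hzU⟩ := Opens.mem_iSup.1 hzU
  exact Finset.le_sup (f := fun U : (𝔛.X 0).affineOpens => U.1 ⊓ g ⁻¹ᵁ V) hU ⟨hzU, hz⟩

/-- Higher direct images vanish when the cohomology of preimages of a basis does. -/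
theorem isZero_rpushF [HasInjectiveResolutions (FSch.ModF 𝔛 h𝔛.1)] (M : FSch.ModF 𝔛 h𝔛.1)
    (B : Set (Opens (𝔜.X 0))) (hB : Opens.IsBasis B) (p : ℕ)
    (h : ∀ V ∈ B, Subsingleton (Ext.{u} (Zs.obj (((f : FSch.Hom 𝔛 𝔜).app 0) ⁻¹ᵁ V : (𝔛.X 0).Opens))
      ((RpushAbNat.ab h𝔛.1).obj M) p)) :
    IsZero ((FSch.RpushF f h𝔛.1 h𝔜.1 p).obj M) := by
  obtain ⟨e⟩ := RpushLim.nonempty_iso h𝔛.1 h𝔜.1 f p
  obtain ⟨G, hG⟩ : ∃ G : CohTop.Ab (𝔜.X 0).carrier, IsZero G := HasZeroObject.zero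
  haveI := RpushLimit.isIso_of_bijective_basis (P := (RpushLim.PF h𝔛.1 f p).obj M) (G := G) 0 B hB fun V hV => by
    haveI : Subsingleton (((RpushLim.PF h𝔛.1 f p).obj M).obj (op V)) := h V hV
    haveI : Subsingleton (G.obj.obj (op V)) := AddCommGrpCat.subsingleton_of_isZero
      (Functor.map_isZero ((evaluation _ AddCommGrpCat.{u}).obj (op V)) ((sheafToPresheaf _ _).map_isZero hG))
    exact ⟨fun a b _ => Subsingleton.elim a b, fun b => ⟨0, Subsingleton.elim _ b⟩⟩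
  have h0 : IsZero ((RpushAbNat.ab h𝔜.1).obj ((FSch.RpushF f h𝔛.1 h𝔜.1 p).obj M)) :=
    (hG.of_iso (asIso (0 : (presheafToSheaf _ AddCommGrpCat.{u}).obj ((RpushLim.PF h𝔛.1 f p).obj M) ⟶ G))).of_iso
      (e.app M)
  rw [IsZero.iff_id_eq_zero]
  exact (RpushAbNat.ab h𝔜.1).map_injective (h0.eq_of_src _ _)

end Groth.Agent.H30.RpushBound
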