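import Groth.Agent.Lib.ModSS29.DeltaPre
import Groth.Agent.Lib.ModSS29.DerivedNat
import Groth.Agent.H30.FSch.AcycPush
import Groth.Agent.H30.FSch.LevelPull
import Groth.Agent.Lib.ZarCoh.Push
import Groth.Agent.H30.TopCoh
import Groth.Prelude.Def_FSch6
import Groth.Prelude.Def_Coh
import Groth.Agent.Lib.BigEt.Derived

/-!
# Higher direct images of modules of a level (helper30)
-/

set_option autoImplicit false
set_option linter.style.haveILetI false
set_option linter.unusedSectionVars false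

universe u

open CategoryTheory CategoryTheory.Limits AlgebraicGeometry TopologicalSpace Opposite CategoryTheory.Abelian
open Groth.Agent.H30 Groth.Agent.Lib
open Groth.Agent.Lib.ZarCoh.Basic (Zs)

namespace Groth.Agent.H30.RpushLevelNat

section Level

variable {𝔛 : FSch.Sys.{u}} (h : 𝔛.IsFormal) (k : ℕ)

theorem isClosedEmbedding_gInv : Topology.IsClosedEmbedding (𝔛.gInv h k) :=
  (𝔛.levelHomeo h k).symm.isClosedEmbedding

theorem epi_push {M N : _root_.ModSite.Mod (𝔛.X k).sheaf} (φ : M ⟶ N) [Epi φ] : Epi ((FSch.levelMor 𝔛 h k).push.map φ) := by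
  apply (SheafOfModules.toSheaf _).epi_of_epi_map
  haveI : Epi ((SheafOfModules.toSheaf (_root_.ModSite.ringSh (𝔛.X k).sheaf)).map φ) := inferInstance
  exact TopCoh.epi_push_of_isClosedEmbedding (isClosedEmbedding_gInv h k)
    ((SheafOfModules.toSheaf (_root_.ModSite.ringSh (𝔛.X k).sheaf)).map φ)

theorem preservesFiniteLimits_push : PreservesFiniteLimits (FSch.levelMor 𝔛 h k).push := by
  haveI : PreservesLimitsOfSize.{0, 0} (FSch.levelMor 𝔛 h k).push :=
    (FSch.levelMor 𝔛 h k).adj.rightAdjoint_preservesLimits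
  exact PreservesLimitsOfSize.preservesFiniteLimits _

theorem preservesHomology_push : (FSch.levelMor 𝔛 h k).push.PreservesHomology := by
  haveI := preservesFiniteLimits_push h k
  haveI : (FSch.levelMor 𝔛 h k).push.PreservesEpimorphisms := ⟨fun φ _ => epi_push h k φ⟩
  exact Functor.preservesHomology_of_preservesEpis_and_kernels _

theorem preservesFiniteColimits_push : PreservesFiniteColimits (FSch.levelMor 𝔛 h k).push := by
  haveI := preservesHomology_push h k
  exact (FSch.levelMor 𝔛 h k).push.preservesFiniteColimits_of_preservesHomology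

/-- Injective modules of a level are acyclic on every open. -/
theorem acy_injective (W : Set (Opens (𝔛.X 0))) (I : _root_.ModSite.Mod (𝔛.X k).sheaf) [Injective I] :
    AcycPush.Acy W ((FSch.levelMor 𝔛 h k).push.obj I) := fun V _ q => by
  haveI : Subsingleton (Ext.{u} (Zs.obj ((Opens.map (𝔛.gInv h k)).obj V)) (_root_.ModSite.toAb I) (q + 1)) :=
    SiteCoh.FreeSheaf.subsingleton_hu_of_isTotallyAcyclic (ModSS29.TA.ta_injective (𝔛.X k).sheaf I) _ q
  exact (ZarCoh.Push.pushMap_bijective (V := V) (Opens.isBasis_iff_nbhd.2 fun {U x} hx => ⟨U, trivial, hx, le_rfl⟩)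
    (_root_.ModSite.toAb I) (fun W _ p => SiteCoh.FreeSheaf.subsingleton_hu_of_isTotallyAcyclic
      (ModSS29.TA.ta_injective (𝔛.X k).sheaf I) _ p) (q + 1)).1.subsingleton

end Level

variable {𝔛 𝔜 : FSch.Sys.{u}} (f : 𝔛 ⟶ 𝔜) (h𝔛 : 𝔛.IsFormal) (h𝔜 : 𝔜.IsFormal)
  [HasInjectiveResolutions (FSch.ModF 𝔛 h𝔛)] (q k : ℕ)

/-- The direct image of a level on modules on the level. -/
noncomputable abbrev pushLev {𝔛 : FSch.Sys.{u}} (h : 𝔛.IsFormal) (k : ℕ) :
    (𝔛.X k).Modules ⥤ FSch.ModF 𝔛 h := (FSch.levelMor 𝔛 h k).push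

instance pushLev_preservesFiniteLimits {𝔛 : FSch.Sys.{u}} (h : 𝔛.IsFormal) (k : ℕ) :
    PreservesFiniteLimits (pushLev h k) := preservesFiniteLimits_push h k

instance pushLev_preservesFiniteColimits {𝔛 : FSch.Sys.{u}} (h : 𝔛.IsFormal) (k : ℕ) :
    PreservesFiniteColimits (pushLev h k) := preservesFiniteColimits_push h k

instance pushLev_additive {𝔛 : FSch.Sys.{u}} (h : 𝔛.IsFormal) (k : ℕ) : (pushLev h k).Additive :=
  Functor.additive_of_preserves_binary_products _

instance pushLev_preservesHomology {𝔛 : FSch.Sys.{u}} (h : 𝔛.IsFormal) (k : ℕ) :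
    (pushLev h k).PreservesHomology := preservesHomology_push h k

/-- `R^q f_*` on modules of a level is the direct image of `R^q (f k)_*`, naturally. -/
theorem nonempty_iso : Nonempty (pushLev h𝔛 k ⋙ FSch.RpushF f h𝔛 h𝔜 q ≅
    Coh.Rpush ((f : FSch.Hom 𝔛 𝔜).app k) q ⋙ pushLev h𝔜 k) := by
  haveI : PreservesFiniteLimits (FSch.pushF f h𝔛 h𝔜) := by
    haveI : PreservesLimitsOfSize.{0, 0} (FSch.homMor f h𝔛 h𝔜).push :=
      (FSch.homMor f h𝔛 h𝔜).adj.rightAdjoint_preservesLimits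
    exact PreservesLimitsOfSize.preservesFiniteLimits _
  haveI : EnoughInjectives (FSch.ModF 𝔛 h𝔛) := inferInstance
  haveI : EnoughInjectives (𝔛.X k).Modules := inferInstance
  obtain ⟨e₁⟩ := ModSS29.DeltaPre.nonempty_rightDerived_preIso (pushLev h𝔛 k)
    (FSch.pushF f h𝔛 h𝔜)
    (fun I hI n => AcycPush.isZero (FSch.homMor f h𝔛 h𝔜) Set.univ
      (Opens.isBasis_iff_nbhd.2 fun {U x} hx => ⟨U, trivial, hx, le_rfl⟩) _
      (@acy_injective _ h𝔛 k _ I hI) n) q
  let e₀ : (pushLev h𝔛 k) ⋙ FSch.pushF f h𝔛 h𝔜 ≅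
      Scheme.Modules.pushforward ((f : FSch.Hom 𝔛 𝔜).app k) ⋙ (pushLev h𝔜 k) :=
    FSch.lvPushSq f h𝔛 h𝔜 k
  exact ⟨e₁.symm ≪≫ Groth.Agent.Lib.BigEt.Derived.natIsoIso e₀ q ≪≫
    ModSS29.DerivedNat.postIso (Scheme.Modules.pushforward ((f : FSch.Hom 𝔛 𝔜).app k))
      (pushLev h𝔜 k) q⟩

end Groth.Agent.H30.RpushLevelNat
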