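import Groth.Agent.H30.FSch.RpushLim

/-!
# Higher direct images of a coherent module are the limits of those of its levels (helper30)
-/

set_option autoImplicit false
set_option linter.style.haveILetI false
set_option linter.unusedSectionVars false

universe u

open CategoryTheory CategoryTheory.Limits AlgebraicGeometry TopologicalSpace Opposite CategoryTheory.Abelian
open Groth.Agent.H30 Groth.Agent.Lib
open Groth.Agent.Lib.ZarCoh.Basic (Zs)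

namespace Groth.Agent.H30.RpushLimit

section Gen

variable {S : TopCat.{u}}

/-- A map out of a presheaf which is bijective on a basis induces an isomorphism from the sheafification. -/
theorem isIso_of_bijective_basis {P : (Opens S)ᵒᵖ ⥤ AddCommGrpCat.{u}} {G : CohTop.Ab S}
    (g : (presheafToSheaf (Opens.grothendieckTopology S) AddCommGrpCat.{u}).obj P ⟶ G)
    (B : Set (Opens S)) (hB : Opens.IsBasis B)
    (h : ∀ V ∈ B, Function.Bijective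
      ((toSheafify (Opens.grothendieckTopology S) P ≫ g.hom).app (op V)).hom) : IsIso g := by
  let J := Opens.grothendieckTopology S
  have hψi : Presheaf.IsLocallyInjective J (toSheafify J P ≫ g.hom) := ⟨fun {X} a b hab x hx => by
    obtain ⟨V, hV, hxV, hVX⟩ := Opens.isBasis_iff_nbhd.1 hB hx
    refine ⟨V, homOfLE hVX, (h V hV).1 ?_, hxV⟩
    exact (((toSheafify J P ≫ g.hom).naturality_apply (homOfLE hVX).op a).trans (congrArg _ hab)).trans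
      ((toSheafify J P ≫ g.hom).naturality_apply (homOfLE hVX).op b).symm⟩
  have hψs : Presheaf.IsLocallySurjective J (toSheafify J P ≫ g.hom) :=
    (TopCat.Presheaf.isLocallySurjective_iff _).2 fun U t x hx => by
      obtain ⟨V, hV, hxV, hVX⟩ := Opens.isBasis_iff_nbhd.1 hB hx
      exact ⟨V, hVX, (h V hV).2 _, hxV⟩
  haveI : Presheaf.IsLocallySurjective J g.hom :=
    Presheaf.isLocallySurjective_of_isLocallySurjective J (toSheafify J P) g.hom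
  haveI : Presheaf.IsLocallyInjective J g.hom :=
    Presheaf.isLocallyInjective_of_isLocallyInjective_of_isLocallySurjective J (toSheafify J P) g.hom
  haveI : Sheaf.IsLocallyInjective g := ‹_›
  haveI : Sheaf.IsLocallySurjective g := ‹_›
  haveI : Mono g := Sheaf.mono_of_isLocallyInjective g
  haveI : Epi g := Sheaf.epi_of_isLocallySurjective g
  exact isIso_of_mono_of_epi g

theorem νG_eq {A : Type (u + 1)} [Category.{u} A] (P : A ⥤ (Opens S)ᵒᵖ ⥤ AddCommGrpCat.{u}) (R : A ⥤ CohTop.Ab S)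
    (e : R ≅ P ⋙ presheafToSheaf (Opens.grothendieckTopology S) AddCommGrpCat.{u}) (M : A)
    {G : CohTop.Ab S} (g : R.obj M ⟶ G) :
    RpushLim.νG P R e M ≫ g.hom =
      toSheafify (Opens.grothendieckTopology S) (P.obj M) ≫ (e.inv.app M ≫ g).hom := by
  refine (Category.assoc _ _ _).trans (congrArg (_ ≫ ·) ?_)
  exact ((sheafToPresheaf _ _).map_comp _ _).symm

theorem isIso_of_νG {A : Type (u + 1)} [Category.{u} A] (P : A ⥤ (Opens S)ᵒᵖ ⥤ AddCommGrpCat.{u})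
    (R : A ⥤ CohTop.Ab S) (e : R ≅ P ⋙ presheafToSheaf (Opens.grothendieckTopology S) AddCommGrpCat.{u}) (M : A)
    {G : CohTop.Ab S} (g : R.obj M ⟶ G) (B : Set (Opens S)) (hB : Opens.IsBasis B)
    (h : ∀ V ∈ B, Function.Bijective ((RpushLim.νG P R e M ≫ g.hom).app (op V)).hom) : IsIso g := by
  haveI : IsIso (e.inv.app M ≫ g) := isIso_of_bijective_basis _ B hB fun V hV => by
    rw [← νG_eq P R e M g]
    exact h V hV
  exact IsIso.of_isIso_comp_left (e.inv.app M) g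

/-- Sections of a limit sheaf of modules are the compatible families. -/
theorem existsUnique_section {A : Type (u + 1)} [Category.{u} A] (Φ : A ⥤ AddCommGrpCat.{u})
    (T : ℕᵒᵖ ⥤ A) [HasLimit T] [PreservesLimit T (Φ ⋙ forget AddCommGrpCat.{u})]
    (s : ∀ n, (Φ.obj (T.obj (op n))))
    (hs : ∀ n, (Φ.map (T.map (homOfLE (Nat.le_succ n)).op)).hom (s (n + 1)) = s n) :
    ∃! x : Φ.obj (limit T), ∀ n, (Φ.map (limit.π T (op n))).hom x = s n := by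
  have hmem : (fun n : ℕᵒᵖ => (s n.unop : (T ⋙ Φ ⋙ forget AddCommGrpCat.{u}).obj n)) ∈
      (T ⋙ Φ ⋙ forget AddCommGrpCat.{u}).sections := by
    intro a b g
    obtain ⟨a⟩ := a; obtain ⟨b⟩ := b
    have hle : b ≤ a := leOfHom g.unop
    rw [show g = (homOfLE hle).op from Subsingleton.elim _ _]
    clear g
    induction a, hle using Nat.le_induction with
    | base =>
      show (Φ.map (T.map (𝟙 _))).hom (s b) = s b
      rw [T.map_id, Φ.map_id]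
      rfl
    | succ a hba ih =>
      show (Φ.map (T.map (homOfLE (hba.trans (Nat.le_succ a))).op)).hom (s (a + 1)) = s b
      rw [show (homOfLE (hba.trans (Nat.le_succ a))).op = (homOfLE (Nat.le_succ a)).op ≫ (homOfLE hba).op from rfl,
        T.map_comp, Φ.map_comp]
      exact (congrArg _ (hs a)).trans ih
  obtain ⟨x, hx, hu⟩ := (Types.isLimit_iff _).1
    ⟨isLimitOfPreserves (Φ ⋙ forget AddCommGrpCat.{u}) (limit.isLimit T)⟩ _ hmem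
  exact ⟨x, fun n => hx (op n), fun y hy => hu y fun n => hy n.unop⟩

theorem bijective_of_levels {C : Type (u + 1)} [Category.{u} C] [Abelian C] [HasExt.{u} C] [HasProductsOfShape ℕ C]
    {D : Type (u + 1)} [Category.{u} D] (P : C) (G : ℕᵒᵖ ⥤ C) [HasLimit G] (A₀ : C) (α : A₀ ≅ limit G)
    (j : ∀ k, A₀ ⟶ G.obj (op k)) (hj : ∀ k, α.hom ≫ limit.π G (op k) = j k)
    (T : ℕᵒᵖ ⥤ D) [HasLimit T] (X₀ : D) (w : X₀ ⟶ limit T) (Φ : D ⥤ AddCommGrpCat.{u})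
    [PreservesLimit T (Φ ⋙ forget AddCommGrpCat.{u})] (q : ℕ) (s₀ : Ext P A₀ q → Φ.obj X₀)
    (s : ∀ k, Ext P (G.obj (op k)) q → Φ.obj (T.obj (op k))) (hs : ∀ k, Function.Bijective (s k))
    (hstep : ∀ k x, s k (x.comp (Ext.mk₀ (G.map (homOfLE (Nat.le_succ k)).op)) (add_zero q)) =
      (Φ.map (T.map (homOfLE (Nat.le_succ k)).op)).hom (s (k + 1) x))
    (h0 : ∀ k x, (Φ.map (w ≫ limit.π T (op k))).hom (s₀ x) = s k (x.comp (Ext.mk₀ (j k)) (add_zero q)))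
    (hb : Function.Bijective (HTower.Gen.toFam P G q)) :
    Function.Bijective fun x => (Φ.map w).hom (s₀ x) := by
  let eα := HTower.Gen.isoEquiv P α q
  have hcomp : ∀ x k, s k ((HTower.Gen.toFam P G q (eα x)).1 k) =
      (Φ.map (limit.π T (op k))).hom ((Φ.map w).hom (s₀ x)) := fun x k => by
    refine (congrArg (s k) ((HTower.Gen.map_comp P _ _ q x).trans
      (congrArg (fun φ => x.comp (Ext.mk₀ φ) (add_zero q)) (hj k)))).trans ((h0 k x).symm.trans ?_)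
    rw [Functor.map_comp]
    rfl
  constructor
  · intro x y hxy
    refine eα.injective (hb.1 (Subtype.ext (funext fun k => (hs k).1 ?_)))
    exact (hcomp x k).trans ((congrArg (Φ.map (limit.π T (op k))).hom hxy).trans (hcomp y k).symm)
  · intro t
    choose y hy using fun k => (hs k).2 ((Φ.map (limit.π T (op k))).hom t)
    have hmem : y ∈ HTower.Gen.fam P G q := fun k => (hs k).1 (by
      refine (hstep k (y (k + 1))).trans ?_
      rw [hy (k + 1), hy k, ← ConcreteCategory.comp_apply, ← Functor.map_comp, limit.w])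
    obtain ⟨z, hz⟩ := hb.2 ⟨y, hmem⟩
    refine ⟨eα.symm z, ?_⟩
    obtain ⟨w', _, hw⟩ := existsUnique_section Φ T (fun k => (Φ.map (limit.π T (op k))).hom t) fun k => by
      rw [← ConcreteCategory.comp_apply, ← Functor.map_comp, limit.w]
    refine (hw _ fun k => ?_).trans (hw t fun k => rfl).symm
    refine (hcomp (eα.symm z) k).symm.trans ?_
    rw [AddEquiv.apply_symm_apply]
    exact (congrArg (fun p => s k (p.1 k)) hz).trans (hy k)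

end Gen

variable {𝔛 𝔜 : FSch.Sys.{u}} (h𝔛 : 𝔛.IsLocNoethFormal) (h𝔜 : 𝔜.IsLocNoethFormal) (f : 𝔛 ⟶ 𝔜)
  [HasInjectiveResolutions (FSch.ModF 𝔛 h𝔛.1)] (F : FSch.ModF 𝔛 h𝔛.1) (q : ℕ)

/-- The level of a module, on the formal scheme. -/
noncomputable abbrev L (k : ℕ) : FSch.ModF 𝔛 h𝔛.1 :=
  (FSch.levelMor 𝔛 h𝔛.1 k).push.obj ((FSch.levelMor 𝔛 h𝔛.1 k).pull.obj F)

/-- The system of the higher direct images of the levels. -/
noncomputable abbrev T : ℕᵒᵖ ⥤ FSch.ModF 𝔜 h𝔜.1 :=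
  Functor.ofOpSequence (X := fun k => (FSch.RpushF f h𝔛.1 h𝔜.1 q).obj (L h𝔛 F k))
    (fun k => (FSch.RpushF f h𝔛.1 h𝔜.1 q).map (FSch.levelTrans 𝔛 h𝔛.1 F k))

/-- The cone given by the units. -/
noncomputable def cone : Cone (T h𝔛 h𝔜 f F q) :=
  Cone.mk ((FSch.RpushF f h𝔛.1 h𝔜.1 q).obj F) (NatTrans.ofOpSequence
    (fun k => (FSch.RpushF f h𝔛.1 h𝔜.1 q).map ((FSch.levelMor 𝔛 h𝔛.1 k).adj.unit.app F)) fun k =>
      (Category.id_comp _).trans (((congrArg (FSch.RpushF f h𝔛.1 h𝔜.1 q).map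
        (FSch.unit_levelTrans 𝔛 h𝔛.1 F k)).symm.trans ((FSch.RpushF f h𝔛.1 h𝔜.1 q).map_comp _ _)).trans
        (congrArg (_ ≫ ·) (Functor.ofOpSequence_map_homOfLE_succ
          (X := fun k => (FSch.RpushF f h𝔛.1 h𝔜.1 q).obj (L h𝔛 F k))
          (fun k => (FSch.RpushF f h𝔛.1 h𝔜.1 q).map (FSch.levelTrans 𝔛 h𝔛.1 F k)) k).symm)))

/-- The comparison. -/
noncomputable def u_ : (FSch.RpushF f h𝔛.1 h𝔜.1 q).obj F ⟶ limit (T h𝔛 h𝔜 f F q) :=
  limit.lift _ (cone h𝔛 h𝔜 f F q)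

theorem u_π (k : ℕ) : u_ h𝔛 h𝔜 f F q ≫ limit.π (T h𝔛 h𝔜 f F q) (op k) =
    (FSch.RpushF f h𝔛.1 h𝔜.1 q).map ((FSch.levelMor 𝔛 h𝔛.1 k).adj.unit.app F) :=
  limit.lift_π (cone h𝔛 h𝔜 f F q) (op k)

/-- The underlying sheaf of a coherent module is the limit of those of its levels, compatibly with the units. -/
theorem exists_α (hF : FSch.IsCohF 𝔛 h𝔛.1 F) :
    ∃ α : (RpushAbNat.ab h𝔛.1).obj F ≅ limit (GrLevel.G h𝔛 (CohF.sys F)),
      ∀ k, α.hom ≫ limit.π (GrLevel.G h𝔛 (CohF.sys F)) (op k) =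
        (RpushAbNat.ab h𝔛.1).map ((FSch.levelMor 𝔛 h𝔛.1 k).adj.unit.app F) := by
  haveI := CohF.isIso_θ h𝔛 F hF
  haveI hps : PreservesLimitsOfShape ℕᵒᵖ (SheafOfModules.toSheaf.{u} (ModSite.ringSh (𝔛.Osh h𝔛.1))) :=
    (preservesSmallestLimits_of_preservesLimits
      (SheafOfModules.toSheaf.{u} (ModSite.ringSh (𝔛.Osh h𝔛.1)))).preservesLimitsOfShape
  haveI : PreservesLimit (FSch.levelSysOf 𝔛 h𝔛.1 (CohF.sys F).F (CohF.sys F).toPush)
      (SheafOfModules.toSheaf.{u} (ModSite.ringSh (𝔛.Osh h𝔛.1))) :=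
    @PreservesLimitsOfShape.preservesLimit _ _ _ _ _ _ _ hps _
  refine ⟨(SheafOfModules.toSheaf _).mapIso (asIso (CohF.θ F)) ≪≫
    preservesLimitIso (SheafOfModules.toSheaf.{u} (ModSite.ringSh (𝔛.Osh h𝔛.1)))
      (FSch.levelSysOf 𝔛 h𝔛.1 (CohF.sys F).F (CohF.sys F).toPush), fun k => ?_⟩
  refine (Category.assoc _ _ _).trans ?_
  refine (congrArg (_ ≫ ·) (preservesLimitIso_hom_π _ _ _)).trans ?_
  refine ((SheafOfModules.toSheaf _).map_comp _ _).symm.trans (congrArg _ ?_)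
  exact limit.lift_π (CohF.cone F) (op k)

/-- Sections over an open, of the underlying abelian sheaf. -/
noncomputable abbrev secF (V : (𝔜.X 0).Opens) : FSch.ModF 𝔜 h𝔜.1 ⥤ AddCommGrpCat.{u} :=
  RpushAbNat.ab h𝔜.1 ⋙ sheafToPresheaf _ _ ⋙ (evaluation _ AddCommGrpCat.{u}).obj (op V)

variable (hf : FSch.IsProperHom f) (hF : FSch.IsCohF 𝔛 h𝔛.1 F)
  (e : FSch.RpushF f h𝔛.1 h𝔜.1 q ⋙ RpushAbNat.ab h𝔜.1 ≅
    RpushLim.PF h𝔛.1 f q ⋙ presheafToSheaf (Opens.grothendieckTopology (𝔜.X 0)) AddCommGrpCat.{u})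

/-- A class over the preimage, as a section of the higher direct image. -/
noncomputable abbrev sec (M : FSch.ModF 𝔛 h𝔛.1) (V : (𝔜.X 0).Opens)
    (x : Ext.{u} (Zs.obj ((f : FSch.Hom 𝔛 𝔜).app 0 ⁻¹ᵁ V : (𝔛.X 0).Opens)) ((RpushAbNat.ab h𝔛.1).obj M) q) :
    (secF h𝔜 V).obj ((FSch.RpushF f h𝔛.1 h𝔜.1 q).obj M) :=
  RpushLim.σ h𝔛.1 h𝔜.1 f q e M V x

theorem sec_map {M N : FSch.ModF 𝔛 h𝔛.1} (φ : M ⟶ N) (V : (𝔜.X 0).Opens)
    (x : Ext.{u} (Zs.obj ((f : FSch.Hom 𝔛 𝔜).app 0 ⁻¹ᵁ V : (𝔛.X 0).Opens)) ((RpushAbNat.ab h𝔛.1).obj M) q) :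
    sec h𝔛 h𝔜 f q e N V (x.comp (Ext.mk₀ ((RpushAbNat.ab h𝔛.1).map φ)) (add_zero q)) =
      ((secF h𝔜 V).map ((FSch.RpushF f h𝔛.1 h𝔜.1 q).map φ)).hom (sec h𝔛 h𝔜 f q e M V x) :=
  RpushLim.σ_map h𝔛.1 h𝔜.1 f q e φ V x

include hf hF in
theorem sec_bijective (k : ℕ) {V : (𝔜.X 0).Opens} (hV : IsAffineOpen V) :
    Function.Bijective (sec h𝔛 h𝔜 f q e (L h𝔛 F k) V) := by
  haveI : IsProper ((f : FSch.Hom 𝔛 𝔜).app 0) := hf.2
  haveI : IsProper ((f : FSch.Hom 𝔛 𝔜).app k) := SysLemmas.app_isProper hf.1 h𝔜 k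
  haveI : ((FSch.levelMor 𝔛 h𝔛.1 k).pull.obj F : (𝔛.X k).Modules).IsQuasicoherent :=
    ((CohF.isCoh_sys h𝔛 F hF) k).1
  exact RpushLim.σ_bijective h𝔛.1 h𝔜.1 f q e k _ hV

theorem T_map_succ (k : ℕ) : (T h𝔛 h𝔜 f F q).map (homOfLE (Nat.le_succ k)).op =
    (FSch.RpushF f h𝔛.1 h𝔜.1 q).map (FSch.levelTrans 𝔛 h𝔛.1 F k) :=
  Functor.ofOpSequence_map_homOfLE_succ
    (X := fun k => (FSch.RpushF f h𝔛.1 h𝔜.1 q).obj (L h𝔛 F k))
    (fun k => (FSch.RpushF f h𝔛.1 h𝔜.1 q).map (FSch.levelTrans 𝔛 h𝔛.1 F k)) k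

theorem sec_trans (k : ℕ) (V : (𝔜.X 0).Opens)
    (x : Ext.{u} (Zs.obj ((f : FSch.Hom 𝔛 𝔜).app 0 ⁻¹ᵁ V : (𝔛.X 0).Opens))
      ((GrLevel.G h𝔛 (CohF.sys F)).obj (op (k + 1))) q) :
    sec h𝔛 h𝔜 f q e (L h𝔛 F k) V
        (x.comp (Ext.mk₀ ((GrLevel.G h𝔛 (CohF.sys F)).map (homOfLE (Nat.le_succ k)).op)) (add_zero q)) =
      ((secF h𝔜 V).map ((T h𝔛 h𝔜 f F q).map (homOfLE (Nat.le_succ k)).op)).hom
        (sec h𝔛 h𝔜 f q e (L h𝔛 F (k + 1)) V x) := by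
  have h1 : (GrLevel.G h𝔛 (CohF.sys F)).map (homOfLE (Nat.le_succ k)).op =
      (RpushAbNat.ab h𝔛.1).map (FSch.levelTrans 𝔛 h𝔛.1 F k) :=
    congrArg (RpushAbNat.ab h𝔛.1).map (ProperML.levelTrans_eq h𝔛 F k).symm
  rw [T_map_succ]
  refine Eq.trans ?_ (sec_map h𝔛 h𝔜 f q e (FSch.levelTrans 𝔛 h𝔛.1 F k) V x)
  exact congrArg (fun φ => sec h𝔛 h𝔜 f q e (L h𝔛 F k) V (x.comp (Ext.mk₀ φ) (add_zero q))) h1

theorem sec_unit (k : ℕ) (V : (𝔜.X 0).Opens)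
    (x : Ext.{u} (Zs.obj ((f : FSch.Hom 𝔛 𝔜).app 0 ⁻¹ᵁ V : (𝔛.X 0).Opens)) ((RpushAbNat.ab h𝔛.1).obj F) q) :
    ((secF h𝔜 V).map (u_ h𝔛 h𝔜 f F q ≫ limit.π (T h𝔛 h𝔜 f F q) (op k))).hom (sec h𝔛 h𝔜 f q e F V x) =
      sec h𝔛 h𝔜 f q e (L h𝔛 F k) V
        (x.comp (Ext.mk₀ ((RpushAbNat.ab h𝔛.1).map ((FSch.levelMor 𝔛 h𝔛.1 k).adj.unit.app F))) (add_zero q)) := by
  rw [u_π]
  exact (sec_map h𝔛 h𝔜 f q e _ V x).symm

include hf hF in
theorem bijective_toLimit {V : (𝔜.X 0).Opens} (hV : IsAffineOpen V) :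
    Function.Bijective fun x => ((secF h𝔜 V).map (u_ h𝔛 h𝔜 f F q)).hom (sec h𝔛 h𝔜 f q e F V x) := by
  obtain ⟨α, hα⟩ := exists_α h𝔛 F hF
  haveI h1 : PreservesLimitsOfShape ℕᵒᵖ (RpushAbNat.ab h𝔜.1) :=
    (preservesSmallestLimits_of_preservesLimits
      (SheafOfModules.toSheaf.{u} (ModSite.ringSh (𝔜.Osh h𝔜.1)))).preservesLimitsOfShape
  haveI h2 : PreservesLimitsOfShape ℕᵒᵖ
      (sheafToPresheaf (Opens.grothendieckTopology (𝔜.X 0)) AddCommGrpCat.{u}) := inferInstance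
  haveI h3 : PreservesLimitsOfShape ℕᵒᵖ (secF h𝔜 V ⋙ forget AddCommGrpCat.{u}) := inferInstance
  haveI h4 : PreservesLimit (T h𝔛 h𝔜 f F q) (secF h𝔜 V ⋙ forget AddCommGrpCat.{u}) :=
    PreservesLimitsOfShape.preservesLimit
  exact bijective_of_levels _ (GrLevel.G h𝔛 (CohF.sys F)) _ α _ hα (T h𝔛 h𝔜 f F q) _ (u_ h𝔛 h𝔜 f F q) (secF h𝔜 V) q
    (sec h𝔛 h𝔜 f q e F V) (fun k => sec h𝔛 h𝔜 f q e (L h𝔛 F k) V)
    (fun k => sec_bijective h𝔛 h𝔜 f F q hf hF e k hV) (fun k => sec_trans h𝔛 h𝔜 f F q e k V)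
    (fun k => sec_unit h𝔛 h𝔜 f F q e k V)
    (BaseML.toFam_bijective h𝔛 h𝔜 f hf (CohF.sys F) (CohF.isCoh_sys h𝔛 F hF) hV q)

include hf hF in
theorem isIso_u : IsIso (u_ h𝔛 h𝔜 f F q) := by
  obtain ⟨e⟩ := RpushLim.nonempty_iso h𝔛.1 h𝔜.1 f q
  haveI : IsIso ((RpushAbNat.ab h𝔜.1).map (u_ h𝔛 h𝔜 f F q)) :=
    isIso_of_νG (RpushLim.PF h𝔛.1 f q) (FSch.RpushF f h𝔛.1 h𝔜.1 q ⋙ RpushAbNat.ab h𝔜.1) e F _
      {V | IsAffineOpen (V : (𝔜.X 0).Opens)} (Scheme.isBasis_affineOpens _)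
      fun V hV => bijective_toLimit h𝔛 h𝔜 f F q hf hF e hV
  haveI : Mono (u_ h𝔛 h𝔜 f F q) := (RpushAbNat.ab h𝔜.1).mono_of_mono_map inferInstance
  haveI : Epi (u_ h𝔛 h𝔜 f F q) := (RpushAbNat.ab h𝔜.1).epi_of_epi_map inferInstance
  exact isIso_of_mono_of_epi _

end Groth.Agent.H30.RpushLimit
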