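import Groth.Agent.H30.FSch.RpushAff
import Groth.Agent.H30.FSch.BcMap
import Groth.Agent.H30.FSch.RpushLimit
import Groth.Agent.H30.FSch.RpushLevelNat
import Groth.Agent.H30.FSch.RpushCoh

/-!
# Completion of higher direct images along a proper morphism (helper30)
-/

set_option autoImplicit false
set_option linter.style.haveILetI false
set_option linter.unusedSectionVars false

noncomputable section

universe u

open CategoryTheory CategoryTheory.Limits AlgebraicGeometry TopologicalSpace Opposite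
open Groth.Agent.H30 Groth.Agent.H30.RealLimSec Groth.Agent.Lib
open Groth.Agent.H78.Formal.Sections (sMap sIdeal)
open Groth.Agent.H78.Formal.Elem (cπ)

namespace Groth.Agent.H30.RpushCompl

section Push

variable {Y : Scheme.{u}} {𝔜 : FSch.Sys.{u}} (h : 𝔜.IsFormal)
  (r : ∀ k, 𝔜.X k ⟶ Y) (hr : ∀ k, 𝔜.ι k ≫ r (k + 1) = r k) [∀ k, IsClosedImmersion (r k)]

/-- The direct image to the scheme. -/
abbrev spush : FSch.ModF 𝔜 h ⥤ Y.Modules := (FSch.toSchemeMor 𝔜 h r hr).push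

instance spush_preservesFiniteLimits : PreservesFiniteLimits (spush h r hr) := by
  haveI : PreservesLimitsOfSize.{0, 0} (spush h r hr) := (FSch.toSchemeMor 𝔜 h r hr).adj.rightAdjoint_preservesLimits
  exact PreservesLimitsOfSize.preservesFiniteLimits _

instance spush_additive : (spush h r hr).Additive := Functor.additive_of_preserves_binary_products _

theorem preservesHomology_spush : (spush h r hr).PreservesHomology := by
  haveI : (spush h r hr).PreservesEpimorphisms := ⟨fun {M N} φ _ => by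
    apply (SheafOfModules.toSheaf _).epi_of_epi_map
    haveI : Epi ((SheafOfModules.toSheaf (_root_.ModSite.ringSh (𝔜.Osh h))).map φ) := inferInstance
    exact TopCoh.epi_push_of_isClosedEmbedding (r 0).isClosedEmbedding
      ((SheafOfModules.toSheaf (_root_.ModSite.ringSh (𝔜.Osh h))).map φ)⟩
  exact Functor.preservesHomology_of_preservesEpis_and_kernels _

theorem flasque_spush (I : FSch.ModF 𝔜 h) [Injective I] :
    TopCat.Sheaf.IsFlasque ((SheafOfModules.toSheaf Y.ringCatSheaf).obj ((spush h r hr).obj I)) := by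
  haveI hI := RlimTrunc.ModFlasque.isFlasque_toSheaf (X := (𝔜.X 0).carrier) I
  exact ⟨fun {U V} i => hI.epi (((Opens.map (r 0).base).map i.unop).op)⟩

end Push

section Acyclic

variable {X Y : Scheme.{u}} (f : X ⟶ Y) [HasInjectiveResolutions X.Modules]

theorem isZero_rpush_of_flasque (M : X.Modules)
    [TopCat.Sheaf.IsFlasque ((SheafOfModules.toSheaf X.ringCatSheaf).obj M)] (m : ℕ) :
    IsZero ((Coh.Rpush f (m + 1)).obj M) := by
  obtain ⟨e⟩ := RpushAff.nonempty_rpushAbIso f (m + 1)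
  have h := (TopCoh.isZero_rpush_of_flasque f.base ((SheafOfModules.toSheaf X.ringCatSheaf).obj M) m).of_iso
    ((ColimCoh.RpushPresheaf.rpushIso f.base (m + 1)).app _).symm
  have h2 := h.of_iso (e.app M)
  rw [IsZero.iff_id_eq_zero]
  exact (SheafOfModules.toSheaf Y.ringCatSheaf).map_injective (h2.eq_of_src _ _)

end Acyclic

variable {X Y : Scheme.{u}} {𝔛 𝔜 : FSch.Sys.{u}} (φ : 𝔛 ⟶ 𝔜)
  (h𝔛 : 𝔛.IsLocNoethFormal) (h𝔜 : 𝔜.IsLocNoethFormal) (f : X ⟶ Y)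
  (p : ∀ k, 𝔛.X k ⟶ X) (hp : ∀ k, 𝔛.ι k ≫ p (k + 1) = p k)
  (r : ∀ k, 𝔜.X k ⟶ Y) (hr : ∀ k, 𝔜.ι k ≫ r (k + 1) = r k)
  [∀ k, IsClosedImmersion (p k)] [∀ k, IsClosedImmersion (r k)]
  (hsq : ∀ k, p k ≫ f = (φ : FSch.Hom 𝔛 𝔜).app k ≫ r k)
  [HasInjectiveResolutions X.Modules] [HasInjectiveResolutions (FSch.ModF 𝔛 h𝔛.1)] (n : ℕ)

include hsq in
/-- Higher direct images commute with the direct images from the completions. -/
theorem nonempty_edgeIso :
    Nonempty (spush h𝔛.1 p hp ⋙ Coh.Rpush f n ≅ FSch.RpushF φ h𝔛.1 h𝔜.1 n ⋙ spush h𝔜.1 r hr) := by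
  haveI : PreservesLimitsOfSize.{0, 0} (FSch.homMor φ h𝔛.1 h𝔜.1).push :=
    (FSch.homMor φ h𝔛.1 h𝔜.1).adj.rightAdjoint_preservesLimits
  haveI : PreservesFiniteLimits (FSch.pushF φ h𝔛.1 h𝔜.1) := PreservesLimitsOfSize.preservesFiniteLimits _
  haveI : PreservesLimitsOfSize.{0, 0} (Scheme.Modules.pushforward f) :=
    (Scheme.Modules.pullbackPushforwardAdjunction f).rightAdjoint_preservesLimits
  haveI : PreservesFiniteLimits (Scheme.Modules.pushforward f) := PreservesLimitsOfSize.preservesFiniteLimits _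
  haveI : PreservesLimitsOfSize.{0, 0} (spush h𝔛.1 p hp) :=
    (FSch.toSchemeMor 𝔛 h𝔛.1 p hp).adj.rightAdjoint_preservesLimits
  haveI : PreservesFiniteLimits (spush h𝔛.1 p hp) := PreservesLimitsOfSize.preservesFiniteLimits _
  haveI : (spush h𝔛.1 p hp).Additive := Functor.additive_of_preserves_binary_products _
  haveI := preservesHomology_spush h𝔛.1 p hp
  haveI : PreservesFiniteColimits (spush h𝔛.1 p hp) :=
    (spush h𝔛.1 p hp).preservesFiniteColimits_of_preservesHomology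
  haveI : PreservesLimitsOfSize.{0, 0} (spush h𝔜.1 r hr) :=
    (FSch.toSchemeMor 𝔜 h𝔜.1 r hr).adj.rightAdjoint_preservesLimits
  haveI : PreservesFiniteLimits (spush h𝔜.1 r hr) := PreservesLimitsOfSize.preservesFiniteLimits _
  haveI : (spush h𝔜.1 r hr).Additive := Functor.additive_of_preserves_binary_products _
  haveI := preservesHomology_spush h𝔜.1 r hr
  haveI : EnoughInjectives (FSch.ModF 𝔛 h𝔛.1) := inferInstance
  haveI : EnoughInjectives X.Modules := inferInstance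
  obtain ⟨e₁⟩ := ModSS29.DeltaPre.nonempty_rightDerived_preIso (spush h𝔛.1 p hp)
    (Scheme.Modules.pushforward f)
    (fun I _ m =>
      haveI := flasque_spush h𝔛.1 p hp I
      isZero_rpush_of_flasque f ((spush h𝔛.1 p hp).obj I) m) n
  let e₀ : spush h𝔛.1 p hp ⋙ Scheme.Modules.pushforward f ≅ FSch.pushF φ h𝔛.1 h𝔜.1 ⋙ spush h𝔜.1 r hr :=
    FSch.schPushSq φ h𝔛.1 h𝔜.1 f p hp r hr hsq
  exact ⟨e₁.symm ≪≫ Groth.Agent.Lib.BigEt.Derived.natIsoIso e₀ n ≪≫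
    ModSS29.DerivedNat.postIso (FSch.pushF φ h𝔛.1 h𝔜.1) (spush h𝔜.1 r hr) n⟩

variable (F : X.Modules)

/-- The inverse image on the completion. -/
abbrev Fh : FSch.ModF 𝔛 h𝔛.1 := (FSch.toSchemeMor 𝔛 h𝔛.1 p hp).pull.obj F

/-- Its levels. -/
abbrev LT : ℕᵒᵖ ⥤ FSch.ModF 𝔛 h𝔛.1 :=
  Functor.ofOpSequence
    (X := fun k => (FSch.levelMor 𝔛 h𝔛.1 k).push.obj ((FSch.levelMor 𝔛 h𝔛.1 k).pull.obj (Fh h𝔛 p hp F)))
    (fun k => FSch.levelTrans 𝔛 h𝔛.1 (Fh h𝔛 p hp F) k)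

/-- The reductions, as modules on the scheme. -/
abbrev N (k : ℕ) : X.Modules := (spush h𝔛.1 p hp).obj ((LT h𝔛 p hp F).obj (op k))

/-- The reduction maps. -/
abbrev ν (k : ℕ) : F ⟶ N h𝔛 p hp F k :=
  (FSch.toSchemeMor 𝔛 h𝔛.1 p hp).adj.unit.app F ≫
    (spush h𝔛.1 p hp).map ((FSch.levelMor 𝔛 h𝔛.1 k).adj.unit.app (Fh h𝔛 p hp F))

theorem unit_LT {k l : ℕ} (hkl : k ≤ l) :
    (FSch.levelMor 𝔛 h𝔛.1 l).adj.unit.app (Fh h𝔛 p hp F) ≫ (LT h𝔛 p hp F).map (homOfLE hkl).op =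
      (FSch.levelMor 𝔛 h𝔛.1 k).adj.unit.app (Fh h𝔛 p hp F) := by
  induction l, hkl using Nat.le_induction with
  | base => exact (congrArg (_ ≫ ·) ((LT h𝔛 p hp F).map_id _)).trans (Category.comp_id _)
  | succ l hkl ih =>
    rw [show (homOfLE (hkl.trans (Nat.le_succ l))).op = (homOfLE (Nat.le_succ l)).op ≫ (homOfLE hkl).op from rfl]
    refine (congrArg (_ ≫ ·) ((LT h𝔛 p hp F).map_comp _ _)).trans ?_
    refine (Category.assoc _ _ _).symm.trans ?_
    refine Eq.trans (congrArg (· ≫ _) ?_) ih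
    refine (congrArg (_ ≫ ·) (Functor.ofOpSequence_map_homOfLE_succ (X := fun k => (FSch.levelMor 𝔛 h𝔛.1 k).push.obj ((FSch.levelMor 𝔛 h𝔛.1 k).pull.obj (Fh h𝔛 p hp F))) (fun k => FSch.levelTrans 𝔛 h𝔛.1 (Fh h𝔛 p hp F) k) l)).trans ?_
    exact FSch.unit_levelTrans 𝔛 h𝔛.1 (Fh h𝔛 p hp F) l

theorem ν_trans {k l : ℕ} (hkl : k ≤ l) :
    ν h𝔛 p hp F l ≫ (spush h𝔛.1 p hp).map ((LT h𝔛 p hp F).map (homOfLE hkl).op) = ν h𝔛 p hp F k := by
  refine (Category.assoc _ _ _).trans (congrArg (_ ≫ ·) ?_)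
  exact ((spush h𝔛.1 p hp).map_comp _ _).symm.trans (congrArg (spush h𝔛.1 p hp).map (unit_LT h𝔛 p hp F hkl))

variable [IsLocallyNoetherian X]

/-- The direct image from a level, through the completion. -/
def lvlPush (k : ℕ) (M : (𝔛.X k).Modules) :
    (Scheme.Modules.pushforward (p k)).obj M ⟶ (spush h𝔛.1 p hp).obj ((FSch.levelMor 𝔛 h𝔛.1 k).push.obj M) :=
  ⟨PresheafOfModules.homMk
    { app := fun U => M.presheaf.map (homOfLE (ComplSec.lvU_pre h𝔛.1 p hp k U.unop).le).op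
      naturality := fun U U' i => by
        refine ConcreteCategory.hom_ext _ _ fun m => ?_
        have e : 𝔛.lvU h𝔛.1 k (ComplSec.pre p U'.unop) ≤ p k ⁻¹ᵁ U.unop :=
          (ComplSec.lvU_pre h𝔛.1 p hp k U'.unop).le.trans ((p k).preimage_mono (leOfHom i.unop))
        exact (CohDelta.Units.map_map M.presheaf _ _ (homOfLE e).op m).trans
          (CohDelta.Units.map_map M.presheaf _ _ (homOfLE e).op m).symm }
    fun U a m => by
      refine (Scheme.Modules.map_smul _ _ _ _).trans ?_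
      refine congrArg (fun c : Γ(𝔛.X k, 𝔛.lvU h𝔛.1 k (ComplSec.pre p U.unop)) =>
        c • (show Γ(M, 𝔛.lvU h𝔛.1 k (ComplSec.pre p U.unop)) from _)) ?_
      refine Eq.trans ?_ (ComplPull.proj_shA h𝔛 p hp k U.unop a).symm
      show (𝔛.X k).presheaf.map _ ((p k).app U.unop a) = _
      rw [Scheme.Hom.app_eq_appLE]
      exact ConcreteCategory.congr_hom (Scheme.Hom.appLE_map (p k) le_rfl _) a⟩

theorem isIso_lvlPush (k : ℕ) (M : (𝔛.X k).Modules) : IsIso (lvlPush h𝔛 p hp k M) :=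
  Scheme.Modules.Hom.isIso_iff_isIso_app.2 fun U => (ConcreteCategory.isIso_iff_bijective _).2
    (CohSys.restrict_bijective M (ComplSec.lvU_pre h𝔛.1 p hp k U).le (ComplSec.lvU_pre h𝔛.1 p hp k U).ge)

variable (hF : Coh.IsCoh F)

include hF in
/-- The reductions are quasi-coherent, with kernels and images as expected. -/
theorem N_spec (k : ℕ) : (N h𝔛 p hp F k).IsQuasicoherent ∧
    ∀ (U : X.Opens) (hU : IsAffineOpen U), Function.Surjective ((ν h𝔛 p hp F k).app U) ∧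
      ∀ m : Γ(F, U), (ν h𝔛 p hp F k).app U m = 0 ↔
        m ∈ (p k).ker.ideal ⟨U, hU⟩ • (⊤ : Submodule Γ(X, U) Γ(F, U)) := by
  haveI := hF.1
  have hc := ComplMonoEpi.isCoh_pullSys p hp hF
  haveI := ComplPull.isIso_γ h𝔛 p hp F hF hc
  let PS := ComplSec.pullSys p hp F
  let g : (FSch.levelMor 𝔛 h𝔛.1 k).pull.obj (Fh h𝔛 p hp F) ⟶ PS.F k :=
    (FSch.levelMor 𝔛 h𝔛.1 k).pull.map (ComplPull.γ h𝔛 p hp F) ≫
      ((FSch.levelMor 𝔛 h𝔛.1 k).adj.homEquiv _ _).symm (FSch.realProj 𝔛 h𝔛.1 PS.F PS.toPush k)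
  haveI : IsIso (((FSch.levelMor 𝔛 h𝔛.1 k).adj.homEquiv _ _).symm (FSch.realProj 𝔛 h𝔛.1 PS.F PS.toPush k)) :=
    LevelAdj.isIso_adjunct (CohRed.isRed h𝔛 PS hc k)
  haveI : IsIso g := IsIso.comp_isIso' (Functor.map_isIso _ _) (LevelAdj.isIso_adjunct (CohRed.isRed h𝔛 PS hc k))
  let P : N h𝔛 p hp F k ⟶ (spush h𝔛.1 p hp).obj ((FSch.levelMor 𝔛 h𝔛.1 k).push.obj (PS.F k)) :=
    (spush h𝔛.1 p hp).map ((FSch.levelMor 𝔛 h𝔛.1 k).push.map g)
  haveI : IsIso P := @Functor.map_isIso _ _ _ _ _ _ _ _ (@Functor.map_isIso _ _ _ _ _ _ _ _ ‹IsIso g›)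
  haveI := isIso_lvlPush h𝔛 p hp k (PS.F k)
  have h1 : (FSch.levelMor 𝔛 h𝔛.1 k).adj.unit.app (Fh h𝔛 p hp F) ≫ (FSch.levelMor 𝔛 h𝔛.1 k).push.map g =
      ComplPull.γ h𝔛 p hp F ≫ FSch.realProj 𝔛 h𝔛.1 PS.F PS.toPush k := by
    refine ((FSch.levelMor 𝔛 h𝔛.1 k).adj.homEquiv_unit _ _ g).symm.trans ?_
    refine (Adjunction.homEquiv_naturality_left _ _ _).trans ?_
    exact congrArg (_ ≫ ·) (Equiv.apply_symm_apply _ _)
  have h2 : ν h𝔛 p hp F k ≫ P =
      ComplPull.τ h𝔛 p hp F ≫ (spush h𝔛.1 p hp).map (FSch.realProj 𝔛 h𝔛.1 PS.F PS.toPush k) := by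
    refine (Category.assoc _ _ _).trans ?_
    refine (congrArg (_ ≫ ·) (((spush h𝔛.1 p hp).map_comp _ _).symm.trans
      ((congrArg (spush h𝔛.1 p hp).map h1).trans ((spush h𝔛.1 p hp).map_comp _ _)))).trans ?_
    refine (Category.assoc _ _ _).symm.trans (congrArg (· ≫ _) ?_)
    exact ((FSch.toSchemeMor 𝔛 h𝔛.1 p hp).adj.homEquiv_unit _ _ _).symm.trans (ComplPull.homEquiv_γ h𝔛 p hp F)
  have hσ : ∀ (U : X.Opens) (m : Γ(F, U)),
      P.app U ((ν h𝔛 p hp F k).app U m) = ComplSec.σ h𝔛.1 p hp F k U m := fun U m =>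
    (congrArg (fun χ => χ.val.app (op U) m) h2).trans (ComplPull.π_ehat h𝔛 p hp F k U m)
  refine ⟨?_, fun U hU => ⟨fun y => ?_, fun m => ?_⟩⟩
  · haveI : (PS.F k).IsQuasicoherent := (hc k).1
    haveI : ((Scheme.Modules.pushforward (p k)).obj (PS.F k)).IsQuasicoherent :=
      QCoh.Pushforward.isQCoh_pushforward _
    exact ObjectProperty.prop_of_iso (SheafOfModules.isQuasicoherent (R := X.ringCatSheaf))
      ((@asIso _ _ _ _ (lvlPush h𝔛 p hp k (PS.F k)) (isIso_lvlPush h𝔛 p hp k (PS.F k))) ≪≫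
        (@asIso _ _ _ _ P ‹IsIso P›).symm) ‹_›
  · obtain ⟨m, hm⟩ := ComplSec.σ_surjective h𝔛.1 p hp F k hU (P.app U y)
    exact ⟨m, (H78.Formal.Sections.app_bijective P U).1 ((hσ U m).trans hm)⟩
  · rw [← ComplSec.σ_eq_zero_iff h𝔛.1 p hp F k hU, ← hσ]
    exact ⟨fun h => (congrArg (P.app U) h).trans (map_zero _),
      fun h => (H78.Formal.Sections.app_bijective P U).1 (h.trans (map_zero _).symm)⟩

end Groth.Agent.H30.RpushCompl
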