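import Groth.Agent.H30.FSch.RpushBound
import Groth.Agent.H30.FSch.CohSerre
import Groth.Agent.Lib.RlimTrunc.ModPush

/-!
# The derived direct image and cohomology sheaves in a weak Serre class (helper30)
-/

set_option autoImplicit false
set_option linter.style.haveILetI false
set_option linter.unusedSectionVars false

universe u

open CategoryTheory CategoryTheory.Limits AlgebraicGeometry TopologicalSpace Opposite CategoryTheory.Abelian
open Groth.Agent.H30 Groth.Agent.Lib Groth.Agent.Lib.RlimTrunc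
open Groth.Agent.Lib.ZarCoh.Basic (Zs)

attribute [local instance] DerivedOX.Exists.isLeftAdjoint_Qh HasDerivedCategory.standard

namespace Groth.Agent.H30.RpushDCoh

variable {𝔛 𝔜 : FSch.Sys.{u}} (h𝔛 : 𝔛.IsLocNoethFormal) (h𝔜 : 𝔜.IsLocNoethFormal)
  [CompactSpace (𝔛.X 0)] [CompactSpace (𝔜.X 0)] (f : 𝔛 ⟶ 𝔜) (hf : IsSeparated ((f : FSch.Hom 𝔛 𝔜).app 0))
  [HasInjectiveResolutions (FSch.ModF 𝔛 h𝔛.1)] [SiteCmp.HasRpushD (FSch.homMor f h𝔛.1 h𝔜.1)]

include hf in
/-- If the higher direct images map a class of modules acyclic on affines into another class, so does the derived direct image. -/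
theorem cohIn (P : ObjectProperty (FSch.ModF 𝔛 h𝔛.1)) [WSerre.IsWeakSerre P]
    (hP : ∀ M, P M → AcycPush.Acy {U | IsAffineOpen (U : (𝔛.X 0).Opens)} M)
    (P' : ObjectProperty (FSch.ModF 𝔜 h𝔜.1)) [WSerre.IsWeakSerre P']
    (h3 : ∀ M, P M → ∀ q : ℕ, P' ((FSch.RpushF f h𝔛.1 h𝔜.1 q).obj M))
    (X : DerivedCategory (FSch.ModF 𝔛 h𝔛.1)) (hX : ∀ i, P (SiteCmp.HMod X i)) (i : ℤ) :
    P' (SiteCmp.HMod ((SiteCmp.RpushD (FSch.homMor f h𝔛.1 h𝔜.1)).obj X) i) := by
  haveI : IsLocallyNoetherian (𝔛.X 0) := h𝔛.2.2 0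
  obtain ⟨N, t, ht, hN⟩ := RpushBound.exists_bound h𝔛 h𝔜 f hf
  have hB := RpushBound.isBasis_small t ht
  have hii := ModPush.isIso_homologyMap_rpushD (FSch.homMor f h𝔛.1 h𝔜.1) P
    (AffinePushD.cofinalGood {U | IsAffineOpen (U : (𝔛.X 0).Opens)} (Scheme.isBasis_affineOpens _) _ 0
      fun V hV M hM k hk => by
        obtain ⟨q, rfl⟩ : ∃ q, k = q + 1 := ⟨k - 1, by omega⟩
        exact hP M hM V hV q)
    (N : ℤ) (fun M hM p hp => RpushBound.isZero_rpushF h𝔛 h𝔜 f M _ hB p fun V hV =>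
      hN M (hP M hM) V hV p (by omega)) X hX
    (AffinePushD.cofinalGood (RpushBound.Small t) hB _ N fun V hV M hM k hk => hN M (hP M hM) V hV k hk)
  exact ModPush.cohIn_of_isIso (FSch.homMor f h𝔛.1 h𝔜.1) P (N : ℤ) X hX P' h3 hii i

end Groth.Agent.H30.RpushDCoh
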