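import Groth.Agent.H30.FSch.RpushCompl

/-!
# Formal functions for reductions, on sections of higher direct images (helper30)
-/

set_option autoImplicit false
set_option linter.style.haveILetI false
set_option linter.unusedSectionVars false

noncomputable section

universe u

open CategoryTheory CategoryTheory.Limits AlgebraicGeometry TopologicalSpace Opposite
open Groth.Agent.H30 Groth.Agent.H30.RealLimSec Groth.Agent.Lib
open Groth.Agent.H78.Formal.Sections (sMap sIdeal)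
open Groth.Agent.H78.Formal.Elem (cπ)

namespace Groth.Agent.H30.RpushCompl

variable {X Y : Scheme.{u}} {𝔛 : FSch.Sys.{u}} (h𝔛 : 𝔛.IsLocNoethFormal) (f : X ⟶ Y)
  (p : ∀ k, 𝔛.X k ⟶ X) (hp : ∀ k, 𝔛.ι k ≫ p (k + 1) = p k) [∀ k, IsClosedImmersion (p k)]
  [HasInjectiveResolutions X.Modules] (n : ℕ) (F : X.Modules) [IsLocallyNoetherian X] (hF : Coh.IsCoh F)

variable [IsLocallyNoetherian Y] [IsProper f] (𝓘 : Y.IdealSheafData)
  (hIX : ∀ k (U : X.affineOpens), (p k).ker.ideal U = (𝓘.comap f).ideal U ^ (k + 1))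

set_option maxHeartbeats 1000000 in
include hF hIX in
/-- Formal functions for the reductions, on sections over an affine open of the base. -/
theorem exists_shift {V : Y.Opens} (hV : IsAffineOpen V) :
    ∃ c : ℕ,
      (∀ k (x : Γ((Coh.Rpush f n).obj F, V)),
        ((Coh.Rpush f n).map (ν h𝔛 p hp F (k + c))).app V x = 0 →
          x ∈ 𝓘.ideal ⟨V, hV⟩ ^ (k + 1) • (⊤ : Submodule Γ(Y, V) Γ((Coh.Rpush f n).obj F, V))) ∧
      (∀ k (y : Γ((Coh.Rpush f n).obj (N h𝔛 p hp F (k + c)), V)),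
        ∃ x : Γ((Coh.Rpush f n).obj F, V), ((Coh.Rpush f n).map (ν h𝔛 p hp F k)).app V x =
          ((Coh.Rpush f n).map ((spush h𝔛.1 p hp).map
            ((LT h𝔛 p hp F).map (homOfLE (Nat.le_add_right k c)).op))).app V y) := by
  classical
  haveI := hF.1
  haveI : IsNoetherianRing Γ(Y, V) := IsLocallyNoetherian.component_noetherian (X := Y) ⟨V, hV⟩
  letI := ProperShift.overV f hV
  let W : X.Opens := f ⁻¹ᵁ V
  haveI : IsProper ((W : Scheme.{u}) ↘ Spec (CommRingCat.of Γ(Y, V))) :=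
    inferInstanceAs (IsProper ((f ∣_ V) ≫ hV.isoSpec.hom))
  haveI := H78.Existence.AmpleVanish.isNoetherian_of_proper Γ(Y, V) (X := (W : Scheme.{u}))
  let J : Ideal Γ(Y, V) := 𝓘.ideal ⟨V, hV⟩
  let ρ := Scheme.Modules.restrictFunctor W.ι
  let F' : (W : Scheme.{u}).Modules := ρ.obj F
  have hF' : Coh.IsCoh F' := H78.Formal.Extend.isCoh_restr W.ι hF
  haveI := hF'.1
  haveI hNq : ∀ k, (N h𝔛 p hp F k).IsQuasicoherent := fun k => (N_spec h𝔛 p hp F hF k).1
  haveI hρq : ∀ k, (ρ.obj (N h𝔛 p hp F k)).IsQuasicoherent := fun k => inferInstance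
  let η : ∀ k, F' ⟶ ρ.obj (N h𝔛 p hp F k) := fun k => ρ.map (ν h𝔛 p hp F k)
  have hηi : ∀ k (U : (W : Scheme.{u}).Opens), IsAffineOpen U → ∀ s : Γ(F', U),
      (η k).app U s = 0 ↔ (Formal.modPowπ J (k + 1) F').app U s = 0 := by
    intro k U hU s
    have hU' : IsAffineOpen (W.ι ''ᵁ U) := hU.image_of_isOpenImmersion W.ι
    rw [H78.Formal.Sections.modPowπ_eq_zero_iff J (k + 1) hU s]
    refine (((N_spec h𝔛 p hp F hF k).2 _ hU').2 s).trans ?_
    have e : (p k).ker.ideal ⟨W.ι ''ᵁ U, hU'⟩ = sIdeal J U ^ (k + 1) := by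
      rw [hIX k ⟨_, hU'⟩, Ideal.Comap.ideal_comap f 𝓘 ⟨V, hV⟩ ⟨W.ι ''ᵁ U, hU'⟩ (ProperShift.image_le f U)]
      refine congrArg (fun φ : Γ(Y, V) →+* Γ((W : Scheme.{u}), U) => J.map φ ^ (k + 1)) ?_
      exact RingHom.ext fun a => (ProperShift.sMap_eq f hV U a).symm
    rw [e]
    exact (ProperShift.mem_smul_restrict W F (sIdeal J U ^ (k + 1)) _ rfl s).symm
  have hex : ∀ k, ∃ d : Formal.modPow J (k + 1) F' ⟶ ρ.obj (N h𝔛 p hp F k),
      IsIso d ∧ Formal.modPowπ J (k + 1) F' ≫ d = η k := by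
    intro k
    haveI : (Formal.modPow J (k + 1) F').IsQuasicoherent := H78.Formal.Sections.isQCoh_modPow J (k + 1)
    haveI : Epi (Formal.modPowπ J (k + 1) F') := inferInstanceAs (Epi (cokernel.π _))
    obtain ⟨d, hd⟩ := H78.Formal.Sys.exists_desc (Formal.modPowπ J (k + 1) F') (η k)
      fun U hU s hs => (hηi k U hU s).2 hs
    have hd' : ∀ U (s : Γ(F', U)), d.app U ((Formal.modPowπ J (k + 1) F').app U s) = (η k).app U s :=
      fun U s => ConcreteCategory.congr_hom (congrArg (fun χ => χ.app U) hd) s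
    refine ⟨d, H78.Formal.Sections.isIso_of_cover d fun x => ?_, hd⟩
    obtain ⟨U, hU, hx⟩ := H78.Formal.Sections.exists_affine x
    refine ⟨U, hU, hx, ?_, fun y => ?_⟩
    · rw [injective_iff_map_eq_zero]
      intro y hy
      obtain ⟨s, rfl⟩ := H78.Formal.Sections.modPowπ_surjective J (k + 1) hU y
      exact (hηi k U hU s).1 ((hd' U s).symm.trans hy)
    · obtain ⟨s, hs⟩ := ((N_spec h𝔛 p hp F hF k).2 _ (hU.image_of_isOpenImmersion W.ι)).1 y
      exact ⟨_, (hd' U s).trans hs⟩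
  choose d hdi hd using hex
  let di : ∀ k, ρ.obj (N h𝔛 p hp F k) ⟶ Formal.modPow J (k + 1) F' := fun k => @inv _ _ _ _ (d k) (hdi k)
  have hid : ∀ k, d k ≫ di k = 𝟙 _ := fun k => @IsIso.hom_inv_id _ _ _ _ (d k) (hdi k)
  have hdid : ∀ k, di k ≫ d k = 𝟙 _ := fun k => @IsIso.inv_hom_id _ _ _ _ (d k) (hdi k)
  obtain ⟨Ψ, hΨn, hΨl⟩ := RpushAff.exists_equiv f n hV
  have hfin : ∀ M : (W : Scheme.{u}).Modules, Coh.IsCoh M → ∀ q, Module.Finite Γ(Y, V) (Coh.HH (W : Scheme.{u}) M q) :=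
    fun M hM q => Groth.Agent.Lib.ProperFin.Assembly.qfin_of_isCoh Groth.Agent.Lib.Snapper.Finite.facts M hM q
  obtain ⟨c₁, h₁⟩ := H78.Rees.Consequences.kernels_adically_small (I := J) hfin hF' n
  obtain ⟨c₂, h₂⟩ := H78.Rees.Consequences.mittag_leffler (I := J) hfin hF' n
  let Hm : ∀ {A B : (W : Scheme.{u}).Modules}, (A ⟶ B) → Coh.HH (W : Scheme.{u}) A n → Coh.HH (W : Scheme.{u}) B n :=
    fun α z => Sheaf.H.map ((SheafOfModules.toSheaf _).map α) n z
  have hHc : ∀ {A B C : (W : Scheme.{u}).Modules} (α : A ⟶ B) (β : B ⟶ C) z, Hm β (Hm α z) = Hm (α ≫ β) z :=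
    fun α β z => Formal.HHmap_comp α β n z
  refine ⟨c₁ + c₂ + 1, fun k x hx => ?_, fun k y => ?_⟩
  · let m := k + (c₁ + c₂ + 1)
    have e1 : Hm (η m) (Ψ F x) = 0 := by
      refine (hΨn (ν h𝔛 p hp F m) x).symm.trans ?_
      exact (congrArg (Ψ _) hx).trans (map_zero _)
    have e2 : Hm (Formal.modPowπ J (m + 1) F') (Ψ F x) = 0 := by
      have : Hm (η m ≫ di m) (Ψ F x) = 0 := by
        rw [← hHc, e1]; exact map_zero (Sheaf.H.map ((SheafOfModules.toSheaf _).map (di m)) n)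
      rwa [← hd m, Category.assoc, hid, Category.comp_id] at this
    have h3 := Submodule.smul_mono_left (N := (⊤ : Submodule Γ(Y, V) (Coh.HH (W : Scheme.{u}) F' n)))
      (Ideal.pow_le_pow_right (I := J) (show k + 1 ≤ m - c₁ by omega)) (h₁ m (by omega) (Ψ F x) e2)
    rw [← (Ψ F).symm_apply_apply x]
    refine Submodule.smul_induction_on h3 (fun a ha z _ => ?_) fun a b ha hb => by rw [map_add]; exact add_mem ha hb
    have e3 : (Ψ F).symm (a • z) = a • (Ψ F).symm z :=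
      (Ψ F).symm_apply_eq.2 ((hΨl F a ((Ψ F).symm z)).trans (by rw [AddEquiv.apply_symm_apply]; rfl)).symm
    rw [e3]
    exact Submodule.smul_mem_smul ha trivial
  · let l := k + (c₁ + c₂ + 1)
    have hle : k ≤ l := Nat.le_add_right _ _
    let t : N h𝔛 p hp F l ⟶ N h𝔛 p hp F k := (spush h𝔛.1 p hp).map ((LT h𝔛 p hp F).map (homOfLE hle).op)
    have ht : Formal2.modPowLE J (Nat.succ_le_succ hle) F' ≫ d k = d l ≫ ρ.map t := by
      haveI : Epi (Formal.modPowπ J (l + 1) F') := inferInstanceAs (Epi (cokernel.π _))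
      rw [← cancel_epi (Formal.modPowπ J (l + 1) F'), ← Category.assoc, Formal2.modPowπ_modPowLE, hd,
        ← Category.assoc, hd, ← Functor.map_comp]
      exact congrArg ρ.map (ν_trans h𝔛 p hp F hle).symm
    let z := Hm (di l) (Ψ _ y)
    obtain ⟨w, hw⟩ : ∃ w, Hm (Formal.modPowπ J (k + 1) F') w = Hm (Formal2.modPowLE J (Nat.succ_le_succ hle) F') z :=
      (h₂ k l hle (by omega)).le ⟨z, rfl⟩
    refine ⟨(Ψ F).symm w, (Ψ _).injective ?_⟩
    rw [hΨn, hΨn, AddEquiv.apply_symm_apply]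
    have e5 : Hm (η k) w = Hm (d k) (Hm (Formal2.modPowLE J (Nat.succ_le_succ hle) F') z) := by
      rw [← hw, hHc, hd]
    refine e5.trans ?_
    rw [hHc, hHc, ht, ← Category.assoc (di l), hdid, Category.id_comp]

end Groth.Agent.H30.RpushCompl
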