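import Groth.Agent.H30.FSch.RpushLimit
import Groth.Agent.Lib.QCoh.Pushforward
import Groth.Agent.Lib.CohDelta.QCohR
import Groth.Agent.H30.FSch.LevelAdj
import Groth.Prelude.Def_ARSys

/-!
# The Mittag-Leffler condition for higher direct images of the levels (helper30)
-/

set_option autoImplicit false
set_option linter.style.haveILetI false
set_option linter.unusedSectionVars false

universe u

open CategoryTheory CategoryTheory.Limits AlgebraicGeometry TopologicalSpace Opposite CategoryTheory.Abelian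
open Groth.Agent.H30 Groth.Agent.H30.RealLimSec Groth.Agent.Lib
open Groth.Agent.Lib.ZarCoh.Basic (Zs)

namespace Groth.Agent.H30.RpushImage

theorem isQCoh_rpush {X Y : Scheme.{u}} (g : X ⟶ Y) [QuasiCompact g] [QuasiSeparated g]
    [HasInjectiveResolutions X.Modules] (M : X.Modules) (hM : M.IsQuasicoherent) (q : ℕ) :
    ((Coh.Rpush g q).obj M).IsQuasicoherent := by
  haveI := hM
  haveI : PreservesLimitsOfSize.{0, 0} (Scheme.Modules.pushforward g) :=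
    (Scheme.Modules.pullbackPushforwardAdjunction g).rightAdjoint_preservesLimits
  haveI : PreservesFiniteLimits (Scheme.Modules.pushforward g) :=
    PreservesLimitsOfSize.preservesFiniteLimits _
  cases q with
  | zero =>
    exact ObjectProperty.prop_of_iso (SheafOfModules.isQuasicoherent (R := Y.ringCatSheaf))
      ((Scheme.Modules.pushforward g).rightDerivedZeroIsoSelf.app M).symm
      (Lib.QCoh.Pushforward.isQCoh_pushforward (f := g) (M := M))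
  | succ p =>
    obtain ⟨i⟩ := CohDelta.Syzygy.nonempty_rightDerived_iso (injectiveResolution M) g p
    exact ObjectProperty.prop_of_iso (SheafOfModules.isQuasicoherent (R := Y.ringCatSheaf)) i.symm
      (CohDelta.QCohR.isQCoh_R g (injectiveResolution M) p hM)

theorem imageSubobject_le_of_comp_eq_zero {C : Type*} [Category C] [Abelian C] {X X' Y : C} (a : X ⟶ Y)
    (b : X' ⟶ Y) (h : a ≫ cokernel.π b = 0) : imageSubobject a ≤ imageSubobject b := by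
  have h1 : b ≫ cokernel.π (imageSubobject b).arrow = 0 :=
    ((congrArg (· ≫ cokernel.π (imageSubobject b).arrow) (imageSubobject_arrow_comp b)).symm.trans
      (Category.assoc _ _ _)).trans ((congrArg (_ ≫ ·) (cokernel.condition _)).trans comp_zero)
  have h2 : a ≫ cokernel.π (imageSubobject b).arrow = 0 := by
    rw [← cokernel.π_desc b _ h1, ← Category.assoc, h, zero_comp]
  exact imageSubobject_le a (Abelian.monoLift (imageSubobject b).arrow a h2) (Abelian.monoLift_comp _ _ _)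

variable {𝔜 : FSch.Sys.{u}} (h𝔜 : 𝔜.IsLocNoethFormal)

/-- Sections of a quasi-coherent module of a level are, near any point, multiples of sections over an affine open. -/
theorem exists_smul_eq (k : ℕ) (N : (𝔜.X k).Modules) [N.IsQuasicoherent] (M : FSch.ModF 𝔜 h𝔜.1)
    (i : M ≅ (FSch.levelMor 𝔜 h𝔜.1 k).push.obj N) {V W : (𝔜.X 0).Opens} (hV : IsAffineOpen V)
    (x : sec h𝔜.1 M W) {y : 𝔜.X 0} (hyV : y ∈ V) (hyW : y ∈ W) :
    ∃ (D : (𝔜.X 0).Opens) (hDV : D ≤ V) (hDW : D ≤ W) (a : Levels.A 𝔜 h𝔜.1 D) (t : sec h𝔜.1 M V),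
      y ∈ D ∧ CohPres.resF h𝔜.1 M hDW x = a • CohPres.resF h𝔜.1 M hDV t := by
  have hVk := OshBasic.isAffineOpen_lvU 𝔜 h𝔜.1 k hV
  let z : 𝔜.X k := (𝔜.toX k).base y
  have hz : (𝔜.gInv h𝔜.1 k) z = y := ConcreteCategory.congr_hom (𝔜.toX_base_gInv h𝔜.1 k) y
  have hzV : z ∈ 𝔜.lvU h𝔜.1 k V := (congrArg (· ∈ V) hz).mpr hyV
  have hzW : z ∈ 𝔜.lvU h𝔜.1 k W := (congrArg (· ∈ W) hz).mpr hyW
  obtain ⟨g, hgW, hzg⟩ := hVk.exists_basicOpen_le ⟨z, hzW⟩ hzV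
  let Dk := (𝔜.X k).basicOpen g
  let D : (𝔜.X 0).Opens := (𝔜.toX k) ⁻¹ᵁ Dk
  have hlD : 𝔜.lvU h𝔜.1 k D = Dk := by
    ext w
    exact (congrArg (· ∈ Dk) (ConcreteCategory.congr_hom (𝔜.gInv_toX_base h𝔜.1 k) w)).to_iff
  have hDV : D ≤ V := fun w hw => by
    have h1 : (𝔜.toX k).base w ∈ 𝔜.lvU h𝔜.1 k V := (𝔜.X k).basicOpen_le g hw
    exact (congrArg (· ∈ V) (ConcreteCategory.congr_hom (𝔜.toX_base_gInv h𝔜.1 k) w)).mp h1
  have hDW : D ≤ W := fun w hw => by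
    have h1 : (𝔜.toX k).base w ∈ 𝔜.lvU h𝔜.1 k W := hgW hw
    exact (congrArg (· ∈ W) (ConcreteCategory.congr_hom (𝔜.toX_base_gInv h𝔜.1 k) w)).mp h1
  have hlDV : 𝔜.lvU h𝔜.1 k D ≤ 𝔜.lvU h𝔜.1 k V := CohPres.lvU_mono h𝔜.1 k hDV
  let xD : Γ(N, 𝔜.lvU h𝔜.1 k D) := secMap h𝔜.1 i.hom D (CohPres.resF h𝔜.1 M hDW x)
  obtain ⟨n, t₀, ht₀⟩ := (QCoh.Localizing.localizes_of_isAffineOpen N hVk g).ext'.exists_of_eq hlD hlDV xD
  let gD : Γ(𝔜.X k, 𝔜.lvU h𝔜.1 k D) := QCoh.Localizing.resR hlDV g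
  have hu : IsUnit gD := by
    have h1 : IsUnit (QCoh.Localizing.resR ((𝔜.X k).basicOpen_le g) g) :=
      RingedSpace.isUnit_res_basicOpen _ g
    have h2 := h1.map (QCoh.Localizing.resR (X := 𝔜.X k) hlD.le)
    rwa [QCoh.Localizing.resR_resR] at h2
  haveI := h𝔜.2.2 k
  have hDaff : IsAffineOpen D := by
    haveI := FSch.Sys.toX_isClosedImmersion 𝔜 h𝔜.1 k
    exact IsAffineOpen.preimage (hVk.basicOpen g) (𝔜.toX k)
  let c : Γ(𝔜.X k, 𝔜.lvU h𝔜.1 k D) := (↑(hu.unit⁻¹) : Γ(𝔜.X k, 𝔜.lvU h𝔜.1 k D)) ^ n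
  obtain ⟨a, ha⟩ := OshBasic.OshProj_surjective 𝔜 h𝔜.1 k hDaff c
  refine ⟨D, hDV, hDW, a, secMap h𝔜.1 i.inv V t₀, hzg, ?_⟩
  have hinj : Function.Injective (secMap h𝔜.1 i.hom D) := by
    refine Function.LeftInverse.injective (g := secMap h𝔜.1 i.inv D) fun w => ?_
    exact congrArg (fun φ => secMap h𝔜.1 φ D w) i.hom_inv_id
  apply hinj
  refine Eq.trans ?_ ((secMap h𝔜.1 i.hom D).map_smul a _).symm
  have h3 : secMap h𝔜.1 i.hom D (CohPres.resF h𝔜.1 M hDV (secMap h𝔜.1 i.inv V t₀)) =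
      N.presheaf.map (homOfLE hlDV).op t₀ := by
    refine (LevelAdj.secMap_map i.hom hDV _).trans ?_
    exact congrArg (fun w => N.presheaf.map (homOfLE hlDV).op w)
      (congrArg (fun φ => secMap h𝔜.1 φ V t₀) i.inv_hom_id)
  refine Eq.trans ?_ (congrArg (a • ·) h3).symm
  show xD = Levels.proj 𝔜 h𝔜.1 k D a • (N.presheaf.map (homOfLE hlDV).op t₀ : Γ(N, 𝔜.lvU h𝔜.1 k D))
  rw [show Levels.proj 𝔜 h𝔜.1 k D a = (↑(hu.unit⁻¹) : Γ(𝔜.X k, 𝔜.lvU h𝔜.1 k D)) ^ n from ha,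
    show N.presheaf.map (homOfLE hlDV).op t₀ = gD ^ n • xD from ht₀, smul_smul, ← mul_pow,
    IsUnit.val_inv_mul, one_pow, one_smul]

section Main

open RpushLimit

variable {𝔛 : FSch.Sys.{u}} (h𝔛 : 𝔛.IsLocNoethFormal) (f : 𝔛 ⟶ 𝔜)
  [HasInjectiveResolutions (FSch.ModF 𝔛 h𝔛.1)] (F : FSch.ModF 𝔛 h𝔛.1) (q : ℕ)
  (hf : FSch.IsProperHom f) (hF : FSch.IsCohF 𝔛 h𝔛.1 F)

include hf hF in
theorem ml_sections {V : (𝔜.X 0).Opens} (hV : IsAffineOpen V) :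
    MLSeq.Basic.ML (T h𝔛 h𝔜 f F q ⋙ secF h𝔜 V) := by
  obtain ⟨e⟩ := RpushLim.nonempty_iso h𝔛.1 h𝔜.1 f q
  let v : (GrLevel.G h𝔛 (CohF.sys F) ⋙
      extFunctorObj.{u} (Zs.obj ((f : FSch.Hom 𝔛 𝔜).app 0 ⁻¹ᵁ V : (𝔛.X 0).Opens)) q) ⟶ T h𝔛 h𝔜 f F q ⋙ secF h𝔜 V :=
    NatTrans.ofOpSequence (fun k => AddCommGrpCat.ofHom (RpushLim.σ h𝔛.1 h𝔜.1 f q e (L h𝔛 F k) V))
      fun k => ConcreteCategory.hom_ext _ _ fun x => sec_trans h𝔛 h𝔜 f F q e k V x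
  exact MLSeq.Basic.ml_of_epi v (fun k => (sec_bijective h𝔛 h𝔜 f F q hf hF e k.unop hV).2)
    (BaseML.ml h𝔛 h𝔜 f hf (CohF.sys F) (CohF.isCoh_sys h𝔛 F hF) hV q)

include hf hF in
theorem exists_level_iso (k : ℕ) : ∃ N : {N : (𝔜.X k).Modules // N.IsQuasicoherent},
    Nonempty ((T h𝔛 h𝔜 f F q).obj (op k) ≅ (FSch.levelMor 𝔜 h𝔜.1 k).push.obj N.1) := by
  haveI : IsProper ((f : FSch.Hom 𝔛 𝔜).app 0) := hf.2
  haveI : IsProper ((f : FSch.Hom 𝔛 𝔜).app k) := SysLemmas.app_isProper hf.1 h𝔜 k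
  obtain ⟨φ⟩ := RpushLevelNat.nonempty_iso f h𝔛.1 h𝔜.1 q k
  exact ⟨⟨_, isQCoh_rpush ((f : FSch.Hom 𝔛 𝔜).app k) _ ((CohF.isCoh_sys h𝔛 F hF) k).1 q⟩,
    ⟨φ.app ((FSch.levelMor 𝔛 h𝔛.1 k).pull.obj F)⟩⟩

include hf hF in
/-- Over a quasi-compact base the higher direct images of the levels satisfy the Mittag-Leffler condition. -/
theorem isML [CompactSpace (𝔜.X 0)] : ARSys.IsML (T h𝔛 h𝔜 f F q) := by
  classical
  intro n
  haveI : ∀ k, IsProper ((f : FSch.Hom 𝔛 𝔜).app k) := fun k =>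
    haveI : IsProper ((f : FSch.Hom 𝔛 𝔜).app 0) := hf.2
    SysLemmas.app_isProper hf.1 h𝔜 k
  let cov : (𝔜.X 0).affineOpens → Set (𝔜.X 0) := fun V => (V.1 : Set (𝔜.X 0))
  have hcov : (Set.univ : Set (𝔜.X 0)) ⊆ ⋃ V, cov V := fun y _ => by
    obtain ⟨V, hV, hyV, -⟩ := exists_isAffineOpen_mem_and_subset (X := 𝔜.X 0) (x := y) (U := ⊤) trivial
    exact Set.mem_iUnion.2 ⟨⟨V, hV⟩, hyV⟩
  obtain ⟨t, ht⟩ := isCompact_univ.elim_finite_subcover cov (fun V => V.1.2) hcov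
  choose j hnj hj using fun V : (𝔜.X 0).affineOpens => ml_sections h𝔜 h𝔛 f F q hf hF V.2 n
  let r := t.sup fun V => j V - n
  refine ⟨r, fun s hrs => le_antisymm ?_ ?_⟩
  · have hle : n + r ≤ n + s := Nat.add_le_add_left hrs n
    have hfac : ARSys.shiftMap (T h𝔛 h𝔜 f F q) s n =
        (T h𝔛 h𝔜 f F q).map (homOfLE hle).op ≫ ARSys.shiftMap (T h𝔛 h𝔜 f F q) r n :=
      (congrArg (T h𝔛 h𝔜 f F q).map (Subsingleton.elim _ _)).trans ((T h𝔛 h𝔜 f F q).map_comp _ _)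
    exact (le_of_eq (congrArg (fun φ => imageSubobject φ) hfac)).trans (imageSubobject_comp_le _ _)
  · refine imageSubobject_le_of_comp_eq_zero _ _ ?_
    let π := cokernel.π (ARSys.shiftMap (T h𝔛 h𝔜 f F q) s n)
    refine (RpushAbNat.ab h𝔜.1).map_injective (CategoryTheory.Sheaf.hom_ext (NatTrans.ext (funext fun W =>
      ConcreteCategory.hom_ext _ _ fun x => ?_)))
    let Q := cokernel (ARSys.shiftMap (T h𝔛 h𝔜 f F q) s n)
    change secMap h𝔜.1 (ARSys.shiftMap (T h𝔛 h𝔜 f F q) r n ≫ π) W.unop x = (0 : sec h𝔜.1 Q W.unop)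
    refine TopCat.Presheaf.section_ext (C := AddCommGrpCat.{u}) (X := (𝔜.X 0).carrier)
      ((RpushAbNat.ab h𝔜.1).obj Q) W.unop _ _ fun y hy => ?_
    obtain ⟨V, hVt, hyV⟩ := Set.mem_iUnion₂.1 (ht (Set.mem_univ y))
    obtain ⟨N, ⟨i⟩⟩ := exists_level_iso h𝔜 h𝔛 f F q hf hF (n + r)
    obtain ⟨D, hDV, hDW, a, x', hyD, hx⟩ := (haveI := N.2; exists_smul_eq h𝔜 (n + r) N.1 _ i V.2
      (show sec h𝔜.1 ((T h𝔛 h𝔜 f F q).obj (op (n + r))) W.unop from x) hyV hy)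
    have hjr : j V ≤ n + r := by
      have := Finset.le_sup (f := fun V => j V - n) hVt
      have h2 := hnj V
      omega
    obtain ⟨y', hy'⟩ := hj V (n + s) (Nat.le_add_right n s)
      ((((secF h𝔜 V.1).map ((T h𝔛 h𝔜 f F q).map (homOfLE hjr).op)).hom) x')
    have hz : secMap h𝔜.1 (ARSys.shiftMap (T h𝔛 h𝔜 f F q) r n ≫ π) V.1 x' = 0 := by
      have e1 : secMap h𝔜.1 (ARSys.shiftMap (T h𝔛 h𝔜 f F q) r n) V.1 x' =
          secMap h𝔜.1 (ARSys.shiftMap (T h𝔛 h𝔜 f F q) s n) V.1 y' := by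
        refine Eq.trans ?_ hy'.symm
        show _ = secMap h𝔜.1 ((T h𝔛 h𝔜 f F q).map (homOfLE (hnj V)).op) V.1
          (secMap h𝔜.1 ((T h𝔛 h𝔜 f F q).map (homOfLE hjr).op) V.1 x')
        exact congrArg (fun φ => secMap h𝔜.1 φ V.1 x')
          ((congrArg (T h𝔛 h𝔜 f F q).map (Subsingleton.elim _ _)).trans ((T h𝔛 h𝔜 f F q).map_comp _ _))
      refine (congrArg (secMap h𝔜.1 π V.1) e1).trans ?_
      exact congrArg (fun φ => secMap h𝔜.1 φ V.1 y') (cokernel.condition (ARSys.shiftMap (T h𝔛 h𝔜 f F q) s n))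
    have hD : CohPres.resF h𝔜.1 Q hDW (secMap h𝔜.1 (ARSys.shiftMap (T h𝔛 h𝔜 f F q) r n ≫ π) W.unop x) = 0 := by
      refine (LevelAdj.secMap_map (ARSys.shiftMap (T h𝔛 h𝔜 f F q) r n ≫ π) hDW x).symm.trans ?_
      refine (congrArg (secMap h𝔜.1 (ARSys.shiftMap (T h𝔛 h𝔜 f F q) r n ≫ π) D) hx).trans ?_
      refine ((secMap h𝔜.1 _ D).map_smul a _).trans ?_
      refine (congrArg (a • ·) ((LevelAdj.secMap_map (ARSys.shiftMap (T h𝔛 h𝔜 f F q) r n ≫ π) hDV x').trans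
        ((congrArg _ hz).trans (map_zero _)))).trans (smul_zero a)
    exact TopCat.Presheaf.germ_ext (C := AddCommGrpCat.{u}) (X := (𝔜.X 0).carrier)
      ((RpushAbNat.ab h𝔜.1).obj Q).obj D hyD (homOfLE hDW) (homOfLE hDW) (hD.trans (map_zero _).symm)

end Main

end Groth.Agent.H30.RpushImage
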