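import Groth.Agent.H30.FSch.BaseFilt
import Groth.Agent.H30.FSch.RpushImage
import Groth.Agent.S0036
import Groth.Agent.Lib.CohBasics.Affine

/-!
# The filtration of the sections of a higher direct image over an affine open (helper30)
-/

set_option autoImplicit false
set_option linter.style.haveILetI false
set_option linter.unusedSectionVars false

universe u

open CategoryTheory CategoryTheory.Limits AlgebraicGeometry TopologicalSpace Opposite CategoryTheory.Abelian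
open Groth.Agent.H30 Groth.Agent.H30.RealLimSec Groth.Agent.Lib
open Groth.Agent.Lib.ZarCoh.Basic (Zs)

namespace Groth.Agent.H30.RpushFilt

variable {𝔛 𝔜 : FSch.Sys.{u}} (h𝔛 : 𝔛.IsLocNoethFormal) (h𝔜 : 𝔜.IsLocNoethFormal) (f : 𝔛 ⟶ 𝔜)
  [HasInjectiveResolutions (FSch.ModF 𝔛 h𝔛.1)] (F : FSch.ModF 𝔛 h𝔛.1) (q : ℕ)

/-- The higher direct image. -/
noncomputable abbrev R : FSch.ModF 𝔜 h𝔜.1 := (FSch.RpushF f h𝔛.1 h𝔜.1 q).obj F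

/-- The levels of the higher direct image. -/
noncomputable abbrev Tk (k : ℕ) : FSch.ModF 𝔜 h𝔜.1 :=
  (FSch.RpushF f h𝔛.1 h𝔜.1 q).obj (RpushLimit.L h𝔛 F k)

/-- The projection of sections to a level. -/
noncomputable abbrev pr (k : ℕ) (V : (𝔜.X 0).Opens) :=
  secMap h𝔜.1 ((FSch.RpushF f h𝔛.1 h𝔜.1 q).map ((FSch.levelMor 𝔛 h𝔛.1 k).adj.unit.app F)) V

theorem pr_res (k : ℕ) {V D : (𝔜.X 0).Opens} (hD : D ≤ V) (x : sec h𝔜.1 (R h𝔛 h𝔜 f F q) V) :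
    pr h𝔛 h𝔜 f F q k D (CohPres.resF h𝔜.1 (R h𝔛 h𝔜 f F q) hD x) =
      CohPres.resF h𝔜.1 (Tk h𝔛 h𝔜 f F q k) hD (pr h𝔛 h𝔜 f F q k V x) :=
  LevelAdj.secMap_map _ hD x

theorem pr_succ (k : ℕ) (V : (𝔜.X 0).Opens) (x : sec h𝔜.1 (R h𝔛 h𝔜 f F q) V) :
    secMap h𝔜.1 ((FSch.RpushF f h𝔛.1 h𝔜.1 q).map (FSch.levelTrans 𝔛 h𝔛.1 F k)) V
        (pr h𝔛 h𝔜 f F q (k + 1) V x) = pr h𝔛 h𝔜 f F q k V x :=
  congrArg (fun φ => secMap h𝔜.1 φ V x)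
    (((FSch.RpushF f h𝔛.1 h𝔜.1 q).map_comp _ _).symm.trans
      (congrArg (FSch.RpushF f h𝔛.1 h𝔜.1 q).map (FSch.unit_levelTrans 𝔛 h𝔛.1 F k)))

theorem pr_zero_of_le {j k : ℕ} (hjk : j ≤ k) (V : (𝔜.X 0).Opens) (x : sec h𝔜.1 (R h𝔛 h𝔜 f F q) V)
    (hx : pr h𝔛 h𝔜 f F q k V x = 0) : pr h𝔛 h𝔜 f F q j V x = 0 := by
  induction k, hjk using Nat.le_induction with
  | base => exact hx
  | succ k _ ih => exact ih ((pr_succ h𝔛 h𝔜 f F q k V x).symm.trans ((congrArg _ hx).trans (map_zero _)))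

variable (hf : FSch.IsProperHom f) (hF : FSch.IsCohF 𝔛 h𝔛.1 F)

include hf hF in
theorem existsUnique_of_compatible (V : (𝔜.X 0).Opens) (s : ∀ k, sec h𝔜.1 (Tk h𝔛 h𝔜 f F q k) V)
    (hs : ∀ k, secMap h𝔜.1 ((FSch.RpushF f h𝔛.1 h𝔜.1 q).map (FSch.levelTrans 𝔛 h𝔛.1 F k)) V (s (k + 1)) = s k) :
    ∃! x : sec h𝔜.1 (R h𝔛 h𝔜 f F q) V, ∀ k, pr h𝔛 h𝔜 f F q k V x = s k := by
  haveI := RpushLimit.isIso_u h𝔛 h𝔜 f F q hf hF
  haveI h1 : PreservesLimitsOfShape ℕᵒᵖ (RpushAbNat.ab h𝔜.1) :=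
    (preservesSmallestLimits_of_preservesLimits
      (SheafOfModules.toSheaf.{u} (ModSite.ringSh (𝔜.Osh h𝔜.1)))).preservesLimitsOfShape
  haveI h2 : PreservesLimitsOfShape ℕᵒᵖ
      (sheafToPresheaf (Opens.grothendieckTopology (𝔜.X 0)) AddCommGrpCat.{u}) := inferInstance
  haveI h3 : PreservesLimitsOfShape ℕᵒᵖ (RpushLimit.secF h𝔜 V ⋙ forget AddCommGrpCat.{u}) := inferInstance
  haveI h4 : PreservesLimit (RpushLimit.T h𝔛 h𝔜 f F q) (RpushLimit.secF h𝔜 V ⋙ forget AddCommGrpCat.{u}) :=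
    PreservesLimitsOfShape.preservesLimit
  obtain ⟨w, hw, huw⟩ := RpushLimit.existsUnique_section (RpushLimit.secF h𝔜 V) (RpushLimit.T h𝔛 h𝔜 f F q) s
    fun k => by
      rw [RpushLimit.T_map_succ]
      exact hs k
  let u' := RpushLimit.u_ h𝔛 h𝔜 f F q
  have hπ : ∀ k x, pr h𝔛 h𝔜 f F q k V x =
      secMap h𝔜.1 (limit.π (RpushLimit.T h𝔛 h𝔜 f F q) (op k)) V (secMap h𝔜.1 u' V x) := fun k x =>
    (congrArg (fun φ => secMap h𝔜.1 φ V x) (RpushLimit.u_π h𝔛 h𝔜 f F q k)).symm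
  refine ⟨secMap h𝔜.1 (inv u') V w, fun k => ?_, fun x hx => ?_⟩
  · refine (hπ k _).trans ((congrArg _ ?_).trans (hw k))
    exact congrArg (fun φ => secMap h𝔜.1 φ V w) (IsIso.inv_hom_id u')
  · have hxw : secMap h𝔜.1 u' V x = w := huw _ fun k => (hπ k x).symm.trans (hx k)
    rw [← hxw]
    exact (congrArg (fun φ => secMap h𝔜.1 φ V x) (IsIso.hom_inv_id u')).symm

include hf hF in
theorem ext_of_pr {V : (𝔜.X 0).Opens} {x y : sec h𝔜.1 (R h𝔛 h𝔜 f F q) V}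
    (h : ∀ k, pr h𝔛 h𝔜 f F q k V x = pr h𝔛 h𝔜 f F q k V y) : x = y :=
  (existsUnique_of_compatible h𝔛 h𝔜 f F q hf hF V (fun k => pr h𝔛 h𝔜 f F q k V y)
    (fun k => pr_succ h𝔛 h𝔜 f F q k V y)).unique h (fun _ => rfl)

theorem rel_sec (V : (𝔜.X 0).Opens) (a : Levels.A 𝔜 h𝔜.1 V)
    (e : FSch.RpushF f h𝔛.1 h𝔜.1 q ⋙ RpushAbNat.ab h𝔜.1 ≅
      RpushLim.PF h𝔛.1 f q ⋙ presheafToSheaf (Opens.grothendieckTopology (𝔜.X 0)) AddCommGrpCat.{u}) (k : ℕ)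
    (y z : Ext.{u} (Zs.obj (BaseScalar.U f V)) ((GrLevel.G h𝔛 (CohF.sys F)).obj (op k)) q)
    (h : BaseFilt.Rel h𝔛 h𝔜 f V (CohF.sys F) a _ q k y z) :
    (show sec h𝔜.1 (Tk h𝔛 h𝔜 f F q k) V from RpushLimit.sec h𝔛 h𝔜 f q e (RpushLimit.L h𝔛 F k) V z) =
      a • (show sec h𝔜.1 (Tk h𝔛 h𝔜 f F q k) V from RpushLimit.sec h𝔛 h𝔜 f q e (RpushLimit.L h𝔛 F k) V y) := by
  let L := RpushLimit.L h𝔛 F k
  refine (RpushScalar.η_rpush_bijective h𝔛.1 h𝔜.1 f q V L le_rfl).1 ?_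
  have h1 := RpushLimit.sec_map h𝔛 h𝔜 f q e (RpushScalar.η h𝔛.1 f V L) V z
  have h2 := RpushLimit.sec_map h𝔛 h𝔜 f q e (RpushScalar.η h𝔛.1 f V L) V y
  have h3 := RpushLimit.sec_map h𝔛 h𝔜 f q e (RpushScalar.mul h𝔛.1 h𝔜.1 f V a L) V
    (y.comp (Ext.mk₀ (BaseFilt.ηA h𝔛 f V (CohF.sys F) k)) (add_zero q))
  refine h1.symm.trans ((congrArg (RpushLimit.sec h𝔛 h𝔜 f q e _ V) h).trans (h3.trans ?_))
  refine (RpushScalar.lin h𝔛.1 h𝔜.1 f V a q L le_rfl _).trans ?_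
  have hres : CohPres.resA h𝔜.1 (le_refl V) a = a :=
    (congrArg (fun g => (𝔜.Osh h𝔜.1).obj.map g a) (Subsingleton.elim (homOfLE (le_refl V)).op (𝟙 _))).trans
      (ConcreteCategory.congr_hom ((𝔜.Osh h𝔜.1).obj.map_id _) a)
  rw [hres]
  exact (congrArg (fun w : sec h𝔜.1 ((FSch.RpushF f h𝔛.1 h𝔜.1 q).obj ((RpushScalar.J h𝔛.1 f V).obj L)) V => a • w) h2).trans
    ((secMap h𝔜.1 ((FSch.RpushF f h𝔛.1 h𝔜.1 q).map (RpushScalar.η h𝔛.1 f V L)) V).map_smul a _).symm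

set_option maxHeartbeats 800000 in
include hf hF in
/-- Sections killed by a late projection are combinations of sections killed by an earlier one. -/
theorem decomp {V : (𝔜.X 0).Opens} (hV : IsAffineOpen V) :
    ∃ (r : ℕ) (a : Fin r → Levels.A 𝔜 h𝔜.1 V), (∀ i, a i ∈ Levels.J (h := h𝔜.1) V) ∧
      ∃ N, ∀ n, N ≤ n → ∀ x : sec h𝔜.1 (R h𝔛 h𝔜 f F q) V, pr h𝔛 h𝔜 f F q (n + 1) V x = 0 →
        ∃ y : Fin r → sec h𝔜.1 (R h𝔛 h𝔜 f F q) V,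
          (∀ i, pr h𝔛 h𝔜 f F q n V (y i) = 0) ∧ x = ∑ i, a i • y i := by
  obtain ⟨e⟩ := RpushLim.nonempty_iso h𝔛.1 h𝔜.1 f q
  obtain ⟨r, a, ha, N, hN⟩ := BaseFilt.decomp h𝔛 h𝔜 f V (CohF.sys F) hf (CohF.isCoh_sys h𝔛 F hF) hV q
  refine ⟨r, a, fun i => ha i, N, fun n hn x hx => ?_⟩
  let φ : ∀ k, Ext.{u} (Zs.obj (BaseScalar.U f V)) ((GrLevel.G h𝔛 (CohF.sys F)).obj (op k)) q →+
      sec h𝔜.1 (Tk h𝔛 h𝔜 f F q k) V := fun k => RpushLim.σ h𝔛.1 h𝔜.1 f q e (RpushLimit.L h𝔛 F k) V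
  have hφ : ∀ k, Function.Bijective (φ k) := fun k => RpushLimit.sec_bijective h𝔛 h𝔜 f F q hf hF e k hV
  have hφt : ∀ k w, φ k (w.comp (Ext.mk₀ ((GrLevel.G h𝔛 (CohF.sys F)).map (homOfLE (Nat.le_succ k)).op)) (add_zero q)) =
      secMap h𝔜.1 ((FSch.RpushF f h𝔛.1 h𝔜.1 q).map (FSch.levelTrans 𝔛 h𝔛.1 F k)) V (φ (k + 1) w) := fun k w => by
    have h := RpushLimit.sec_trans h𝔛 h𝔜 f F q e k V w
    rw [RpushLimit.T_map_succ] at h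
    exact h
  choose m hm using fun k => (hφ k).2 (pr h𝔛 h𝔜 f F q k V x)
  have hmF : m ∈ FamFil.Fam (GrLevel.G h𝔛 (CohF.sys F)) (Zs.obj (BaseScalar.U f V)) q := fun k => (hφ k).1
    ((hφt k _).trans ((congrArg _ (hm (k + 1))).trans ((pr_succ h𝔛 h𝔜 f F q k V x).trans (hm k).symm)))
  obtain ⟨y, z, hy, hy0, hrel, hsum⟩ := hN n hn m hmF ((hφ (n + 1)).1 ((hm (n + 1)).trans (hx.trans (map_zero _).symm)))
  choose Y hY using fun i => (existsUnique_of_compatible h𝔛 h𝔜 f F q hf hF V (fun k => φ k (y i k))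
    fun k => (hφt k _).symm.trans (congrArg (φ k) (hy i k))).exists
  refine ⟨Y, fun i => (hY i n).trans ((congrArg (φ n) (hy0 i)).trans (map_zero _)),
    ext_of_pr h𝔛 h𝔜 f F q hf hF fun k => ?_⟩
  refine (hm k).symm.trans ((congrArg (φ k) (hsum k)).trans ((map_sum (φ k) _ _).trans ?_))
  refine Eq.trans ?_ (map_sum (pr h𝔛 h𝔜 f F q k V) _ _).symm
  refine Finset.sum_congr rfl fun i _ => ?_
  refine (rel_sec h𝔛 h𝔜 f F q V (a i) e k _ _ (hrel i k)).trans ?_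
  exact (congrArg (a i • ·) (hY i k)).symm.trans ((pr h𝔛 h𝔜 f F q k V).map_smul (a i) (Y i)).symm

include hf hF in
theorem exists_level (k : ℕ) :
    ∃ N : (𝔜.X k).Modules, Coh.IsCoh N ∧ Nonempty (Tk h𝔛 h𝔜 f F q k ≅ (FSch.levelMor 𝔜 h𝔜.1 k).push.obj N) := by
  haveI : IsProper ((f : FSch.Hom 𝔛 𝔜).app 0) := hf.2
  haveI : IsProper ((f : FSch.Hom 𝔛 𝔜).app k) := SysLemmas.app_isProper hf.1 h𝔜 k
  haveI := h𝔜.2.2 k
  obtain ⟨φ⟩ := RpushLevelNat.nonempty_iso f h𝔛.1 h𝔜.1 q k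
  exact ⟨_, Groth.Agent.S0036.result ((f : FSch.Hom 𝔛 𝔜).app k) _ ((CohF.isCoh_sys h𝔛 F hF) k) q,
    ⟨φ.app ((FSch.levelMor 𝔛 h𝔛.1 k).pull.obj F)⟩⟩

theorem push_smul (k : ℕ) (N : (𝔜.X k).Modules) (V : (𝔜.X 0).Opens) (a : Levels.A 𝔜 h𝔜.1 V)
    (m : Γ(N, 𝔜.lvU h𝔜.1 k V)) :
    (a • (show sec h𝔜.1 ((FSch.levelMor 𝔜 h𝔜.1 k).push.obj N) V from m)) =
      (show sec h𝔜.1 ((FSch.levelMor 𝔜 h𝔜.1 k).push.obj N) V from
        (Levels.proj 𝔜 h𝔜.1 k V a • m : Γ(N, 𝔜.lvU h𝔜.1 k V))) := rfl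

theorem secMap_iso_injective {M M' : FSch.ModF 𝔜 h𝔜.1} (i : M ≅ M') (V : (𝔜.X 0).Opens) :
    Function.Injective (secMap h𝔜.1 i.hom V) :=
  Function.LeftInverse.injective (g := secMap h𝔜.1 i.inv V) fun w =>
    congrArg (fun φ => secMap h𝔜.1 φ V w) i.hom_inv_id

include hf hF in
theorem smul_level_eq_zero (k : ℕ) (V : (𝔜.X 0).Opens) (a : Levels.A 𝔜 h𝔜.1 V)
    (ha : Levels.proj 𝔜 h𝔜.1 k V a = 0) (t : sec h𝔜.1 (Tk h𝔛 h𝔜 f F q k) V) : a • t = 0 := by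
  obtain ⟨N, -, ⟨i⟩⟩ := exists_level h𝔛 h𝔜 f F q hf hF k
  refine secMap_iso_injective h𝔜 i V ?_
  rw [map_smul, map_zero]
  refine (push_smul h𝔜 k N V a _).trans ?_
  rw [ha]
  exact zero_smul (Γ(𝔜.X k, 𝔜.lvU h𝔜.1 k V)) (show Γ(N, 𝔜.lvU h𝔜.1 k V) from _)

include hf hF in
theorem isNoetherian_level (k : ℕ) {V : (𝔜.X 0).Opens} (hV : IsAffineOpen V) :
    IsNoetherian (Levels.A 𝔜 h𝔜.1 V) (sec h𝔜.1 (Tk h𝔛 h𝔜 f F q k) V) := by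
  obtain ⟨N, hN, ⟨i⟩⟩ := exists_level h𝔛 h𝔜 f F q hf hF k
  haveI := Levels.isNoetherianRing_A h𝔜 hV
  haveI : N.IsQuasicoherent := hN.1
  haveI : SheafOfModules.IsFiniteType (R := (𝔜.X k).ringCatSheaf) N := hN.2
  haveI hfin := CohBasics.Affine.finite_sections (M := N) (OshBasic.isAffineOpen_lvU 𝔜 h𝔜.1 k hV)
  let P := sec h𝔜.1 ((FSch.levelMor 𝔜 h𝔜.1 k).push.obj N) V
  haveI : Module.Finite (Levels.A 𝔜 h𝔜.1 V) P := by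
    classical
    obtain ⟨S, hS⟩ := hfin.fg_top
    refine ⟨⟨S, top_le_iff.1 fun m _ => ?_⟩⟩
    have hm : (show Γ(N, 𝔜.lvU h𝔜.1 k V) from m) ∈ Submodule.span Γ(𝔜.X k, 𝔜.lvU h𝔜.1 k V) (S : Set _) :=
      hS ▸ trivial
    obtain ⟨c, hc⟩ := Submodule.mem_span_finset.1 hm
    choose a ha using fun s => ((Levels.adic h𝔜 hV).2.1 k).1 (c s)
    have : m = ∑ s ∈ S, a s • (show P from s) := by
      refine hc.2.symm.trans (Finset.sum_congr rfl fun s _ => ?_)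
      rw [← ha s]
      rfl
    rw [this]
    exact Submodule.sum_mem _ fun s hs => Submodule.smul_mem _ _ (Submodule.subset_span hs)
  haveI : IsNoetherian (Levels.A 𝔜 h𝔜.1 V) P := isNoetherian_of_isNoetherianRing_of_finite _ _
  exact isNoetherian_of_injective (secMap h𝔜.1 i.hom V) (secMap_iso_injective h𝔜 i V)

end Groth.Agent.H30.RpushFilt
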