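import Groth.Agent.H30.FSch.RpushAbNat
import Groth.Agent.H30.ColimCoh.RpushColim
import Groth.Agent.H30.ColimCoh.Main
import Mathlib.CategoryTheory.ObjectProperty.Ind

/-!
# Higher direct images on Noetherian formal schemes commute with filtered colimits (helper30)
-/

set_option autoImplicit false
set_option linter.style.haveILetI false
set_option linter.unusedSectionVars false

universe u

open CategoryTheory CategoryTheory.Limits AlgebraicGeometry TopologicalSpace Opposite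
open Groth.Agent.H30

namespace Groth.Agent.H30.RpushFiltered

variable {𝔛 𝔜 : FSch.Sys.{u}} (h𝔛 : 𝔛.IsFormal) (h𝔜 : 𝔜.IsFormal) (f : 𝔛 ⟶ 𝔜)
  [HasInjectiveResolutions (FSch.ModF 𝔛 h𝔛)] (q : ℕ)

theorem preservesColimitsOfShape [QuasiSeparatedSpace (𝔛.X 0)] [PrespectralSpace (𝔛.X 0)]
    [QuasiCompact ((f : FSch.Hom 𝔛 𝔜).app 0)] (J : Type u) [SmallCategory J] [IsFiltered J] :
    PreservesColimitsOfShape J (FSch.RpushF f h𝔛 h𝔜 q) := by
  obtain ⟨e⟩ := RpushAbNat.nonempty_iso h𝔛 h𝔜 f q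
  haveI : PreservesColimitsOfShape J (RpushAbNat.cohPsi f q) := ⟨fun {D} => by
    haveI : PreservesColimit D (CohTop.Rpush ((f : FSch.Hom 𝔛 𝔜).app 0).base q) :=
      ColimCoh.RpushColim.preservesColimit ((f : FSch.Hom 𝔛 𝔜).app 0).base D q
        {V | IsAffineOpen (V : (𝔜.X 0).Opens)} (Scheme.isBasis_affineOpens _) fun V hV =>
          (ColimCoh.Main.preservesColimitsOfShape
            (((f : FSch.Hom 𝔛 𝔜).app 0).isCompact_preimage
              (show IsAffineOpen (V : (𝔜.X 0).Opens) from hV).isCompact) q).preservesColimit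
    exact preservesColimit_of_natIso D (ColimCoh.RpushPresheaf.rpushIso _ q)⟩
  haveI : PreservesColimitsOfSize.{u, u} (RpushAbNat.ab h𝔛) := inferInstance
  haveI : PreservesColimitsOfSize.{u, u} (RpushAbNat.ab h𝔜) := inferInstance
  haveI : PreservesColimitsOfShape J (FSch.RpushF f h𝔛 h𝔜 q ⋙ RpushAbNat.ab h𝔜) :=
    preservesColimitsOfShape_of_natIso e.symm
  haveI : ReflectsColimitsOfShape J (RpushAbNat.ab h𝔜) :=
    reflectsColimitsOfShape_of_reflectsIsomorphisms
  exact preservesColimitsOfShape_of_reflects_of_preserves _ (RpushAbNat.ab h𝔜)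

/-- Higher direct images of ind-objects. -/
theorem ind_obj [QuasiSeparatedSpace (𝔛.X 0)] [PrespectralSpace (𝔛.X 0)] [QuasiCompact ((f : FSch.Hom 𝔛 𝔜).app 0)]
    (P : ObjectProperty (FSch.ModF 𝔛 h𝔛)) (P' : ObjectProperty (FSch.ModF 𝔜 h𝔜))
    (h : ∀ M, P M → P' ((FSch.RpushF f h𝔛 h𝔜 q).obj M)) (M : FSch.ModF 𝔛 h𝔛)
    (hM : ObjectProperty.ind.{u} P M) : ObjectProperty.ind.{u} P' ((FSch.RpushF f h𝔛 h𝔜 q).obj M) := by
  obtain ⟨J, hJ, hJ', pres, hp⟩ := hM
  haveI := preservesColimitsOfShape h𝔛 h𝔜 f q J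
  exact ⟨J, hJ, hJ', pres.map _, fun i => h _ (hp i)⟩

end Groth.Agent.H30.RpushFiltered
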