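import Groth.Agent.H30.FSch.RpushSec
import Groth.Agent.H30.FSch.RpushAbNat
import Groth.Agent.H30.FSch.BaseML

/-!
# Sections of higher direct images of the levels (helper30)
-/

set_option autoImplicit false
set_option linter.style.haveILetI false
set_option linter.unusedSectionVars false

universe u

open CategoryTheory CategoryTheory.Limits AlgebraicGeometry TopologicalSpace Opposite CategoryTheory.Abelian
open Groth.Agent.H30 Groth.Agent.Lib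
open Groth.Agent.Lib.ZarCoh.Basic (Zs)

namespace Groth.Agent.H30.RpushLim

section Gen

variable {S : TopCat.{u}} {A : Type (u + 1)} [Category.{u} A]
  (P : A ⥤ (Opens S)ᵒᵖ ⥤ AddCommGrpCat.{u}) (R : A ⥤ CohTop.Ab S)
  (e : R ≅ P ⋙ presheafToSheaf (Opens.grothendieckTopology S) AddCommGrpCat.{u})

/-- From the presheaf. -/
noncomputable def νG (M : A) : P.obj M ⟶ (R.obj M).obj :=
  toSheafify (Opens.grothendieckTopology S) (P.obj M) ≫ (sheafToPresheaf _ _).map (e.inv.app M)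

theorem νG_natural {M N : A} (φ : M ⟶ N) :
    P.map φ ≫ νG P R e N = νG P R e M ≫ (sheafToPresheaf _ _).map (R.map φ) := by
  have h1 := congrArg (sheafToPresheaf (Opens.grothendieckTopology S) AddCommGrpCat.{u}).map (e.inv.naturality φ)
  rw [Functor.map_comp, Functor.map_comp] at h1
  refine (Category.assoc _ _ _).symm.trans ?_
  refine (congrArg (· ≫ (sheafToPresheaf _ _).map (e.inv.app N))
    (toSheafify_naturality (Opens.grothendieckTopology S) (P.map φ))).trans ?_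
  refine (Category.assoc _ _ _).trans (Eq.trans ?_ (Category.assoc _ _ _).symm)
  exact congrArg (_ ≫ ·) h1

theorem νG_natural_apply {M N : A} (φ : M ⟶ N) (V : Opens S) (x : (P.obj M).obj (op V)) :
    ((νG P R e N).app (op V)).hom (((P.map φ).app (op V)).hom x) =
      ((R.map φ).hom.app (op V)).hom (((νG P R e M).app (op V)).hom x) :=
  ConcreteCategory.congr_hom (NatTrans.congr_app (νG_natural P R e φ) (op V)) x

theorem νG_bijective (M : A) (V : Opens S)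
    (h : Function.Bijective ((toSheafify (Opens.grothendieckTopology S) (P.obj M)).app (op V)).hom) :
    Function.Bijective ((νG P R e M).app (op V)).hom :=
  (ConcreteCategory.bijective_of_isIso (((sheafToPresheaf _ _).map (e.inv.app M)).app (op V))).comp h

theorem toSheafify_bijective_of_eq (P₁ P₂ : (Opens S)ᵒᵖ ⥤ AddCommGrpCat.{u}) (h : P₁ = P₂) (V : Opens S)
    (h₂ : Function.Bijective ((toSheafify (Opens.grothendieckTopology S) P₂).app (op V)).hom) :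
    Function.Bijective ((toSheafify (Opens.grothendieckTopology S) P₁).app (op V)).hom := by
  subst h
  exact h₂

end Gen

variable {𝔛 𝔜 : FSch.Sys.{u}} (h𝔛 : 𝔛.IsFormal) (h𝔜 : 𝔜.IsFormal) (f : 𝔛 ⟶ 𝔜) (q : ℕ)

/-- The cohomology presheaves of the preimages, as a functor of the module. -/
noncomputable def PF : FSch.ModF 𝔛 h𝔛 ⥤ (Opens (𝔜.X 0))ᵒᵖ ⥤ AddCommGrpCat.{u} :=
  RpushAbNat.ab h𝔛 ⋙ RpushSec.cohP (𝔛.X 0).carrier q ⋙
    (Functor.whiskeringLeft (Opens (𝔜.X 0))ᵒᵖ (Opens (𝔛.X 0))ᵒᵖ AddCommGrpCat.{u}).obj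
      (Opens.map ((f : FSch.Hom 𝔛 𝔜).app 0).base).op

/-- A class, as a section of the presheaf. -/
noncomputable def toPF (M : FSch.ModF 𝔛 h𝔛) (V : (𝔜.X 0).Opens) :
    Ext.{u} (Zs.obj ((f : FSch.Hom 𝔛 𝔜).app 0 ⁻¹ᵁ V : (𝔛.X 0).Opens)) ((RpushAbNat.ab h𝔛).obj M) q →+
      ((PF h𝔛 f q).obj M).obj (op V) :=
  AddMonoidHom.id _

theorem toPF_bijective (M : FSch.ModF 𝔛 h𝔛) (V : (𝔜.X 0).Opens) : Function.Bijective (toPF h𝔛 f q M V) :=
  Function.bijective_id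

theorem toPF_map {M N : FSch.ModF 𝔛 h𝔛} (φ : M ⟶ N) (V : (𝔜.X 0).Opens)
    (x : Ext.{u} (Zs.obj ((f : FSch.Hom 𝔛 𝔜).app 0 ⁻¹ᵁ V : (𝔛.X 0).Opens)) ((RpushAbNat.ab h𝔛).obj M) q) :
    toPF h𝔛 f q N V (x.comp (Ext.mk₀ ((RpushAbNat.ab h𝔛).map φ)) (add_zero q)) =
      (((PF h𝔛 f q).map φ).app (op V)).hom (toPF h𝔛 f q M V x) := rfl

theorem PF_obj (M : FSch.ModF 𝔛 h𝔛) : (PF h𝔛 f q).obj M =
    RpushSec.pre ((f : FSch.Hom 𝔛 𝔜).app 0).base ((RpushAbNat.ab h𝔛).obj M) q := rfl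

theorem ab_push (k : ℕ) (M : (𝔛.X k).Modules) :
    (RpushAbNat.ab h𝔛).obj ((FSch.levelMor 𝔛 h𝔛 k).push.obj M) = RpushSec.Gk h𝔛 k M := rfl

variable [HasInjectiveResolutions (FSch.ModF 𝔛 h𝔛)]

theorem nonempty_iso : Nonempty (FSch.RpushF f h𝔛 h𝔜 q ⋙ RpushAbNat.ab h𝔜 ≅
    PF h𝔛 f q ⋙ presheafToSheaf (Opens.grothendieckTopology (𝔜.X 0)) AddCommGrpCat.{u}) := by
  obtain ⟨e⟩ := RpushAbNat.nonempty_iso h𝔛 h𝔜 f q
  exact ⟨e ≪≫ Functor.isoWhiskerLeft (RpushAbNat.ab h𝔛) (Functor.associator _ _ _).symm ≪≫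
    (Functor.associator _ _ _).symm⟩

variable (e : FSch.RpushF f h𝔛 h𝔜 q ⋙ RpushAbNat.ab h𝔜 ≅
  PF h𝔛 f q ⋙ presheafToSheaf (Opens.grothendieckTopology (𝔜.X 0)) AddCommGrpCat.{u})

/-- Classes as sections of the higher direct image. -/
noncomputable def σ (M : FSch.ModF 𝔛 h𝔛) (V : (𝔜.X 0).Opens) :
    Ext.{u} (Zs.obj ((f : FSch.Hom 𝔛 𝔜).app 0 ⁻¹ᵁ V : (𝔛.X 0).Opens)) ((RpushAbNat.ab h𝔛).obj M) q →+
      ((FSch.RpushF f h𝔛 h𝔜 q ⋙ RpushAbNat.ab h𝔜).obj M).obj.obj (op V) :=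
  (((νG (PF h𝔛 f q) (FSch.RpushF f h𝔛 h𝔜 q ⋙ RpushAbNat.ab h𝔜) e M).app (op V)).hom).comp (toPF h𝔛 f q M V)

theorem σ_map {M N : FSch.ModF 𝔛 h𝔛} (φ : M ⟶ N) (V : (𝔜.X 0).Opens)
    (x : Ext.{u} (Zs.obj ((f : FSch.Hom 𝔛 𝔜).app 0 ⁻¹ᵁ V : (𝔛.X 0).Opens)) ((RpushAbNat.ab h𝔛).obj M) q) :
    σ h𝔛 h𝔜 f q e N V (x.comp (Ext.mk₀ ((RpushAbNat.ab h𝔛).map φ)) (add_zero q)) =
      (((FSch.RpushF f h𝔛 h𝔜 q ⋙ RpushAbNat.ab h𝔜).map φ).hom.app (op V)).hom (σ h𝔛 h𝔜 f q e M V x) :=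
  (congrArg ((νG (PF h𝔛 f q) _ e N).app (op V)).hom (toPF_map h𝔛 f q φ V x)).trans
    (νG_natural_apply (PF h𝔛 f q) (FSch.RpushF f h𝔛 h𝔜 q ⋙ RpushAbNat.ab h𝔜) e φ V (toPF h𝔛 f q M V x))

include h𝔜 in
/-- On a level and over an affine open the higher direct image has the cohomology as sections. -/
theorem σ_bijective (k : ℕ) (M : (𝔛.X k).Modules) [M.IsQuasicoherent]
    [QuasiCompact ((f : FSch.Hom 𝔛 𝔜).app k)] [QuasiSeparated ((f : FSch.Hom 𝔛 𝔜).app k)]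
    {V : (𝔜.X 0).Opens} (hV : IsAffineOpen V) :
    Function.Bijective (σ h𝔛 h𝔜 f q e ((FSch.levelMor 𝔛 h𝔛 k).push.obj M) V) :=
  (νG_bijective (PF h𝔛 f q) _ e _ V
      (toSheafify_bijective_of_eq _ _
        ((PF_obj h𝔛 f q _).trans (congrArg (fun G => RpushSec.pre ((f : FSch.Hom 𝔛 𝔜).app 0).base G q)
          (ab_push h𝔛 k M))) V
        (RpushSec.toSheafify_bijective h𝔛 h𝔜 f k q M hV))).comp
    (toPF_bijective h𝔛 f q _ V)

end Groth.Agent.H30.RpushLim
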