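import Groth.Agent.H30.FSch.RpushLimit
import Groth.Agent.H30.FSch.ModLoc

/-!
# Higher direct images only depend on the module over the preimage (helper30)
-/

set_option autoImplicit false
set_option linter.style.haveILetI false
set_option linter.unusedSectionVars false

universe u

open CategoryTheory CategoryTheory.Limits AlgebraicGeometry TopologicalSpace Opposite CategoryTheory.Abelian
open Groth.Agent.H30 Groth.Agent.Lib Groth.Agent.Lib.ZarCoh.Compare
open Groth.Agent.Lib.ZarCoh.Basic (Zs)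

namespace Groth.Agent.H30.RpushLocal

section Ext

variable {X : TopCat.{u}} {G H : CohTop.Ab X} (φ : G ⟶ H) (U : Opens X)
  (hφ : ∀ W, W ≤ U → Function.Bijective (φ.hom.app (op W)).hom)

include hφ in
theorem isIso_rst : IsIso ((rst U.isOpenEmbedding).map φ) := by
  haveI : IsIso ((sheafToPresheaf _ _).map ((rst U.isOpenEmbedding).map φ)) :=
    haveI : ∀ W, IsIso (((sheafToPresheaf _ _).map ((rst U.isOpenEmbedding).map φ)).app W) := fun W =>
      (ConcreteCategory.isIso_iff_bijective _).2 (hφ (U.isOpenEmbedding.functor.obj W.unop) (by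
        rintro _ ⟨y, _, rfl⟩
        exact y.2))
    NatIso.isIso_of_isIso_app _
  exact isIso_of_reflects_iso _ (sheafToPresheaf _ _)

include hφ in
/-- A map bijective below `U` is bijective on cohomology below `U`. -/
theorem bijective_ext {W : Opens X} (hW : W ≤ U) (n : ℕ) :
    Function.Bijective fun x : Ext.{u} (Zs.obj W) G n => x.comp (Ext.mk₀ φ) (add_zero n) := by
  have he : U.isOpenEmbedding.functor.obj ((Opens.map U.inclusion').obj W) = W := ModLoc.cut_eq U hW
  revert he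
  generalize (Opens.map U.inclusion').obj W = W'
  rintro rfl
  haveI := isIso_rst φ U hφ
  let i := asIso ((rst U.isOpenEmbedding).map φ)
  have h : ∀ x : Ext.{u} (Zs.obj (U.isOpenEmbedding.functor.obj W')) G n,
      restrEquiv U.isOpenEmbedding W' n H (x.comp (Ext.mk₀ φ) (add_zero n)) =
        HTower.Gen.isoEquiv (Zs.obj W') i n (restrEquiv U.isOpenEmbedding W' n G x) := fun x => by
    show restrMap U.isOpenEmbedding W' n H _ = _
    rw [cmp_comp (rst U.isOpenEmbedding) (openGen U.isOpenEmbedding W') x (Ext.mk₀ φ) (add_zero n),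
      Ext.mapExactFunctor_mk₀]
    rfl
  constructor
  · intro x y hxy
    exact (restrEquiv U.isOpenEmbedding W' n G).injective ((HTower.Gen.isoEquiv (Zs.obj W') i n).injective
      ((h x).symm.trans ((congrArg _ hxy).trans (h y))))
  · intro y
    refine ⟨(restrEquiv U.isOpenEmbedding W' n G).symm
      ((HTower.Gen.isoEquiv (Zs.obj W') i n).symm (restrEquiv U.isOpenEmbedding W' n H y)),
      (restrEquiv U.isOpenEmbedding W' n H).injective ?_⟩
    rw [h, AddEquiv.apply_symm_apply, AddEquiv.apply_symm_apply]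

end Ext

section Sheafify

variable {X : TopCat.{u}} {P Q : (Opens X)ᵒᵖ ⥤ AddCommGrpCat.{u}} (α : P ⟶ Q) {V : Opens X}
  (hα : ∀ W, W ≤ V → Function.Bijective (α.app (op W)).hom)

local notation "JJ" => Opens.grothendieckTopology X

/-- Sheafification. -/
noncomputable abbrev shf (X : TopCat.{u}) : ((Opens X)ᵒᵖ ⥤ AddCommGrpCat.{u}) ⥤ CohTop.Ab X :=
  presheafToSheaf (Opens.grothendieckTopology X) AddCommGrpCat.{u}

theorem mapmap (R : (Opens X)ᵒᵖ ⥤ AddCommGrpCat.{u}) {A B C : (Opens X)ᵒᵖ} (f : A ⟶ B) (g : B ⟶ C) (h : A ⟶ C)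
    (z : R.obj A) : (R.map g).hom ((R.map f).hom z) = (R.map h).hom z :=
  by
  rw [Subsingleton.elim h (f ≫ g), Functor.map_comp]
  rfl

theorem locEq (R : (Opens X)ᵒᵖ ⥤ AddCommGrpCat.{u}) {W : Opens X} (p p' : R.obj (op W))
    (h : ((toSheafify JJ R).app (op W)).hom p = ((toSheafify JJ R).app (op W)).hom p') {x : X} (hx : x ∈ W) :
    ∃ (W' : Opens X) (hW : W' ≤ W), x ∈ W' ∧ (R.map (homOfLE hW).op).hom p = (R.map (homOfLE hW).op).hom p' := by
  obtain ⟨W', i, hi, hxW'⟩ := Presheaf.equalizerSieve_mem JJ (toSheafify JJ R) p p' h x hx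
  exact ⟨W', leOfHom i, hxW', hi⟩

theorem locSurj (R : (Opens X)ᵒᵖ ⥤ AddCommGrpCat.{u}) {W : Opens X} (t : ((shf X).obj R).obj.obj (op W))
    {x : X} (hx : x ∈ W) :
    ∃ (W' : Opens X) (hW : W' ≤ W) (p : R.obj (op W')), x ∈ W' ∧
      ((toSheafify JJ R).app (op W')).hom p = (((shf X).obj R).obj.map (homOfLE hW).op).hom t := by
  obtain ⟨W', hW, ⟨p, hp⟩, hxW'⟩ := (TopCat.Presheaf.isLocallySurjective_iff (toSheafify JJ R)).1
    (show Presheaf.IsLocallySurjective JJ (toSheafify JJ R) from inferInstance) W t x hx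
  exact ⟨W', hW, p, hxW', hp⟩

include hα in
theorem injective_sheafify {W : Opens X} (hW : W ≤ V) :
    Function.Injective (((shf X).map α).hom.app (op W)).hom := by
  intro s t hst
  refine TopCat.Presheaf.section_ext (C := AddCommGrpCat.{u}) ((shf X).obj P) W s t fun x hx => ?_
  obtain ⟨W₁, h₁, p, hx₁, hp⟩ := locSurj P s hx
  obtain ⟨W₂, h₂, p', hx₂, hp'⟩ := locSurj P t hx
  let W₃ := W₁ ⊓ W₂
  let p₁ := (P.map (homOfLE (inf_le_left : W₃ ≤ W₁)).op).hom p
  let p₂ := (P.map (homOfLE (inf_le_right : W₃ ≤ W₂)).op).hom p'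
  have e₁ : ((toSheafify JJ P).app (op W₃)).hom p₁ =
      (((shf X).obj P).obj.map (homOfLE ((inf_le_left : W₃ ≤ W₁).trans h₁)).op).hom s :=
    ((toSheafify JJ P).naturality_apply _ p).trans ((congrArg _ hp).trans
      (mapmap ((shf X).obj P).obj _ _ _ _))
  have e₂ : ((toSheafify JJ P).app (op W₃)).hom p₂ =
      (((shf X).obj P).obj.map (homOfLE ((inf_le_left : W₃ ≤ W₁).trans h₁)).op).hom t :=
    ((toSheafify JJ P).naturality_apply _ p').trans ((congrArg _ hp').trans
      (mapmap ((shf X).obj P).obj _ _ _ _))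
  have hnat : ∀ (W' : Opens X) (z : P.obj (op W')), ((toSheafify JJ Q).app (op W')).hom ((α.app (op W')).hom z) =
      (((shf X).map α).hom.app (op W')).hom (((toSheafify JJ P).app (op W')).hom z) := fun W' z =>
    ConcreteCategory.congr_hom (NatTrans.congr_app (toSheafify_naturality JJ α) (op W')) z
  have e₃ : ((toSheafify JJ Q).app (op W₃)).hom ((α.app (op W₃)).hom p₁) =
      ((toSheafify JJ Q).app (op W₃)).hom ((α.app (op W₃)).hom p₂) := by
    rw [hnat, hnat, e₁, e₂]
    refine (((shf X).map α).hom.naturality_apply _ s).trans ?_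
    exact (congrArg _ hst).trans (((shf X).map α).hom.naturality_apply _ t).symm
  obtain ⟨W₄, h₄, hx₄, e₄⟩ := locEq Q _ _ e₃ (show x ∈ W₃ from ⟨hx₁, hx₂⟩)
  have h4V : W₄ ≤ V := h₄.trans ((inf_le_left.trans h₁).trans hW)
  have e₅ : (P.map (homOfLE h₄).op).hom p₁ = (P.map (homOfLE h₄).op).hom p₂ :=
    (hα W₄ h4V).1 ((α.naturality_apply _ p₁).trans (e₄.trans (α.naturality_apply _ p₂).symm))
  have e₆ := congrArg ((toSheafify JJ P).app (op W₄)).hom e₅
  have hle : W₄ ≤ W := h₄.trans (inf_le_left.trans h₁)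
  refine TopCat.Presheaf.germ_ext (C := AddCommGrpCat.{u}) ((shf X).obj P).obj W₄ hx₄ (homOfLE hle) (homOfLE hle) ?_
  have e₇ := (((toSheafify JJ P).naturality_apply _ p₁).symm.trans e₆).trans
    ((toSheafify JJ P).naturality_apply _ p₂)
  refine ((mapmap ((shf X).obj P).obj (homOfLE ((inf_le_left : W₃ ≤ W₁).trans h₁)).op (homOfLE h₄).op _ s).symm.trans ?_).trans
    (mapmap ((shf X).obj P).obj (homOfLE ((inf_le_left : W₃ ≤ W₁).trans h₁)).op (homOfLE h₄).op _ t)
  exact (congrArg _ e₁).symm.trans (e₇.trans (congrArg _ e₂))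

include hα in
/-- A map of presheaves bijective below `V` is bijective below `V` after sheafification. -/
theorem bijective_sheafify {W : Opens X} (hW : W ≤ V) :
    Function.Bijective (((shf X).map α).hom.app (op W)).hom := by
  refine ⟨injective_sheafify α hα hW, fun t => ?_⟩
  choose W' hle q hxW' hq using fun x : W => locSurj Q t x.2
  choose p hp using fun x : W => (hα (W' x) ((hle x).trans hW)).2 (q x)
  let s : ∀ x : W, ((shf X).obj P).obj.obj (op (W' x)) := fun x => ((toSheafify JJ P).app (op (W' x))).hom (p x)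
  have hs : ∀ x, (((shf X).map α).hom.app (op (W' x))).hom (s x) = (((shf X).obj Q).obj.map (homOfLE (hle x)).op).hom t :=
    fun x => by
      refine (ConcreteCategory.congr_hom (NatTrans.congr_app (toSheafify_naturality JJ α) (op (W' x))) (p x)).symm.trans ?_
      exact (congrArg _ (hp x)).trans (hq x)
  have hcov : W ≤ iSup W' := fun x hx => Opens.mem_iSup.2 ⟨⟨x, hx⟩, hxW' ⟨x, hx⟩⟩
  obtain ⟨g, hg, -⟩ := TopCat.Sheaf.existsUnique_gluing' ((shf X).obj P) W' W (fun x => homOfLE (hle x)) hcov s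
    fun x y => by
      refine injective_sheafify α hα ((inf_le_left.trans (hle x)).trans hW) ?_
      refine (((shf X).map α).hom.naturality_apply _ (s x)).trans (Eq.trans ?_ (((shf X).map α).hom.naturality_apply _ (s y)).symm)
      refine (congrArg _ (hs x)).trans (Eq.trans ?_ (congrArg _ (hs y)).symm)
      exact (mapmap ((shf X).obj Q).obj _ _ (homOfLE (inf_le_left.trans (hle x))).op _).trans
        (mapmap ((shf X).obj Q).obj _ _ (homOfLE (inf_le_left.trans (hle x))).op _).symm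
  refine ⟨g, TopCat.Sheaf.eq_of_locally_eq' ((shf X).obj Q) W' W (fun x => homOfLE (hle x)) hcov _ _ fun x => ?_⟩
  exact (((shf X).map α).hom.naturality_apply (homOfLE (hle x)).op g).symm.trans ((congrArg _ (hg x)).trans (hs x))

end Sheafify

open RealLimSec

variable {𝔛 𝔜 : FSch.Sys.{u}} (h𝔛 : 𝔛.IsFormal) (h𝔜 : 𝔜.IsFormal) (f : 𝔛 ⟶ 𝔜)
  [HasInjectiveResolutions (FSch.ModF 𝔛 h𝔛)] (q : ℕ)

/-- A map bijective over the preimage of `V` induces bijections of higher direct images over `V`. -/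
theorem rpush_bijective {M N : FSch.ModF 𝔛 h𝔛} (φ : M ⟶ N) (V : (𝔜.X 0).Opens)
    (hφ : ∀ W, W ≤ (f : FSch.Hom 𝔛 𝔜).app 0 ⁻¹ᵁ V → Function.Bijective (secMap h𝔛 φ W))
    {W : (𝔜.X 0).Opens} (hW : W ≤ V) :
    Function.Bijective (secMap h𝔜 ((FSch.RpushF f h𝔛 h𝔜 q).map φ) W) := by
  obtain ⟨e⟩ := RpushLim.nonempty_iso h𝔛 h𝔜 f q
  have h1 := bijective_sheafify ((RpushLim.PF h𝔛 f q).map φ) (V := V) (fun W' hW' =>
    bijective_ext ((RpushAbNat.ab h𝔛).map φ) ((f : FSch.Hom 𝔛 𝔜).app 0 ⁻¹ᵁ V) hφ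
      (((f : FSch.Hom 𝔛 𝔜).app 0).preimage_mono hW') q) hW
  have h2 : Function.Bijective (((e.hom.app M).hom.app (op W)).hom) :=
    ConcreteCategory.bijective_of_isIso (((sheafToPresheaf _ _).map (e.hom.app M)).app (op W))
  have h3 : Function.Bijective (((e.hom.app N).hom.app (op W)).hom) :=
    ConcreteCategory.bijective_of_isIso (((sheafToPresheaf _ _).map (e.hom.app N)).app (op W))
  have hnat : ∀ x, ((e.hom.app N).hom.app (op W)).hom (secMap h𝔜 ((FSch.RpushF f h𝔛 h𝔜 q).map φ) W x) =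
      (((presheafToSheaf _ _).map ((RpushLim.PF h𝔛 f q).map φ)).hom.app (op W)).hom
        (((e.hom.app M).hom.app (op W)).hom x) := fun x => by
    have h := congrArg (fun ψ => ψ.hom.app (op W)) (e.hom.naturality φ)
    exact ConcreteCategory.congr_hom h x
  refine ⟨fun x y hxy => h2.1 (h1.1 ?_), fun y => ?_⟩
  · exact (hnat x).symm.trans ((congrArg _ hxy).trans (hnat y))
  · obtain ⟨z, hz⟩ := h1.2 (((e.hom.app N).hom.app (op W)).hom y)
    obtain ⟨x, rfl⟩ := h2.2 z
    exact ⟨x, h3.1 ((hnat x).trans hz)⟩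

end Groth.Agent.H30.RpushLocal
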