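import Groth.Agent.H30.FSch.GlueAff
import Groth.Agent.H30.FSch.RpushLevelNat
import Groth.Agent.H30.FSch.GrLevel
import Groth.Agent.H30.ColimCoh.RpushPresheaf

/-!
# Sections of sheafified cohomology of a level over affine opens (helper30)
-/

set_option autoImplicit false
set_option linter.style.haveILetI false
set_option linter.unusedSectionVars false

universe u

open CategoryTheory CategoryTheory.Limits AlgebraicGeometry TopologicalSpace Opposite CategoryTheory.Abelian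
open Groth.Agent.H30 Groth.Agent.Lib
open Groth.Agent.Lib.ZarCoh.Basic Groth.Agent.Lib.ZarCoh.Compare

namespace Groth.Agent.H30.RpushSec

/-- The cohomology presheaves. -/
noncomputable abbrev cohP (X : TopCat.{u}) (q : ℕ) : CohTop.Ab X ⥤ (Opens X)ᵒᵖ ⥤ AddCommGrpCat.{u} :=
  Sheaf.cohomologyPresheafFunctor (Opens.grothendieckTopology X) q

/-- The presheaf of cohomology of preimages. -/
noncomputable abbrev pre {X Y : TopCat.{u}} (g : X ⟶ Y) (F : CohTop.Ab X) (q : ℕ) :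
    (Opens Y)ᵒᵖ ⥤ AddCommGrpCat.{u} :=
  (Opens.map g).op ⋙ (cohP X q).obj F

section Alg

variable {C : Type (u + 1)} [Category.{u} C] [Abelian C] [HasExt.{u} C]
  {D : Type (u + 1)} [Category.{u} D] [Abelian D] [HasExt.{u} D]

/-- Invert the second map after the first. -/
noncomputable def mkBack {P G : D} {P' P'' F : C} {n : ℕ} (φ : Ext P G n →+ Ext P' F n) (hφ : Function.Bijective φ)
    (r : Ext P'' F n →+ Ext P' F n) : Ext P'' F n →+ Ext P G n :=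
  (AddEquiv.ofBijective φ hφ).symm.toAddMonoidHom.comp r

theorem φ_mkBack {P G : D} {P' P'' F : C} {n : ℕ} (φ : Ext P G n →+ Ext P' F n) (hφ : Function.Bijective φ)
    (r : Ext P'' F n →+ Ext P' F n) (x : Ext P'' F n) : φ (mkBack φ hφ r x) = r x :=
  (AddEquiv.ofBijective φ hφ).apply_symm_apply (r x)

theorem mkBack_bijective {P G : D} {P' P'' F : C} {n : ℕ} (φ : Ext P G n →+ Ext P' F n) (hφ : Function.Bijective φ)
    (r : Ext P'' F n →+ Ext P' F n) (hr : Function.Bijective r) : Function.Bijective (mkBack φ hφ r) :=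
  (AddEquiv.ofBijective φ hφ).symm.bijective.comp hr

theorem mkBack_natural {P Q G : D} {P' P'' Q' Q'' F : C} {n : ℕ} (φ : Ext P G n →+ Ext P' F n)
    (hφ : Function.Bijective φ) (r : Ext P'' F n →+ Ext P' F n) (φ₂ : Ext Q G n →+ Ext Q' F n)
    (hφ₂ : Function.Bijective φ₂) (r₂ : Ext Q'' F n →+ Ext Q' F n) (a : Ext P G n → Ext Q G n)
    (b : Ext P' F n → Ext Q' F n) (c : Ext P'' F n → Ext Q'' F n)
    (h : ∀ z, φ₂ (a z) = b (φ z)) (hc : ∀ x, r₂ (c x) = b (r x)) (x : Ext P'' F n) :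
    mkBack φ₂ hφ₂ r₂ (c x) = a (mkBack φ hφ r x) :=
  hφ₂.1 ((φ_mkBack φ₂ hφ₂ r₂ (c x)).trans ((hc x).trans ((congrArg b (φ_mkBack φ hφ r x)).symm.trans (h _).symm)))

theorem bijective_of_inverse {P P' F : C} {n : ℕ} (r : Ext P F n → Ext P' F n) (s : Ext P' F n → Ext P F n)
    (h₁ : ∀ x, s (r x) = x) (h₂ : ∀ x, r (s x) = x) : Function.Bijective r :=
  Function.bijective_iff_has_inverse.2 ⟨s, h₁, h₂⟩

end Alg

section Gen

variable {X Y : TopCat.{u}} (g : X ⟶ Y) (F : CohTop.Ab X) (B : Set (Opens Y)) (hB : Opens.IsBasis B)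
  (hF : ∀ W ∈ B, ∀ p, Subsingleton (CohTop.HU F (p + 1) ((Opens.map g).obj W))) (q : ℕ)

/-- Cohomology of a direct image, over an open with given preimage. -/
noncomputable def backG {U : Opens Y} {U' : Opens X} (e : (Opens.map g).obj U = U') :
    Ext.{u} (Zs.obj U') F q →+ Ext.{u} (Zs.obj U) ((CohTop.push g).obj F) q :=
  mkBack (pushMap g U q F) (ZarCoh.Push.pushMap_bijective (V := U) hB F hF q) (rs F q e.le)

theorem rs_self {U : Opens X} (e : U ≤ U) (x : Ext.{u} (Zs.obj U) F q) : rs F q e x = x := by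
  rw [rs_apply, Subsingleton.elim (homOfLE e) (𝟙 U), CategoryTheory.Functor.map_id, Ext.mk₀_id_comp]

theorem rs_rs {U V W : Opens X} (h : V ≤ U) (h' : W ≤ V) (x : Ext.{u} (Zs.obj U) F q) :
    rs F q h' (rs F q h x) = rs F q (h'.trans h) x := by
  rw [rs_apply, rs_apply, rs_apply, Ext.mk₀_comp_mk₀_assoc, ← Functor.map_comp]
  rfl

theorem backG_bijective {U : Opens Y} {U' : Opens X} (e : (Opens.map g).obj U = U') :
    Function.Bijective (backG g F B hB hF q e) :=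
  mkBack_bijective _ _ _ (bijective_of_inverse (rs F q e.le) (rs F q e.ge)
    (fun x => (rs_rs F q e.le e.ge x).trans (rs_self F q _ x))
    (fun x => (rs_rs F q e.ge e.le x).trans (rs_self F q _ x)))

theorem backG_rs {U V : Opens Y} {U' V' : Opens X} (eU : (Opens.map g).obj U = U')
    (eV : (Opens.map g).obj V = V') (h : V ≤ U) (h' : V' ≤ U') (x : Ext.{u} (Zs.obj U') F q) :
    backG g F B hB hF q eV (rs F q h' x) =
      rs ((CohTop.push g).obj F) q h (backG g F B hB hF q eU x) :=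
  mkBack_natural (pushMap g U q F) _ (rs F q eU.le) (pushMap g V q F) _ (rs F q eV.le)
    (rs ((CohTop.push g).obj F) q h) (rs F q ((Opens.map g).monotone h)) (rs F q h')
    (pushMap_rs g h q F) (fun x => (rs_rs F q h' eV.le x).trans (rs_rs F q eU.le _ x).symm) x

end Gen

variable {𝔛 𝔜 : FSch.Sys.{u}} (h𝔛 : 𝔛.IsFormal) (h𝔜 : 𝔜.IsFormal) (f : 𝔛 ⟶ 𝔜) (k q : ℕ)
  (M : (𝔛.X k).Modules)

/-- The level module on the common space. -/
noncomputable abbrev Gk : CohTop.Ab (𝔛.X 0).carrier := (CohTop.push (𝔛.gInv h𝔛 k)).obj (Coh.toAb M)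

/-- Its cohomology presheaf. -/
noncomputable abbrev P : (Opens (𝔜.X 0))ᵒᵖ ⥤ AddCommGrpCat.{u} :=
  pre ((f : FSch.Hom 𝔛 𝔜).app 0).base (Gk h𝔛 k M) q

/-- The open of the common space over an open of the level. -/
noncomputable abbrev down (W : (𝔜.X k).Opens) : (𝔜.X 0).Opens := (𝔜.toX k) ⁻¹ᵁ W

theorem lvU_down (W : (𝔜.X k).Opens) : 𝔜.lvU h𝔜 k (down k W) = W := by
  ext x
  exact (congrArg (· ∈ W) (ConcreteCategory.congr_hom (𝔜.gInv_toX_base h𝔜 k) x)).to_iff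

theorem down_lvU (V : (𝔜.X 0).Opens) : down k (𝔜.lvU h𝔜 k V) = V := by
  ext x
  exact (congrArg (· ∈ V) (ConcreteCategory.congr_hom (𝔜.toX_base_gInv h𝔜 k) x)).to_iff

include h𝔛 h𝔜 in
theorem lvU_pre (W : (𝔜.X k).Opens) :
    𝔛.lvU h𝔛 k ((f : FSch.Hom 𝔛 𝔜).app 0 ⁻¹ᵁ down k W) = (f : FSch.Hom 𝔛 𝔜).app k ⁻¹ᵁ W :=
  (FSch.Hom.lvU_preimage f h𝔛 h𝔜 k _).symm.trans
    (congrArg (fun Z => (f : FSch.Hom 𝔛 𝔜).app k ⁻¹ᵁ Z) (lvU_down h𝔜 k W))

variable [M.IsQuasicoherent]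

theorem acy_level (W : (𝔛.X 0).Opens) (hW : W ∈ {W | IsAffineOpen (W : (𝔛.X 0).Opens)}) (p : ℕ) :
    Subsingleton (CohTop.HU (Coh.toAb M) (p + 1) ((Opens.map (𝔛.gInv h𝔛 k)).obj W)) :=
  ZarCoh.Affine.HU_subsingleton M (OshBasic.isAffineOpen_lvU 𝔛 h𝔛 k hW) p

/-- Cohomology of the preimage at level `k`, as a section of the presheaf on the base. -/
noncomputable def back (W : (𝔜.X k).Opens) :
    Ext.{u} (Zs.obj ((f : FSch.Hom 𝔛 𝔜).app k ⁻¹ᵁ W : (𝔛.X k).Opens)) (Coh.toAb M) q →+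
      (P h𝔛 f k q M).obj (op (down k W)) :=
  backG (𝔛.gInv h𝔛 k) (Coh.toAb M) {W | IsAffineOpen (W : (𝔛.X 0).Opens)} (Scheme.isBasis_affineOpens _)
    (acy_level h𝔛 k M) q (lvU_pre h𝔛 h𝔜 f k W)

theorem back_bijective (W : (𝔜.X k).Opens) : Function.Bijective (back h𝔛 h𝔜 f k q M W) :=
  backG_bijective (𝔛.gInv h𝔛 k) (Coh.toAb M) _ _ (acy_level h𝔛 k M) q (lvU_pre h𝔛 h𝔜 f k W)

theorem back_rs {V W : (𝔜.X k).Opens} (h : W ≤ V)
    (x : Ext.{u} (Zs.obj ((f : FSch.Hom 𝔛 𝔜).app k ⁻¹ᵁ V : (𝔛.X k).Opens)) (Coh.toAb M) q) :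
    back h𝔛 h𝔜 f k q M W (rs (Coh.toAb M) q (((f : FSch.Hom 𝔛 𝔜).app k).preimage_mono h) x) =
      (P h𝔛 f k q M).map (homOfLE ((𝔜.toX k).preimage_mono h)).op (back h𝔛 h𝔜 f k q M V x) :=
  backG_rs (𝔛.gInv h𝔛 k) (Coh.toAb M) _ _ (acy_level h𝔛 k M) q (lvU_pre h𝔛 h𝔜 f k V) (lvU_pre h𝔛 h𝔜 f k W)
    (((f : FSch.Hom 𝔛 𝔜).app 0).preimage_mono ((𝔜.toX k).preimage_mono h)) _ x

/-- The locally bijective comparison. -/
noncomputable def cmp : CohDelta.Glue.Cmp ((f : FSch.Hom 𝔛 𝔜).app k) M q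
    ((CohTop.push (𝔜.toX k).base).obj
      ((presheafToSheaf (Opens.grothendieckTopology (𝔜.X 0)) AddCommGrpCat.{u}).obj (P h𝔛 f k q M))) where
  e W := ((toSheafify (Opens.grothendieckTopology (𝔜.X 0)) (P h𝔛 f k q M)).app (op (down k W))).hom.comp
    (back h𝔛 h𝔜 f k q M W)
  nat {V W} h x := by
    refine (congrArg ((toSheafify (Opens.grothendieckTopology (𝔜.X 0)) (P h𝔛 f k q M)).app (op (down k W))).hom
      (back_rs h𝔛 h𝔜 f k q M h x)).trans ?_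
    exact (toSheafify (Opens.grothendieckTopology (𝔜.X 0)) (P h𝔛 f k q M)).naturality_apply _ _
  surj V t y hy := by
    have hgi : (𝔜.gInv h𝔜 k) y ∈ down k V :=
      (congrArg (· ∈ V) (ConcreteCategory.congr_hom (𝔜.gInv_toX_base h𝔜 k) y)).mpr hy
    obtain ⟨U, hU, ⟨p, hp⟩, hyU⟩ := (TopCat.Presheaf.isLocallySurjective_iff
      (toSheafify (Opens.grothendieckTopology (𝔜.X 0)) (P h𝔛 f k q M))).1
        (show Presheaf.IsLocallySurjective (Opens.grothendieckTopology (𝔜.X 0))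
          (toSheafify (Opens.grothendieckTopology (𝔜.X 0)) (P h𝔛 f k q M)) from inferInstance) (down k V) t _ hgi
    have h₁ : 𝔜.lvU h𝔜 k U ≤ V := fun z hz =>
      (lvU_down h𝔜 k V).le ((Opens.map (𝔜.gInv h𝔜 k)).monotone hU hz)
    refine ⟨𝔜.lvU h𝔜 k U, h₁, hyU, ?_⟩
    obtain ⟨x, hx⟩ := (back_bijective h𝔛 h𝔜 f k q M (𝔜.lvU h𝔜 k U)).2
      ((P h𝔛 f k q M).map (homOfLE (down_lvU h𝔜 k U).le).op p)
    refine ⟨x, (congrArg ((toSheafify (Opens.grothendieckTopology (𝔜.X 0)) (P h𝔛 f k q M)).app _).hom hx).trans ?_⟩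
    refine ((toSheafify (Opens.grothendieckTopology (𝔜.X 0)) (P h𝔛 f k q M)).naturality_apply _ _).trans ?_
    refine (congrArg _ hp).trans ?_
    exact CohDelta.Units.map_map _ _ _ _ _
  inj V x hx y hy := by
    have hgi : (𝔜.gInv h𝔜 k) y ∈ down k V :=
      (congrArg (· ∈ V) (ConcreteCategory.congr_hom (𝔜.gInv_toX_base h𝔜 k) y)).mpr hy
    obtain ⟨U, i, hU, hyU⟩ := Presheaf.equalizerSieve_mem (Opens.grothendieckTopology (𝔜.X 0))
      (toSheafify (Opens.grothendieckTopology (𝔜.X 0)) (P h𝔛 f k q M)) (back h𝔛 h𝔜 f k q M V x) 0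
      (hx.trans (map_zero _).symm) _ hgi
    have h₁ : 𝔜.lvU h𝔜 k U ≤ V := fun z hz =>
      (lvU_down h𝔜 k V).le ((Opens.map (𝔜.gInv h𝔜 k)).monotone (leOfHom i) hz)
    refine ⟨𝔜.lvU h𝔜 k U, h₁, hyU, (back_bijective h𝔛 h𝔜 f k q M (𝔜.lvU h𝔜 k U)).1 ?_⟩
    refine (back_rs h𝔛 h𝔜 f k q M h₁ x).trans (Eq.trans ?_ (map_zero _).symm)
    refine (CohDelta.Units.map_map (P h𝔛 f k q M) i.op (homOfLE (down_lvU h𝔜 k U).le).op _ _).symm.trans ?_
    exact (congrArg _ (hU.trans (map_zero _))).trans (map_zero _)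

include h𝔜 in
/-- Over an affine open the sheafification does not change the cohomology. -/
theorem toSheafify_bijective [QuasiCompact ((f : FSch.Hom 𝔛 𝔜).app k)]
    [QuasiSeparated ((f : FSch.Hom 𝔛 𝔜).app k)] {V : (𝔜.X 0).Opens} (hV : IsAffineOpen V) :
    Function.Bijective ((toSheafify (Opens.grothendieckTopology (𝔜.X 0)) (P h𝔛 f k q M)).app (op V)).hom := by
  have h := GlueAff.bijective (cmp h𝔛 h𝔜 f k q M) (OshBasic.isAffineOpen_lvU 𝔜 h𝔜 k hV)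
  have h2 : Function.Bijective ((toSheafify (Opens.grothendieckTopology (𝔜.X 0)) (P h𝔛 f k q M)).app
      (op (down k (𝔜.lvU h𝔜 k V)))).hom :=
    (Function.Bijective.of_comp_iff _ (back_bijective h𝔛 h𝔜 f k q M _)).1 h
  rwa [down_lvU h𝔜 k V] at h2

end Groth.Agent.H30.RpushSec
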