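import Groth.Agent.H30.FSch.RpushFF

/-!
# The comparison with the completion of a higher direct image (helper30)
-/

set_option autoImplicit false
set_option linter.style.haveILetI false
set_option linter.unusedSectionVars false

noncomputable section

universe u

open CategoryTheory CategoryTheory.Limits AlgebraicGeometry TopologicalSpace Opposite
open Groth.Agent.H30 Groth.Agent.H30.RealLimSec Groth.Agent.Lib
open Groth.Agent.H30.RpushFilt (pr Tk R)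

namespace Groth.Agent.H30.RpushCompl

variable {X Y : Scheme.{u}} {𝔛 𝔜 : FSch.Sys.{u}} (φ : 𝔛 ⟶ 𝔜)
  (h𝔛 : 𝔛.IsLocNoethFormal) (h𝔜 : 𝔜.IsLocNoethFormal) (f : X ⟶ Y)
  (p : ∀ k, 𝔛.X k ⟶ X) (hp : ∀ k, 𝔛.ι k ≫ p (k + 1) = p k)
  (r : ∀ k, 𝔜.X k ⟶ Y) (hr : ∀ k, 𝔜.ι k ≫ r (k + 1) = r k)
  [∀ k, IsClosedImmersion (p k)] [∀ k, IsClosedImmersion (r k)]
  (hsq : ∀ k, p k ≫ f = (φ : FSch.Hom 𝔛 𝔜).app k ≫ r k)
  [HasInjectiveResolutions X.Modules] [HasInjectiveResolutions (FSch.ModF 𝔛 h𝔛.1)] (n : ℕ) (F : X.Modules)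

/-- The comparison before transposing. -/
def τn : (Coh.Rpush f n).obj F ⟶
    (spush h𝔜.1 r hr).obj ((FSch.RpushF φ h𝔛.1 h𝔜.1 n).obj (Fh h𝔛 p hp F)) :=
  (Coh.Rpush f n).map ((FSch.toSchemeMor 𝔛 h𝔛.1 p hp).adj.unit.app F) ≫
    (nonempty_edgeIso φ h𝔛 h𝔜 f p hp r hr hsq n).some.hom.app (Fh h𝔛 p hp F)

theorem τn_π (k : ℕ) :
    τn φ h𝔛 h𝔜 f p hp r hr hsq n F ≫ (spush h𝔜.1 r hr).map
        ((FSch.RpushF φ h𝔛.1 h𝔜.1 n).map ((FSch.levelMor 𝔛 h𝔛.1 k).adj.unit.app (Fh h𝔛 p hp F))) =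
      (Coh.Rpush f n).map (ν h𝔛 p hp F k) ≫
        (nonempty_edgeIso φ h𝔛 h𝔜 f p hp r hr hsq n).some.hom.app ((LT h𝔛 p hp F).obj (op k)) := by
  refine (Category.assoc _ _ _).trans ?_
  refine (congrArg (_ ≫ ·) ((nonempty_edgeIso φ h𝔛 h𝔜 f p hp r hr hsq n).some.hom.naturality
    ((FSch.levelMor 𝔛 h𝔛.1 k).adj.unit.app (Fh h𝔛 p hp F))).symm).trans ?_
  refine (Category.assoc _ _ _).symm.trans (congrArg (· ≫ _) ?_)
  exact ((Coh.Rpush f n).map_comp _ _).symm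

/-- The comparison. -/
abbrev θn : (FSch.toSchemeMor 𝔜 h𝔜.1 r hr).pull.obj ((Coh.Rpush f n).obj F) ⟶
    (FSch.RpushF φ h𝔛.1 h𝔜.1 n).obj (Fh h𝔛 p hp F) :=
  ((FSch.toSchemeMor 𝔜 h𝔜.1 r hr).adj.homEquiv _ _).symm (τn φ h𝔛 h𝔜 f p hp r hr hsq n F)

theorem unit_θn :
    (FSch.toSchemeMor 𝔜 h𝔜.1 r hr).adj.unit.app ((Coh.Rpush f n).obj F) ≫
        (FSch.toSchemeMor 𝔜 h𝔜.1 r hr).push.map (θn φ h𝔛 h𝔜 f p hp r hr hsq n F) =
      τn φ h𝔛 h𝔜 f p hp r hr hsq n F :=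
  (Adjunction.homEquiv_unit _ _ _ _).symm.trans (Equiv.apply_symm_apply _ _)

variable [IsLocallyNoetherian X] [IsLocallyNoetherian Y] [IsProper f] (𝓘 : Y.IdealSheafData)
  (hIY : ∀ k (U : Y.affineOpens), (r k).ker.ideal U = 𝓘.ideal U ^ (k + 1))
  (hIX : ∀ k (U : X.affineOpens), (p k).ker.ideal U = (𝓘.comap f).ideal U ^ (k + 1))
  (hφ : FSch.IsProperHom φ)

include hIY hIX hφ in
/-- The completion of a higher direct image. -/
theorem isIso_θn (hF : Coh.IsCoh F) (hH : Coh.IsCoh ((Coh.Rpush f n).obj F))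
    (hFh : FSch.IsCohF 𝔛 h𝔛.1 (Fh h𝔛 p hp F)) :
    IsIso (θn φ h𝔛 h𝔜 f p hp r hr hsq n F) := by
  classical
  let H := (Coh.Rpush f n).obj F
  haveI := hH.1
  let PS := ComplSec.pullSys r hr H
  have hc := ComplMonoEpi.isCoh_pullSys r hr hH
  have hγ := ComplPull.isIso_γ h𝔜 r hr H hH hc
  let Θ : FSch.realLim 𝔜 h𝔜.1 PS.F PS.toPush ⟶ (FSch.RpushF φ h𝔛.1 h𝔜.1 n).obj (Fh h𝔛 p hp F) :=
    @inv _ _ _ _ (ComplPull.γ h𝔜 r hr H) hγ ≫ θn φ h𝔛 h𝔜 f p hp r hr hsq n F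
  have hγΘ : ComplPull.γ h𝔜 r hr H ≫ Θ = θn φ h𝔛 h𝔜 f p hp r hr hsq n F :=
    @IsIso.hom_inv_id_assoc _ _ _ _ (ComplPull.γ h𝔜 r hr H) hγ _ _
  let E := (nonempty_edgeIso φ h𝔛 h𝔜 f p hp r hr hsq n).some
  let eX : ∀ U : Y.Opens, Γ(H, U) → sec h𝔜.1 (FSch.realLim 𝔜 h𝔜.1 PS.F PS.toPush) (ComplSec.pre r U) :=
    fun U m => ComplPull.ehat h𝔜 r hr H U m
  have hΘe : ∀ (U : Y.Opens) (m : Γ(H, U)),
      secMap h𝔜.1 Θ (ComplSec.pre r U) (eX U m) = (τn φ h𝔛 h𝔜 f p hp r hr hsq n F).val.app (op U) m := by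
    intro U m
    have h1 : (ComplPull.τ h𝔜 r hr H).val.app (op U) m = eX U m := rfl
    have h2 : ComplPull.τ h𝔜 r hr H ≫ (FSch.toSchemeMor 𝔜 h𝔜.1 r hr).push.map Θ =
        τn φ h𝔛 h𝔜 f p hp r hr hsq n F := by
      refine (congrArg (· ≫ _) (ComplPull.homEquiv_γ h𝔜 r hr H).symm).trans ?_
      refine ((FSch.toSchemeMor 𝔜 h𝔜.1 r hr).adj.homEquiv_naturality_right _ _).symm.trans ?_
      exact (congrArg _ hγΘ).trans (Equiv.apply_symm_apply _ _)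
    exact congrArg (fun χ => χ.val.app (op U) m) h2
  have hφk : ∀ (k : ℕ) (U : Y.Opens) (m : Γ(H, U)),
      pr h𝔛 h𝔜 φ (Fh h𝔛 p hp F) n k (ComplSec.pre r U) ((τn φ h𝔛 h𝔜 f p hp r hr hsq n F).val.app (op U) m) =
        (E.hom.app ((LT h𝔛 p hp F).obj (op k))).app U (((Coh.Rpush f n).map (ν h𝔛 p hp F k)).app U m) :=
    fun k U m => congrArg (fun χ => χ.val.app (op U) m) (τn_π φ h𝔛 h𝔜 f p hp r hr hsq n F k)
  have hEb : ∀ (k : ℕ) (U : Y.Opens), Function.Bijective ((E.hom.app ((LT h𝔛 p hp F).obj (op k))).app U) :=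
    fun k U => H78.Formal.Sections.app_bijective _ U
  have hcont : ∀ k (U : Y.Opens), IsAffineOpen U →
      ∀ x : sec h𝔜.1 (FSch.realLim 𝔜 h𝔜.1 PS.F PS.toPush) (ComplSec.pre r U),
      π h𝔜.1 PS.F PS.toPush k (ComplSec.pre r U) x = 0 →
      pr h𝔛 h𝔜 φ (Fh h𝔛 p hp F) n k (ComplSec.pre r U) (secMap h𝔜.1 Θ (ComplSec.pre r U) x) = 0 := by
    intro k U hU x hx
    have hV := ComplSec.isAffineOpen_pre r hU
    have hx' : x ∈ Levels.J (h := h𝔜.1) (ComplSec.pre r U) ^ (k + 1) • (⊤ : Submodule (Levels.A 𝔜 h𝔜.1 (ComplSec.pre r U))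
        (sec h𝔜.1 (FSch.realLim 𝔜 h𝔜.1 PS.F PS.toPush) (ComplSec.pre r U))) :=
      ((CohSys.main h𝔜 PS hc hV).2.2 k).2.le (LinearMap.mem_ker.2 hx)
    refine LinearMap.mem_ker.1 (RpushCoh.Jpow_le_ker h𝔜 h𝔛 φ (Fh h𝔛 p hp F) n k hV hφ hFh ?_)
    refine Submodule.smul_induction_on hx' (fun a ha w _ => ?_) fun a b ha hb => ?_
    · exact ((secMap h𝔜.1 Θ (ComplSec.pre r U)).map_smul a w) ▸ Submodule.smul_mem_smul ha trivial
    · exact (map_add (secMap h𝔜.1 Θ (ComplSec.pre r U)) a b) ▸ add_mem ha hb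
  have hlow : ∀ {k l : ℕ} (hkl : k ≤ l) {W : (𝔜.X 0).Opens}
      (x : sec h𝔜.1 (FSch.realLim 𝔜 h𝔜.1 PS.F PS.toPush) W),
      π h𝔜.1 PS.F PS.toPush l W x = 0 → π h𝔜.1 PS.F PS.toPush k W x = 0 := fun {k l} hkl {W} x hx =>
    ProperShift.π_zero_of_le h𝔜 r hr H x hkl hx
  have hbij : ∀ U : Y.affineOpens, Function.Bijective (secMap h𝔜.1 Θ (ComplSec.pre r U.1)) := by
    intro U
    obtain ⟨c, hinj, hsurj⟩ := exists_shift h𝔛 f p hp n F hF 𝓘 hIX U.2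
    have hσ : ∀ k (m : Γ(H, U.1)),
        ((Coh.Rpush f n).map (ν h𝔛 p hp F (k + c))).app U.1 m = 0 →
        ComplSec.σ h𝔜.1 r hr H k U.1 m = 0 := fun k m hm => by
      rw [ComplSec.σ_eq_zero_iff h𝔜.1 r hr H k U.2, hIY k U]
      exact hinj k m hm
    refine ⟨(injective_iff_map_eq_zero _).2 fun x hx => ?_, fun y => ?_⟩
    · refine RealLimSec.ext_of_π h𝔜.1 _ _ _ _ fun k => ?_
      obtain ⟨m, hm⟩ := ComplSec.σ_surjective h𝔜.1 r hr H (k + c) U.2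
        (π h𝔜.1 PS.F PS.toPush (k + c) (ComplSec.pre r U.1) x)
      have hm' : π h𝔜.1 PS.F PS.toPush (k + c) (ComplSec.pre r U.1) (x - eX U.1 m) = 0 := by
        rw [map_sub, ComplPull.π_ehat, hm, sub_self]
      have h1 := hcont (k + c) U.1 U.2 _ hm'
      rw [map_sub, hx, hΘe, map_sub, map_zero, zero_sub, neg_eq_zero, hφk] at h1
      have h4 := hσ k m ((hEb (k + c) U.1).1 (h1.trans (map_zero _).symm))
      have h6 := hlow (Nat.le_add_right k c) _ hm'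
      rw [map_sub, ComplPull.π_ehat, h4, sub_zero] at h6
      rw [h6, map_zero]
    · have hu : ∀ k, ∃ m : Γ(H, U.1), (E.hom.app ((LT h𝔛 p hp F).obj (op k))).app U.1
          (((Coh.Rpush f n).map (ν h𝔛 p hp F k)).app U.1 m) =
          pr h𝔛 h𝔜 φ (Fh h𝔛 p hp F) n k (ComplSec.pre r U.1) y := by
        intro k
        obtain ⟨z, hz⟩ := (hEb (k + c) U.1).2 (pr h𝔛 h𝔜 φ (Fh h𝔛 p hp F) n (k + c) (ComplSec.pre r U.1) y)
        obtain ⟨m, hm⟩ := hsurj k z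
        refine ⟨m, ?_⟩
        rw [hm]
        let t := (LT h𝔛 p hp F).map (homOfLE (Nat.le_add_right k c)).op
        refine (congrArg (fun χ => χ.app U.1 z) (E.hom.naturality t)).trans ?_
        refine (congrArg (secMap h𝔜.1 ((FSch.RpushF φ h𝔛.1 h𝔜.1 n).map t) (ComplSec.pre r U.1)) hz).trans ?_
        exact congrArg (fun χ => secMap h𝔜.1 χ (ComplSec.pre r U.1) y)
          (((FSch.RpushF φ h𝔛.1 h𝔜.1 n).map_comp _ _).symm.trans
            (congrArg (FSch.RpushF φ h𝔛.1 h𝔜.1 n).map (unit_LT h𝔛 p hp F (Nat.le_add_right k c))))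
      choose m hm using fun k => hu (k + c)
      have hlev : ∀ k l, k ≤ l → (E.hom.app ((LT h𝔛 p hp F).obj (op k))).app U.1
          (((Coh.Rpush f n).map (ν h𝔛 p hp F k)).app U.1 (m l)) =
          pr h𝔛 h𝔜 φ (Fh h𝔛 p hp F) n k (ComplSec.pre r U.1) y := fun k l hkl => by
        let t := (LT h𝔛 p hp F).map (homOfLE (show k ≤ l + c by omega)).op
        have e1 := congrArg (secMap h𝔜.1 ((FSch.RpushF φ h𝔛.1 h𝔜.1 n).map t) (ComplSec.pre r U.1)) (hm l)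
        refine Eq.trans ?_ (e1.trans ?_)
        · refine Eq.trans ?_ (congrArg (fun χ => χ.app U.1 (((Coh.Rpush f n).map (ν h𝔛 p hp F (l + c))).app U.1 (m l)))
            (E.hom.naturality t))
          refine congrArg ((E.hom.app ((LT h𝔛 p hp F).obj (op k))).app U.1) ?_
          exact (congrArg (fun χ => χ.app U.1 (m l)) (((Coh.Rpush f n).map_comp _ _).symm.trans
            (congrArg (Coh.Rpush f n).map (ν_trans h𝔛 p hp F (show k ≤ l + c by omega))))).symm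
        · exact congrArg (fun χ => secMap h𝔜.1 χ (ComplSec.pre r U.1) y)
            (((FSch.RpushF φ h𝔛.1 h𝔜.1 n).map_comp _ _).symm.trans
              (congrArg (FSch.RpushF φ h𝔛.1 h𝔜.1 n).map (unit_LT h𝔛 p hp F _)))
      have hx : ∀ k, tr h𝔜.1 PS.F PS.toPush k (ComplSec.pre r U.1)
          (ComplSec.σ h𝔜.1 r hr H (k + 1) U.1 (m (k + 1))) = ComplSec.σ h𝔜.1 r hr H k U.1 (m k) := fun k => by
        rw [ComplSec.tr_σ h𝔜.1 r hr H h𝔜, ← sub_eq_zero, ← map_sub]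
        refine hσ k (m (k + 1) - m k) ((hEb (k + c) U.1).1 ?_)
        rw [map_sub, map_sub, map_zero, sub_eq_zero]
        refine Eq.trans ?_ (hm k).symm
        have e := hm (k + 1)
        let t := (LT h𝔛 p hp F).map (homOfLE (show k + c ≤ k + 1 + c by omega)).op
        have e1 := congrArg (secMap h𝔜.1 ((FSch.RpushF φ h𝔛.1 h𝔜.1 n).map t) (ComplSec.pre r U.1)) e
        refine Eq.trans ?_ (e1.trans ?_)
        · refine Eq.trans ?_ (congrArg (fun χ => χ.app U.1 (((Coh.Rpush f n).map (ν h𝔛 p hp F (k + 1 + c))).app U.1 (m (k + 1))))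
            (E.hom.naturality t))
          refine congrArg ((E.hom.app ((LT h𝔛 p hp F).obj (op (k + c)))).app U.1) ?_
          exact (congrArg (fun χ => χ.app U.1 (m (k + 1))) (((Coh.Rpush f n).map_comp _ _).symm.trans
            (congrArg (Coh.Rpush f n).map (ν_trans h𝔛 p hp F (show k + c ≤ k + 1 + c by omega))))).symm
        · exact congrArg (fun χ => secMap h𝔜.1 χ (ComplSec.pre r U.1) y)
            (((FSch.RpushF φ h𝔛.1 h𝔜.1 n).map_comp _ _).symm.trans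
              (congrArg (FSch.RpushF φ h𝔛.1 h𝔜.1 n).map (unit_LT h𝔛 p hp F _)))
      obtain ⟨x, hx'⟩ := RealLimSec.exists_of_compatible h𝔜.1 PS.F
        PS.toPush (V := ComplSec.pre r U.1) (fun k => ComplSec.σ h𝔜.1 r hr H k U.1 (m k)) hx
      refine ⟨x, RpushFilt.ext_of_pr h𝔛 h𝔜 φ (Fh h𝔛 p hp F) n hφ hFh fun k => ?_⟩
      have h1 := hcont k U.1 U.2 (x - eX U.1 (m k)) (by rw [map_sub, hx', ComplPull.π_ehat, sub_self])
      rw [map_sub, map_sub, hΘe, hφk, sub_eq_zero] at h1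
      exact h1.trans (hlev k k le_rfl)
  haveI : IsIso ((SheafOfModules.toSheaf _).map Θ) := by
    refine TopCat.Sheaf.isIso_iff_isIso_basis (ComplSec.isBasis_pre r) fun U => ?_
    exact (ConcreteCategory.isIso_iff_bijective _).2 (hbij U)
  haveI hΘ : IsIso Θ := isIso_of_reflects_iso Θ (SheafOfModules.toSheaf _)
  rw [← hγΘ]
  exact IsIso.comp_isIso' hγ hΘ

end Groth.Agent.H30.RpushCompl
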