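import Groth.Agent.H30.FSch.TorsQcoh
import Groth.Agent.H22.IndColim.Kernel
import Groth.Agent.Lib.ModSiteLoc.PullFree
import Groth.Agent.Lib.Modules.ExtendFT
import Groth.Agent.Lib.CohBasics.Closure

/-!
# The torsion submodule of a quasi-coherent module is the union of coherent modules (helper30)
-/

set_option autoImplicit false
set_option maxHeartbeats 1000000
set_option linter.style.haveILetI false
set_option linter.unusedSectionVars false

universe u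

open CategoryTheory CategoryTheory.Limits AlgebraicGeometry TopologicalSpace Opposite
open Groth.Agent.H30 Groth.Agent.H30.RealLimSec Groth.Agent.H22.IndColim Groth.Agent.Lib

namespace Groth.Agent.H30.TorsLevel

/-- Comparison of two torsion subsheaves. -/
noncomputable def gammaLE {C : Type u} [SmallCategory C] {J : GrothendieckTopology C} {O : Sheaf J CommRingCat.{u}}
    (I I' : FTors.IdealFam O) (M : ModSite.Mod O)
    (hle : ∀ (U : C) (s : ModSite.sect M U), FTors.IsTorsSect I M s → FTors.IsTorsSect I' M s) :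
    (FTors.gamma O I).obj M ⟶ (FTors.gamma O I').obj M :=
  ⟨PresheafOfModules.homMk
    { app := fun X => AddCommGrpCat.ofHom
        { toFun := fun s => ⟨s.1, hle X.unop s.1 s.2⟩
          map_zero' := rfl
          map_add' := fun _ _ => rfl }
      naturality := fun _ _ g => by ext s; rfl }
    (fun _ r s => rfl)⟩

variable {𝔛 : FSch.Sys.{u}} {h : 𝔛.IsFormal}

/-- The constant family of the `n`-th open ideal. -/
noncomputable def constFam (h : 𝔛.IsFormal) (n : ℕ) : FTors.IdealFam (𝔛.Osh h) where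
  ideal _ U := (FTors.openIdealFam 𝔛 h).ideal n U
  antitone' _ _ := le_rfl
  map_mem' _ _ _ g a ha := (FTors.openIdealFam 𝔛 h).map_mem n g ha

/-- The sections killed by the `n`-th open ideal. -/
noncomputable abbrev Mn (M : FSch.ModF 𝔛 h) (n : ℕ) : FSch.ModF 𝔛 h :=
  (FTors.gamma (𝔛.Osh h) (constFam h n)).obj M

theorem isTorsSect_const_iff (M : FSch.ModF 𝔛 h) (n : ℕ) {U : (𝔛.X 0).Opens} (x : sec h M U) :
    FTors.IsTorsSect (constFam h n) M x ↔ TorsCoh.Killed n M x := by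
  refine ⟨fun hx => TorsCoh.Killed.of_locally fun z hz => ?_, fun hx => ?_⟩
  · obtain ⟨V, g, ⟨m, hm⟩, hzV⟩ := hx z hz
    exact ⟨V, leOfHom g, hzV, (TorsCoh.killed_iff n M _).1 fun W g' a ha => hm g' a ha⟩
  · exact FTors.IsTorsSect.of_killedBy (n := 0)
      fun W g a ha => (TorsCoh.killed_iff n M x).2 hx g a ha

theorem killed_mn (M : FSch.ModF 𝔛 h) (n : ℕ) {U : (𝔛.X 0).Opens} (x : sec h (Mn M n) U) :
    TorsCoh.Killed n M (secMap h ((FTors.gammaι (constFam h n)).app M) U x) :=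
  (isTorsSect_const_iff M n _).1 x.2

theorem mono_gammaι (I : FTors.IdealFam (𝔛.Osh h)) (M : FSch.ModF 𝔛 h) :
    Mono ((FTors.gammaι I).app M) :=
  CohCons.mono_of_injective _ fun _ _ _ hxy => Subtype.ext hxy

/-- Sections killed by one open ideal are torsion. -/
noncomputable def incl (M : FSch.ModF 𝔛 h) (n : ℕ) : Mn M n ⟶ (FTors.gammaT 𝔛 h).obj M :=
  gammaLE (constFam h n) (FTors.openIdealFam 𝔛 h) M fun _ s hs =>
    FTors.IsTorsSect.of_killedBy ((TorsCoh.killed_iff n M s).2 ((isTorsSect_const_iff M n s).1 hs))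

theorem mono_incl (M : FSch.ModF 𝔛 h) (n : ℕ) : Mono (incl M n) :=
  CohCons.mono_of_injective _ fun _ x y hxy => Subtype.ext (congrArg (fun z => z.1) hxy)

variable (h𝔛 : 𝔛.IsLocNoethFormal)

section Qcoh

variable (M : FSch.ModF 𝔛 h𝔛.1) [SheafOfModules.IsQuasicoherent.{u} M]

/-- Small affine opens with generation and relations. -/
theorem exists_small (x : 𝔛.X 0) :
    ∃ (W : (𝔛.X 0).Opens) (L : Submodule (Levels.A 𝔛 h𝔛.1 W) (sec h𝔛.1 M W)), x ∈ W ∧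
      IsAffineOpen W ∧ TorsQcoh.GenAt M L (fun _ _ => True) ∧ TorsQcoh.QAt M L := by
  obtain ⟨W₀, hx, ⟨p⟩⟩ := QcFT.exists_presentation h𝔛 (G := M) x
  obtain ⟨W, hW, hxW, hle⟩ := Opens.isBasis_iff_nbhd.1 (CohPres.isBasis_affine (𝔛.X 0)) hx
  exact ⟨W, _, hxW, hW, TorsQcoh.genAt_comb h𝔛 p hle, TorsQcoh.qAt_comb h𝔛 p hW hle⟩

theorem isQuasicoherent_mn (n : ℕ) : SheafOfModules.IsQuasicoherent.{u} (Mn M n) := by
  refine FSchInd28.Span.isQuasicoherent_of_span _ fun x => ?_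
  obtain ⟨W, L, hxW, hW, hg, hq⟩ := exists_small h𝔛 M x
  haveI := mono_gammaι (constFam h𝔛.1 n) M
  exact ⟨W, hxW, TorsQcoh.nonempty_presentation h𝔛 ((FTors.gammaι (constFam h𝔛.1 n)).app M)
    (L ⊓ TorsQcoh.killedSub h𝔛 M n W)
    (fun y hy => ⟨⟨y, (isTorsSect_const_iff M n y).2 hy.2⟩, rfl⟩)
    (fun _ s => TorsCoh.Killed n M s) (fun _ s => killed_mn M n s)
    (TorsQcoh.genAt_killed h𝔛 hW hg hq n) (hq.mono inf_le_left)⟩

/-- The torsion submodule of a quasi-coherent module is quasi-coherent. -/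
theorem isQuasicoherent_gammaT :
    SheafOfModules.IsQuasicoherent.{u} ((FTors.gammaT 𝔛 h𝔛.1).obj M) := by
  refine FSchInd28.Span.isQuasicoherent_of_span _ fun x => ?_
  obtain ⟨W, L, hxW, hW, hg, hq⟩ := exists_small h𝔛 M x
  haveI := mono_gammaι (FTors.openIdealFam 𝔛 h𝔛.1) M
  refine ⟨W, hxW, TorsQcoh.nonempty_presentation h𝔛 ((FTors.gammaTι 𝔛 h𝔛.1).app M)
    (L ⊓ FTors.torsSub (FTors.openIdealFam 𝔛 h𝔛.1) M W)
    (fun y hy => ⟨⟨y, hy.2⟩, rfl⟩)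
    (fun _ s => FTors.IsTorsSect (FTors.openIdealFam 𝔛 h𝔛.1) M s) (fun _ s => s.2)
    (fun Z hZ s hs z hz => ?_) (hq.mono inf_le_left)⟩
  obtain ⟨V, e, n, hzV, hn⟩ := TorsCoh.exists_killed_of_isTorsSect s hs z hz
  obtain ⟨U, hUV, m, a, t, hzU, ht, hst⟩ :=
    TorsQcoh.genAt_killed h𝔛 hW hg hq n V (e.trans hZ) _ hn z hzV
  exact ⟨U, hUV.trans e, m, a, t, hzU,
    fun i => ⟨(ht i).1, FTors.IsTorsSect.of_killedBy ((TorsCoh.killed_iff n M _).2 (ht i).2)⟩,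
    (TorsCoh.resF_resF M e hUV s).symm.trans hst⟩

end Qcoh

section Levels

variable (M : FSch.ModF 𝔛 h𝔛.1) (n : ℕ)

theorem eq_zero_of_η {U : (𝔛.X 0).Opens} (y : sec h𝔛.1 (Mn M n) U)
    (hy : LevelPull.η h𝔛.1 n (Mn M n) U y = 0) : y = 0 := by
  refine TorsCoh.eq_zero_of_locally _ y fun w hw => ?_
  obtain ⟨V, _, hVU, hzV, hm⟩ := LevelPull.exists_mem_of_unit_eq_zero h𝔛.1 n (Mn M n) y hy
    (z := (𝔛.toX n).base w) (by
      show 𝔛.gInv h𝔛.1 n ((𝔛.toX n).base w) ∈ U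
      rw [show 𝔛.gInv h𝔛.1 n ((𝔛.toX n).base w) = w from
        ConcreteCategory.congr_hom (𝔛.toX_base_gInv h𝔛.1 n) w]
      exact hw)
  have hwV : w ∈ V := by
    have h1 : 𝔛.gInv h𝔛.1 n ((𝔛.toX n).base w) ∈ V := hzV
    rwa [show 𝔛.gInv h𝔛.1 n ((𝔛.toX n).base w) = w from
      ConcreteCategory.congr_hom (𝔛.toX_base_gInv h𝔛.1 n) w] at h1
  refine ⟨V, hVU, hwV, ?_⟩
  have hbot : LevelPull.IF h𝔛.1 n (Mn M n) V ≤ ⊥ := Submodule.smul_le.2 fun a ha x _ =>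
    (Submodule.mem_bot _).2 (by
      haveI := mono_gammaι (constFam h𝔛.1 n) M
      refine CohCons.secMap_injective ((FTors.gammaι (constFam h𝔛.1 n)).app M) V ?_
      rw [map_smul, map_zero]
      have h1 := killed_mn M n x V le_rfl a (RingHom.mem_ker.1 ha)
      refine Eq.trans ?_ h1
      exact congrArg (a • ·) (ConcreteCategory.congr_hom ((congrArg (fun φ => M.val.presheaf.map φ)
        (Subsingleton.elim (homOfLE (le_refl V)).op (𝟙 (op V)))).trans (M.val.presheaf.map_id (op V))) _).symm)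
  exact (Submodule.mem_bot _).1 (hbot hm)

theorem isIso_unit : IsIso ((FSch.levelMor 𝔛 h𝔛.1 n).adj.unit.app (Mn M n)) := by
  haveI : Mono ((FSch.levelMor 𝔛 h𝔛.1 n).adj.unit.app (Mn M n)) :=
    CohCons.mono_of_injective _ fun V x y hxy => sub_eq_zero.1 (eq_zero_of_η h𝔛 M n _ (by
      show LevelPull.η h𝔛.1 n (Mn M n) V.1 (x - y) = 0
      rw [map_sub, sub_eq_zero]
      exact hxy))
  have hls : Sheaf.IsLocallySurjective ((SheafOfModules.toSheaf (ModSite.ringSh (𝔛.Osh h𝔛.1))).map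
      ((FSch.levelMor 𝔛 h𝔛.1 n).adj.unit.app (Mn M n))) := by
    refine ⟨fun {U} s z hz => ?_⟩
    have hg : 𝔛.gInv h𝔛.1 n ((𝔛.toX n).base z) = z :=
      ConcreteCategory.congr_hom (𝔛.toX_base_gInv h𝔛.1 n) z
    obtain ⟨V, _, hzV, hVc, m, hm⟩ := LevelPull.exists_unit_eq h𝔛.1 n (Mn M n)
      (c := 𝔛.lvU h𝔛.1 n U) s (z := (𝔛.toX n).base z) (by
        show 𝔛.gInv h𝔛.1 n ((𝔛.toX n).base z) ∈ U
        rw [hg]
        exact hz)
    have hzV' : z ∈ V := by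
      have h1 : 𝔛.gInv h𝔛.1 n ((𝔛.toX n).base z) ∈ V := hzV
      rwa [hg] at h1
    exact ⟨V, homOfLE (LevelPull.le_of_lvU_le h𝔛.1 n hVc), ⟨m, hm⟩, hzV'⟩
  have hepi : Epi ((SheafOfModules.toSheaf (ModSite.ringSh (𝔛.Osh h𝔛.1))).map
      ((FSch.levelMor 𝔛 h𝔛.1 n).adj.unit.app (Mn M n))) := AbBasis.epi_of_locallySurjective _ hls
  haveI : Epi ((FSch.levelMor 𝔛 h𝔛.1 n).adj.unit.app (Mn M n)) :=
    (SheafOfModules.toSheaf (ModSite.ringSh (𝔛.Osh h𝔛.1))).epi_of_epi_map hepi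
  exact Groth.Agent.H22.IndColim.isIso_of_epi_mono _

end Levels

/-- Finitely many sections of a quasi-coherent module lie in one coherent submodule. -/
theorem exists_coh_sub {X : Scheme.{u}} [IsLocallyNoetherian X] (F : X.Modules) [F.IsQuasicoherent]
    {U : X.Opens} (hU : IsAffineOpen U) {m : ℕ} (s : Fin m → Γ(F, U)) :
    ∃ (G : X.Modules) (i : G ⟶ F), Mono i ∧ Coh.IsCoh G ∧ ∀ l, ∃ g, i.app U g = s l := by
  classical
  have hX : ∀ x : X, ∃ V : X.Opens, x ∈ V ∧ NoetherianSpace (V : Set X) := fun x => by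
    obtain ⟨V, hV, hxV, -⟩ := exists_isAffineOpen_mem_and_subset (X := X) (x := x) (U := ⊤) trivial
    haveI := IsLocallyNoetherian.component_noetherian (X := X) ⟨V, hV⟩
    exact ⟨V, hxV, noetherianSpace_of_isAffineOpen V hV⟩
  have h1 : ∀ l, ∃ (G : X.Modules) (i : G ⟶ F), Coh.IsCoh G ∧ ∃ g, i.app U g = s l := fun l => by
    obtain ⟨G, i, -, hq, hft, g, hg⟩ := Lib.Modules.ExtendFT.exists_through_section (F := F) hX hU (s l)
    exact ⟨G, i, ⟨hq, hft⟩, g, hg⟩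
  have h2 : ∃ (G : X.Modules) (i : G ⟶ F), Coh.IsCoh G ∧ ∀ l, ∃ g, i.app U g = s l := by
    clear hX
    induction m with
    | zero =>
      have hz : IsZero (kernel (𝟙 F)) := isZero_kernel_of_mono _
      refine ⟨kernel (𝟙 F), 0, ?_, fun l => Fin.elim0 l⟩
      haveI : (kernel (𝟙 F)).IsQuasicoherent := QCoh.Closure.isQCoh_kernel _
      refine CohBasics.Closure.isCoh_of_finite_sections fun V _ => ?_
      haveI : Subsingleton Γ(kernel (𝟙 F), V) := ⟨fun a b => by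
        have e := hz.eq_of_src (𝟙 _) 0
        exact (congrArg (fun ψ : kernel (𝟙 F) ⟶ kernel (𝟙 F) => ψ.app V a) e).trans
          (congrArg (fun ψ : kernel (𝟙 F) ⟶ kernel (𝟙 F) => ψ.app V b) e).symm⟩
      infer_instance
    | succ m ih =>
      obtain ⟨G₀, i₀, hG₀, h₀⟩ := ih (fun l => s l.castSucc) fun l => h1 l.castSucc
      obtain ⟨G₁, i₁, hG₁, g₁, hg₁⟩ := h1 (Fin.last m)
      refine ⟨G₀ ⊞ G₁, biprod.desc i₀ i₁, CohBasics.Closure.isCoh_biprod hG₀ hG₁, fun l => ?_⟩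
      refine Fin.lastCases ?_ (fun l => ?_) l
      · exact ⟨(biprod.inr : G₁ ⟶ G₀ ⊞ G₁).app U g₁,
          (congrArg (fun ψ : G₁ ⟶ F => ψ.app U g₁) (biprod.inr_desc i₀ i₁)).trans hg₁⟩
      · obtain ⟨g, hg⟩ := h₀ l
        exact ⟨(biprod.inl : G₀ ⟶ G₀ ⊞ G₁).app U g,
          (congrArg (fun ψ : G₀ ⟶ F => ψ.app U g) (biprod.inl_desc i₀ i₁)).trans hg⟩
  obtain ⟨G, i, hG, hs⟩ := h2
  refine ⟨Abelian.coimage i, Abelian.factorThruCoimage i, inferInstance,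
    CohBasics.Closure.isCoh_cokernel (kernel.ι i)
      (CohBasics.Closure.isCoh_kernel i hG ‹F.IsQuasicoherent›).1 hG, fun l => ?_⟩
  obtain ⟨g, hg⟩ := hs l
  exact ⟨(Abelian.coimage.π i).app U g,
    (congrArg (fun ψ : G ⟶ F => ψ.app U g) (Abelian.coimage.fac i)).trans hg⟩

variable (M : FSch.ModF 𝔛 h𝔛.1) [SheafOfModules.IsQuasicoherent.{u} M]

/-- Finitely many torsion sections lie in one coherent submodule. -/
theorem exists_coh_through {W : (𝔛.X 0).Opens} (hW : IsAffineOpen W) {m : ℕ}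
    (b : Fin m → sec h𝔛.1 ((FTors.gammaT 𝔛 h𝔛.1).obj M) W) :
    ∃ (T : FSch.ModF 𝔛 h𝔛.1) (φ : T ⟶ (FTors.gammaT 𝔛 h𝔛.1).obj M),
      Mono φ ∧ FSch.IsCohF 𝔛 h𝔛.1 T ∧ ∀ i, ∃ t, secMap h𝔛.1 φ W t = b i := by
  classical
  choose k hk using fun i => TorsCoh.exists_killed hW.isCompact (M := M) (b i).1 (b i).2
  let n := Finset.univ.sup k
  let b' : Fin m → sec h𝔛.1 (Mn M n) W := fun i => ⟨(b i).1,
    (isTorsSect_const_iff M n _).2 ((hk i).mono (Finset.le_sup (Finset.mem_univ i)))⟩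
  haveI : IsLocallyNoetherian (𝔛.X n) := h𝔛.2.2 n
  haveI : ((FSch.levelMor 𝔛 h𝔛.1 n).pull.obj (Mn M n)).IsQuasicoherent :=
    ModSiteLoc.PullFree.isQuasicoherent_pull (FSch.levelMor 𝔛 h𝔛.1 n) (isQuasicoherent_mn h𝔛 M n)
  obtain ⟨G, i', hi, hG, hg⟩ := exists_coh_sub ((FSch.levelMor 𝔛 h𝔛.1 n).pull.obj (Mn M n))
    (OshBasic.isAffineOpen_lvU 𝔛 h𝔛.1 n hW)
    (fun i => LevelPull.η h𝔛.1 n (Mn M n) W (b' i))
  haveI := isIso_unit h𝔛 M n
  haveI := mono_incl M n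
  haveI : (FSch.levelMor 𝔛 h𝔛.1 n).push.IsRightAdjoint := (FSch.levelMor 𝔛 h𝔛.1 n).adj.isRightAdjoint
  haveI : (FSch.levelMor 𝔛 h𝔛.1 n).push.PreservesMonomorphisms :=
    Functor.preservesMonomorphisms_of_adjunction (FSch.levelMor 𝔛 h𝔛.1 n).adj
  haveI : Mono ((FSch.levelMor 𝔛 h𝔛.1 n).push.map i') :=
    @Functor.map_mono _ _ _ _ (FSch.levelMor 𝔛 h𝔛.1 n).push ‹_› _ _ i' hi
  let u := (FSch.levelMor 𝔛 h𝔛.1 n).adj.unit.app (Mn M n)
  refine ⟨(FSch.levelMor 𝔛 h𝔛.1 n).push.obj G,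
    (FSch.levelMor 𝔛 h𝔛.1 n).push.map i' ≫ inv u ≫ incl M n, inferInstance,
    LevelCoh.isCohF_push h𝔛 n G hG, fun i => ?_⟩
  obtain ⟨g, hg'⟩ := hg i
  refine ⟨g, ?_⟩
  rw [secMap_comp, secMap_comp,
    show secMap h𝔛.1 ((FSch.levelMor 𝔛 h𝔛.1 n).push.map i') W g = secMap h𝔛.1 u W (b' i) from hg',
    ← secMap_comp u (inv u), IsIso.hom_inv_id, secMap_id]
  exact Subtype.ext rfl

/-- The torsion submodule is a filtered colimit of coherent modules. -/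
theorem ind_gammaT :
    (ObjectProperty.ind.{u} fun 𝔊 : FSch.ModF 𝔛 h𝔛.1 => FSch.IsCohF 𝔛 h𝔛.1 𝔊)
      ((FTors.gammaT 𝔛 h𝔛.1).obj M) := by
  classical
  have hex : ∀ k : Σ W : (𝔛.X 0).affineOpens, sec h𝔛.1 ((FTors.gammaT 𝔛 h𝔛.1).obj M) W.1,
      ∃ (T : FSch.ModF 𝔛 h𝔛.1) (φ : T ⟶ (FTors.gammaT 𝔛 h𝔛.1).obj M),
        Mono φ ∧ FSch.IsCohF 𝔛 h𝔛.1 T ∧ ∃ t, secMap h𝔛.1 φ k.1.1 t = k.2 := fun k => by
    obtain ⟨T, φ, hφ, hT, ht⟩ := exists_coh_through h𝔛 M k.1.2 (m := 1) fun _ => k.2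
    exact ⟨T, φ, hφ, hT, ht 0⟩
  choose T χ hmono hT t ht using hex
  refine Groth.Agent.H22.IndColim.ind_of_family h𝔛 T hT ?_ χ fun a b hab => ?_
  · intro W hW ι _ b Z hZ c hc
    let e := Fintype.equivFin ι
    obtain ⟨T', φ, _, hT', ht'⟩ := exists_coh_through h𝔛 M hW fun i => b (e.symm i)
    choose t' ht' using ht'
    have hb : ∀ i, secMap h𝔛.1 φ W (t' (e i)) = b i := fun i => by
      rw [ht', Equiv.symm_apply_apply]
    refine (q_coh h𝔛 hT' W hW ι (fun i => t' (e i)) Z hZ c ?_).mono fun r hr => ?_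
    · refine CohCons.secMap_injective φ Z ?_
      simp only [secMap_id, map_sum, map_smul, secMap_res, hb, map_zero]
      exact hc
    · have h1 := congrArg (secMap h𝔛.1 φ W) (show secMap h𝔛.1 (𝟙 T') W _ = 0 from hr)
      simp only [secMap_id, map_sum, map_smul, hb, map_zero] at h1
      exact h1
  · refine LevelAdj.hom_extF fun V x => ?_
    rw [show x = secMap h𝔛.1 (χ ⟨V, x⟩) V.1 (t ⟨V, x⟩) from (ht ⟨V, x⟩).symm, ← secMap_comp,
      ← secMap_comp, hab]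

end Groth.Agent.H30.TorsLevel
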