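import Groth.Agent.H30.FSch.TorsCoh
import Groth.Agent.H30.FSch.LevelProper
import Groth.Agent.H30.FSch.RpushLevelNat
import Groth.Agent.S0036

/-!
# Higher direct images of coherent torsion modules along pseudo-proper morphisms (helper30)
-/

set_option autoImplicit false
set_option linter.style.haveILetI false
set_option linter.unusedSectionVars false

universe u

open CategoryTheory CategoryTheory.Limits AlgebraicGeometry TopologicalSpace Opposite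
open Groth.Agent.H30 Groth.Agent.Lib

namespace Groth.Agent.H30.TorsPush

variable {𝔛 𝔜 : FSch.Sys.{u}} (h𝔛 : 𝔛.IsLocNoethFormal) (h𝔜 : 𝔜.IsLocNoethFormal) (f : 𝔛 ⟶ 𝔜)
  [HasInjectiveResolutions (FSch.ModF 𝔛 h𝔛.1)]

theorem isCohF_rpush [IsProper ((f : FSch.Hom 𝔛 𝔜).app 0)] (M : FSch.ModF 𝔛 h𝔛.1) (hM : TorsCoh.Bdd h𝔛 M)
    (q : ℕ) : FSch.IsCohF 𝔜 h𝔜.1 ((FSch.RpushF f h𝔛.1 h𝔜.1 q).obj M) := by
  obtain ⟨hc, n, hn⟩ := hM
  obtain ⟨N, hN, ⟨i⟩⟩ := LevelCoh.exists_iso_push h𝔛 n M hc hn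
  haveI := LevelProper.app_isProper h𝔛 h𝔜 f n
  haveI := h𝔜.2.2 n
  obtain ⟨φ⟩ := RpushLevelNat.nonempty_iso f h𝔛.1 h𝔜.1 q n
  exact CohSerre.isCohF_of_iso h𝔜 ((FSch.RpushF f h𝔛.1 h𝔜.1 q).mapIso i ≪≫ φ.app N).symm
    (LevelCoh.isCohF_push h𝔜 n _ (Groth.Agent.S0036.result ((f : FSch.Hom 𝔛 𝔜).app n) N hN q))

end Groth.Agent.H30.TorsPush
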