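import Groth.Agent.H30.FSch.QcFT
import Groth.Agent.H30.FSch.TorsCoh
import Groth.Agent.Lib.FSchInd28.Span
import Groth.Agent.H22.IndColim.Main

/-!
# Torsion submodules of quasi-coherent modules on formal schemes are quasi-coherent (helper30)

Generation and relations of a submodule over a small affine open, relative to a submodule of sections.
-/

set_option autoImplicit false
set_option maxHeartbeats 1000000
set_option linter.style.haveILetI false
set_option linter.unusedSectionVars false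

universe u

open CategoryTheory CategoryTheory.Limits AlgebraicGeometry TopologicalSpace Opposite
open Groth.Agent.H30 Groth.Agent.H30.RealLimSec Groth.Agent.H22.IndColim Groth.Agent.Lib.EtMod

namespace Groth.Agent.H30.TorsQcoh

variable {𝔛 : FSch.Sys.{u}}

/-- The combination attached to a finitely supported family of coefficients. -/
noncomputable abbrev lsum {R M ι : Type*} [CommRing R] [AddCommGroup M] [Module R M] (v : ι → M) :
    (ι →₀ R) →ₗ[R] M :=
  Finsupp.linearCombination R v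

section Basic

variable {h : 𝔛.IsFormal}

/-- Relations among sections in `L` are locally spanned by relations over `W`. -/
def QAt (M : FSch.ModF 𝔛 h) {W : (𝔛.X 0).Opens}
    (L : Submodule (Levels.A 𝔛 h W) (sec h M W)) : Prop :=
  ∀ (m : ℕ) (b : Fin m → sec h M W), (∀ i, b i ∈ L) → ∀ (Z : (𝔛.X 0).Opens) (hZ : Z ≤ W)
    (c : Fin m → Levels.A 𝔛 h Z), ∑ i, c i • CohPres.resF h M hZ (b i) = 0 →
      LSpan h hZ {r | ∑ i, r i • b i = 0} c

/-- Sections satisfying `P` are locally spanned by `L`. -/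
def GenAt (M : FSch.ModF 𝔛 h) {W : (𝔛.X 0).Opens} (L : Submodule (Levels.A 𝔛 h W) (sec h M W))
    (P : ∀ Z : (𝔛.X 0).Opens, sec h M Z → Prop) : Prop :=
  ∀ (Z : (𝔛.X 0).Opens) (hZ : Z ≤ W) (s : sec h M Z), P Z s → ∀ z ∈ Z,
    ∃ (V : (𝔛.X 0).Opens) (hVZ : V ≤ Z) (m : ℕ) (a : Fin m → Levels.A 𝔛 h V)
      (t : Fin m → sec h M W), z ∈ V ∧ (∀ i, t i ∈ L) ∧
        CohPres.resF h M hVZ s = ∑ i, a i • CohPres.resF h M (hVZ.trans hZ) (t i)

theorem QAt.mono {M : FSch.ModF 𝔛 h} {W : (𝔛.X 0).Opens}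
    {L L' : Submodule (Levels.A 𝔛 h W) (sec h M W)} (hL : L' ≤ L) (hq : QAt M L) : QAt M L' :=
  fun m b hb => hq m b fun i => hL (hb i)

/-- Simultaneous relations. -/
theorem multi {M : FSch.ModF 𝔛 h} {W : (𝔛.X 0).Opens} {L : Submodule (Levels.A 𝔛 h W) (sec h M W)}
    (hq : QAt M L) {σ : Type*} (S : Finset σ) {m : ℕ} (b : σ → Fin m → sec h M W)
    (hb : ∀ l i, b l i ∈ L) {Z : (𝔛.X 0).Opens} (hZ : Z ≤ W) (c : Fin m → Levels.A 𝔛 h Z)
    (hc : ∀ l ∈ S, ∑ i, c i • CohPres.resF h M hZ (b l i) = 0) :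
    LSpan h hZ {r | ∀ l ∈ S, ∑ i, r i • b l i = 0} c := by
  classical
  induction S using Finset.induction_on with
  | empty =>
    intro z hz
    refine ⟨Z, le_rfl, hz, mem_span_of_eq _ (rv h le_rfl c)
      (fun j => (Pi.single j 1 : Fin m → Levels.A 𝔛 h W))
      (fun j k hk => absurd hk (Finset.notMem_empty k)) fun l => ?_⟩
    rw [Finset.sum_eq_single l]
    · rw [Pi.single_eq_same, map_one, mul_one]
    · intro j _ hj
      rw [Pi.single_eq_of_ne (Ne.symm hj), map_zero, mul_zero]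
    · exact fun hl => absurd (Finset.mem_univ l) hl
  | insert k S _ ih =>
    intro z hz
    obtain ⟨V, hVZ, hzV, hm⟩ := ih (fun l hl => hc l (Finset.mem_insert_of_mem hl)) z hz
    obtain ⟨n, d, r, hr, hd⟩ := exists_of_mem_span (hVZ.trans hZ) hm
    have h0 : ∑ j, d j • CohPres.resF h M (hVZ.trans hZ) (∑ i, r j i • b k i) = 0 := by
      refine Eq.trans ?_ ((congrArg (CohPres.resF h M hVZ) (hc k (Finset.mem_insert_self k S))).trans
        (map_zero _))
      rw [sum_res_res, ← sum_smul_expand]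
      exact Finset.sum_congr rfl fun i _ => by rw [← hd i]
    obtain ⟨V', hVV, hzV', hm'⟩ := hq n _ (fun j => L.sum_mem fun i _ => L.smul_mem _ (hb k i))
      V (hVZ.trans hZ) d h0 z hzV
    obtain ⟨q, e, t, ht, he⟩ := exists_of_mem_span ((hVV.trans hVZ).trans hZ) hm'
    refine ⟨V', hVV.trans hVZ, hzV', mem_span_of_eq _ e (fun p i => ∑ j, t p j * r j i)
      (fun p l hl => ?_) fun i => ?_⟩
    · have hexp : ∑ i, (∑ j, t p j * r j i) • b l i = ∑ j, t p j • ∑ i, r j i • b l i := by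
        simp only [Finset.sum_smul, mul_smul, Finset.smul_sum]
        exact Finset.sum_comm
      rw [hexp]
      rcases Finset.mem_insert.1 hl with rfl | hl
      · exact ht p
      · exact Finset.sum_eq_zero fun j _ => by
          rw [show ∑ i, r j i • b l i = 0 from hr j l hl, smul_zero]
    · show CohPres.resA h (hVV.trans hVZ) (c i) = _
      rw [← Groth.Agent.H22.IndColim.resA_resA hVZ hVV, show CohPres.resA h hVZ (c i) = _ from hd i, map_sum]
      simp only [map_mul, Groth.Agent.H22.IndColim.resA_resA, map_sum, Finset.mul_sum]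
      rw [Finset.sum_comm]
      refine Finset.sum_congr rfl fun j _ => ?_
      rw [show CohPres.resA h hVV (d j) = _ from he j, Finset.sum_mul]
      exact Finset.sum_congr rfl fun q _ => mul_assoc _ _ _

end Basic

variable (h𝔛 : 𝔛.IsLocNoethFormal)

theorem qAt_coh {T : FSch.ModF 𝔛 h𝔛.1} (hT : FSch.IsCohF 𝔛 h𝔛.1 T) {W : (𝔛.X 0).Opens}
    (hW : IsAffineOpen W) (L : Submodule (Levels.A 𝔛 h𝔛.1 W) (sec h𝔛.1 T W)) : QAt T L :=
  fun m b _ Z hZ c hc => (q_coh h𝔛 hT W hW (Fin m) b Z hZ c hc).mono fun _ hr => hr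

section Qcoh

variable {G : FSch.ModF 𝔛 h𝔛.1} {W₀ : (𝔛.X 0).Opens} (p : (SheafOfModules.over G W₀).Presentation)

/-- Combinations of generators over an affine open satisfy the relation property. -/
theorem qAt_comb {W : (𝔛.X 0).Opens} (hW : IsAffineOpen W) (e : W ≤ W₀) :
    QAt G (LinearMap.range (QcFT.comb h𝔛 p.generators e)) := by
  classical
  intro m b hb Z hZ c hc z hz
  choose v hv using hb
  obtain ⟨K, B, hB, hex⟩ := QcFT.exists_local_exact h𝔛 p hW e
  have hcomb : QcFT.comb h𝔛 p.generators (hZ.trans e) (∑ i, c i • QcFT.rA h𝔛 hZ (v i)) = 0 := by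
    rw [map_sum, ← hc]
    refine Finset.sum_congr rfl fun i _ => ?_
    rw [map_smul, ← hv i, QcFT.comb_res]
  obtain ⟨V, eV, hzV, d, hd⟩ := hex Z hZ _ hcomb z hz
  let σ : Fin d.support.card ≃ d.support := d.support.equivFin.symm
  let w : Fin m ⊕ Fin d.support.card → p.generators.I →₀ Levels.A 𝔛 h𝔛.1 W :=
    Sum.elim v fun q => B (σ q).1
  let c' : Fin m ⊕ Fin d.support.card → Levels.A 𝔛 h𝔛.1 V :=
    Sum.elim (fun i => CohPres.resA h𝔛.1 eV (c i)) fun q => -d (σ q).1
  let e' := (finSumFinEquiv (m := m) (n := d.support.card)).symm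
  let T : Finset p.generators.I := Finset.univ.biUnion fun l => (w l).support
  have h0 : ∀ i, ∑ l, c' l * CohPres.resA h𝔛.1 (eV.trans hZ) (w l i) = 0 := by
    intro i
    have h1 := congrArg (fun f : p.generators.I →₀ Levels.A 𝔛 h𝔛.1 V => f i) hd
    simp only [QcFT.rA_apply, Finsupp.finsetSum_apply, Finsupp.smul_apply, smul_eq_mul, map_sum,
      map_mul, Finsupp.sum] at h1
    rw [Fintype.sum_sum_type]
    simp only [c', w, Sum.elim_inl, Sum.elim_inr, neg_mul, Finset.sum_neg_distrib]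
    rw [add_neg_eq_zero]
    refine Eq.trans ?_ (h1.trans ((Finset.sum_coe_sort d.support
      fun j => d j * CohPres.resA h𝔛.1 (eV.trans hZ) (B j i)).symm.trans (σ.sum_comp _).symm))
    exact Finset.sum_congr rfl fun l _ => by rw [Groth.Agent.H22.IndColim.resA_resA]
  have hS := multi (qAt_coh h𝔛 (CohCons.isCohF_unit (h := h𝔛.1)) hW ⊤) T
    (fun i l => (show sec h𝔛.1 (FSch.unitF 𝔛 h𝔛.1) W from w (e' l) i)) (fun _ _ => trivial)
    (eV.trans hZ) (fun l => c' (e' l)) fun i _ => (e'.sum_comp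
      fun l => c' l * CohPres.resA h𝔛.1 (eV.trans hZ) (w l i)).trans (h0 i)
  obtain ⟨U, hUV, hzU, hm⟩ := hS z hzV
  obtain ⟨n, f, r, hr, hf⟩ := exists_of_mem_span (hUV.trans (eV.trans hZ)) hm
  refine ⟨U, hUV.trans eV, hzU, mem_span_of_eq _ f (fun j i => r j (e'.symm (Sum.inl i)))
    (fun j => ?_) fun i => ?_⟩
  · have hw : ∑ l, r j (e'.symm l) • w l = 0 := by
      refine Finsupp.ext fun i => ?_
      simp only [Finsupp.finsetSum_apply, Finsupp.smul_apply, smul_eq_mul, Finsupp.coe_zero, Pi.zero_apply]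
      by_cases hi : i ∈ T
      · rw [← e'.sum_comp]
        simp only [Equiv.symm_apply_apply]
        exact hr j i hi
      · refine Finset.sum_eq_zero fun l _ => ?_
        rw [Finsupp.notMem_support_iff.1 fun hl => hi (Finset.mem_biUnion.2 ⟨l, Finset.mem_univ l, hl⟩),
          mul_zero]
    have h1 := congrArg (QcFT.comb h𝔛 p.generators e) hw
    rw [map_sum, Fintype.sum_sum_type, map_zero] at h1
    simp only [w, Sum.elim_inl, Sum.elim_inr, map_smul, hB, smul_zero, Finset.sum_const_zero,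
      add_zero, hv] at h1
    exact h1
  · have h1 := hf (e'.symm (Sum.inl i))
    simp only [c', rv, Equiv.apply_symm_apply, Sum.elim_inl, Groth.Agent.H22.IndColim.resA_resA] at h1
    exact h1

theorem genAt_comb {W : (𝔛.X 0).Opens} (e : W ≤ W₀) :
    GenAt G (LinearMap.range (QcFT.comb h𝔛 p.generators e)) (fun _ _ => True) := by
  classical
  intro Z hZ s _ z hz
  obtain ⟨V, eV, hzV, b, hb⟩ := QcFT.exists_local_comb h𝔛 p.generators (hZ.trans e) s hz
  let σ : Fin b.support.card ≃ b.support := b.support.equivFin.symm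
  refine ⟨V, eV, b.support.card, fun i => b (σ i).1,
    fun i => QcFT.σv h𝔛 p.generators (σ i).1 e, hzV,
    fun i => ⟨Finsupp.single (σ i).1 1, by simp [QcFT.comb]⟩, ?_⟩
  rw [← hb]
  simp only [QcFT.σv_res]
  rw [σ.sum_comp fun i => b i.1 • QcFT.σv h𝔛 p.generators i.1 ((eV.trans hZ).trans e),
    Finset.sum_coe_sort b.support fun i => b i • QcFT.σv h𝔛 p.generators i ((eV.trans hZ).trans e)]
  exact Finsupp.linearCombination_apply _ _

end Qcoh

/-- Sections over `W` killed by the `n`-th open ideal. -/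
def killedSub (M : FSch.ModF 𝔛 h𝔛.1) (n : ℕ) (W : (𝔛.X 0).Opens) :
    Submodule (Levels.A 𝔛 h𝔛.1 W) (sec h𝔛.1 M W) where
  carrier := {x | TorsCoh.Killed n M x}
  zero_mem' := (TorsCoh.killed_iff n M _).1 (FTors.KilledBy.zero _ M n W)
  add_mem' hx hy := (TorsCoh.killed_iff n M _).1
    (((TorsCoh.killed_iff n M _).2 hx).add ((TorsCoh.killed_iff n M _).2 hy))
  smul_mem' c _ hx := (TorsCoh.killed_iff n M _).1 (((TorsCoh.killed_iff n M _).2 hx).smul c)

/-- A section is killed once generators of the ideal kill it. -/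
theorem killed_of_gens {M : FSch.ModF 𝔛 h𝔛.1} {W : (𝔛.X 0).Opens} (hW : IsAffineOpen W) (n : ℕ)
    {ι : Type*} (g : ι → Levels.A 𝔛 h𝔛.1 W)
    (hg : Ideal.span (Set.range g) = Levels.J (h := h𝔛.1) W ^ (n + 1)) (x : sec h𝔛.1 M W)
    (hx : ∀ l, g l • x = 0) : TorsCoh.Killed n M x := by
  intro V e a ha
  refine TorsCoh.eq_zero_of_locally M _ fun z hz => ?_
  obtain ⟨V', hV', hzV', hle⟩ := Opens.isBasis_iff_nbhd.1 (CohPres.isBasis_affine (𝔛.X 0)) hz
  refine ⟨V', hle, hzV', ?_⟩
  rw [CohPres.resF_smul, TorsCoh.resF_resF]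
  have h1 : CohPres.resA h𝔛.1 hle a ∈
      (Ideal.span (Set.range g)).map (CohPres.resA h𝔛.1 (hle.trans e)) := by
    rw [hg, Ideal.map_pow, CohExact.J_map h𝔛 hW hV' (hle.trans e), ← ((Levels.adic h𝔛 hV').2.1 n).2,
      RingHom.mem_ker, CohPres.proj_resA, ha, map_zero]
  rw [Ideal.map_span] at h1
  generalize CohPres.resA h𝔛.1 hle a = y at h1
  induction h1 using Submodule.span_induction with
  | mem y hy =>
    obtain ⟨_, ⟨l, rfl⟩, rfl⟩ := hy
    exact (CohPres.resF_smul h𝔛.1 M (hle.trans e) (g l) x).symm.trans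
      ((congrArg _ (hx l)).trans (map_zero _))
  | zero => exact zero_smul _ _
  | add y y' _ _ hy hy' => rw [add_smul, hy, hy', add_zero]
  | smul c y _ hy => rw [smul_eq_mul, mul_smul, hy, smul_zero]

/-- Sections killed by one open ideal are locally spanned by killed sections. -/
theorem genAt_killed {M : FSch.ModF 𝔛 h𝔛.1} {W : (𝔛.X 0).Opens} (hW : IsAffineOpen W)
    {L : Submodule (Levels.A 𝔛 h𝔛.1 W) (sec h𝔛.1 M W)} (hgen : GenAt M L fun _ _ => True)
    (hq : QAt M L) (n : ℕ) :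
    GenAt M (L ⊓ killedSub h𝔛 M n W) fun _ s => TorsCoh.Killed n M s := by
  classical
  intro Z hZ s hs z hz
  obtain ⟨V, hVZ, m, a, t, hzV, ht, hst⟩ := hgen Z hZ s trivial z hz
  haveI := Levels.isNoetherianRing_A h𝔛 hW
  obtain ⟨k, g, hg⟩ := Submodule.fg_iff_exists_fin_generating_family.1
    (IsNoetherian.noetherian (Levels.J (h := h𝔛.1) W ^ (n + 1)))
  have hgJ : ∀ l, Levels.proj 𝔛 h𝔛.1 n W (g l) = 0 := fun l => RingHom.mem_ker.1
    (((Levels.adic h𝔛 hW).2.1 n).2.symm ▸ hg ▸ Submodule.subset_span ⟨l, rfl⟩)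
  have hc : ∀ l ∈ (Finset.univ : Finset (Fin k)),
      ∑ i, a i • CohPres.resF h𝔛.1 M (hVZ.trans hZ) (g l • t i) = 0 := by
    intro l _
    have h1 := hs V hVZ (CohPres.resA h𝔛.1 (hVZ.trans hZ) (g l))
      (by rw [CohPres.proj_resA, hgJ l, map_zero])
    rw [hst, Finset.smul_sum] at h1
    refine Eq.trans ?_ h1
    exact Finset.sum_congr rfl fun i _ => by rw [CohPres.resF_smul, smul_comm]
  obtain ⟨U, hUV, hzU, hm⟩ := multi hq Finset.univ (fun l i => g l • t i)
    (fun l i => L.smul_mem _ (ht i)) (hVZ.trans hZ) a hc z hzV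
  obtain ⟨q, d, r, hr, hd⟩ := exists_of_mem_span (hUV.trans (hVZ.trans hZ)) hm
  refine ⟨U, hUV.trans hVZ, q, d, fun j => ∑ i, r j i • t i, hzU,
    fun j => ⟨L.sum_mem fun i _ => L.smul_mem _ (ht i), killed_of_gens h𝔛 hW n g hg _ fun l => ?_⟩, ?_⟩
  · rw [Finset.smul_sum, ← hr j l (Finset.mem_univ l)]
    exact Finset.sum_congr rfl fun i _ => smul_comm _ _ _
  · rw [← Groth.Agent.H22.IndColim.resF_resF M hVZ hUV, hst, sum_res_res, ← sum_smul_expand]
    exact Finset.sum_congr rfl fun i _ => congrArg (· • _) (hd i)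

/-- A presentation of a submodule with generation and relations in `L`. -/
theorem nonempty_presentation {N M : FSch.ModF 𝔛 h𝔛.1} (ι : N ⟶ M) [Mono ι] {W : (𝔛.X 0).Opens}
    (L : Submodule (Levels.A 𝔛 h𝔛.1 W) (sec h𝔛.1 M W))
    (hL : ∀ x ∈ L, ∃ y, secMap h𝔛.1 ι W y = x) (P : ∀ Z : (𝔛.X 0).Opens, sec h𝔛.1 M Z → Prop)
    (hP : ∀ (Z : (𝔛.X 0).Opens) (s : sec h𝔛.1 N Z), P Z (secMap h𝔛.1 ι Z s))
    (hgen : GenAt M L P) (hq : QAt M L) : Nonempty (SheafOfModules.over N W).Presentation := by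
  classical
  choose y hy using hL
  let F : L → (SheafOfModules.over N W).sections := fun t => PresSh.secOver N (y t.1 t.2)
  have hlc : ∀ (Z : (𝔛.X 0).Opens) (e : Z ≤ W) (b : L →₀ Levels.A 𝔛 h𝔛.1 Z),
      secMap h𝔛.1 ι Z (lsum (fun t : L => CohPres.resF h𝔛.1 N e (y t.1 t.2)) b) =
      lsum (fun t : L => CohPres.resF h𝔛.1 M e t.1) b := by
    intro Z e b
    induction b using Finsupp.induction_linear with
    | zero => simp only [map_zero]
    | add b b' hb hb' => simp only [map_add, hb, hb']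
    | single t a =>
      simp only [lsum, Finsupp.linearCombination_single, map_smul, secMap_res, hy]
  haveI hepi : Epi ((SheafOfModules.over N W).freeHomEquiv.symm F) := by
    refine Lib.FSchInd28.Span.epi_of_span _ _ fun Y s z hz => ?_
    obtain ⟨V, hVZ, m, a, t, hzV, ht, hst⟩ :=
      hgen Y.left (leOfHom Y.hom) _ (hP Y.left s) z hz
    refine ⟨Over.mk (homOfLE (hVZ.trans (leOfHom Y.hom))),
      Over.homMk (homOfLE hVZ) (Subsingleton.elim _ _), hzV,
      (show L →₀ ((ModSite.ringSh (𝔛.Osh h𝔛.1)).over W).obj.obj _ from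
        ∑ i, Finsupp.single ⟨t i, ht i⟩ (a i)), CohCons.secMap_injective ι V ?_⟩
    refine (hlc V (hVZ.trans (leOfHom Y.hom)) _).trans ?_
    refine Eq.trans ?_ (secMap_res ι hVZ s).symm
    refine Eq.trans ?_ hst.symm
    exact (map_sum (lsum fun t : L => CohPres.resF h𝔛.1 M (hVZ.trans (leOfHom Y.hom)) t.1) _ _).trans
      (Finset.sum_congr rfl fun i _ => Finsupp.linearCombination_single _ _ _)
  let σ : (SheafOfModules.over N W).GeneratingSections := { I := L, s := F, epi := hepi }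
  refine ⟨{ generators := σ,
            relations := { I := (kernel σ.π).val.obj (op (Over.mk (𝟙 W))),
                           s := Lib.FSchInd28.Span.secOf _,
                           epi := Lib.FSchInd28.Span.epi_kernel_span σ fun Y b hb z hz => ?_ } }⟩
  let b₀ : L →₀ Levels.A 𝔛 h𝔛.1 Y.left := b
  have h0 : b₀.sum (fun t a => a • CohPres.resF h𝔛.1 M (leOfHom Y.hom) t.1) = 0 :=
    (Finsupp.linearCombination_apply _ _).symm.trans
      ((hlc Y.left (leOfHom Y.hom) b₀).symm.trans ((congrArg (secMap h𝔛.1 ι Y.left) hb).trans (map_zero _)))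
  let e : Fin b₀.support.card ≃ b₀.support := b₀.support.equivFin.symm
  obtain ⟨V, hVY, hzV, hm⟩ := hq _ (fun i => (e i).1.1) (fun i => (e i).1.2) Y.left (leOfHom Y.hom)
    (fun i => b₀ (e i).1) ((e.sum_comp fun t => b₀ t.1 • CohPres.resF h𝔛.1 M (leOfHom Y.hom) t.1.1).trans
      ((Finset.sum_coe_sort b₀.support
        fun t => b₀ t • CohPres.resF h𝔛.1 M (leOfHom Y.hom) t.1).trans h0)) z hz
  obtain ⟨n, d, r, hr, hd⟩ := exists_of_mem_span (hVY.trans (leOfHom Y.hom)) hm
  let R : Fin n → L →₀ Levels.A 𝔛 h𝔛.1 W := fun j => ∑ i, Finsupp.single (e i).1 (r j i)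
  refine ⟨Over.mk (homOfLE (hVY.trans (leOfHom Y.hom))),
    Over.homMk (homOfLE hVY) (Subsingleton.elim _ _), hzV,
    (show (σ.I →₀ ((ModSite.ringSh (𝔛.Osh h𝔛.1)).over W).obj.obj (op (Over.mk (𝟙 W)))) →₀
        ((ModSite.ringSh (𝔛.Osh h𝔛.1)).over W).obj.obj _ from ∑ j, Finsupp.single (R j) (d j)),
    fun x hx => ?_, ?_⟩
  · obtain ⟨j, -, hj⟩ := Finset.mem_biUnion.1 (Finsupp.support_finsetSum hx)
    obtain rfl : x = R j := Finset.mem_singleton.1 (Finsupp.support_single_subset hj)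
    refine CohCons.secMap_injective ι W ?_
    refine Eq.trans ?_ (map_zero (secMap h𝔛.1 ι W)).symm
    refine (hlc W (le_refl W) (R j)).trans ?_
    refine (map_sum (lsum fun t : L => CohPres.resF h𝔛.1 M (le_refl W) t.1) _ _).trans ?_
    refine Eq.trans (Finset.sum_congr rfl fun i _ => ?_) (hr j)
    refine (Finsupp.linearCombination_single _ _ _).trans ?_
    exact congrArg (r j i • ·) (ConcreteCategory.congr_hom ((congrArg (fun φ => M.val.presheaf.map φ)
      (Subsingleton.elim (homOfLE (le_refl W)).op (𝟙 (op W)))).trans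
        (M.val.presheaf.map_id (op W))) (e i).1.1)
  · have hR : ∀ j t, R j t = ∑ i, if (e i).1 = t then r j i else 0 := fun j t => by
      simp only [R, Finsupp.finsetSum_apply, Finsupp.single_apply]
    have key : QcFT.rA h𝔛 hVY b₀ = ∑ j, d j • QcFT.rA h𝔛 (hVY.trans (leOfHom Y.hom)) (R j) := by
      refine Finsupp.ext fun t => ?_
      simp only [QcFT.rA_apply, Finsupp.finsetSum_apply, Finsupp.smul_apply, smul_eq_mul]
      by_cases ht : t ∈ b₀.support
      · obtain ⟨i, hi⟩ := e.surjective ⟨t, ht⟩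
        have hti : (e i).1 = t := congrArg Subtype.val hi
        have hone : ∀ j, R j t = r j i := fun j => by
          rw [hR, Finset.sum_eq_single i, if_pos hti]
          · intro i' _ hne
            exact if_neg fun hh => hne (e.injective (Subtype.ext (hh.trans hti.symm)))
          · exact fun hh => absurd (Finset.mem_univ i) hh
        simp only [hone]
        rw [← hti]
        exact hd i
      · have hzero : ∀ j, R j t = 0 := fun j => by
          rw [hR]
          exact Finset.sum_eq_zero fun i _ => if_neg fun hh : (e i).1 = t => ht (hh ▸ (e i).2)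
        simp only [hzero, Finsupp.notMem_support_iff.1 ht, map_zero, mul_zero, Finset.sum_const_zero]
    have h2 : lsum (fun r : L →₀ Levels.A 𝔛 h𝔛.1 W => QcFT.rA h𝔛 (hVY.trans (leOfHom Y.hom)) r)
        (∑ j, Finsupp.single (R j) (d j)) =
          ∑ j, d j • QcFT.rA h𝔛 (hVY.trans (leOfHom Y.hom)) (R j) := by
      rw [map_sum]
      exact Finset.sum_congr rfl fun j _ => Finsupp.linearCombination_single _ _ _
    exact (key.trans h2.symm).trans (Finsupp.linearCombination_apply _ _)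

end Groth.Agent.H30.TorsQcoh
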