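import Groth.Agent.H30.FSch.TorsClosure
import Groth.Agent.H30.FSch.TorsPush
import Groth.Agent.H30.FSch.RpushDCoh
import Groth.Agent.H30.FSch.RpushFiltered
import Groth.Agent.H30.FSch.RpushImage
import Groth.Agent.H22.CohDim.Bound

/-!
# Direct images of quasi-coherent torsion modules (helper30)
-/

set_option autoImplicit false
set_option maxHeartbeats 1000000
set_option linter.style.haveILetI false
set_option linter.unusedSectionVars false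

universe u

open CategoryTheory CategoryTheory.Limits AlgebraicGeometry TopologicalSpace Opposite
open Groth.Agent.H30 Groth.Agent.H30.RealLimSec Groth.Agent.Lib Groth.Agent.H22.IndColim

attribute [local instance] DerivedOX.Exists.isLeftAdjoint_Qh HasDerivedCategory.standard

namespace Groth.Agent.H30.TorsRpush

section One

variable {𝔛 : FSch.Sys.{u}} (h𝔛 : 𝔛.IsLocNoethFormal)

theorem isClosedUnderIsomorphisms : (FTors.IsQCT 𝔛 h𝔛.1).IsClosedUnderIsomorphisms :=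
  ⟨fun {_ _} e hX => ⟨TorsClosure.isTors_of_epi e.hom hX.1,
    (SheafOfModules.isQuasicoherent (ModSite.ringSh (𝔛.Osh h𝔛.1))).prop_of_iso e hX.2⟩⟩

theorem isQCT_of_iso {M M' : FSch.ModF 𝔛 h𝔛.1} (e : M ≅ M') (hM : FTors.IsQCT 𝔛 h𝔛.1 M) :
    FTors.IsQCT 𝔛 h𝔛.1 M' :=
  (isClosedUnderIsomorphisms h𝔛).of_iso e hM

theorem isWeakSerre : WSerre.IsWeakSerre (FTors.IsQCT 𝔛 h𝔛.1) where
  exists_zero := by
    refine ⟨kernel (𝟙 (FSch.unitF 𝔛 h𝔛.1)), isZero_kernel_of_mono _, TorsClosure.isQCT_coh h𝔛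
      (CohSerre.isCohF_kernel h𝔛 _ CohCons.isCohF_unit CohCons.isCohF_unit) fun U s => ?_⟩
    have e := (isZero_kernel_of_mono (𝟙 (FSch.unitF 𝔛 h𝔛.1))).eq_of_src (𝟙 _) 0
    rw [show s = 0 from congrArg (fun ψ => secMap h𝔛.1 ψ U s) e]
    exact FTors.IsTorsSect.zero _ _ U
  kernels_le := fun _ ⟨_, k, hk, hf⟩ => isQCT_of_iso h𝔛
    ((limit.isLimit _).conePointUniqueUpToIso hk) (TorsClosure.isQCT_kernel h𝔛 hf.1 hf.2 _)
  cokernels_le := fun _ ⟨_, k, hk, hf⟩ => isQCT_of_iso h𝔛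
    ((colimit.isColimit _).coconePointUniqueUpToIso hk) (TorsClosure.isQCT_cokernel h𝔛 hf.1 hf.2 _)
  prop_X₂_of_shortExact := fun hS h₁ h₃ => TorsClosure.isQCT_ext h𝔛 hS h₁ h₃

/-- A quasi-coherent module of a level gives a quasi-coherent torsion module. -/
theorem isQCT_push (n : ℕ) (N : (𝔛.X n).Modules) [N.IsQuasicoherent] :
    FTors.IsQCT 𝔛 h𝔛.1 ((FSch.levelMor 𝔛 h𝔛.1 n).push.obj N) := by
  classical
  let L := (FSch.levelMor 𝔛 h𝔛.1 n).push.obj N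
  have ht : FTors.IsTorsF 𝔛 h𝔛.1 L := fun U s => FTors.IsTorsSect.of_killedBy (n := n) fun W g a ha => by
    show (Levels.proj 𝔛 h𝔛.1 n W a) • (show Γ(N, 𝔛.lvU h𝔛.1 n W) from FTors.res L g s) = 0
    rw [show Levels.proj 𝔛 h𝔛.1 n W a = 0 from RingHom.mem_ker.1 ha]
    exact zero_smul _ _
  haveI : IsLocallyNoetherian (𝔛.X n) := h𝔛.2.2 n
  haveI : (FSch.levelMor 𝔛 h𝔛.1 n).push.PreservesMonomorphisms :=
    Functor.preservesMonomorphisms_of_adjunction (FSch.levelMor 𝔛 h𝔛.1 n).adj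
  have hthrough : ∀ {W : (𝔛.X 0).Opens} (_ : IsAffineOpen W) {m : ℕ} (b : Fin m → sec h𝔛.1 L W),
      ∃ (T : FSch.ModF 𝔛 h𝔛.1) (φ : T ⟶ L), Mono φ ∧ FSch.IsCohF 𝔛 h𝔛.1 T ∧
        ∀ i, ∃ t, secMap h𝔛.1 φ W t = b i := by
    intro W hW m b
    obtain ⟨G, i', hi, hG, hg⟩ := TorsLevel.exists_coh_sub N (OshBasic.isAffineOpen_lvU 𝔛 h𝔛.1 n hW)
      (fun i => (show Γ(N, 𝔛.lvU h𝔛.1 n W) from b i))
    exact ⟨_, (FSch.levelMor 𝔛 h𝔛.1 n).push.map i',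
      @Functor.map_mono _ _ _ _ (FSch.levelMor 𝔛 h𝔛.1 n).push ‹_› _ _ i' hi,
      LevelCoh.isCohF_push h𝔛 n G hG, fun i => hg i⟩
  have hex : ∀ k : Σ W : (𝔛.X 0).affineOpens, sec h𝔛.1 L W.1,
      ∃ (T : FSch.ModF 𝔛 h𝔛.1) (φ : T ⟶ L),
        Mono φ ∧ FSch.IsCohF 𝔛 h𝔛.1 T ∧ ∃ t, secMap h𝔛.1 φ k.1.1 t = k.2 := fun k => by
    obtain ⟨T, φ, hφ, hT, ht⟩ := hthrough k.1.2 (m := 1) fun _ => k.2
    exact ⟨T, φ, hφ, hT, ht 0⟩
  choose T χ hmono hT t htt using hex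
  refine TorsClosure.isQCT_of_ind h𝔛 ht (Groth.Agent.H22.IndColim.ind_of_family h𝔛 T hT ?_ χ fun a b hab => ?_)
  · intro W hW ι _ b Z hZ c hc
    let e := Fintype.equivFin ι
    obtain ⟨T', φ, _, hT', ht'⟩ := hthrough hW fun i => b (e.symm i)
    choose t' ht' using ht'
    have hb : ∀ i, secMap h𝔛.1 φ W (t' (e i)) = b i := fun i => by
      rw [ht', Equiv.symm_apply_apply]
    refine (q_coh h𝔛 hT' W hW ι (fun i => t' (e i)) Z hZ c ?_).mono fun r hr => ?_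
    · refine CohCons.secMap_injective φ Z ?_
      simp only [secMap_id, map_sum, map_smul, secMap_res, hb, map_zero]
      exact hc
    · have h1 := congrArg (secMap h𝔛.1 φ W) (show secMap h𝔛.1 (𝟙 T') W _ = 0 from hr)
      simp only [secMap_id, map_sum, map_smul, hb, map_zero] at h1
      exact h1
  · refine LevelAdj.hom_extF fun V x => ?_
    rw [show x = secMap h𝔛.1 (χ ⟨V, x⟩) V.1 (t ⟨V, x⟩) from (htt ⟨V, x⟩).symm, ← secMap_comp,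
      ← secMap_comp, hab]

/-- Quasi-coherent torsion modules are filtered colimits of coherent torsion modules. -/
theorem ind_coh_tors {M : FSch.ModF 𝔛 h𝔛.1} (hM : FTors.IsQCT 𝔛 h𝔛.1 M) :
    ObjectProperty.ind.{u} (fun T : FSch.ModF 𝔛 h𝔛.1 => FSch.IsCohF 𝔛 h𝔛.1 T ∧ FTors.IsTorsF 𝔛 h𝔛.1 T) M := by
  have hi := TorsClosure.ind_of_isQCT h𝔛 hM
  have hq := (of_ind h𝔛 hi).2
  obtain ⟨J, _, _, pres, hp⟩ := hi
  obtain ⟨K, hK, hK', p', hp', hm⟩ := Groth.Agent.H22.IndColim.exists_presentation h𝔛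
    (fun j : J => pres.diag.obj j) hp (𝟙 M) hq (fun j => pres.ι.app j)
    fun a b hab => pres.isColimit.hom_ext fun j => by simpa using hab j
  exact ⟨K, hK, hK', p', fun k => ⟨hp' k, haveI := hm k; TorsClosure.isTors_of_mono (p'.ι.app k) hM.1⟩⟩

end One

variable {𝔛 𝔜 : FSch.Sys.{u}} (h𝔛 : 𝔛.IsLocNoethFormal) (h𝔜 : 𝔜.IsLocNoethFormal)
  [CompactSpace (𝔛.X 0)] [CompactSpace (𝔜.X 0)] (f : 𝔛 ⟶ 𝔜)

/-- Higher direct images of quasi-coherent torsion modules. -/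
theorem isQCT_rpushF [HasInjectiveResolutions (FSch.ModF 𝔛 h𝔛.1)] (M : FSch.ModF 𝔛 h𝔛.1)
    (hM : FTors.IsQCT 𝔛 h𝔛.1 M) (q : ℕ) :
    FTors.IsQCT 𝔜 h𝔜.1 ((FSch.RpushF f h𝔛.1 h𝔜.1 q).obj M) := by
  haveI : IsLocallyNoetherian (𝔛.X 0) := h𝔛.2.2 0
  haveI : IsLocallyNoetherian (𝔜.X 0) := h𝔜.2.2 0
  haveI : QuasiCompact ((f : FSch.Hom 𝔛 𝔜).app 0) := inferInstance
  obtain ⟨J, hJ, hJ', pres, hp⟩ := RpushFiltered.ind_obj h𝔛.1 h𝔜.1 f q _ (FTors.IsQCT 𝔜 h𝔜.1)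
    (fun T hT => by
      obtain ⟨hc, n, hn⟩ := TorsCoh.bdd_of_isTors h𝔛 T hT.1 hT.2
      obtain ⟨N, hN, ⟨i⟩⟩ := LevelCoh.exists_iso_push h𝔛 n T hc hn
      haveI : IsLocallyNoetherian (𝔛.X n) := h𝔛.2.2 n
      haveI : IsLocallyNoetherian (𝔜.X n) := h𝔜.2.2 n
      haveI : Surjective (𝔛.toX n) := SysLemmas.toX_surjective h𝔛.1 n
      haveI : CompactSpace (𝔛.X n) :=
        ⟨by rw [← (𝔛.toX n).surjective.range_eq]; exact isCompact_range (𝔛.toX n).continuous⟩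
      let g := (f : FSch.Hom 𝔛 𝔜).app n
      haveI : QuasiCompact g := inferInstance
      haveI : QuasiSeparated g := inferInstance
      haveI := RpushImage.isQCoh_rpush g N hN.1 q
      obtain ⟨φ⟩ := RpushLevelNat.nonempty_iso f h𝔛.1 h𝔜.1 q n
      exact isQCT_of_iso h𝔜 ((FSch.RpushF f h𝔛.1 h𝔜.1 q).mapIso i ≪≫ φ.app N).symm
        (isQCT_push h𝔜 n ((Coh.Rpush g q).obj N))) M (ind_coh_tors h𝔛 hM)
  haveI := TorsClosure.isClosedUnderColimitsOfShape h𝔜 J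
  exact (FTors.IsQCT 𝔜 h𝔜.1).colimitsOfShape_le J _ ⟨{ toColimitPresentation := pres, prop_diag_obj := hp }⟩

/-- The derived direct image of complexes with quasi-coherent torsion cohomology. -/
theorem isDQCT_rpushD [HasInjectiveResolutions (FSch.ModF 𝔛 h𝔛.1)] [SiteCmp.HasRpushD (FSch.homMor f h𝔛.1 h𝔜.1)]
    (K : DerivedCategory (FSch.ModF 𝔛 h𝔛.1)) (hK : FTors.IsDQCT 𝔛 h𝔛.1 K) :
    FTors.IsDQCT 𝔜 h𝔜.1 ((SiteCmp.RpushD (FSch.homMor f h𝔛.1 h𝔜.1)).obj K) := by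
  haveI := isWeakSerre h𝔛
  haveI := isWeakSerre h𝔜
  haveI : IsLocallyNoetherian (𝔛.X 0) := h𝔛.2.2 0
  let f0 := (f : FSch.Hom 𝔛 𝔜).app 0
  let P := FTors.IsQCT 𝔛 h𝔛.1
  obtain ⟨s, hsf, hs⟩ := (AlgebraicGeometry.isCompact_iff_finite_and_eq_biUnion_affineOpens
    (U := (⊤ : (𝔜.X 0).Opens))).mp isCompact_univ
  choose d hd using fun b : (𝔜.X 0).affineOpens =>
    Groth.Agent.H22.CohDim.exists_bound h𝔛 (f0 ⁻¹ᵁ b.1)
  let N := ∑ b ∈ hsf.toFinset, d b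
  let B' : Set (TopologicalSpace.Opens (𝔜.X 0)) :=
    {O | ∃ b ∈ s, ∃ g : Γ(𝔜.X 0, b.1), O = (𝔜.X 0).basicOpen g}
  have hB' : TopologicalSpace.Opens.IsBasis B' := by
    refine TopologicalSpace.Opens.isBasis_iff_nbhd.2 fun {U x} hx => ?_
    have hx' : x ∈ (⊤ : (𝔜.X 0).Opens) := trivial
    rw [hs] at hx'
    obtain ⟨b, hx'⟩ := TopologicalSpace.Opens.mem_iSup.1 hx'
    obtain ⟨hb, hxb⟩ := TopologicalSpace.Opens.mem_iSup.1 hx'
    obtain ⟨g, hgU, hxg⟩ := b.2.exists_basicOpen_le ⟨x, hx⟩ hxb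
    exact ⟨_, ⟨b, hb, g, rfl⟩, hxg, hgU⟩
  have hN : ∀ M, P M → ∀ V ∈ B', ∀ k : ℕ, N < k →
      Subsingleton (CohTop.HU ((SheafOfModules.toSheaf (ModSite.ringSh (𝔛.Osh h𝔛.1))).obj M) k
        (f0 ⁻¹ᵁ V)) := by
    rintro M hM _ ⟨b, hb, g, rfl⟩ k hk
    have hdn : d b ≤ N := Finset.single_le_sum (f := d) (fun _ _ => Nat.zero_le _) (hsf.mem_toFinset.2 hb)
    have e : f0 ⁻¹ᵁ (𝔜.X 0).basicOpen g = (𝔛.X 0).basicOpen (f0.app b.1 g) :=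
      AlgebraicGeometry.Scheme.preimage_basicOpen f0 g
    have h := hd b _ (Groth.Agent.H22.CohDim.basicOpen_mem_uniform (f0 ⁻¹ᵁ b.1) (f0.app b.1 g))
      ((𝔛.X 0).basicOpen_le _) M (TorsClosure.ind_of_isQCT h𝔛 hM) k (by omega)
    rw [← e] at h
    exact h
  have hii := RlimTrunc.ModPush.isIso_homologyMap_rpushD (FSch.homMor f h𝔛.1 h𝔜.1) P
    (AffinePushD.cofinalGood {U | IsAffineOpen (U : (𝔛.X 0).Opens)} (Scheme.isBasis_affineOpens _) _ 0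
      fun V hV M hM k hk =>
        AffAcyclic.subsingleton_ind h𝔛 hV M (TorsClosure.ind_of_isQCT h𝔛 hM) k hk)
    (N : ℤ) (fun M hM p hp => RpushBound.isZero_rpushF h𝔛 h𝔜 f M _ hB' p fun V hV =>
      hN M hM V hV p (by omega)) K hK
    (AffinePushD.cofinalGood B' hB' _ N fun V hV M hM k hk => hN M hM V hV k hk)
  exact fun i => RlimTrunc.ModPush.cohIn_of_isIso (FSch.homMor f h𝔛.1 h𝔜.1) P (N : ℤ) K hK
    (FTors.IsQCT 𝔜 h𝔜.1) (fun M hM p => isQCT_rpushF h𝔛 h𝔜 f M hM p) hii i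

end Groth.Agent.H30.TorsRpush
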